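import Groth.Agent.Lib.DMod.DimDegree
import Mathlib.RingTheory.Regular.RegularSequence
import Mathlib.RingTheory.Localization.AtPrime.Basic
import Mathlib.RingTheory.Ideal.Operations

/-!
Depth at a prime in terms of the top nonvanishing degree of `Hom(M, ω[i])`.
-/

universe u

open CategoryTheory Category Limits Pretriangulated
open scoped Pointwise

attribute [local instance] HasDerivedCategory.standard

namespace Groth.Agent.Lib.DMod.DepthDegree

open Groth.Agent.Lib.DMod.Basic Groth.Agent.Lib.DMod.HomSupp Groth.Agent.Lib.DMod.Degree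

variable {A : Type u} [CommRing A]

/-- `M/aM → N/xN` is a localization when `M → N` is and `algebraMap a` is associated to `x`. -/
theorem isLocalizedModule_quotSMulTop (p : PrimeSpectrum A) (M N : Type u) [AddCommGroup M]
    [Module A M] [AddCommGroup N] [Module A N] [Module (Localization.AtPrime p.asIdeal) N]
    [IsScalarTower A (Localization.AtPrime p.asIdeal) N] (f : M →ₗ[A] N)
    [IsLocalizedModule p.asIdeal.primeCompl f] (x : Localization.AtPrime p.asIdeal) (a : A)
    (s : p.asIdeal.primeCompl) (h : x * algebraMap A _ (s : A) = algebraMap A _ a) :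
    ∃ g : QuotSMulTop a M →ₗ[A] QuotSMulTop x N, IsLocalizedModule p.asIdeal.primeCompl g := by
  have hax : ∀ n : N, a • n = x • ((s : A) • n) := fun n => by
    rw [← algebraMap_smul (Localization.AtPrime p.asIdeal) a n, ← h, mul_smul, algebraMap_smul]
  let π : N →ₗ[A] QuotSMulTop x N :=
    (Submodule.mkQ (x • (⊤ : Submodule (Localization.AtPrime p.asIdeal) N))).restrictScalars A
  have hπ : ∀ n : N, π n = 0 ↔ ∃ n', x • n' = n := fun n => by
    change Submodule.Quotient.mk n = 0 ↔ _
    rw [Submodule.Quotient.mk_eq_zero, Submodule.mem_smul_pointwise_iff_exists]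
    simp
  refine ⟨Submodule.liftQ _ (π ∘ₗ f) fun m hm => ?_, ⟨fun t => ?_, fun y => ?_, fun {m₁ m₂} hm => ?_⟩⟩
  · obtain ⟨m', -, rfl⟩ := (Submodule.mem_smul_pointwise_iff_exists _ _ _).1 hm
    rw [LinearMap.mem_ker, LinearMap.comp_apply, hπ, map_smul, hax]
    exact ⟨_, rfl⟩
  · have := (IsLocalization.map_units (Localization.AtPrime p.asIdeal) t).map
      (Algebra.lsmul A A (QuotSMulTop x N))
    refine (Module.End.isUnit_iff _).2 ?_
    have h1 := (Module.End.isUnit_iff _).1 this
    convert h1 using 1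
    ext z
    simp [Module.algebraMap_end_apply]
  · obtain ⟨n, rfl⟩ := Submodule.mkQ_surjective _ y
    obtain ⟨⟨m, t⟩, hmt⟩ := IsLocalizedModule.surj p.asIdeal.primeCompl f n
    refine ⟨(Submodule.Quotient.mk m, t), ?_⟩
    change (t : A) • π n = π (f m)
    rw [← map_smul]
    exact congrArg π hmt
  · obtain ⟨m₁, rfl⟩ := Submodule.Quotient.mk_surjective _ m₁
    obtain ⟨m₂, rfl⟩ := Submodule.Quotient.mk_surjective _ m₂
    change π (f m₁) = π (f m₂) at hm
    rw [← sub_eq_zero, ← map_sub, ← map_sub, hπ] at hm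
    obtain ⟨n, hn⟩ := hm
    obtain ⟨⟨m, t⟩, hmt⟩ := IsLocalizedModule.surj p.asIdeal.primeCompl f n
    have h0 : f ((t : A) • ((s : A) • (m₁ - m₂)) - a • m) = 0 := by
      rw [map_sub, map_smul f (t : A), map_smul f (s : A), map_smul f a, ← hn, ← hmt, hax]
      simp only [← smul_comm x]
      rw [smul_comm (s : A) t n]
      simp [Submonoid.smul_def]
    obtain ⟨v, hv⟩ := (IsLocalizedModule.eq_zero_iff p.asIdeal.primeCompl f).1 h0
    refine ⟨v * t * s, ?_⟩
    rw [← Submodule.Quotient.mk_smul, ← Submodule.Quotient.mk_smul, Submodule.Quotient.eq, ← smul_sub,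
      Submonoid.smul_def, Submonoid.coe_mul, Submonoid.coe_mul, mul_smul, mul_smul]
    rw [smul_sub, Submonoid.smul_def, Submonoid.smul_def, sub_eq_zero] at hv
    refine (Submodule.mem_smul_pointwise_iff_exists _ _ _).2 ⟨(v : A) • m, trivial, ?_⟩
    rw [smul_comm]
    exact hv.symm

/-- Restriction of an exact pair at `p`: composite surjectivity up to elements outside `p`. -/
theorem exists_smul_mem_range {p : PrimeSpectrum A} {X Y Z : Type*} [AddCommGroup X] [Module A X]
    [AddCommGroup Y] [Module A Y] [AddCommGroup Z] [Module A Z] {f : X →ₗ[A] Y} {g : Y →ₗ[A] Z}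
    (h : Function.Exact f g) (hZ : p ∉ Module.support A Z) (y : Y) :
    ∃ s ∉ p.asIdeal, ∃ x, f x = s • y := by
  obtain ⟨s, hs, hs'⟩ := Module.notMem_support_iff'.1 hZ (g y)
  exact ⟨s, hs, (h (s • y)).1 (by rw [map_smul, hs'])⟩

variable [IsNoetherianRing A] {ω : Dual.D A} (hω : Dual.IsDualizing A ω)
include hω

/-- The two steps for an element regular on `M` at `p`. -/
theorem step (p : PrimeSpectrum A) (M : Type u) [AddCommGroup M] [Module A M] [Module.Finite A M]
    (a : A) (ha : a ∈ p.asIdeal)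
    (hreg : p ∉ Module.support A (LinearMap.ker (a • (LinearMap.id : M →ₗ[A] M))))
    (m : ℤ) (hm : p ∈ Module.support A (Dual.inD A M ⟶ ω⟦m⟧))
    (hmax : ∀ i, m < i → p ∉ Module.support A (Dual.inD A M ⟶ ω⟦i⟧)) :
    p ∈ Module.support A (Dual.inD A (QuotSMulTop a M) ⟶ ω⟦m + 1⟧) ∧
      ∀ i, m + 1 < i → p ∉ Module.support A (Dual.inD A (QuotSMulTop a M) ⟶ ω⟦i⟧) := by
  let F : M →ₗ[A] M := a • LinearMap.id
  let K := LinearMap.ker F
  let I := LinearMap.range F
  obtain ⟨S, hS, s₁, s₂, s₃⟩ := exists_triangle_of_shortExact K.subtype F.rangeRestrict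
    (Submodule.subtype_injective K) F.surjective_rangeRestrict
    (by
      intro y
      constructor
      · intro hy
        exact ⟨⟨y, congrArg Subtype.val hy⟩, rfl⟩
      · rintro ⟨k, rfl⟩
        exact Subtype.ext k.2)
  have hI : (a • (⊤ : Submodule A M)) = I := by
    ext y
    rw [Submodule.mem_smul_pointwise_iff_exists]
    simp [I, F, LinearMap.mem_range]
  let q : M →ₗ[A] QuotSMulTop a M := Submodule.mkQ _
  have hIq : Function.Exact I.subtype q := by
    intro y
    change Submodule.Quotient.mk y = 0 ↔ _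
    rw [Submodule.Quotient.mk_eq_zero, hI]
    simp
  have hK : ∀ i : ℤ, p ∉ Module.support A (S.obj₁ ⟶ ω⟦i⟧) := fun i => by
    rw [s₁]
    exact notMem_support_equiv (Linear.homCongr A ((shiftFunctorZero (Dual.D A) ℤ).app _) (Iso.refl _))
      (notMem_support_hom_inD_left K hreg 0 _)
  -- the map `M → I → M` is multiplication by `a`
  let T₁ : ShortComplex (ModuleCat.{u} A) :=
    ShortComplex.mk (ModuleCat.ofHom I.subtype) (ModuleCat.ofHom q)
      (ModuleCat.hom_ext hIq.linearMap_comp_eq_zero)
  have hT₁ : T₁.ShortExact :=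
    { exact := (ShortComplex.ShortExact.moduleCat_exact_iff_function_exact T₁).2 hIq
      mono_f := (ModuleCat.mono_iff_injective _).2 (Submodule.subtype_injective I)
      epi_g := (ModuleCat.epi_iff_surjective _).2 (Submodule.mkQ_surjective _) }
  have hT := hT₁.singleTriangle_distinguished
  have hIsub : ∀ i : ℤ, m < i → p ∉ Module.support A (Dual.inD A I ⟶ ω⟦i⟧) := fun i hi => by
    rw [← s₃]
    refine notMem_support_of_exact (exact_conn_leftComp hS ω (i - 1) i (by lia)) (hK _) ?_
    rw [s₂]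
    exact hmax i hi
  refine ⟨?_, fun i hi => ?_⟩
  · by_contra hc
    refine absurd hm ?_
    have : Module.Finite A (Dual.inD A M ⟶ ω⟦m⟧) := finite_hom hω M m
    refine notMem_support_of_smul_exact (C := QuotSMulTop a (Dual.inD A M ⟶ ω⟦m⟧)) ha
      (g := Submodule.mkQ _) (fun z hz => ?_) (Module.notMem_support_iff'.2 fun w => ?_)
    · obtain ⟨z', -, hz'⟩ := (Submodule.mem_smul_pointwise_iff_exists _ _ _).1
        ((Submodule.Quotient.mk_eq_zero _).1 hz)
      exact ⟨z', hz'⟩
    obtain ⟨z, rfl⟩ := Submodule.mkQ_surjective _ w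
    -- pull back along `M → I`
    let P : Dual.inD A M ⟶ Dual.inD A I :=
      (DerivedCategory.singleFunctor (ModuleCat.{u} A) 0).map (ModuleCat.ofHom F.rangeRestrict)
    let J : Dual.inD A I ⟶ Dual.inD A M :=
      (DerivedCategory.singleFunctor (ModuleCat.{u} A) 0).map (ModuleCat.ofHom I.subtype)
    have hPJ : ∀ y : Dual.inD A M ⟶ ω⟦m⟧, P ≫ J ≫ y = a • y := fun y => by
      rw [← Category.assoc, ← CategoryTheory.Functor.map_comp,
        show ModuleCat.ofHom F.rangeRestrict ≫ ModuleCat.ofHom I.subtype =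
          a • 𝟙 (ModuleCat.of A M) from rfl, CategoryTheory.Functor.map_smul,
        CategoryTheory.Functor.map_id]
      exact (Linear.smul_comp _ _ _ a _ y).trans (congrArg (a • ·) (Category.id_comp y))
    let S' : ShortComplex (ModuleCat.{u} A) :=
      ShortComplex.mk (ModuleCat.ofHom K.subtype) (ModuleCat.ofHom F.rangeRestrict)
        (ModuleCat.hom_ext (LinearMap.ext fun k => Subtype.ext k.2))
    have hS' : S'.ShortExact :=
      { exact := (ShortComplex.ShortExact.moduleCat_exact_iff_function_exact S').2 (fun y =>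
          ⟨fun hy => ⟨⟨y, congrArg Subtype.val hy⟩, rfl⟩, by rintro ⟨k, rfl⟩; exact Subtype.ext k.2⟩)
        mono_f := (ModuleCat.mono_iff_injective _).2 (Submodule.subtype_injective K)
        epi_g := (ModuleCat.epi_iff_surjective _).2 F.surjective_rangeRestrict }
    have hK' : p ∉ Module.support A (Dual.inD A K ⟶ ω⟦m⟧) :=
      notMem_support_equiv (Linear.homCongr A ((shiftFunctorZero (Dual.D A) ℤ).app _) (Iso.refl _))
        (notMem_support_hom_inD_left K hreg 0 _)
    obtain ⟨s, hs, z₁, hz₁⟩ :=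
      exists_smul_mem_range (exact_leftComp hS'.singleTriangle_distinguished (ω⟦m⟧)) hK' z
    obtain ⟨t, ht, z₂, hz₂⟩ :=
      exists_smul_mem_range (exact_leftComp_conn hT ω m (m + 1) rfl) hc z₁
    change P ≫ z₁ = s • z at hz₁
    change J ≫ z₂ = t • z₁ at hz₂
    refine ⟨t * s, p.isPrime.mul_notMem ht hs, ?_⟩
    rw [← map_smul, Submodule.mkQ_apply, Submodule.Quotient.mk_eq_zero]
    refine (Submodule.mem_smul_pointwise_iff_exists _ _ _).2 ⟨z₂, trivial, ?_⟩
    refine (hPJ z₂).symm.trans ?_
    rw [hz₂, mul_smul, ← hz₁]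
    exact Linear.comp_smul _ _ _ _ t z₁
  · exact notMem_support_of_exact (exact_conn_leftComp hT ω (i - 1) i (by lia))
      (hIsub (i - 1) (by lia)) (hmax i (by lia))

/-- An element of the maximal ideal regular at `p` exists unless `Hom(M, ω[deg p])` is nonzero at `p`. -/
theorem exists_regular (p : PrimeSpectrum A) (M N : Type u) [AddCommGroup M] [Module A M]
    [Module.Finite A M] [AddCommGroup N] [Module A N] [Module (Localization.AtPrime p.asIdeal) N]
    [IsScalarTower A (Localization.AtPrime p.asIdeal) N] (f : M →ₗ[A] N)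
    [IsLocalizedModule p.asIdeal.primeCompl f]
    (h : p ∉ Module.support A (Dual.inD A M ⟶ ω⟦deg hω p⟧)) :
    ∃ x ∈ IsLocalRing.maximalIdeal (Localization.AtPrime p.asIdeal), IsSMulRegular N x := by
  by_contra hc
  have : Module.Finite (Localization.AtPrime p.asIdeal) N :=
    Module.Finite.of_isLocalizedModule p.asIdeal.primeCompl f
  have hsub : (IsLocalRing.maximalIdeal (Localization.AtPrime p.asIdeal) : Set _) ⊆
      ⋃ P ∈ associatedPrimes (Localization.AtPrime p.asIdeal) N, (P : Set (Localization.AtPrime p.asIdeal)) := by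
    intro x hx
    rw [biUnion_associatedPrimes_eq_zero_divisors]
    by_contra hno
    refine hc ⟨x, hx, isSMulRegular_iff_right_eq_zero_of_smul.2 fun n hn => ?_⟩
    by_contra h0
    exact hno ⟨n, h0, hn⟩
  obtain ⟨P, hP, hPle⟩ := (Ideal.subset_union_prime_finite (f := fun P => P) (associatedPrimes.finite _ N)
    (Ideal.map (algebraMap A _) ⊥) (Ideal.map (algebraMap A _) ⊥) (fun i hi _ _ => hi.1)).1 hsub
  have hPeq : P = IsLocalRing.maximalIdeal (Localization.AtPrime p.asIdeal) :=
    le_antisymm (IsLocalRing.le_maximalIdeal hP.1.ne_top) hPle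
  subst hPeq
  obtain ⟨-, φ, hφ⟩ := (isAssociatedPrime_iff_exists_injective_linearMap _ _).1 hP
  set y := φ (Submodule.mkQ _ 1)
  have hy : y ≠ 0 := by
    intro hy
    have := hφ (hy.trans (map_zero φ).symm)
    rw [Submodule.mkQ_apply, Submodule.Quotient.mk_eq_zero] at this
    exact (Ideal.ne_top_iff_one _).1 hP.1.ne_top this
  have hym : ∀ b ∈ p.asIdeal, b • y = 0 := fun b hb => by
    rw [← algebraMap_smul (Localization.AtPrime p.asIdeal) b y, ← map_smul, ← map_smul, smul_eq_mul,
      mul_one, Submodule.mkQ_apply, (Submodule.Quotient.mk_eq_zero _).2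
        ((IsLocalization.AtPrime.to_map_mem_maximal_iff _ p.asIdeal b).2 hb), map_zero]
  obtain ⟨⟨m₀, t⟩, hm₀⟩ := IsLocalizedModule.surj p.asIdeal.primeCompl f y
  obtain ⟨G, hG⟩ : p.asIdeal.FG := IsNoetherian.noetherian p.asIdeal
  have hb : ∀ b : G, ∃ v : p.asIdeal.primeCompl, (v : A) • (b : A) • m₀ = 0 := fun b => by
    obtain ⟨v, hv⟩ := (IsLocalizedModule.eq_zero_iff p.asIdeal.primeCompl f (m := (b : A) • m₀)).1 (by
      rw [map_smul, ← hm₀, smul_comm, hym (b : A) (hG ▸ Ideal.subset_span b.2), smul_zero])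
    exact ⟨v, hv⟩
  choose v hv using hb
  let V : p.asIdeal.primeCompl := ∏ b, v b
  let m₁ := (V : A) • m₀
  have hm₁ : ∀ b ∈ p.asIdeal, b • m₁ = 0 := by
    suffices p.asIdeal ≤ LinearMap.ker (LinearMap.toSpanSingleton A M m₁) from
      fun b hb => this hb
    rw [← hG, Ideal.span_le]
    intro b hb
    change b • m₁ = 0
    obtain ⟨w, hw⟩ : (v ⟨b, hb⟩ : A) ∣ (V : A) := by
      rw [Submonoid.coe_finsetProd]
      exact Finset.dvd_prod_of_mem _ (Finset.mem_univ _)
    simp only [m₁, hw]
    rw [mul_comm, mul_smul, smul_comm b, smul_comm b, hv ⟨b, hb⟩, smul_zero]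
  let ι : (A ⧸ p.asIdeal) →ₗ[A] M :=
    Submodule.liftQ _ (LinearMap.toSpanSingleton A M m₁) (fun b hb => hm₁ b hb)
  have hι : Function.Injective ι := by
    rw [injective_iff_map_eq_zero]
    intro z hz
    obtain ⟨z, rfl⟩ := Submodule.Quotient.mk_surjective _ z
    change z • m₁ = 0 at hz
    rw [Submodule.Quotient.mk_eq_zero]
    by_contra hzp
    refine hy ?_
    have h1 : (z * V * t : A) • y = 0 := by
      rw [mul_smul, mul_smul]
      have := congrArg f hz
      rw [map_zero, map_smul, map_smul, ← hm₀] at this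
      exact this
    have hu := (Module.End.isUnit_iff _).1
      (IsLocalizedModule.map_units f (⟨z * V * t, p.isPrime.mul_notMem (p.isPrime.mul_notMem hzp V.2) t.2⟩ :
        p.asIdeal.primeCompl))
    exact hu.1 (by
      rw [Module.algebraMap_end_apply, map_zero]
      exact h1)
  obtain ⟨U, hU, u₁, u₂, u₃⟩ := exists_triangle_of_shortExact ι (LinearMap.range ι).mkQ hι
    (Submodule.mkQ_surjective _) (LinearMap.exact_map_mkQ_range ι)
  refine absurd (mem_support_deg hω p) ?_
  rw [← u₁]
  refine notMem_support_of_exact (exact_leftComp_conn hU ω (deg hω p) (deg hω p + 1) rfl) ?_ ?_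
  · rw [u₂]; exact h
  · rw [u₃]; exact notMem_support_hom_of_outside hω p _ _ (Or.inl (by lia))

/-- A regular sequence at `p` pushes the top degree up by its length. -/
theorem length_le (p : PrimeSpectrum A) (rs : List (Localization.AtPrime p.asIdeal)) :
    ∀ (M N : Type u) [AddCommGroup M] [Module A M]
    [Module.Finite A M] [AddCommGroup N] [Module A N] [Module (Localization.AtPrime p.asIdeal) N]
    [IsScalarTower A (Localization.AtPrime p.asIdeal) N] (f : M →ₗ[A] N)
    [IsLocalizedModule p.asIdeal.primeCompl f] (m : ℤ),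
    RingTheory.Sequence.IsWeaklyRegular N rs →
    (∀ r ∈ rs, r ∈ IsLocalRing.maximalIdeal (Localization.AtPrime p.asIdeal)) →
    p ∈ Module.support A (Dual.inD A M ⟶ ω⟦m⟧) →
    (∀ i, m < i → p ∉ Module.support A (Dual.inD A M ⟶ ω⟦i⟧)) →
    m + rs.length ≤ deg hω p := by
  induction rs with
  | nil =>
    intro M N _ _ _ _ _ _ _ f _ m _ _ hm _
    by_contra hc
    exact notMem_support_hom_of_outside hω p M m (Or.inl (by simp at hc; lia)) hm
  | cons x rs ih =>
    intro M N _ _ _ _ _ _ _ f _ m hrs hmem hm hmax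
    rw [RingTheory.Sequence.isWeaklyRegular_cons_iff] at hrs
    obtain ⟨⟨a, s⟩, has⟩ := IsLocalization.surj p.asIdeal.primeCompl x
    have ha : a ∈ p.asIdeal := by
      refine (IsLocalization.AtPrime.to_map_mem_maximal_iff
        (Localization.AtPrime p.asIdeal) p.asIdeal a).1 ?_
      dsimp only at has
      rw [← has]
      exact Ideal.mul_mem_right _ _ (hmem x List.mem_cons_self)
    obtain ⟨g, hg⟩ := isLocalizedModule_quotSMulTop p M N f x a s has
    have hreg : p ∉ Module.support A (LinearMap.ker (a • (LinearMap.id : M →ₗ[A] M))) := by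
      refine Module.notMem_support_iff'.2 fun k => ?_
      have h0 : f (k : M) = 0 := by
        have h1 : a • f k = 0 := by
          rw [← map_smul, show a • (k : M) = 0 from LinearMap.mem_ker.1 k.2, map_zero]
        rw [← algebraMap_smul (Localization.AtPrime p.asIdeal) a (f k)] at h1
        dsimp only at has
        rw [← has, mul_smul, algebraMap_smul] at h1
        have h2 := hrs.1 (h1.trans (smul_zero x).symm)
        exact ((Module.End.isUnit_iff _).1 (IsLocalizedModule.map_units f s)).1
          (by simpa [Module.algebraMap_end_apply] using h2)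
      obtain ⟨v, hv⟩ := (IsLocalizedModule.eq_zero_iff p.asIdeal.primeCompl f).1 h0
      exact ⟨v, v.2, Subtype.ext hv⟩
    obtain ⟨h1, h2⟩ := step hω p M a ha hreg m hm hmax
    have := ih (QuotSMulTop a M) (QuotSMulTop x N) g (m + 1) hrs.2
      (fun r hr => hmem r (List.mem_cons_of_mem x hr)) h1 h2
    simp only [List.length_cons, Nat.cast_add, Nat.cast_one]
    lia

/-- Regular sequences of the expected length exist. -/
theorem exists_sequence (p : PrimeSpectrum A) (n : ℕ) :
    ∀ (M N : Type u) [AddCommGroup M] [Module A M]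
    [Module.Finite A M] [AddCommGroup N] [Module A N] [Module (Localization.AtPrime p.asIdeal) N]
    [IsScalarTower A (Localization.AtPrime p.asIdeal) N] (f : M →ₗ[A] N)
    [IsLocalizedModule p.asIdeal.primeCompl f] (m : ℤ),
    p ∈ Module.support A (Dual.inD A M ⟶ ω⟦m⟧) →
    (∀ i, m < i → p ∉ Module.support A (Dual.inD A M ⟶ ω⟦i⟧)) →
    deg hω p = m + n →
    ∃ rs : List (Localization.AtPrime p.asIdeal), rs.length = n ∧
      RingTheory.Sequence.IsWeaklyRegular N rs ∧
      ∀ r ∈ rs, r ∈ IsLocalRing.maximalIdeal (Localization.AtPrime p.asIdeal) := by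
  induction n with
  | zero =>
    intro M N _ _ _ _ _ _ _ f _ m _ _ _
    exact ⟨[], rfl, RingTheory.Sequence.IsWeaklyRegular.nil _ _, by simp⟩
  | succ n ih =>
    intro M N _ _ _ _ _ _ _ f _ m hm hmax hn
    obtain ⟨x, hx, hxreg⟩ := exists_regular hω p M N f (hmax _ (by lia))
    obtain ⟨⟨a, s⟩, has⟩ := IsLocalization.surj p.asIdeal.primeCompl x
    have ha : a ∈ p.asIdeal := by
      refine (IsLocalization.AtPrime.to_map_mem_maximal_iff
        (Localization.AtPrime p.asIdeal) p.asIdeal a).1 ?_
      dsimp only at has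
      rw [← has]
      exact Ideal.mul_mem_right _ _ hx
    obtain ⟨g, hg⟩ := isLocalizedModule_quotSMulTop p M N f x a s has
    have hreg : p ∉ Module.support A (LinearMap.ker (a • (LinearMap.id : M →ₗ[A] M))) := by
      refine Module.notMem_support_iff'.2 fun k => ?_
      have h0 : f (k : M) = 0 := by
        have h1 : a • f k = 0 := by
          rw [← map_smul, show a • (k : M) = 0 from LinearMap.mem_ker.1 k.2, map_zero]
        rw [← algebraMap_smul (Localization.AtPrime p.asIdeal) a (f k)] at h1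
        dsimp only at has
        rw [← has, mul_smul, algebraMap_smul] at h1
        have h2 := hxreg (h1.trans (smul_zero x).symm)
        exact ((Module.End.isUnit_iff _).1 (IsLocalizedModule.map_units f s)).1
          (by simpa [Module.algebraMap_end_apply] using h2)
      obtain ⟨v, hv⟩ := (IsLocalizedModule.eq_zero_iff p.asIdeal.primeCompl f).1 h0
      exact ⟨v, v.2, Subtype.ext hv⟩
    obtain ⟨h1, h2⟩ := step hω p M a ha hreg m hm hmax
    obtain ⟨rs, hl, hrs, hmem⟩ := ih (QuotSMulTop a M) (QuotSMulTop x N) g (m + 1) h1 h2 (by lia)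
    refine ⟨x :: rs, by simp [hl], hrs.cons hxreg, ?_⟩
    rintro r (_ | ⟨_, hr⟩)
    · exact hx
    · exact hmem r hr

/-- The top nonvanishing degree at `p`. -/
theorem exists_max_degree (p : PrimeSpectrum A) (M : Type u) [AddCommGroup M] [Module A M]
    [Module.Finite A M] (hp : p ∈ Module.support A M) :
    ∃ m : ℤ, m ≤ deg hω p ∧ p ∈ Module.support A (Dual.inD A M ⟶ ω⟦m⟧) ∧
      ∀ i, m < i → p ∉ Module.support A (Dual.inD A M ⟶ ω⟦i⟧) := by
  have hb : ∀ i, p ∈ Module.support A (Dual.inD A M ⟶ ω⟦i⟧) → i ≤ deg hω p := fun i hi => by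
    by_contra hc
    exact notMem_support_hom_of_outside hω p M i (Or.inl (by lia)) hi
  obtain ⟨q, hqp, hq, hmin⟩ := DimDegree.exists_min_deg hω p M hp
  obtain ⟨m, hm, hmax⟩ := Int.exists_greatest_of_bdd ⟨deg hω p, hb⟩
    ⟨deg hω q, mem_support_hom_of_minimal_deg hω p q hqp M hq fun r hrp hr => hmin r hr hrp⟩
  exact ⟨m, hb m hm, hm, fun i hi hc => absurd (hmax i hc) (by lia)⟩

/-- `depth M_p = deg p - (top degree)`. -/
theorem depth_eq (p : PrimeSpectrum A) (M : Type u) [AddCommGroup M] [Module A M]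
    [Module.Finite A M] (hp : p ∈ Module.support A M) :
    ∃ n : ℕ, LocCoh.depth (Localization.AtPrime p.asIdeal)
        (LocalizedModule p.asIdeal.primeCompl M) = n ∧
      p ∈ Module.support A (Dual.inD A M ⟶ ω⟦deg hω p - n⟧) ∧
      ∀ i, deg hω p - (n : ℤ) < i → p ∉ Module.support A (Dual.inD A M ⟶ ω⟦i⟧) := by
  obtain ⟨m, hmle, hm, hmax⟩ := exists_max_degree hω p M hp
  refine ⟨(deg hω p - m).toNat, ?_, ?_, ?_⟩
  · let f := LocalizedModule.mkLinearMap p.asIdeal.primeCompl M
    have : Nontrivial (LocalizedModule p.asIdeal.primeCompl M) := Module.mem_support_iff.1 hp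
    have hne : ¬ IsLocalRing.maximalIdeal (Localization.AtPrime p.asIdeal) •
        (⊤ : Submodule (Localization.AtPrime p.asIdeal) (LocalizedModule p.asIdeal.primeCompl M)) = ⊤ :=
      fun h => (Submodule.top_ne_ideal_smul_of_le_jacobson_annihilator
        (IsLocalRing.maximalIdeal_le_jacobson _)) h.symm
    rw [LocCoh.depth, LocCoh.idealDepth, if_neg hne]
    apply le_antisymm
    · refine iSup₂_le fun rs hrs => ?_
      have := length_le hω p rs M _ f m hrs.1 hrs.2 hm hmax
      exact_mod_cast (show rs.length ≤ (deg hω p - m).toNat by lia)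
    · obtain ⟨rs, hl, hrs, hmem⟩ := exists_sequence hω p (deg hω p - m).toNat M _ f m hm hmax (by lia)
      exact le_iSup₂_of_le rs ⟨hrs, hmem⟩ (by rw [hl])
  · rwa [show deg hω p - ((deg hω p - m).toNat : ℤ) = m by lia]
  · intro i hi
    exact hmax i (by lia)

end Groth.Agent.Lib.DMod.DepthDegree
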