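import Groth.Prelude.Def_CAlg
import Mathlib.RingTheory.Localization.LocalizationLocalization
import Mathlib.RingTheory.KrullDimension.Module
import Mathlib.RingTheory.Spectrum.Prime.RingHom
import Mathlib.Algebra.Module.LocalizedModule.Basic

/-!
Depth and dimension of a localization of a localization of a module.
-/

universe u v w

open scoped Pointwise

namespace Groth.Agent.Lib.DMod.LocLoc

section Bijective

variable {R : Type u} {S : Type u} [CommRing R] [CommRing S] [Algebra R S] [IsLocalRing R]
  [IsLocalRing S] (h : Function.Bijective (algebraMap R S))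
  (N : Type v) [AddCommGroup N] [Module R N] [Module S N] [IsScalarTower R S N]
include h

omit [IsLocalRing R] [IsLocalRing S] in
theorem isUnit_iff (a : R) : IsUnit (algebraMap R S a) ↔ IsUnit a :=
  ⟨fun ha => by
    obtain ⟨b, hb⟩ := isUnit_iff_exists_inv.1 ha
    obtain ⟨c, rfl⟩ := h.2 b
    exact isUnit_iff_exists_inv.2 ⟨c, h.1 (by rw [map_mul, hb, map_one])⟩,
    fun ha => ha.map _⟩

theorem mem_maximal_iff (a : R) :
    algebraMap R S a ∈ IsLocalRing.maximalIdeal S ↔ a ∈ IsLocalRing.maximalIdeal R := by
  rw [IsLocalRing.mem_maximalIdeal, IsLocalRing.mem_maximalIdeal, mem_nonunits_iff, mem_nonunits_iff,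
    isUnit_iff h]

theorem smul_top_eq_top_iff :
    IsLocalRing.maximalIdeal S • (⊤ : Submodule S N) = ⊤ ↔
      IsLocalRing.maximalIdeal R • (⊤ : Submodule R N) = ⊤ := by
  have key : ∀ n : N, n ∈ IsLocalRing.maximalIdeal S • (⊤ : Submodule S N) ↔
      n ∈ IsLocalRing.maximalIdeal R • (⊤ : Submodule R N) := fun n => by
    constructor
    · intro hn
      refine Submodule.smul_induction_on hn (fun s hs m _ => ?_) fun x y => add_mem
      obtain ⟨a, rfl⟩ := h.2 s
      rw [algebraMap_smul]
      exact Submodule.smul_mem_smul ((mem_maximal_iff h a).1 hs) trivial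
    · intro hn
      refine Submodule.smul_induction_on hn (fun a ha m _ => ?_) fun x y => add_mem
      rw [← algebraMap_smul S a m]
      exact Submodule.smul_mem_smul ((mem_maximal_iff h a).2 ha) trivial
  simp only [Submodule.eq_top_iff', key]

theorem depth_eq : LocCoh.depth S N = LocCoh.depth R N := by
  classical
  simp only [LocCoh.depth, LocCoh.idealDepth, smul_top_eq_top_iff h]
  split_ifs with htop
  · rfl
  apply le_antisymm
  · refine iSup₂_le fun rs hrs => ?_
    obtain ⟨rs, rfl⟩ : ∃ rs' : List R, rs'.map (algebraMap R S) = rs :=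
      List.map_surjective_iff.2 h.2 rs
    refine le_iSup₂_of_le rs
      ⟨(RingTheory.Sequence.isWeaklyRegular_map_algebraMap_iff S N rs).1 hrs.1, fun r hr => ?_⟩
      (by simp)
    exact (mem_maximal_iff h r).1 (hrs.2 _ (List.mem_map_of_mem hr))
  · refine iSup₂_le fun rs hrs => ?_
    refine le_iSup₂_of_le (rs.map (algebraMap R S))
      ⟨(RingTheory.Sequence.isWeaklyRegular_map_algebraMap_iff S N rs).2 hrs.1, fun r hr => ?_⟩
      (by simp)
    obtain ⟨a, ha, rfl⟩ := List.mem_map.1 hr
    exact (mem_maximal_iff h a).2 (hrs.2 a ha)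

omit [IsLocalRing R] [IsLocalRing S] in
theorem supportDim_eq : Module.supportDim S N = Module.supportDim R N := by
  let e : R ≃+* S := RingEquiv.ofBijective _ h
  let o := (PrimeSpectrum.comapEquiv e).symm
  have key : ∀ q : PrimeSpectrum S, q ∈ Module.support S N ↔ o q ∈ Module.support R N := by
    intro q
    rw [Module.mem_support_iff', Module.mem_support_iff']
    refine exists_congr fun m => ⟨fun hh r hr => ?_, fun hh s hs => ?_⟩
    · rw [← algebraMap_smul S r m]
      exact hh _ hr
    · obtain ⟨r, rfl⟩ := h.2 s
      rw [algebraMap_smul]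
      exact hh r hs
  exact Order.krullDim_eq_of_orderIso
    { toFun := fun q => ⟨o q.1, (key q.1).1 q.2⟩
      invFun := fun q => ⟨o.symm q.1, (key _).2 (by rw [OrderIso.apply_symm_apply]; exact q.2)⟩
      left_inv := fun q => Subtype.ext (o.symm_apply_apply q.1)
      right_inv := fun q => Subtype.ext (o.apply_symm_apply q.1)
      map_rel_iff' := o.le_iff_le }

end Bijective

variable {A : Type u} [CommRing A] (p : PrimeSpectrum A) (M : Type u) [AddCommGroup M] [Module A M]
  (q' : PrimeSpectrum (Localization.AtPrime p.asIdeal))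

/-- Localizing `M_p` at a prime over `q` gives depth and dimension of `M_q`. -/
theorem exists_equiv :
    ∃ (S : Type u) (_ : CommRing S) (_ : IsLocalRing S) (_ : Algebra (Localization.AtPrime
        (q'.asIdeal.comap (algebraMap A (Localization.AtPrime p.asIdeal)))) S)
      (N : Type u) (_ : AddCommGroup N) (_ : Module S N)
      (_ : Module (Localization.AtPrime
        (q'.asIdeal.comap (algebraMap A (Localization.AtPrime p.asIdeal)))) N)
      (_ : IsScalarTower (Localization.AtPrime
        (q'.asIdeal.comap (algebraMap A (Localization.AtPrime p.asIdeal)))) S N),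
      Function.Bijective (algebraMap (Localization.AtPrime
        (q'.asIdeal.comap (algebraMap A (Localization.AtPrime p.asIdeal)))) S) ∧
      Nonempty (LocalizedModule (q'.asIdeal.comap (algebraMap A (Localization.AtPrime p.asIdeal))).primeCompl M
        ≃ₗ[Localization.AtPrime (q'.asIdeal.comap (algebraMap A (Localization.AtPrime p.asIdeal)))] N) ∧
      LocCoh.depth S N = LocCoh.depth (Localization.AtPrime q'.asIdeal)
        (LocalizedModule q'.asIdeal.primeCompl (LocalizedModule p.asIdeal.primeCompl M)) ∧
      Module.supportDim S N = Module.supportDim (Localization.AtPrime q'.asIdeal)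
        (LocalizedModule q'.asIdeal.primeCompl (LocalizedModule p.asIdeal.primeCompl M)) := by
  let Ap := Localization.AtPrime p.asIdeal
  let q := q'.asIdeal.comap (algebraMap A Ap)
  let S := Localization.AtPrime q'.asIdeal
  let Mp := LocalizedModule p.asIdeal.primeCompl M
  let N := LocalizedModule q'.asIdeal.primeCompl Mp
  let φ : Localization.AtPrime q ≃ₐ[A] S :=
    IsLocalization.localizationLocalizationAtPrimeIsoLocalization p.asIdeal.primeCompl q'.asIdeal
  let : Algebra (Localization.AtPrime q) S := φ.toRingEquiv.toRingHom.toAlgebra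
  let : Module (Localization.AtPrime q) N := Module.compHom N φ.toRingEquiv.toRingHom
  have : IsScalarTower (Localization.AtPrime q) S N :=
    IsScalarTower.of_algebraMap_smul fun r n => rfl
  let f₁ := LocalizedModule.mkLinearMap p.asIdeal.primeCompl M
  let f₂ := LocalizedModule.mkLinearMap q'.asIdeal.primeCompl Mp
  let f : M →ₗ[A] N := (f₂.restrictScalars A) ∘ₗ f₁
  have : IsScalarTower A (Localization.AtPrime q) N :=
    IsScalarTower.of_algebraMap_smul fun a n => by
      change φ (algebraMap A (Localization.AtPrime q) a) • n = a • n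
      rw [AlgEquiv.commutes, IsScalarTower.algebraMap_apply A Ap S, algebraMap_smul, algebraMap_smul]
  have hloc : IsLocalizedModule q.primeCompl f := by
    refine ⟨fun t => ?_, fun n => ?_, fun {m₁ m₂} hm => ?_⟩
    · have hu : IsUnit ((algebraMap A S) (t : A)) := by
        rw [IsScalarTower.algebraMap_apply A Ap S]
        exact IsLocalization.map_units S (⟨algebraMap A Ap t, t.2⟩ : q'.asIdeal.primeCompl)
      refine (Module.End.isUnit_iff _).2 ?_
      convert (Module.End.isUnit_iff _).1 (hu.map (Algebra.lsmul A A N)) using 1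
      ext z
      simp [Module.algebraMap_end_apply]
    · obtain ⟨⟨y, t⟩, hyt⟩ := IsLocalizedModule.surj q'.asIdeal.primeCompl f₂ n
      obtain ⟨⟨m, s⟩, hms⟩ := IsLocalizedModule.surj p.asIdeal.primeCompl f₁ y
      obtain ⟨⟨t₀, u⟩, htu⟩ := IsLocalization.surj p.asIdeal.primeCompl (t : Ap)
      have hu : ∀ v : p.asIdeal.primeCompl, algebraMap A Ap (v : A) ∉ q'.asIdeal := fun v hv =>
        q'.isPrime.ne_top (q'.asIdeal.eq_top_of_isUnit_mem hv (IsLocalization.map_units Ap v))
      refine ⟨((u : A) • m, ⟨s * t₀, fun hc => ?_⟩), ?_⟩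
      · rcases (show q.IsPrime from inferInstance).mem_or_mem hc with hc | hc
        · exact hu s hc
        · change algebraMap A Ap t₀ ∈ q'.asIdeal at hc
          dsimp only at htu
          rw [← htu] at hc
          exact (q'.isPrime.mem_or_mem hc).elim t.2 (hu u)
      · change ((s : A) * t₀) • n = f ((u : A) • m)
        rw [map_smul, mul_smul]
        change (s : A) • t₀ • n = (u : A) • f₂ (f₁ m)
        dsimp only at hms htu hyt
        rw [← hms, Submonoid.smul_def, LinearMap.map_smul_of_tower, ← hyt, Submonoid.smul_def,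
          ← algebraMap_smul Ap t₀ n, ← htu, mul_comm, mul_smul, algebraMap_smul]
        exact smul_comm _ _ _
    · change f₂ (f₁ m₁) = f₂ (f₁ m₂) at hm
      obtain ⟨t, ht⟩ := (IsLocalizedModule.eq_iff_exists q'.asIdeal.primeCompl f₂).1 hm
      obtain ⟨⟨t₀, u⟩, htu⟩ := IsLocalization.surj p.asIdeal.primeCompl (t : Ap)
      dsimp only at htu
      have h2 : f₁ (t₀ • m₁) = f₁ (t₀ • m₂) := by
        rw [map_smul, map_smul, ← algebraMap_smul Ap t₀, ← algebraMap_smul Ap t₀, ← htu, mul_comm,
          mul_smul, mul_smul]
        exact congrArg _ ht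
      obtain ⟨v, hv⟩ := (IsLocalizedModule.eq_iff_exists p.asIdeal.primeCompl f₁).1 h2
      have hu : ∀ v : p.asIdeal.primeCompl, algebraMap A Ap (v : A) ∉ q'.asIdeal := fun v hv =>
        q'.isPrime.ne_top (q'.asIdeal.eq_top_of_isUnit_mem hv (IsLocalization.map_units Ap v))
      refine ⟨⟨v * t₀, fun hc => ?_⟩, ?_⟩
      · rcases (show q.IsPrime from inferInstance).mem_or_mem hc with hc | hc
        · exact hu v hc
        · change algebraMap A Ap t₀ ∈ q'.asIdeal at hc
          rw [← htu] at hc
          exact (q'.isPrime.mem_or_mem hc).elim t.2 (hu u)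
      · simp only [Submonoid.smul_def] at hv ⊢
        rw [mul_smul, mul_smul]
        exact hv
  exact ⟨S, inferInstance, inferInstance, inferInstance, N, inferInstance, inferInstance,
    inferInstance, inferInstance, φ.toEquiv.bijective,
    ⟨(IsLocalizedModule.iso q.primeCompl f).extendScalarsOfIsLocalization q.primeCompl _⟩, rfl, rfl⟩

/-- Depth and dimension are those of the localization at the contracted prime. -/
theorem depth_supportDim_eq :
    LocCoh.depth (Localization.AtPrime q'.asIdeal)
        (LocalizedModule q'.asIdeal.primeCompl (LocalizedModule p.asIdeal.primeCompl M)) =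
      LocCoh.depth (Localization.AtPrime (q'.asIdeal.comap (algebraMap A (Localization.AtPrime p.asIdeal))))
        (LocalizedModule (q'.asIdeal.comap (algebraMap A (Localization.AtPrime p.asIdeal))).primeCompl M) ∧
    Module.supportDim (Localization.AtPrime q'.asIdeal)
        (LocalizedModule q'.asIdeal.primeCompl (LocalizedModule p.asIdeal.primeCompl M)) =
      Module.supportDim (Localization.AtPrime (q'.asIdeal.comap (algebraMap A (Localization.AtPrime p.asIdeal))))
        (LocalizedModule (q'.asIdeal.comap (algebraMap A (Localization.AtPrime p.asIdeal))).primeCompl M) := by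
  obtain ⟨S, _, _, _, N, _, _, _, _, hb, ⟨e⟩, h1, h2⟩ := exists_equiv p M q'
  rw [← h1, ← h2, depth_eq hb N, supportDim_eq hb N, Module.supportDim_eq_of_equiv e]
  refine ⟨?_, rfl⟩
  simp only [LocCoh.depth, LocCoh.idealDepth, e.isWeaklyRegular_congr]
  have htop : ∀ I : Ideal (Localization.AtPrime
      (q'.asIdeal.comap (algebraMap A (Localization.AtPrime p.asIdeal)))),
      I • (⊤ : Submodule _ N) = ⊤ ↔ I • (⊤ : Submodule _ (LocalizedModule
        (q'.asIdeal.comap (algebraMap A (Localization.AtPrime p.asIdeal))).primeCompl M)) = ⊤ :=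
    fun I => by
      rw [← (Submodule.map_injective_of_injective e.symm.injective (f := e.symm.toLinearMap)).eq_iff,
        Submodule.map_smul'', Submodule.map_top, LinearEquiv.range]
  simp only [htop]

end Groth.Agent.Lib.DMod.LocLoc
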