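import Mathlib.RingTheory.KrullDimension.Module
import Mathlib.RingTheory.Spectrum.Prime.Module
import Mathlib.RingTheory.Localization.AtPrime.Basic
import Mathlib.Algebra.Module.LocalizedModule.Basic

/-!
The support and its dimension of a localized module.
-/

universe u v

namespace Groth.Agent.Lib.DMod.SupportDim

variable {A : Type u} [CommRing A] (p : PrimeSpectrum A) (M : Type v) [AddCommGroup M] [Module A M]

theorem comap_mem_support_iff (q : PrimeSpectrum (Localization.AtPrime p.asIdeal)) :
    q ∈ Module.support (Localization.AtPrime p.asIdeal) (LocalizedModule p.asIdeal.primeCompl M) ↔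
      PrimeSpectrum.comap (algebraMap A (Localization.AtPrime p.asIdeal)) q ∈ Module.support A M := by
  have hu : ∀ t ∈ p.asIdeal.primeCompl, algebraMap A (Localization.AtPrime p.asIdeal) t ∉ q.asIdeal :=
    fun t ht h => q.isPrime.ne_top (q.asIdeal.eq_top_of_isUnit_mem h
      (IsLocalization.map_units _ (⟨t, ht⟩ : p.asIdeal.primeCompl)))
  let mk := LocalizedModule.mkLinearMap p.asIdeal.primeCompl M
  rw [← not_iff_not, Module.notMem_support_iff', Module.notMem_support_iff']
  constructor
  · intro h m
    obtain ⟨r, hr, hr'⟩ := h (mk m)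
    obtain ⟨⟨r₀, s₀⟩, hrs⟩ := IsLocalization.surj p.asIdeal.primeCompl r
    have h0 : mk (r₀ • m) = 0 := by
      rw [map_smul, ← algebraMap_smul (Localization.AtPrime p.asIdeal) r₀ (mk m)]
      dsimp only at hrs
      rw [← hrs, mul_comm, mul_smul, hr', smul_zero]
    obtain ⟨u, hu'⟩ := (IsLocalizedModule.eq_zero_iff p.asIdeal.primeCompl mk).1 h0
    refine ⟨u * r₀, fun hc => ?_, by rw [mul_smul]; exact hu'⟩
    simp only [PrimeSpectrum.comap_asIdeal, Ideal.mem_comap, map_mul] at hc
    rcases q.isPrime.mem_or_mem hc with hc | hc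
    · exact hu u u.2 hc
    · dsimp only at hrs
      rw [← hrs] at hc
      rcases q.isPrime.mem_or_mem hc with hc | hc
      · exact hr hc
      · exact hu s₀ s₀.2 hc
  · intro h x
    obtain ⟨⟨m, s⟩, hms⟩ := IsLocalizedModule.surj p.asIdeal.primeCompl mk x
    obtain ⟨r, hr, hr'⟩ := h m
    refine ⟨algebraMap A (Localization.AtPrime p.asIdeal) (r * s), fun hc => ?_, ?_⟩
    · rw [map_mul] at hc
      rcases q.isPrime.mem_or_mem hc with hc | hc
      · exact hr hc
      · exact hu s s.2 hc
    · rw [algebraMap_smul, mul_smul]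
      change r • (s • x) = 0
      rw [hms, ← map_smul, hr', map_zero]

/-- The dimension of the support of `M_p` is the dimension of the support of `M` below `p`. -/
theorem supportDim_localized :
    Module.supportDim (Localization.AtPrime p.asIdeal) (LocalizedModule p.asIdeal.primeCompl M) =
      Order.krullDim {q : PrimeSpectrum A // q ∈ Module.support A M ∧ q ≤ p} := by
  let e := IsLocalization.AtPrime.primeSpectrumOrderIso (Localization.AtPrime p.asIdeal) p.asIdeal
  have he : ∀ q, ((e q : Set.Iic p) : PrimeSpectrum A) =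
      PrimeSpectrum.comap (algebraMap A (Localization.AtPrime p.asIdeal)) q := fun q => rfl
  refine Order.krullDim_eq_of_orderIso
    { toFun := fun q => ⟨(e q.1).1, by rw [he]; exact (comap_mem_support_iff p M q.1).1 q.2, (e q.1).2⟩
      invFun := fun q => ⟨e.symm ⟨q.1, q.2.2⟩, (comap_mem_support_iff p M _).2 (by
        rw [← he, OrderIso.apply_symm_apply]; exact q.2.1)⟩
      left_inv := fun q => Subtype.ext (e.symm_apply_apply q.1)
      right_inv := fun q => Subtype.ext (congrArg (fun z : Set.Iic p => z.1) (e.apply_symm_apply ⟨q.1, q.2.2⟩))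
      map_rel_iff' := ?_ }
  intro a b
  exact e.le_iff_le

/-- Over a local ring the support lies below the closed point. -/
theorem supportDim_local [IsLocalRing A] :
    Module.supportDim A M =
      Order.krullDim {q : PrimeSpectrum A // q ∈ Module.support A M ∧ q ≤ IsLocalRing.closedPoint A} :=
  Order.krullDim_eq_of_orderIso
    { toFun := fun q => ⟨q.1, q.2, IsLocalRing.le_maximalIdeal q.1.isPrime.ne_top⟩
      invFun := fun q => ⟨q.1, q.2.1⟩
      left_inv := fun _ => rfl
      right_inv := fun _ => rfl
      map_rel_iff' := Iff.rfl }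

end Groth.Agent.Lib.DMod.SupportDim
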