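import Groth.Agent.Lib.DMod.DepthDegree
import Mathlib.Data.Int.Interval
import Mathlib.Order.Interval.Set.Infinite

/-!
Cohen-Macaulay and `(S_k)` criteria through `Hom(M, ω[i])`.
-/

universe u v w

open CategoryTheory Category Limits Pretriangulated
open scoped Pointwise

attribute [local instance] HasDerivedCategory.standard

namespace Groth.Agent.Lib.DMod.SkCriterion

open Groth.Agent.Lib.DMod.Basic Groth.Agent.Lib.DMod.Degree

theorem idealDepth_congr {R : Type u} [CommRing R] (I : Ideal R) {M : Type v} {N : Type w}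
    [AddCommGroup M] [Module R M] [AddCommGroup N] [Module R N] (e : M ≃ₗ[R] N) :
    LocCoh.idealDepth I M = LocCoh.idealDepth I N := by
  have h : I • (⊤ : Submodule R M) = ⊤ ↔ I • (⊤ : Submodule R N) = ⊤ := by
    rw [← (Submodule.map_injective_of_injective e.injective (f := e.toLinearMap)).eq_iff,
      Submodule.map_smul'', Submodule.map_top, LinearEquiv.range]
  simp only [LocCoh.idealDepth, h, e.isWeaklyRegular_congr]

theorem depth_congr {R : Type u} [CommRing R] [IsLocalRing R] {M : Type v} {N : Type w}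
    [AddCommGroup M] [Module R M] [AddCommGroup N] [Module R N] (e : M ≃ₗ[R] N) :
    LocCoh.depth R M = LocCoh.depth R N :=
  idealDepth_congr _ e

theorem depth_of_subsingleton {R : Type u} [CommRing R] [IsLocalRing R] (M : Type v) [AddCommGroup M]
    [Module R M] [Subsingleton M] : LocCoh.depth R M = ⊤ :=
  if_pos (Subsingleton.elim _ _)

/-- `A_p` as a localized module. -/
noncomputable def selfLocalizedEquiv {A : Type u} [CommRing A] (p : PrimeSpectrum A) :
    LocalizedModule p.asIdeal.primeCompl A ≃ₗ[Localization.AtPrime p.asIdeal]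
      Localization.AtPrime p.asIdeal :=
  (IsLocalizedModule.iso p.asIdeal.primeCompl
    (Algebra.linearMap A (Localization.AtPrime p.asIdeal))).extendScalarsOfIsLocalization
      p.asIdeal.primeCompl (Localization.AtPrime p.asIdeal)

theorem isCohenMacaulayLocalRing_iff {A : Type u} [CommRing A] [IsNoetherianRing A]
    (p : PrimeSpectrum A) :
    LocCoh.IsCohenMacaulayLocalRing (Localization.AtPrime p.asIdeal) ↔
      LocCoh.IsCohenMacaulayModule (Localization.AtPrime p.asIdeal)
        (LocalizedModule p.asIdeal.primeCompl A) := by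
  rw [LocCoh.IsCohenMacaulayModule, Module.supportDim_eq_of_equiv (selfLocalizedEquiv p),
    depth_congr (selfLocalizedEquiv p)]
  refine ⟨fun h => h.supportDim_eq_depth, fun h => ?_⟩
  have : IsNoetherianRing (Localization.AtPrime p.asIdeal) :=
    IsLocalization.isNoetherianRing p.asIdeal.primeCompl _ inferInstance
  exact ⟨h⟩

variable {A : Type u} [CommRing A] [IsNoetherianRing A] {ω : Dual.D A} (hω : Dual.IsDualizing A ω)
include hω

/-- Depth and dimension at a prime of the support, in terms of degrees. -/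
theorem exists_depth_dim (p : PrimeSpectrum A) (M : Type u) [AddCommGroup M] [Module A M]
    [Module.Finite A M] (hp : p ∈ Module.support A M) :
    ∃ n d : ℕ, LocCoh.depth (Localization.AtPrime p.asIdeal)
        (LocalizedModule p.asIdeal.primeCompl M) = n ∧
      Module.supportDim (Localization.AtPrime p.asIdeal) (LocalizedModule p.asIdeal.primeCompl M) = d ∧
      n ≤ d ∧
      p ∈ Module.support A (Dual.inD A M ⟶ ω⟦deg hω p - n⟧) ∧
      p ∈ Module.support A (Dual.inD A M ⟶ ω⟦deg hω p - d⟧) ∧
      ∀ i, p ∈ Module.support A (Dual.inD A M ⟶ ω⟦i⟧) →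
        deg hω p - (d : ℤ) ≤ i ∧ i ≤ deg hω p - (n : ℤ) := by
  obtain ⟨n, h1, h2, h3⟩ := DepthDegree.depth_eq hω p M hp
  obtain ⟨q, hqp, hq, hmin⟩ := DimDegree.exists_min_deg hω p M hp
  have hle := deg_le hω hqp
  have hd := DimDegree.supportDim_localized_eq hω p q M hqp hq hmin
  have hbot := mem_support_hom_of_minimal_deg hω p q hqp M hq fun r hrp hr => hmin r hr hrp
  have hlow : ∀ i, i < deg hω q → p ∉ Module.support A (Dual.inD A M ⟶ ω⟦i⟧) := fun i hi =>
    notMem_support_hom_of_outside hω p M i (Or.inr fun r hrp hr => lt_of_lt_of_le hi (hmin r hr hrp))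
  refine ⟨n, (deg hω p - deg hω q).toNat, h1, hd, ?_, h2, ?_, fun i hi => ⟨?_, ?_⟩⟩
  · by_contra hc
    exact hlow _ (by lia) h2
  · rwa [show deg hω p - ((deg hω p - deg hω q).toNat : ℤ) = deg hω q by lia]
  · by_contra hc
    exact hlow i (by lia) hi
  · by_contra hc
    exact h3 i (by lia) hi

/-- Cohen-Macaulay at `p` iff only one `Hom(M, ω[i])` is nonzero at `p`. -/
theorem isCohenMacaulay_at_iff (p : PrimeSpectrum A) (M : Type u) [AddCommGroup M] [Module A M]
    [Module.Finite A M] (hp : p ∈ Module.support A M) :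
    LocCoh.IsCohenMacaulayModule (Localization.AtPrime p.asIdeal)
        (LocalizedModule p.asIdeal.primeCompl M) ↔
      ∀ i j : ℤ, p ∈ Module.support A (Dual.inD A M ⟶ ω⟦i⟧) →
        p ∈ Module.support A (Dual.inD A M ⟶ ω⟦j⟧) → i = j := by
  obtain ⟨n, d, h1, h2, hnd, htop, hbot, hrange⟩ := exists_depth_dim hω p M hp
  rw [LocCoh.IsCohenMacaulayModule, h1, h2]
  constructor
  · intro h i j hi hj
    have h' : d = n := by exact_mod_cast h
    have := hrange i hi
    have := hrange j hj
    lia
  · intro h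
    have := h _ _ htop hbot
    exact_mod_cast (show d = n by lia)

/-- Zero or Cohen-Macaulay at `p`. -/
theorem subsingleton_or_cohenMacaulay_iff (p : PrimeSpectrum A) (M : Type u) [AddCommGroup M]
    [Module A M] [Module.Finite A M] :
    (Subsingleton (LocalizedModule p.asIdeal.primeCompl M) ∨
      LocCoh.IsCohenMacaulayModule (Localization.AtPrime p.asIdeal)
        (LocalizedModule p.asIdeal.primeCompl M)) ↔
      ∀ i j : ℤ, p ∈ Module.support A (Dual.inD A M ⟶ ω⟦i⟧) →
        p ∈ Module.support A (Dual.inD A M ⟶ ω⟦j⟧) → i = j := by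
  by_cases hp : p ∈ Module.support A M
  · rw [← isCohenMacaulay_at_iff hω p M hp]
    refine ⟨fun h => h.resolve_left fun hs => ?_, Or.inr⟩
    exact Module.notMem_support_iff.2 hs hp
  · refine ⟨fun _ i j hi _ => absurd hi ?_, fun _ => Or.inl (Module.notMem_support_iff.1 hp)⟩
    exact notMem_support_hom_of_outside hω p M i
      (Or.inr fun q hq hqM => absurd (Module.mem_support_mono hq hqM) hp)

/-- The locus where `M` is zero or Cohen-Macaulay is open. -/
theorem isOpen_cohenMacaulay (M : Type u) [AddCommGroup M] [Module A M] [Module.Finite A M] :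
    IsOpen {p : PrimeSpectrum A | Subsingleton (LocalizedModule p.asIdeal.primeCompl M) ∨
      LocCoh.IsCohenMacaulayModule (Localization.AtPrime p.asIdeal)
        (LocalizedModule p.asIdeal.primeCompl M)} := by
  obtain ⟨a, b, hab⟩ := exists_le_deg hω
  obtain ⟨a', b', -, hinj, -⟩ := PointDegree.exists_hom_bounds hω
  rw [← isClosed_compl_iff]
  have : {p : PrimeSpectrum A | Subsingleton (LocalizedModule p.asIdeal.primeCompl M) ∨
      LocCoh.IsCohenMacaulayModule (Localization.AtPrime p.asIdeal)
        (LocalizedModule p.asIdeal.primeCompl M)}ᶜ =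
      ⋃ ij ∈ {ij : ℤ × ℤ | ij.1 ∈ Set.Icc a' b' ∧ ij.2 ∈ Set.Icc a' b' ∧ ij.1 ≠ ij.2},
        Module.support A (Dual.inD A M ⟶ ω⟦ij.1⟧) ∩ Module.support A (Dual.inD A M ⟶ ω⟦ij.2⟧) := by
    ext p
    simp only [Set.mem_compl_iff, Set.mem_ofPred_eq, subsingleton_or_cohenMacaulay_iff hω p M,
      Set.mem_iUnion, Set.mem_inter_iff, exists_prop]
    push Not
    have hIcc : ∀ i, p ∈ Module.support A (Dual.inD A M ⟶ ω⟦i⟧) → i ∈ Set.Icc a' b' := fun i hi => by
      by_contra hc
      have := hinj M i (by simp only [Set.mem_Icc, not_and, not_le] at hc; lia)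
      simp [Module.support_eq_empty] at hi
    constructor
    · rintro ⟨i, j, hi, hj, hne⟩
      exact ⟨(i, j), ⟨hIcc i hi, hIcc j hj, hne⟩, hi, hj⟩
    · rintro ⟨ij, ⟨-, -, hne⟩, hi, hj⟩
      exact ⟨_, _, hi, hj, hne⟩
  rw [this]
  have hfin : {ij : ℤ × ℤ | ij.1 ∈ Set.Icc a' b' ∧ ij.2 ∈ Set.Icc a' b' ∧ ij.1 ≠ ij.2}.Finite :=
    ((Set.finite_Icc a' b').prod (Set.finite_Icc a' b')).subset fun x hx => ⟨hx.1, hx.2.1⟩
  refine hfin.isClosed_biUnion fun ij _ => ?_
  have := finite_hom hω M ij.1
  have := finite_hom hω M ij.2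
  exact Module.isClosed_support.inter Module.isClosed_support

/-- Cohen-Macaulay points are dense in the support. -/
theorem support_subset_closure_cohenMacaulay (M : Type u) [AddCommGroup M] [Module A M]
    [Module.Finite A M] :
    Module.support A M ⊆ closure ({p : PrimeSpectrum A | LocCoh.IsCohenMacaulayModule
      (Localization.AtPrime p.asIdeal) (LocalizedModule p.asIdeal.primeCompl M)} ∩
        Module.support A M) := by
  intro p hp
  obtain ⟨q, hqp, hq, hmin⟩ := DimDegree.exists_min_deg hω p M hp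
  refine ((PrimeSpectrum.le_iff_specializes q p).1 hqp).mem_closed isClosed_closure
    (subset_closure ⟨?_, hq⟩)
  have hiso : ∀ r : PrimeSpectrum A, r ≤ q → r ∈ Module.support A M → r = q := fun r hr hrM => by
    by_contra hne
    exact absurd (hmin r hrM (le_trans hr hqp)) (not_le.2 (deg_lt hω (lt_of_le_of_ne hr hne)))
  refine (isCohenMacaulay_at_iff hω q M hq).2 fun i j hi hj => ?_
  have : ∀ i : ℤ, q ∈ Module.support A (Dual.inD A M ⟶ ω⟦i⟧) → i = deg hω q := fun i hi => by
    by_contra hne
    refine HomSupp.notMem_support_hom_of_primes q _ M (fun r hr hrM => ?_) hi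
    obtain rfl := hiso r hr hrM
    exact notMem_support_of_ne_deg hω r hne
  rw [this i hi, this j hj]

/-- The `(S_k)` inequality at a prime. -/
theorem sk_at_iff (k : ℕ) (hk : 1 ≤ k) (p : PrimeSpectrum A) (M : Type u) [AddCommGroup M]
    [Module A M] [Module.Finite A M] :
    min (k : WithBot ℕ∞) (Module.supportDim (Localization.AtPrime p.asIdeal)
        (LocalizedModule p.asIdeal.primeCompl M)) ≤
      ((LocCoh.depth (Localization.AtPrime p.asIdeal)
        (LocalizedModule p.asIdeal.primeCompl M) : ℕ∞) : WithBot ℕ∞) ↔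
    ∀ i j : ℤ, j < i → p ∈ Module.support A (Dual.inD A M ⟶ ω⟦i⟧) →
      p ∈ Module.support A (Dual.inD A M ⟶ ω⟦j⟧) →
        (((k : ℤ) + i - j).toNat : WithBot ℕ∞) ≤
          Module.supportDim (Localization.AtPrime p.asIdeal) (LocalizedModule p.asIdeal.primeCompl M) := by
  by_cases hp : p ∈ Module.support A M
  · obtain ⟨n, d, h1, h2, hnd, htop, hbot, hrange⟩ := exists_depth_dim hω p M hp
    rw [h1, h2]
    have e1 : (k : WithBot ℕ∞) ≤ ((n : ℕ∞) : WithBot ℕ∞) ↔ k ≤ n := by exact_mod_cast Iff.rfl
    have e2 : (d : WithBot ℕ∞) ≤ ((n : ℕ∞) : WithBot ℕ∞) ↔ d ≤ n := by exact_mod_cast Iff.rfl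
    rw [min_le_iff, e1, e2]
    constructor
    · intro h i j hji hi hj
      have := hrange i hi
      have := hrange j hj
      exact_mod_cast (show ((k : ℤ) + i - j).toNat ≤ d by lia)
    · intro h
      by_contra hc
      have := h _ _ (by lia) htop hbot
      have h' : ((k : ℤ) + (deg hω p - n) - (deg hω p - d)).toNat ≤ d := by exact_mod_cast this
      lia
  · have : Subsingleton (LocalizedModule p.asIdeal.primeCompl M) := Module.notMem_support_iff.1 hp
    rw [Module.supportDim_eq_bot_of_subsingleton]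
    refine ⟨fun _ i j _ hi _ => absurd hi ?_, fun _ => le_trans (min_le_right _ _) bot_le⟩
    exact notMem_support_hom_of_outside hω p M i
      (Or.inr fun q hq hqM => absurd (Module.mem_support_mono hq hqM) hp)

end Groth.Agent.Lib.DMod.SkCriterion
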