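import Mathlib.Algebra.Homology.DerivedCategory.TStructure
import Mathlib.Algebra.Homology.DerivedCategory.KProjective
import Mathlib.Algebra.Homology.DerivedCategory.KInjective
import Mathlib.Algebra.Homology.DerivedCategory.FullyFaithful
import Mathlib.Algebra.Homology.DerivedCategory.Linear
import Mathlib.Algebra.Homology.DerivedCategory.HomologySequence

/-!
Generic lemmas on the derived category of an abelian category: morphisms out of a projective object
placed in degree zero, and morphisms into bounded complexes of injectives.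
-/

universe w v u

open CategoryTheory Category Limits Pretriangulated

namespace Groth.Agent.Lib.DMod.Gen

open DerivedCategory

variable {C : Type u} [Category.{v} C] [Abelian C] [HasDerivedCategory.{w} C]

/-- A morphism from a K-projective complex into the image of a complex comes from a chain map. -/
lemma Q_map_surjective_of_isKProjective (K L : CochainComplex C ℤ) [K.IsKProjective]
    (f : Q.obj K ⟶ Q.obj L) : ∃ g : K ⟶ L, Q.map g = f := by
  obtain ⟨g', hg'⟩ := (CochainComplex.IsKProjective.Qh_map_bijective K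
      ((HomotopyCategory.quotient _ _).obj L)).2
    ((quotientCompQhIso C).hom.app K ≫ f ≫ (quotientCompQhIso C).inv.app L)
  obtain ⟨g, rfl⟩ := (HomotopyCategory.quotient C (ComplexShape.up ℤ)).map_surjective g'
  refine ⟨g, ?_⟩
  have := quotientCompQhIso_inv_naturality g
  dsimp at this hg'
  rw [← cancel_mono ((quotientCompQhIso C).inv.app L), this]
  erw [hg']
  simp

/-- A morphism from the image of a complex into a K-injective complex comes from a chain map. -/
lemma Q_map_surjective_of_isKInjective (K L : CochainComplex C ℤ) [L.IsKInjective]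
    (f : Q.obj K ⟶ Q.obj L) : ∃ g : K ⟶ L, Q.map g = f := by
  obtain ⟨g', hg'⟩ := (CochainComplex.IsKInjective.Qh_map_bijective
      ((HomotopyCategory.quotient _ _).obj K) L).2
    ((quotientCompQhIso C).hom.app K ≫ f ≫ (quotientCompQhIso C).inv.app L)
  obtain ⟨g, rfl⟩ := (HomotopyCategory.quotient C (ComplexShape.up ℤ)).map_surjective g'
  refine ⟨g, ?_⟩
  have := quotientCompQhIso_inv_naturality g
  dsimp at this hg'
  rw [← cancel_mono ((quotientCompQhIso C).inv.app L), this]
  erw [hg']
  simp

lemma subsingleton_hom_single_of_projective_of_isLE (P : C) [Projective P] (X : DerivedCategory C)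
    (p n : ℤ) (h : n < p) [X.IsLE n] : Subsingleton ((singleFunctor C p).obj P ⟶ X) := by
  suffices ∀ f : (singleFunctor C p).obj P ⟶ X, f = 0 from ⟨fun f g => by rw [this f, this g]⟩
  intro f
  obtain ⟨L, hL, ⟨e⟩⟩ := X.exists_iso_Q_obj_of_isLE n
  let S := (CochainComplex.singleFunctor C p).obj P
  have : ∀ i, Projective (S.X i) := by
    intro i
    by_cases hi : i = p
    · subst hi
      exact Projective.of_iso (HomologicalComplex.singleObjXSelf (ComplexShape.up ℤ) i P).symm ‹_›
    · exact (HomologicalComplex.isZero_single_obj_X (ComplexShape.up ℤ) p P i hi).projective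
  have : S.IsKProjective := CochainComplex.isKProjective_of_projective S p
  let e₀ : (singleFunctor C p).obj P ≅ Q.obj S := (singleFunctorIsoCompQ C p).app P
  obtain ⟨g, hg⟩ := Q_map_surjective_of_isKProjective S L (e₀.inv ≫ f ≫ e.hom)
  have hg0 : g = 0 := by
    ext i
    by_cases hi : i = p
    · exact (L.isZero_of_isStrictlyLE n i (by lia)).eq_of_tgt _ _
    · exact (HomologicalComplex.isZero_single_obj_X (ComplexShape.up ℤ) p P i hi).eq_of_src _ _
  rw [hg0, Functor.map_zero] at hg
  have := congrArg (fun t => e₀.hom ≫ t ≫ e.inv) hg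
  simpa using this.symm

lemma subsingleton_hom_of_isGE_of_injective (X : DerivedCategory C) (E : CochainComplex C ℤ)
    (a b c : ℤ) [E.IsStrictlyGE a] [E.IsStrictlyLE b] [∀ i, Injective (E.X i)]
    (h : b < c) [X.IsGE c] : Subsingleton (X ⟶ Q.obj E) := by
  suffices ∀ f : X ⟶ Q.obj E, f = 0 from ⟨fun f g => by rw [this f, this g]⟩
  intro f
  obtain ⟨L, hL, ⟨e⟩⟩ := X.exists_iso_Q_obj_of_isGE c
  have : E.IsKInjective := CochainComplex.isKInjective_of_injective E a
  obtain ⟨g, hg⟩ := Q_map_surjective_of_isKInjective L E (e.inv ≫ f)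
  have hg0 : g = 0 := by
    ext i
    by_cases hi : i ≤ b
    · exact (L.isZero_of_isStrictlyGE c i (by lia)).eq_of_src _ _
    · exact (E.isZero_of_isStrictlyLE b i (by lia)).eq_of_tgt _ _
  rw [hg0, Functor.map_zero] at hg
  have := congrArg (fun t => e.hom ≫ t) hg
  simpa using this.symm

section Triangle

variable {T : Triangle (DerivedCategory C)} (hT : T ∈ distTriang (DerivedCategory C))
include hT

/-- For `T₁ ≤ a` the map `H^i T₂ → H^i T₃` is an isomorphism above `a`. -/
lemma isIso_homology_mor₂ (a i : ℤ) (ha : T.obj₁.IsLE a) (hi : a < i) :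
    IsIso ((homologyFunctor C i).map T.mor₂) := by
  have : Mono ((homologyFunctor C i).map T.mor₂) := by
    rw [HomologySequence.mono_homologyMap_mor₂_iff T hT]
    exact (isZero_of_isLE _ a i hi).eq_of_src _ _
  have : Epi ((homologyFunctor C i).map T.mor₂) := by
    rw [HomologySequence.epi_homologyMap_mor₂_iff T hT i (i + 1)]
    exact (isZero_of_isLE _ a (i + 1) (by lia)).eq_of_tgt _ _
  exact isIso_of_mono_of_epi _

/-- For `T₃ ≥ b` the map `H^i T₁ → H^i T₂` is an isomorphism below `b`. -/
lemma isIso_homology_mor₁ (b i : ℤ) (hb : T.obj₃.IsGE b) (hi : i < b) :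
    IsIso ((homologyFunctor C i).map T.mor₁) := by
  have : Epi ((homologyFunctor C i).map T.mor₁) := by
    rw [HomologySequence.epi_homologyMap_mor₁_iff T hT]
    exact (isZero_of_isGE _ b i hi).eq_of_tgt _ _
  have : Mono ((homologyFunctor C i).map T.mor₁) := by
    rw [HomologySequence.mono_homologyMap_mor₁_iff T hT (i - 1) i]
    exact (isZero_of_isGE _ b (i - 1) (by lia)).eq_of_src _ _
  exact isIso_of_mono_of_epi _

end Triangle

/-- Morphisms out of a projective object in degree `0` are detected on `H^0`. -/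
theorem bijective_homology_of_projective (P : C) [Projective P] (X : DerivedCategory C) :
    Function.Bijective (fun f : (singleFunctor C 0).obj P ⟶ X =>
      (singleFunctorCompHomologyFunctorIso C 0).inv.app P ≫ (homologyFunctor C 0).map f) := by
  obtain ⟨X₀, Y₁, hX₀, hY₁, ι, π, δ, hT⟩ := TStructure.t.exists_triangle X 0 1 rfl
  replace hX₀ : X₀.IsLE 0 := ⟨hX₀⟩
  replace hY₁ : Y₁.IsGE 1 := ⟨hY₁⟩
  have hι : IsIso ((homologyFunctor C 0).map ι) := isIso_homology_mor₁ hT 1 0 hY₁ (by lia)
  obtain ⟨W, Z, hW, hZ, j, q, ε, hT'⟩ := TStructure.t.exists_triangle X₀ (-1) 0 rfl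
  replace hW : W.IsLE (-1) := ⟨hW⟩
  replace hZ : Z.IsGE 0 := ⟨hZ⟩
  have hZ' : Z.IsLE 0 := by
    rw [isLE_iff]
    intro i hi
    have := isIso_homology_mor₂ hT' (-1) i hW (by lia)
    have : IsIso ((homologyFunctor C i).map q) := this
    exact (isZero_of_isLE X₀ 0 i hi).of_iso (asIso ((homologyFunctor C i).map q)).symm
  have hq : IsIso ((homologyFunctor C 0).map q) := isIso_homology_mor₂ hT' (-1) 0 hW (by lia)
  obtain ⟨H, ⟨eZ⟩⟩ := exists_iso_singleFunctor_obj_of_isGE_of_isLE Z 0
  constructor
  · suffices ∀ f : (singleFunctor C 0).obj P ⟶ X, (homologyFunctor C 0).map f = 0 → f = 0 by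
      intro f g hfg
      rw [← sub_eq_zero]
      apply this
      rw [Functor.map_sub, sub_eq_zero]
      exact (cancel_epi _).1 hfg
    intro f hf
    obtain ⟨ψ, hψ⟩ : ∃ ψ : (singleFunctor C 0).obj P ⟶ X₀, f = ψ ≫ ι :=
      Triangle.coyoneda_exact₂ _ hT f
      (TStructure.t.zero (f ≫ π) 0 1)
    subst hψ
    have h1 : (homologyFunctor C 0).map ψ = 0 := by
      rw [Functor.map_comp] at hf
      exact (cancel_mono _).1 (hf.trans zero_comp.symm)
    obtain ⟨χ, hχ⟩ := (singleFunctor C 0).map_surjective (ψ ≫ q ≫ eZ.hom)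
    have h2 : ψ ≫ q ≫ eZ.hom = 0 := by
      have h3 : (homologyFunctor C 0).map ((singleFunctor C 0).map χ) = 0 := by
        rw [hχ, Functor.map_comp, h1, zero_comp]
      have h4 := (singleFunctorCompHomologyFunctorIso C 0).hom.naturality χ
      dsimp at h4
      rw [h3, zero_comp] at h4
      have : χ = 0 := (cancel_epi ((singleFunctorCompHomologyFunctorIso C 0).hom.app P)).1
        (h4.symm.trans comp_zero.symm)
      rw [← hχ, this, Functor.map_zero]
    have h5 : ψ ≫ q = 0 := (cancel_mono eZ.hom).1 (by rw [Category.assoc, h2, zero_comp])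
    obtain ⟨θ, hθ⟩ : ∃ θ : (singleFunctor C 0).obj P ⟶ W, ψ = θ ≫ j :=
      Triangle.coyoneda_exact₂ _ hT' ψ h5
    have := subsingleton_hom_single_of_projective_of_isLE P W 0 (-1) (by lia)
    rw [hθ, Subsingleton.elim θ 0, zero_comp, zero_comp]
  · intro h
    dsimp at h ⊢
    let u : P ⟶ H := h ≫ inv ((homologyFunctor C 0).map ι) ≫ (homologyFunctor C 0).map q ≫
      (homologyFunctor C 0).map eZ.hom ≫ (singleFunctorCompHomologyFunctorIso C 0).hom.app H
    let g : (singleFunctor C 0).obj P ⟶ Z := (singleFunctor C 0).map u ≫ eZ.inv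
    have hW1 : (W⟦(1 : ℤ)⟧).IsLE (-2) := TStructure.t.isLE_shift W (-1) 1 (-2) (by lia)
    have := subsingleton_hom_single_of_projective_of_isLE P (W⟦(1 : ℤ)⟧) 0 (-2) (by lia)
    obtain ⟨ψ, hψ⟩ : ∃ ψ : (singleFunctor C 0).obj P ⟶ X₀, g = ψ ≫ q :=
      Triangle.coyoneda_exact₃ _ hT' g (by
        change g ≫ ε = 0
        exact Subsingleton.elim _ _)
    refine ⟨ψ ≫ ι, ?_⟩
    have key := (singleFunctorCompHomologyFunctorIso C 0).inv.naturality u
    dsimp at key
    rw [Functor.map_comp, ← cancel_mono (inv ((homologyFunctor C 0).map ι) ≫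
      (homologyFunctor C 0).map q ≫ (homologyFunctor C 0).map eZ.hom)]
    simp only [Category.assoc, IsIso.hom_inv_id_assoc]
    rw [← Functor.map_comp_assoc, ← hψ, ← Functor.map_comp]
    simp only [g, Category.assoc, Iso.inv_hom_id, Category.comp_id]
    rw [← key]
    simp [u]

end Groth.Agent.Lib.DMod.Gen
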