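import Groth.Prelude.Def_Wider
import Mathlib.Algebra.Homology.ShortComplex.Linear
import Mathlib.Algebra.Homology.ShortComplex.ModuleCat
import Mathlib.Algebra.Homology.Linear
import Mathlib.Algebra.Homology.DerivedCategory.TStructure
import Mathlib.Algebra.Homology.DerivedCategory.SingleTriangle
import Mathlib.Algebra.Homology.DerivedCategory.Ext.Linear
import Mathlib.Algebra.Category.ModuleCat.Projective
import Mathlib.Algebra.Category.ModuleCat.Ext.HasExt
import Mathlib.CategoryTheory.Linear.Basic
import Mathlib.RingTheory.Finiteness.Basic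
import Mathlib.RingTheory.Finiteness.Finsupp
import Mathlib.RingTheory.Noetherian.Basic
import Groth.Agent.Lib.DMod.Gen

/-!
The derived category `Dual.D A`: cohomology modules, morphisms out of `A[0]`, linear long exact
sequences of `Hom`, and the comparison with `Ext`.
-/

universe u v

open CategoryTheory Category Limits Pretriangulated

attribute [local instance] HasDerivedCategory.standard

namespace Groth.Agent.Lib.DMod.Basic

variable {A : Type u} [CommRing A]

section Homology

theorem subsingleton_HD_iff_isZero (K : Dual.D A) (i : ℤ) :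
    Subsingleton (Dual.HD A K i) ↔
      IsZero ((DerivedCategory.homologyFunctor (ModuleCat.{u} A) i).obj K) :=
  ModuleCat.isZero_iff_subsingleton.symm

theorem isGE_iff (K : Dual.D A) (n : ℤ) :
    K.IsGE n ↔ ∀ i < n, Subsingleton (Dual.HD A K i) := by
  simp only [DerivedCategory.isGE_iff, subsingleton_HD_iff_isZero]

theorem isLE_iff (K : Dual.D A) (n : ℤ) :
    K.IsLE n ↔ ∀ i, n < i → Subsingleton (Dual.HD A K i) := by
  simp only [DerivedCategory.isLE_iff, subsingleton_HD_iff_isZero]

theorem subsingleton_HD_of_isGE (K : Dual.D A) (n : ℤ) [K.IsGE n] {i : ℤ} (h : i < n) :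
    Subsingleton (Dual.HD A K i) :=
  (isGE_iff K n).1 inferInstance i h

theorem subsingleton_HD_of_isLE (K : Dual.D A) (n : ℤ) [K.IsLE n] {i : ℤ} (h : n < i) :
    Subsingleton (Dual.HD A K i) :=
  (isLE_iff K n).1 inferInstance i h

theorem isZero_iff_HD (K : Dual.D A) : IsZero K ↔ ∀ i, Subsingleton (Dual.HD A K i) := by
  constructor
  · intro h i
    rw [subsingleton_HD_iff_isZero]
    exact Functor.map_isZero _ h
  · intro h
    have : K.IsLE 0 := (isLE_iff K 0).2 fun i _ => h i
    have : K.IsGE 1 := (isGE_iff K 1).2 fun i _ => h i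
    exact DerivedCategory.TStructure.t.isZero K 0 1

/-- The linear map induced on `H^i`. -/
noncomputable abbrev mapHD {K L : Dual.D A} (f : K ⟶ L) (i : ℤ) :
    Dual.HD A K i →ₗ[A] Dual.HD A L i :=
  ((DerivedCategory.homologyFunctor (ModuleCat.{u} A) i).map f).hom

/-- An isomorphism in `D(A)` gives linear equivalences on cohomology. -/
noncomputable def HDCongr {K L : Dual.D A} (e : K ≅ L) (i : ℤ) :
    Dual.HD A K i ≃ₗ[A] Dual.HD A L i :=
  ((DerivedCategory.homologyFunctor (ModuleCat.{u} A) i).mapIso e).toLinearEquiv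

/-- `H^i(K[n]) = H^{i+n}(K)`. -/
noncomputable def HDShift (K : Dual.D A) (n i i' : ℤ) (h : n + i = i') :
    Dual.HD A (K⟦n⟧) i ≃ₗ[A] Dual.HD A K i' :=
  (((DerivedCategory.homologyFunctor (ModuleCat.{u} A) 0).shiftIso n i i' h).app K).toLinearEquiv

/-- `H^0(M[0]) = M`. -/
noncomputable def HDinD (M : Type u) [AddCommGroup M] [Module A M] :
    Dual.HD A (Dual.inD A M) 0 ≃ₗ[A] M :=
  ((DerivedCategory.singleFunctorCompHomologyFunctorIso (ModuleCat.{u} A) 0).app
    (ModuleCat.of A M)).toLinearEquiv

theorem subsingleton_HD_inD (M : Type u) [AddCommGroup M] [Module A M] {i : ℤ} (h : i ≠ 0) :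
    Subsingleton (Dual.HD A (Dual.inD A M) i) := by
  rcases lt_or_gt_of_ne h with h | h
  · exact subsingleton_HD_of_isGE _ 0 h
  · exact subsingleton_HD_of_isLE _ 0 h

theorem finite_HD_inD (M : Type u) [AddCommGroup M] [Module A M] [Module.Finite A M] (i : ℤ) :
    Module.Finite A (Dual.HD A (Dual.inD A M) i) := by
  by_cases h : i = 0
  · subst h; exact Module.Finite.equiv (HDinD M).symm
  · have := subsingleton_HD_inD (A := A) M h
    exact Module.Finite.of_finite

section Triangle

variable {T : Triangle (Dual.D A)} (hT : T ∈ distTriang (Dual.D A))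
include hT

theorem exact_mapHD₂ (i : ℤ) : Function.Exact (mapHD T.mor₁ i) (mapHD T.mor₂ i) :=
  (ShortComplex.ShortExact.moduleCat_exact_iff_function_exact _).1
    (DerivedCategory.HomologySequence.exact₂ T hT i)

theorem exact_mapHD₃ (i j : ℤ) (h : i + 1 = j) :
    Function.Exact (mapHD T.mor₂ i) (DerivedCategory.HomologySequence.δ T i j h).hom :=
  (ShortComplex.ShortExact.moduleCat_exact_iff_function_exact _).1
    (DerivedCategory.HomologySequence.exact₃ T hT i j h)

theorem exact_mapHD₁ (i j : ℤ) (h : i + 1 = j) :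
    Function.Exact (DerivedCategory.HomologySequence.δ T i j h).hom (mapHD T.mor₁ j) :=
  (ShortComplex.ShortExact.moduleCat_exact_iff_function_exact _).1
    (DerivedCategory.HomologySequence.exact₁ T hT i j h)

end Triangle

end Homology

section Linear

noncomputable instance instLinearHomologyFunctor (n : ℤ) :
    Functor.Linear A (DerivedCategory.homologyFunctor (ModuleCat.{u} A) n) := by
  let : Localization.Lifting (DerivedCategory.Q (C := ModuleCat.{u} A))
      (HomologicalComplex.quasiIso (ModuleCat.{u} A) (ComplexShape.up ℤ))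
      (HomologicalComplex.homologyFunctor (ModuleCat.{u} A) (ComplexShape.up ℤ) n)
      (DerivedCategory.homologyFunctor (ModuleCat.{u} A) n) :=
    ⟨DerivedCategory.homologyFunctorFactors _ n⟩
  refine (Localization.functor_linear_iff (DerivedCategory.Q (C := ModuleCat.{u} A))
    (HomologicalComplex.quasiIso (ModuleCat.{u} A) (ComplexShape.up ℤ)) A
    (HomologicalComplex.homologyFunctor (ModuleCat.{u} A) (ComplexShape.up ℤ) n) _).1 ?_
  constructor
  intro X Y f r
  simp only [HomologicalComplex.homologyFunctor_map, HomologicalComplex.homologyMap]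
  exact ShortComplex.homologyMap_smul
    ((HomologicalComplex.shortComplexFunctor (ModuleCat.{u} A) (ComplexShape.up ℤ) n).map f) r

end Linear

section Hom

/-- Morphisms out of `A[0]` compute `H^0`. -/
noncomputable def homUnitEquiv (K : Dual.D A) :
    (Dual.inD A A ⟶ K) ≃ₗ[A] Dual.HD A K 0 :=
  LinearEquiv.ofBijective
    { toFun := fun f => mapHD f 0 ((HDinD (A := A) A).symm 1)
      map_add' := fun f g => by
        simp only [mapHD]
        erw [Functor.map_add]
        rfl
      map_smul' := fun r f => by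
        simp only [mapHD, RingHom.id_apply]
        erw [Functor.map_smul]
        rfl }
    (by
      have h := Groth.Agent.Lib.DMod.Gen.bijective_homology_of_projective (ModuleCat.of A A) K
      have h2 : Function.Bijective
          (fun g : ModuleCat.of A A ⟶
            (DerivedCategory.homologyFunctor (ModuleCat.{u} A) 0).obj K => g.hom (1 : A)) := by
        constructor
        · intro g g' hg
          exact ModuleCat.hom_ext (LinearMap.ext_ring hg)
        · intro x
          exact ⟨ModuleCat.ofHom (LinearMap.toSpanSingleton A _ x), by simp⟩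
      exact h2.comp h)

/-- Morphisms out of `A[0]` into `K[i]` compute `H^i`. -/
noncomputable def homUnitShiftEquiv (K : Dual.D A) (i : ℤ) :
    (Dual.inD A A ⟶ K⟦i⟧) ≃ₗ[A] Dual.HD A K i :=
  (homUnitEquiv (K⟦i⟧)).trans (HDShift K i 0 i (add_zero i))

/-- Translation is bijective on morphisms. -/
noncomputable def homShiftEquiv (X Y : Dual.D A) (n : ℤ) :
    (X ⟶ Y) ≃ₗ[A] (X⟦n⟧ ⟶ Y⟦n⟧) :=
  LinearEquiv.ofBijective ((shiftFunctor (Dual.D A) n).mapLinearMap A)
    ⟨fun _ _ h => (shiftFunctor (Dual.D A) n).map_injective h,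
      fun g => (shiftFunctor (Dual.D A) n).map_surjective g⟩

/-- Move a translation to the other side. -/
noncomputable def homShiftAdj (X Y : Dual.D A) (a b c : ℤ) (h : a + c = b) :
    (X⟦a⟧ ⟶ Y⟦b⟧) ≃ₗ[A] (X ⟶ Y⟦c⟧) :=
  (Linear.homCongr A (Iso.refl _) ((shiftFunctorAdd' (Dual.D A) c a b (by lia)).app Y)).trans
    (homShiftEquiv X (Y⟦c⟧) a).symm

section Exact

variable {T : Triangle (Dual.D A)} (hT : T ∈ distTriang (Dual.D A)) (X : Dual.D A)
include hT

theorem exact_leftComp : Function.Exact (Linear.leftComp A X T.mor₂) (Linear.leftComp A X T.mor₁) := by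
  intro f
  constructor
  · intro hf
    obtain ⟨g, hg⟩ := Triangle.yoneda_exact₂ _ hT f hf
    exact ⟨g, hg.symm⟩
  · rintro ⟨g, rfl⟩
    change T.mor₁ ≫ T.mor₂ ≫ g = 0
    rw [comp_distTriang_mor_zero₁₂_assoc _ hT, zero_comp]

theorem exact_rightComp :
    Function.Exact (Linear.rightComp A X T.mor₁) (Linear.rightComp A X T.mor₂) := by
  intro f
  constructor
  · intro hf
    obtain ⟨g, hg⟩ := Triangle.coyoneda_exact₂ _ hT f hf
    exact ⟨g, hg.symm⟩
  · rintro ⟨g, rfl⟩
    change (g ≫ T.mor₁) ≫ T.mor₂ = 0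
    rw [Category.assoc, comp_distTriang_mor_zero₁₂ _ hT, comp_zero]

theorem finite_hom_from_obj₂ [IsNoetherianRing A] (h₁ : Module.Finite A (T.obj₁ ⟶ X))
    (h₃ : Module.Finite A (T.obj₃ ⟶ X)) : Module.Finite A (T.obj₂ ⟶ X) := by
  have hex : Function.Exact (Linear.leftComp A X T.mor₂)
      (Linear.leftComp A X T.mor₁).rangeRestrict := fun f => by
    rw [← exact_leftComp hT X f]
    exact Subtype.ext_iff
  exact Module.Finite.of_exact hex (LinearMap.surjective_rangeRestrict _)

theorem finite_hom_to_obj₂ [IsNoetherianRing A] (h₁ : Module.Finite A (X ⟶ T.obj₁))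
    (h₃ : Module.Finite A (X ⟶ T.obj₃)) : Module.Finite A (X ⟶ T.obj₂) := by
  have hex : Function.Exact (Linear.rightComp A X T.mor₁)
      (Linear.rightComp A X T.mor₂).rangeRestrict := fun f => by
    rw [← exact_rightComp hT X f]
    exact Subtype.ext_iff
  exact Module.Finite.of_exact hex (LinearMap.surjective_rangeRestrict _)

theorem subsingleton_hom_from_obj₂ (h₁ : Subsingleton (T.obj₁ ⟶ X))
    (h₃ : Subsingleton (T.obj₃ ⟶ X)) : Subsingleton (T.obj₂ ⟶ X) := by
  refine subsingleton_of_forall_eq 0 fun f => ?_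
  obtain ⟨g, hg⟩ := Triangle.yoneda_exact₂ _ hT f (Subsingleton.elim _ _)
  rw [hg, Subsingleton.elim g 0, comp_zero]

theorem subsingleton_hom_to_obj₂ (h₁ : Subsingleton (X ⟶ T.obj₁))
    (h₃ : Subsingleton (X ⟶ T.obj₃)) : Subsingleton (X ⟶ T.obj₂) := by
  refine subsingleton_of_forall_eq 0 fun f => ?_
  obtain ⟨g, hg⟩ := Triangle.coyoneda_exact₂ _ hT f (Subsingleton.elim _ _)
  rw [hg, Subsingleton.elim g 0, zero_comp]

end Exact

end Hom

section Ext

variable (M N : Type u) [AddCommGroup M] [Module A M] [AddCommGroup N] [Module A N]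

/-- `Hom(M[0], N[0][n]) = Ext^n(M, N)`. -/
noncomputable def extEquiv (n : ℕ) :
    Abelian.Ext.{u} (ModuleCat.of A M) (ModuleCat.of A N) n ≃ₗ[A]
      (Dual.inD A M ⟶ (Dual.inD A N)⟦(n : ℤ)⟧) :=
  Abelian.Ext.homLinearEquiv (R := A)

theorem subsingleton_hom_inD_neg {n : ℤ} (h : n < 0) :
    Subsingleton (Dual.inD A M ⟶ (Dual.inD A N)⟦n⟧) := by
  refine subsingleton_of_forall_eq 0 fun f => ?_
  have : ((Dual.inD A N)⟦n⟧).IsGE (-n) := DerivedCategory.TStructure.t.isGE_shift _ 0 n (-n) (by lia)
  exact DerivedCategory.TStructure.t.zero f 0 (-n)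

end Ext

end Groth.Agent.Lib.DMod.Basic
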