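import Groth.Agent.Lib.DMod.HomSupp
import Mathlib.RingTheory.Regular.RegularSequence

/-!
Iterated cones `ω/(x₁, …, x_r)ω` in `D(A)` and their morphisms into `ω`.
-/

universe u v w

open CategoryTheory Category Limits Pretriangulated

attribute [local instance] HasDerivedCategory.standard

namespace Groth.Agent.Lib.DMod.Cones

open Groth.Agent.Lib.DMod.Basic Groth.Agent.Lib.DMod.HomSupp

variable {A : Type u} [CommRing A]

/-- `(W[-i] ⟶ X) = (W ⟶ X[i])`. -/
noncomputable def homNeg (W X : Dual.D A) (i : ℤ) : (W⟦-i⟧ ⟶ X) ≃ₗ[A] (W ⟶ X⟦i⟧) :=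
  (Linear.homCongr A (Iso.refl _) ((shiftFunctorZero (Dual.D A) ℤ).app X).symm).trans
    (homShiftAdj W X (-i) 0 i (by lia))

/-- `(W[-i] ⟶ X[1]) = (W[-(i+1)] ⟶ X)`. -/
noncomputable def homNegShift (W X : Dual.D A) (i j : ℤ) (h : i + 1 = j) :
    (W⟦-i⟧ ⟶ X⟦(1 : ℤ)⟧) ≃ₗ[A] (W⟦-j⟧ ⟶ X) :=
  (homShiftAdj W X (-i) 1 j (by lia)).trans (homNeg W X j).symm

theorem mapHD_smul_id (X : Dual.D A) (x : A) (i : ℤ) (m : Dual.HD A X i) :
    mapHD (x • 𝟙 X) i m = x • m := by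
  change ((DerivedCategory.homologyFunctor (ModuleCat.{u} A) i).map (x • 𝟙 X)).hom m = _
  rw [CategoryTheory.Functor.map_smul, CategoryTheory.Functor.map_id]
  rfl

/-- The cone of multiplication by `x` on `X`. -/
theorem exists_smul_triangle (X : Dual.D A) (x : A) :
    ∃ (X' : Dual.D A) (g : X ⟶ X') (h : X' ⟶ X⟦(1 : ℤ)⟧),
      Triangle.mk (x • 𝟙 X) g h ∈ distTriang (Dual.D A) :=
  distinguished_cocone_triangle (x • 𝟙 X)

section OneStep

variable {X X' : Dual.D A} {x : A} {g : X ⟶ X'} {h : X' ⟶ X⟦(1 : ℤ)⟧}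
  (hT : Triangle.mk (x • 𝟙 X) g h ∈ distTriang (Dual.D A))
include hT

/-- The connecting map of the cone on cohomology, typed by the vertices. -/
theorem exists_coneδ (j : ℤ) :
    ∃ δ : Dual.HD A X' j →ₗ[A] Dual.HD A X (j + 1),
      Function.Exact (mapHD (x • 𝟙 X) j) (mapHD g j) ∧ Function.Exact (mapHD g j) δ ∧
      Function.Exact δ (mapHD (x • 𝟙 X) (j + 1)) :=
  ⟨(DerivedCategory.HomologySequence.δ (Triangle.mk (x • 𝟙 X) g h) j (j + 1) rfl).hom,
    exact_mapHD₂ hT j, exact_mapHD₃ hT j (j + 1) rfl, exact_mapHD₁ hT j (j + 1) rfl⟩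

theorem sq_smul_eq_zero_HD (j : ℤ) (m : Dual.HD A X' j) : x • x • m = 0 := by
  obtain ⟨δ, e₂, e₃, e₁⟩ := exists_coneδ hT j
  have h1 : δ (x • m) = 0 := by
    have := e₁.apply_apply_eq_zero m
    rwa [mapHD_smul_id, ← map_smul] at this
  obtain ⟨n, hn⟩ := (e₃ (x • m)).1 h1
  rw [← hn, ← map_smul]
  have := e₂.apply_apply_eq_zero n
  rwa [mapHD_smul_id] at this

theorem notMem_support_HD {q : PrimeSpectrum A} (j : ℤ)
    (hq : x ∈ q.asIdeal → q ∉ Module.support A (Dual.HD A X j) ∧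
      q ∉ Module.support A (Dual.HD A X (j + 1))) :
    q ∉ Module.support A (Dual.HD A X' j) := by
  by_cases hx : x ∈ q.asIdeal
  · obtain ⟨δ, e₂, e₃, e₁⟩ := exists_coneδ hT j
    exact notMem_support_of_exact e₃ (hq hx).1 (hq hx).2
  · refine Module.notMem_support_iff'.2 fun m => ⟨x * x, q.isPrime.mul_notMem hx hx, ?_⟩
    rw [mul_smul]
    exact sq_smul_eq_zero_HD hT j m

theorem subsingleton_HD_step (j : ℤ) (h0 : Subsingleton (Dual.HD A X j))
    (h1 : Subsingleton (Dual.HD A X (j + 1))) : Subsingleton (Dual.HD A X' j) := by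
  obtain ⟨δ, e₂, e₃, e₁⟩ := exists_coneδ hT j
  refine subsingleton_of_forall_eq 0 fun m => ?_
  obtain ⟨n, hn⟩ := (e₃ m).1 (Subsingleton.elim _ _)
  rw [← hn, Subsingleton.elim n 0, map_zero]

theorem finite_HD_step [IsNoetherianRing A] (j : ℤ) (h0 : Module.Finite A (Dual.HD A X j))
    (h1 : Module.Finite A (Dual.HD A X (j + 1))) : Module.Finite A (Dual.HD A X' j) := by
  obtain ⟨δ, e₂, e₃, e₁⟩ := exists_coneδ hT j
  have hex : Function.Exact (mapHD g j) δ.rangeRestrict :=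
    fun m => Subtype.ext_iff.trans (e₃ m)
  exact Module.Finite.of_exact hex (LinearMap.surjective_rangeRestrict _)

/-- The exact sequence of morphisms out of a cone, typed by the vertices. -/
theorem exists_cone_conn (Y : Dual.D A) (i j : ℤ) (hij : i + 1 = j) :
    ∃ c : (X ⟶ Y⟦i⟧) →ₗ[A] (X' ⟶ Y⟦j⟧),
      (∀ n, c n = 0 ↔ ∃ n', x • n' = n) ∧
      (∀ f : X' ⟶ Y⟦j⟧, g ≫ f = 0 → ∃ n, c n = f) := by
  refine ⟨conn (Triangle.mk (x • 𝟙 X) g h) Y i j hij, fun n => ?_,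
    fun f hf => (exact_conn_leftComp hT Y i j hij f).1 hf⟩
  refine (exact_leftComp_conn hT Y i j hij n).trans (exists_congr fun (n' : X ⟶ Y⟦i⟧) => ?_)
  change (x • 𝟙 X) ≫ n' = n ↔ _
  rw [Linear.smul_comp, Category.id_comp]

theorem subsingleton_hom_step (Y : Dual.D A) (i : ℤ) (h0 : Subsingleton (X ⟶ Y⟦i⟧))
    (h1 : Subsingleton (X ⟶ Y⟦i - 1⟧)) : Subsingleton (X' ⟶ Y⟦i⟧) := by
  obtain ⟨c, hc₀, hc⟩ := exists_cone_conn hT Y (i - 1) i (by lia)
  refine subsingleton_of_forall_eq 0 fun f => ?_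
  obtain ⟨n, hn⟩ := hc f (Subsingleton.elim _ _)
  rw [← hn, Subsingleton.elim n 0, map_zero]

/-- The top degree: `Hom(X', Y[i+1]) = Hom(X, Y[i])/x`. -/
theorem exists_quotient_equiv_step (Y : Dual.D A) (i j : ℤ) (hij : i + 1 = j)
    (h0 : Subsingleton (X ⟶ Y⟦j⟧)) (J : Ideal A)
    (e : (X ⟶ Y⟦i⟧) ≃ₗ[A] (A ⧸ J)) :
    Nonempty ((X' ⟶ Y⟦j⟧) ≃ₗ[A] (A ⧸ (Ideal.span {x} ⊔ J))) := by
  obtain ⟨c, hc, hcs⟩ := exists_cone_conn hT Y i j hij
  let φ : A →ₗ[A] (X' ⟶ Y⟦j⟧) := c ∘ₗ e.symm.toLinearMap ∘ₗ Submodule.mkQ J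
  have hsurj : Function.Surjective φ := by
    intro f
    obtain ⟨n, hn⟩ := hcs f (h0.elim _ _)
    obtain ⟨a, ha⟩ := Submodule.mkQ_surjective J (e n)
    exact ⟨a, by simpa [φ, ← Submodule.mkQ_apply, ha] using hn⟩
  have hker : LinearMap.ker φ = Ideal.span {x} ⊔ J := by
    ext a
    rw [LinearMap.mem_ker, Submodule.mem_sup]
    simp only [φ, LinearMap.coe_comp, Function.comp_apply, hc]
    constructor
    · rintro ⟨n', hn'⟩
      obtain ⟨b, hb⟩ := Submodule.mkQ_surjective J (e n')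
      have h2 : Submodule.mkQ J (x • b) = Submodule.mkQ J a := by
        rw [map_smul, hb, ← map_smul, hn']
        simp
      refine ⟨x • b, Ideal.mem_span_singleton'.2 ⟨b, mul_comm b x⟩, a - x • b, ?_, by abel⟩
      rw [← Submodule.Quotient.eq]
      exact h2.symm
    · rintro ⟨y, hy, z, hz, rfl⟩
      obtain ⟨b, rfl⟩ := Ideal.mem_span_singleton'.1 hy
      refine ⟨e.symm (Submodule.mkQ J b), ?_⟩
      rw [← map_smul, ← map_smul]
      apply congrArg e.symm
      rw [Submodule.mkQ_apply, Submodule.mkQ_apply, Submodule.Quotient.eq, smul_eq_mul]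
      rw [show x * b - (b * x + z) = -z by ring]
      exact J.neg_mem hz
  exact ⟨((Submodule.quotEquivOfEq _ _ hker.symm).trans (φ.quotKerEquivOfSurjective hsurj)).symm⟩

variable (V : Dual.D A) (hV : x • 𝟙 V = 0)
include hV

theorem injective_rightComp_step :
    Function.Injective (Linear.rightComp A V g) := by
  rw [injective_iff_map_eq_zero]
  intro f hf
  obtain ⟨n, hn⟩ : ∃ n : V ⟶ X, n ≫ (x • 𝟙 X) = f := (exact_rightComp hT V f).1 hf
  rw [← hn]
  rw [Linear.comp_smul, Category.comp_id]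
  exact smul_hom_eq_zero_left hV n

theorem surjective_rightComp_step :
    Function.Surjective (Linear.rightComp A V h) := by
  intro f
  refine (exact_rightComp (rot_of_distTriang _ (rot_of_distTriang _ hT)) V f).1 ?_
  change f ≫ (-((x • 𝟙 X)⟦(1 : ℤ)⟧')) = 0
  rw [Preadditive.comp_neg, neg_eq_zero, CategoryTheory.Functor.map_smul,
    CategoryTheory.Functor.map_id, Linear.comp_smul, Category.comp_id]
  exact smul_hom_eq_zero_left hV f

omit hV in
theorem exact_rightComp_step :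
    Function.Exact (Linear.rightComp A V g) (Linear.rightComp A V h) :=
  exact_rightComp (rot_of_distTriang _ hT) V

end OneStep

variable [IsNoetherianRing A]

/-- Iterated cones of `ω` on elements of the prime `p`. -/
theorem exists_cones (ω : Dual.D A) (hω : Dual.IsDualizing A ω) (a b : ℤ)
    (hab : ∀ i, i < a ∨ b < i → Subsingleton (Dual.HD A ω i))
    (p : PrimeSpectrum A) (xs : List A) (hxs : ∀ x ∈ xs, x ∈ p.asIdeal) :
    ∃ X : Dual.D A,
      (∀ i, i < a - (xs.length : ℤ) ∨ b < i → Subsingleton (Dual.HD A X i)) ∧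
      (∀ i, Module.Finite A (Dual.HD A X i)) ∧
      (∀ i, (xs.length : ℤ) < i → Subsingleton (X ⟶ ω⟦i⟧)) ∧
      Nonempty ((X ⟶ ω⟦(xs.length : ℤ)⟧) ≃ₗ[A] (A ⧸ Ideal.ofList xs)) ∧
      (∀ j q, q ∈ Module.support A (Dual.HD A X j) → Ideal.ofList xs ≤ q.asIdeal) ∧
      (∀ s : ℤ, p ∈ Module.support A ((Dual.inD A (A ⧸ p.asIdeal))⟦-s⟧ ⟶ ω) →
        p ∈ Module.support A ((Dual.inD A (A ⧸ p.asIdeal))⟦-(s - (xs.length : ℤ))⟧ ⟶ X)) := by
  induction xs with
  | nil =>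
    have e1 : (A ⧸ Ideal.ofList ([] : List A)) ≃ₗ[A] A :=
      (Submodule.quotEquivOfEq _ _ Ideal.ofList_nil).trans (Submodule.quotEquivOfEqBot ⊥ rfl)
    have e0 : (ω ⟶ ω⟦(0 : ℤ)⟧) ≃ₗ[A] A :=
      (Linear.homCongr A (Iso.refl ω) ((shiftFunctorZero (Dual.D A) ℤ).app ω)).trans
        (LinearEquiv.ofBijective (LinearMap.toSpanSingleton A (ω ⟶ ω) (𝟙 ω)) hω.toEnd_bijective).symm
    refine ⟨ω, fun i hi => hab i ?_, hω.finite_cohomology,
      fun i hi => hω.ext_self_subsingleton i ?_, ⟨?_⟩, fun j q _ => ?_, fun s hs => ?_⟩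
    · simpa using hi
    · simp at hi; lia
    · exact e0.trans e1.symm
    · simp
    · have : ∀ s' : ℤ, s' = s →
          p ∈ Module.support A ((Dual.inD A (A ⧸ p.asIdeal))⟦-s'⟧ ⟶ ω) := by
        rintro s' rfl
        exact hs
      exact this _ (by simp)
  | cons x xs ih =>
    obtain ⟨X, hbd, hfin, htop, ⟨e⟩, hsupp, hW⟩ := ih fun y hy => hxs y (List.mem_cons_of_mem x hy)
    obtain ⟨X', g, h, hT⟩ := exists_smul_triangle X x
    have hxp : x ∈ p.asIdeal := hxs x List.mem_cons_self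
    have hlen : (((x :: xs).length : ℕ) : ℤ) = (xs.length : ℤ) + 1 := by simp
    rw [hlen, Ideal.ofList_cons]
    refine ⟨X', fun i hi => ?_, fun i => ?_, fun i hi => ?_, ?_, fun j q hq => ?_, fun s hs => ?_⟩
    · exact subsingleton_HD_step hT i (hbd i (by lia)) (hbd (i + 1) (by lia))
    · exact finite_HD_step hT i (hfin i) (hfin (i + 1))
    · exact subsingleton_hom_step hT ω i (htop i (by lia)) (htop (i - 1) (by lia))
    · exact exists_quotient_equiv_step hT ω _ _ rfl (htop _ (by lia)) _ e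
    · by_contra hc
      refine notMem_support_HD hT j (fun hxq => ?_) hq
      have hJ : ¬ Ideal.ofList xs ≤ q.asIdeal := fun hJ =>
        hc (sup_le ((Ideal.span_singleton_le_iff_mem _).2 hxq) hJ)
      exact ⟨fun hh => hJ (hsupp j q hh), fun hh => hJ (hsupp _ q hh)⟩
    · have hk : x • 𝟙 ((Dual.inD A (A ⧸ p.asIdeal))⟦-(s - ((xs.length : ℤ) + 1))⟧) = 0 := by
        refine smul_id_shift (smul_id_inD fun m => ?_) _
        obtain ⟨m, rfl⟩ := Submodule.Quotient.mk_surjective _ m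
        rw [← Submodule.Quotient.mk_smul, Submodule.Quotient.mk_eq_zero]
        exact p.asIdeal.mul_mem_right m hxp
      by_contra hc
      refine notMem_support_equiv
        (homNegShift (Dual.inD A (A ⧸ p.asIdeal)) X (s - ((xs.length : ℤ) + 1))
          (s - (xs.length : ℤ)) (by lia))
        (notMem_support_of_surjective (surjective_rightComp_step hT _ hk) hc) (hW s hs)

end Groth.Agent.Lib.DMod.Cones
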