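import Groth.Agent.Lib.DMod.TorIndepBC
import Groth.Agent.H54.TorDimHom
import Mathlib.CategoryTheory.Abelian.Projective.Extend
import Mathlib.RingTheory.IsTensorProduct
import Mathlib.Algebra.Homology.ShortComplex.ExactFunctor

/-!
Resolution data for a tor independent pushout square.
-/

universe u

open CategoryTheory CategoryTheory.Limits MonoidalCategory HomologicalComplex
open Groth.Agent.Lib.DR
open scoped TensorProduct

attribute [local instance] HasDerivedCategory.standard

set_option backward.isDefEq.respectTransparency false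
set_option linter.style.haveILetI false

namespace Groth.Agent.Lib.DMod.TorIndepData

variable {R A : Type u} [CommRing R] [CommRing A] [Algebra R A]

/-- Exactness after extension of scalars is exactness after `A ⊗ -`. -/
theorem exact_ext {X Y Z : ModuleCat.{u} R} (f : X ⟶ Y) (g : Y ⟶ Z)
    (h : Function.Exact (f.hom.lTensor A) (g.hom.lTensor A)) :
    Function.Exact ((ModuleCat.extendScalars.{u, u, u} (algebraMap R A)).map f).hom
      ((ModuleCat.extendScalars.{u, u, u} (algebraMap R A)).map g).hom := by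
  let e := fun (M : ModuleCat.{u} R) => ((FlatBC.extEquiv R A M).restrictScalars ℤ).toAddEquiv
  have key : ∀ {M N : ModuleCat.{u} R} (u : M ⟶ N) x,
      e N (((ModuleCat.extendScalars.{u, u, u} (algebraMap R A)).map u).hom x) = u.hom.lTensor A (e M x) := by
    intro M N u x
    induction x using TensorProduct.induction_on with
    | zero => simp
    | add a b ha hb => simp only [map_add, ha, hb]
    | tmul a m => rfl
  intro y
  rw [← (e Z).map_eq_zero_iff, key, h (e Y y)]
  constructor
  · rintro ⟨x, hx⟩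
    exact ⟨(e X).symm x, (e Y).injective ((key f _).trans ((congrArg _ ((e X).apply_symm_apply x)).trans hx))⟩
  · rintro ⟨x, rfl⟩
    exact ⟨e X x, (key f x).symm⟩

/-- Base change of a resolution is a resolution when the higher Tor modules vanish. -/
theorem quasiIso_ext_π' (M : Type u) [AddCommGroup M] [Module R M]
    (P : ProjectiveResolution (ModuleCat.of R M))
    (htor : ∀ p : ℕ, 1 ≤ p → Subsingleton (DRing.Tor R p A M)) :
    QuasiIso ((DTen.extCx (algebraMap R A)).map P.π') := by
  let F := ModuleCat.extendScalars.{u, u, u} (algebraMap R A)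
  refine ⟨fun n => ?_⟩
  rcases lt_trichotomy n 0 with hn | rfl | hn
  · obtain ⟨k, rfl⟩ : ∃ k : ℕ, n = -((k + 1 : ℕ) : ℤ) := ⟨(-n).toNat - 1, by omega⟩
    rw [quasiIsoAt_iff_exactAt']
    · have hex := exact_ext (A := A) _ _ ((H54.TorDimHom.subsingleton_tor_iff A M P k).1 (htor (k + 1) (by omega)))
      rw [exactAt_iff' _ (-((k + 2 : ℕ) : ℤ)) _ (-(k : ℤ)) (by simp; omega) (by simp)]
      refine (ShortComplex.exact_iff_of_iso ?_).1
        ((ShortComplex.ShortExact.moduleCat_exact_iff_function_exact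
          (((P.complex.sc' (k + 2) (k + 1) k)).map F)).2 hex)
      exact (ShortComplex.isoMk (F.mapIso (P.cochainComplexXIso _ (k + 2) rfl).symm)
        (F.mapIso (P.cochainComplexXIso _ (k + 1) rfl).symm)
        (F.mapIso (P.cochainComplexXIso _ k rfl).symm)
        (by
          show F.map _ ≫ F.map (P.cochainComplex.d _ _) = F.map (P.complex.d _ _) ≫ F.map _
          rw [← F.map_comp, ← F.map_comp, P.cochainComplex_d _ _ (k + 2) (k + 1) rfl rfl]
          exact congrArg _ (Iso.inv_hom_id_assoc _ _))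
        (by
          show F.map _ ≫ F.map (P.cochainComplex.d _ _) = F.map (P.complex.d _ _) ≫ F.map _
          rw [← F.map_comp, ← F.map_comp, P.cochainComplex_d _ _ (k + 1) k rfl rfl]
          exact congrArg _ (Iso.inv_hom_id_assoc _ _)))
    · exact ExactAt.of_isZero (F.map_isZero (isZero_single_obj_X (ComplexShape.up ℤ) 0 _ _ (by omega)))
  · rw [quasiIsoAt_iff' _ (-1) 0 1 (by simp) (by simp)]
    have hz1 : IsZero (P.cochainComplex.X 1) := CochainComplex.isZero_of_isStrictlyLE _ 0 _
    rw [ShortComplex.quasiIso_iff_of_zeros' _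
      ((F.map_isZero hz1).eq_of_tgt _ _) ((F.map_isZero (isZero_single_obj_X (ComplexShape.up ℤ) 0 (ModuleCat.of R M) (-1 : ℤ) (by omega))).eq_of_src _ _)
      ((F.map_isZero (isZero_single_obj_X (ComplexShape.up ℤ) 0 (ModuleCat.of R M) (1 : ℤ) (by omega))).eq_of_tgt _ _)]
    have h0 : QuasiIso P.π' := inferInstance
    have h1 := (quasiIsoAt_iff' P.π' (-1) 0 1 (by simp) (by simp)).1 (h0.quasiIsoAt 0)
    rw [ShortComplex.quasiIso_iff_of_zeros' _ (hz1.eq_of_tgt _ _)
      ((isZero_single_obj_X (ComplexShape.up ℤ) 0 (ModuleCat.of R M) (-1 : ℤ) (by omega)).eq_of_src _ _)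
      ((isZero_single_obj_X (ComplexShape.up ℤ) 0 (ModuleCat.of R M) (1 : ℤ) (by omega)).eq_of_tgt _ _)] at h1
    have hF : PreservesFiniteColimits F := inferInstance
    have key : ∀ S : ShortComplex (ModuleCat.{u} R), S.Exact ∧ Epi S.g → (S.map F).Exact ∧ Epi (F.map S.g) :=
      ((Functor.preservesFiniteColimits_tfae F).out 3 1).1 hF
    exact key _ h1
  · rw [quasiIsoAt_iff_exactAt']
    · exact ExactAt.of_isZero (F.map_isZero (CochainComplex.isZero_of_isStrictlyLE _ 0 _ hn))
    · exact ExactAt.of_isZero (F.map_isZero (isZero_single_obj_X (ComplexShape.up ℤ) 0 _ _ (by omega)))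

variable {R' A' : Type u} [CommRing R'] [CommRing A'] [Algebra R R'] [Algebra A A'] [Algebra R' A'] [Algebra R A']
  [IsScalarTower R A A'] [IsScalarTower R R' A'] [Algebra.IsPushout R A R' A']

/-- A tor independent pushout square has compatible resolution data. -/
theorem exists_data_proj (htor : ∀ p : ℕ, 1 ≤ p → Subsingleton (DRing.Tor R p A R')) :
    ∃ (E : DRing.Cx R) (_ : E.IsKProjective) (e : E ⟶ (DTen.resCx (algebraMap R R')).obj (𝟙_ (DRing.Cx R')))
      (q : (DTen.extCx (algebraMap R A)).obj E ⟶ (DTen.resCx (algebraMap A A')).obj (𝟙_ (DRing.Cx A'))),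
      QuasiIso e ∧ QuasiIso q ∧
        TorIndepBC.Compat (algebraMap R A) (algebraMap R R') (algebraMap A A') (algebraMap R' A') e q := by
  let X : ModuleCat.{u} R := ModuleCat.of R R'
  let P : ProjectiveResolution X := projectiveResolution X
  let F := ModuleCat.extendScalars.{u, u, u} (algebraMap R A)
  let u0 : X ≅ (DTen.resM (algebraMap R R')).obj (𝟙_ (ModuleCat.{u} R')) := (FlatBC.resEquiv R R').symm.toModuleIso
  let B : A ⊗[R] R' ≃ₗ[A] A' := (Algebra.IsPushout.out (R := R) (S := A) (R' := R') (S' := A')).equiv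
  let vL : F.obj X ≃ₗ[A] (ModuleCat.restrictScalars.{u} (algebraMap A A')).obj (ModuleCat.of A' A') :=
    ((FlatBC.extEquiv R A R').trans B).trans (FlatBC.resEquiv A A').symm
  let v0 : F.obj X ⟶ (DTen.resM (algebraMap A A')).obj (𝟙_ (ModuleCat.{u} A')) := vL.toModuleIso.hom
  have hv0 : IsIso v0 := inferInstanceAs (IsIso vL.toModuleIso.hom)
  let sX := (single (ModuleCat.{u} R) (ComplexShape.up ℤ) 0)
  let sA := (single (ModuleCat.{u} A) (ComplexShape.up ℤ) 0)
  let e : P.cochainComplex ⟶ (DTen.resCx (algebraMap R R')).obj (𝟙_ (DRing.Cx R')) :=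
    P.π' ≫ sX.map u0.hom ≫ ((singleMapHomologicalComplex (DTen.resM (algebraMap R R')) (.up ℤ) 0).app _).inv
  let q : (DTen.extCx (algebraMap R A)).obj P.cochainComplex ⟶
      (DTen.resCx (algebraMap A A')).obj (𝟙_ (DRing.Cx A')) :=
    (DTen.extCx (algebraMap R A)).map P.π' ≫ ((singleMapHomologicalComplex F (.up ℤ) 0).app X).hom ≫
      sA.map v0 ≫ ((singleMapHomologicalComplex (DTen.resM (algebraMap A A')) (.up ℤ) 0).app _).inv
  have : P.cochainComplex.IsKProjective := CochainComplex.isKProjective_of_projective _ 0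
  have hπ := quasiIso_ext_π' (A := A) R' P htor
  refine ⟨P.cochainComplex, inferInstance, e, q, inferInstance, inferInstance, fun x => ?_⟩
  let w : R' := (singleObjXSelf (ComplexShape.up ℤ) 0 X).hom (P.π'.f 0 x)
  have hu : TorIndepBC.sc (S := R') (show (𝟙_ (DRing.Cx R')).X 0 from e.f 0 x) = w := by
    simp [e, TorIndepBC.sc, singleMapHomologicalComplex_inv_app_self, sX, single_map_f_self, w, u0]
    rfl
  have hq' : TorIndepBC.sc (S := A') (show (𝟙_ (DRing.Cx A')).X 0 from
      q.f 0 (((DTen.unitCx (algebraMap R A)).app P.cochainComplex).f 0 x)) =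
      (B ((1 : A) ⊗ₜ[R] w)) := by
    have hn := (ModuleCat.extendRestrictScalarsAdj.{u, u, u} (algebraMap R A)).unit.naturality
      (P.π'.f 0 ≫ (singleObjXSelf (ComplexShape.up ℤ) 0 X).hom)
    have hn' := ConcreteCategory.congr_hom hn x
    simp [q, TorIndepBC.sc, singleMapHomologicalComplex_hom_app_self, singleMapHomologicalComplex_inv_app_self,
      sA, single_map_f_self, w] at hn' ⊢
    rfl
  rw [hu, hq']
  simp [B, IsBaseChange.equiv_tmul]

/-- The same with a K-flat complex. -/
theorem exists_data (htor : ∀ p : ℕ, 1 ≤ p → Subsingleton (DRing.Tor R p A R')) :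
    ∃ (E : DRing.Cx R) (e : E ⟶ (DTen.resCx (algebraMap R R')).obj (𝟙_ (DRing.Cx R')))
      (q : (DTen.extCx (algebraMap R A)).obj E ⟶ (DTen.resCx (algebraMap A A')).obj (𝟙_ (DRing.Cx A'))),
      QuasiIso e ∧ QuasiIso q ∧ DRing.IsKFlat R E ∧
        TorIndepBC.Compat (algebraMap R A) (algebraMap R R') (algebraMap A A') (algebraMap R' A') e q := by
  obtain ⟨E, hE, e, q, he, hq', hq⟩ := exists_data_proj (R := R) (A := A) (R' := R') (A' := A') htor
  exact ⟨E, e, q, he, hq', KFlat.isKFlat_of_isKProjective E, hq⟩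

end Groth.Agent.Lib.DMod.TorIndepData
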