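import Groth.Agent.Lib.DMod.GorFibreGlobal
import Groth.Agent.Lib.ModelFibre.RegPoint
import Groth.Agent.Lib.Excellent.FibreNoetherian
import Mathlib.RingTheory.RingHom.Flat
import Mathlib.FieldTheory.IntermediateField.Adjoin.Algebra

/-!
Fibres: Gorenstein criteria for formal fibres, smooth algebras, field extensions.
-/

universe u

open CategoryTheory CategoryTheory.Limits Pretriangulated TensorProduct
open Groth.Agent.Lib.DMod Groth.Agent.Lib.DMod.Basic Groth.Agent.Lib.DMod.Conservative
open Groth.Agent.Lib.DMod.FlatHom Groth.Agent.Lib.DMod.FlatDualizing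

attribute [local instance] HasDerivedCategory.standard

namespace Groth.Agent.Lib.DMod.GorFibreApply

variable {A : Type u} [CommRing A] [IsNoetherianRing A] {B : Type u} [CommRing B] [Algebra A B]

/-- Fibres of a flat map carrying a dualizing complex to a dualizing complex are Gorenstein. -/
theorem gorenstein_fibre_of_isDualizing [IsNoetherianRing B] [Module.Flat A B] {ω : Dual.D A}
    (hω : Dual.IsDualizing A ω) (h : Dual.IsDualizing B ((L A B).obj ω)) (p : Ideal A) [p.IsPrime]
    [IsNoetherianRing (p.Fiber B)] : LocCoh.IsGorensteinRing (p.Fiber B) := by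
  refine { isGorensteinLocalRing_localization := fun qF _ => ?_ }
  let q := qF.comap (Algebra.TensorProduct.includeRight : B →ₐ[A] p.Fiber B)
  have hqp : q.comap (algebraMap A B) = p := by
    show (qF.comap _).comap (algebraMap A B) = p
    rw [← Ideal.comap_coe (Algebra.TensorProduct.includeRight : B →ₐ[A] p.Fiber B),
      Ideal.comap_comap, AlgHom.comp_algebraMap]
    exact (Ideal.over_def qF p).symm
  let C := Localization.AtPrime q
  have : IsNoetherianRing C := IsLocalization.isNoetherianRing q.primeCompl _ inferInstance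
  have : Module.Flat B C := IsLocalization.flat C q.primeCompl
  have : Module.Flat A C := Module.Flat.trans A B C
  obtain ⟨e⟩ := GorFibreGlobal.nonempty_L_comp (B := B) C ω
  have h1 := (GorFibre.isDualizing_iff hω (C := C)).1
    (LBC.isDualizing_of_iso e (GorLocus.isDualizing_atPrime h q))
  have hpt : (GorFibre.pt A C).asIdeal = p := by
    show (IsLocalRing.maximalIdeal C).comap (algebraMap A _) = _
    rw [IsScalarTower.algebraMap_eq A B C, ← Ideal.comap_comap]
    exact (congrArg (Ideal.comap (algebraMap A B)) Localization.AtPrime.under_maximalIdeal).trans hqp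
  rw [hpt] at h1
  refine @Goren.Flat.isGorensteinLocalRing_ringEquiv _ _ _ _
    ((Ideal.quotEquivOfEq ?_).trans (Ideal.Fiber.algEquivAux₂ p qF).toRingEquiv.symm) h1
  rw [Ideal.map_map, ← IsScalarTower.algebraMap_eq]

/-- Fibres of a smooth algebra are Gorenstein. -/
theorem gorenstein_fibre_of_smooth [Algebra.Smooth A B] (p : Ideal A) [p.IsPrime] :
    LocCoh.IsGorensteinRing (p.Fiber B) := by
  have : IsNoetherianRing (p.Fiber B) := Algebra.FiniteType.isNoetherianRing p.ResidueField _
  refine { isGorensteinLocalRing_localization := fun qF _ => ?_ }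
  have : Algebra.IsSmoothAt p.ResidueField qF :=
    Algebra.FormallySmooth.comp p.ResidueField (p.Fiber B) (Localization.AtPrime qF)
  have := ModelFibre.RegPoint.isRegularLocalRing_of_isSmoothAt (k := p.ResidueField) qF
  exact Goren.Basic.isGorensteinLocalRing_of_isRegular _

theorem ringKrullDim_lt_top_of_finiteType {ω : Dual.D A} (hω : Dual.IsDualizing A ω)
    [Algebra.FiniteType A B] : ringKrullDim B < ⊤ := by
  obtain ⟨_, ω', hω'⟩ := PolyExist.exists_finiteType hω B
  exact DimDegree.ringKrullDim_lt_top hω'

theorem ringKrullDim_lt_top_of_field (K : Type u) [Field K] (B : Type u) [CommRing B] [Algebra K B]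
    [Algebra.FiniteType K B] : ringKrullDim B < ⊤ := by
  obtain ⟨n, hn⟩ := (Goren.Basic.isGorensteinLocalRing_of_isRegular K).exists_hasInjectiveDimensionLT
  exact ringKrullDim_lt_top_of_finiteType (Gorenstein.isDualizing_self hn)

/-- Fibres of `A → K ⊗ A`. -/
theorem gorenstein_fibre_fieldExtension (k K : Type u) [Field k] [Field K] [Algebra k K]
    (A : Type u) [CommRing A] [Algebra k A] [Algebra.FiniteType k A] (p : Ideal A) [p.IsPrime] :
    LocCoh.IsGorensteinRing (p.ResidueField ⊗[A] (A ⊗[k] K)) := by
  have : IsNoetherianRing A := Algebra.FiniteType.isNoetherianRing k A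
  have : Algebra.EssFiniteType k p.ResidueField := Algebra.EssFiniteType.comp k A p.ResidueField
  obtain ⟨s, hs⟩ : (⊤ : IntermediateField k p.ResidueField).FG := IntermediateField.fg_top_iff.mpr ‹_›
  have : LocCoh.IsGorensteinRing K := Goren.Rings.isGorensteinRing_of_isRegularRing K
  have := Goren.Rings.isGorensteinRing_tensor_fg k p.ResidueField K ⟨s, hs⟩
  exact Goren.Rings.isGorensteinRing_of_ringEquiv
    (Algebra.TensorProduct.cancelBaseChange k A A p.ResidueField K).toRingEquiv.symm

end Groth.Agent.Lib.DMod.GorFibreApply
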