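import Groth.Agent.Lib.DMod.GorFibreLocal
import Groth.Agent.Lib.DMod.GorFibreApply
import Mathlib.RingTheory.KrullDimension.Polynomial
import Mathlib.RingTheory.Localization.Algebra
import Mathlib.RingTheory.TensorProduct.MvPolynomial
import Mathlib.RingTheory.Flat.Localization

/-!
Gorenstein fibres of a flat algebra in terms of `Ext` over a polynomial presentation, prime by prime.
-/

set_option linter.style.haveILetI false

universe u

open IsLocalRing CategoryTheory TensorProduct
open Groth.Agent.Lib.DMod.FibreRed Groth.Agent.Lib.DMod.LocalExtCI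

namespace Groth.Agent.Lib.DMod.GorFibrePrime

variable {R : Type u} [CommRing R] [IsNoetherianRing R] {n : ℕ}

/-- The closed fibre of a localized polynomial ring is regular of dimension at most `n`. -/
theorem fibre_regular (Q : Ideal (MvPolynomial (Fin n) R)) [Q.IsPrime] :
    IsRegularLocalRing (Localization.AtPrime Q ⧸
        ((Q.comap (algebraMap R (MvPolynomial (Fin n) R))).map (algebraMap R (MvPolynomial (Fin n) R))).map (algebraMap (MvPolynomial (Fin n) R) (Localization.AtPrime Q))) ∧
      ringKrullDim (Localization.AtPrime Q ⧸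
        ((Q.comap (algebraMap R (MvPolynomial (Fin n) R))).map (algebraMap R (MvPolynomial (Fin n) R))).map (algebraMap (MvPolynomial (Fin n) R) (Localization.AtPrime Q))) ≤ n := by
  let p := Q.comap (algebraMap R (MvPolynomial (Fin n) R))
  let x : (PrimeSpectrum.comap (algebraMap R (MvPolynomial (Fin n) R))) ⁻¹' {(⟨p, inferInstance⟩ : PrimeSpectrum R)} :=
    ⟨⟨Q, inferInstance⟩, rfl⟩
  let qF := (PrimeSpectrum.preimageEquivFiber R (MvPolynomial (Fin n) R) ⟨p, inferInstance⟩ x).asIdeal
  have hQ : qF.comap (Algebra.TensorProduct.includeRight : (MvPolynomial (Fin n) R) →ₐ[R] p.Fiber (MvPolynomial (Fin n) R)) = Q :=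
    congrArg (fun y => y.1.asIdeal)
      ((PrimeSpectrum.preimageEquivFiber R (MvPolynomial (Fin n) R) ⟨p, inferInstance⟩).symm_apply_apply x)
  have hn : ringKrullDim (p.Fiber (MvPolynomial (Fin n) R)) ≤ n := by
    let e : p.Fiber (MvPolynomial (Fin n) R) ≃+* MvPolynomial (Fin n) p.ResidueField :=
      (MvPolynomial.algebraTensorAlgEquiv R p.ResidueField).toRingEquiv
    rw [ringKrullDim_eq_of_ringEquiv e, MvPolynomial.ringKrullDim_of_isNoetherianRing,
      ringKrullDim_eq_zero_of_field, zero_add, Nat.card_fin]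
  have : IsNoetherianRing (p.Fiber (MvPolynomial (Fin n) R)) := Algebra.FiniteType.isNoetherianRing p.ResidueField _
  have : Algebra.IsSmoothAt p.ResidueField qF :=
    Algebra.FormallySmooth.comp p.ResidueField (p.Fiber (MvPolynomial (Fin n) R)) (Localization.AtPrime qF)
  have hreg := ModelFibre.RegPoint.isRegularLocalRing_of_isSmoothAt (k := p.ResidueField) qF
  have key : ∀ (Q' : Ideal (MvPolynomial (Fin n) R)) [Q'.IsPrime], Q' = Q →
      Nonempty ((Localization.AtPrime Q' ⧸ (p.map (algebraMap R (MvPolynomial (Fin n) R))).map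
          (algebraMap (MvPolynomial (Fin n) R) (Localization.AtPrime Q'))) ≃+*
        (Localization.AtPrime Q ⧸ (p.map (algebraMap R (MvPolynomial (Fin n) R))).map
          (algebraMap (MvPolynomial (Fin n) R) (Localization.AtPrime Q)))) := by
    intro Q' _ h
    subst h
    exact ⟨RingEquiv.refl _⟩
  obtain ⟨e'⟩ := key _ hQ
  let e := (Ideal.Fiber.algEquivAux₂ p qF).toRingEquiv.trans e'
  refine ⟨IsRegularLocalRing.of_ringEquiv (R := Localization.AtPrime qF) e, ?_⟩
  rw [← ringKrullDim_eq_of_ringEquiv e]
  refine (IsLocalization.AtPrime.ringKrullDim_eq_height qF (Localization.AtPrime qF)).trans_le ?_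
  exact (Ideal.height_le_ringKrullDim_of_ne_top (Ideal.IsPrime.ne_top inferInstance)).trans hn

variable {A : Type u} [CommRing A] [Algebra (MvPolynomial (Fin n) R) A] [Algebra R A] [IsScalarTower R (MvPolynomial (Fin n) R) A]
  (hsurj : Function.Surjective (algebraMap (MvPolynomial (Fin n) R) A))

/-- The closed fibre of the local ring at a prime. -/
abbrev FibreAt (R : Type u) {A : Type u} [CommRing R] [CommRing A] [Algebra R A] (q : Ideal A)
    [q.IsPrime] : Type u :=
  Localization.AtPrime q ⧸ (q.comap (algebraMap R A)).map (algebraMap R (Localization.AtPrime q))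

/-- The local base acts on the local ring of the polynomial ring. -/
@[reducible] noncomputable def algLoc (Q : Ideal (MvPolynomial (Fin n) R)) [Q.IsPrime] :
    Algebra (Localization.AtPrime (Q.comap (algebraMap R (MvPolynomial (Fin n) R))))
      (Localization.AtPrime Q) :=
  (Localization.localRingHom (Q.comap (algebraMap R (MvPolynomial (Fin n) R))) Q
    (algebraMap R (MvPolynomial (Fin n) R)) rfl).toAlgebra

include hsurj in
/-- The local model at a prime. -/
theorem setup (q : Ideal A) [q.IsPrime] :
    letI := algLoc (n := n) (R := R) (q.comap (algebraMap (MvPolynomial (Fin n) R) A))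
    let C := Localization.AtPrime (q.comap (algebraMap (MvPolynomial (Fin n) R) A))
    let Rp := Localization.AtPrime
      ((q.comap (algebraMap (MvPolynomial (Fin n) R) A)).comap (algebraMap R (MvPolynomial (Fin n) R)))
    let J : Ideal C := locKer A q
    IsLocalHom (algebraMap Rp C) ∧ IsScalarTower R Rp C ∧ Module.Flat Rp C ∧
      (Module.Flat R A → Module.Flat Rp (C ⧸ J)) ∧ J ≠ ⊤ ∧ IsRegularLocalRing (C ⧸ fa Rp C) ∧
      fa Rp C = (((q.comap (algebraMap (MvPolynomial (Fin n) R) A)).comap
          (algebraMap R (MvPolynomial (Fin n) R))).map (algebraMap R (MvPolynomial (Fin n) R))).map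
        (algebraMap (MvPolynomial (Fin n) R) C) ∧
      ringKrullDim (C ⧸ fa Rp C) ≤ n ∧
      Nonempty (FibreAt R q ≃+* (C ⧸ fa Rp C) ⧸ GorFibreLocal.Jbar Rp J) := by
  let Q := q.comap (algebraMap (MvPolynomial (Fin n) R) A)
  let C := Localization.AtPrime Q
  let p := Q.comap (algebraMap R (MvPolynomial (Fin n) R))
  let Rp := Localization.AtPrime p
  let J : Ideal C := locKer A q
  letI : Algebra Rp C := algLoc Q
  haveI : IsLocalHom (algebraMap Rp C) := Localization.isLocalHom_localRingHom p Q (algebraMap R (MvPolynomial (Fin n) R)) rfl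
  haveI : IsScalarTower R Rp C := IsScalarTower.of_algebraMap_eq' <| RingHom.ext fun r => by
    rw [RingHom.comp_apply, RingHom.algebraMap_toAlgebra, Localization.localRingHom_to_map,
      ← IsScalarTower.algebraMap_apply]
  haveI : Module.Flat (MvPolynomial (Fin n) R) C := IsLocalization.flat C Q.primeCompl
  haveI : Module.Flat R C := Module.Flat.trans R (MvPolynomial (Fin n) R) C
  haveI : Module.Flat Rp C := (Module.flat_iff_of_isLocalization Rp p.primeCompl C).2 inferInstance
  -- the local ring of `A`
  let Φ : C →+* Localization.AtPrime q := Localization.localRingHom Q q (algebraMap (MvPolynomial (Fin n) R) A) rfl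
  have hmap : Q.primeCompl.map (algebraMap (MvPolynomial (Fin n) R) A) = q.primeCompl := by
    refine le_antisymm ?_ fun a ha => ?_
    · rintro _ ⟨s, hs, rfl⟩
      exact hs
    · obtain ⟨s, rfl⟩ := hsurj a
      exact ⟨s, ha, rfl⟩
  haveI : IsLocalization (Q.primeCompl.map (algebraMap (MvPolynomial (Fin n) R) A)) (Localization.AtPrime q) := by
    rw [hmap]; infer_instance
  have hΦ : Function.Surjective Φ := IsLocalization.map_surjective_of_surjective (g := algebraMap (MvPolynomial (Fin n) R) A)
    Q.primeCompl C (Localization.AtPrime q) hsurj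
  have hker : RingHom.ker Φ = J := IsLocalization.ker_map (Localization.AtPrime q) (algebraMap (MvPolynomial (Fin n) R) A) hmap
  have hΦR : ∀ r : R, Φ (algebraMap R C r) = algebraMap R (Localization.AtPrime q) r := fun r => by
    rw [IsScalarTower.algebraMap_apply R (MvPolynomial (Fin n) R) C, Localization.localRingHom_to_map,
      ← IsScalarTower.algebraMap_apply R (MvPolynomial (Fin n) R) A, ← IsScalarTower.algebraMap_apply]
  haveI : Module.Flat A (Localization.AtPrime q) := IsLocalization.flat _ q.primeCompl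
  have hflatJ : Module.Flat R A → Module.Flat Rp (C ⧸ J) := fun hA => by
    refine (Module.flat_iff_of_isLocalization Rp p.primeCompl (C ⧸ J)).2 ?_
    have : Module.Flat R (Localization.AtPrime q) := Module.Flat.trans R A _
    let θ : (C ⧸ J) ≃+* Localization.AtPrime q :=
      (Ideal.quotEquivOfEq hker.symm).trans (RingHom.quotientKerEquivOfSurjective hΦ)
    refine Module.Flat.of_linearEquiv (M := Localization.AtPrime q)
      { θ.toAddEquiv with map_smul' := fun r x => ?_ }
    obtain ⟨x, rfl⟩ := Ideal.Quotient.mk_surjective x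
    show Φ (r • x) = r • Φ x
    rw [Algebra.smul_def, Algebra.smul_def, map_mul, hΦR]
  -- the fibre
  have hfa : fa Rp C = (p.map (algebraMap R (MvPolynomial (Fin n) R))).map (algebraMap (MvPolynomial (Fin n) R) C) := by
    rw [fa, ← Localization.AtPrime.map_eq_maximalIdeal, Ideal.map_map, Ideal.map_map,
      ← IsScalarTower.algebraMap_eq, ← IsScalarTower.algebraMap_eq]
  obtain ⟨hreg', hdim'⟩ := fibre_regular (R := R) Q
  have hreg : IsRegularLocalRing (C ⧸ fa Rp C) := by
    have := hreg'
    exact @IsRegularLocalRing.of_ringEquiv _ _ hreg' _ _ (Ideal.quotEquivOfEq hfa).symm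
  have hJ : J ≠ ⊤ := by
    rw [← hker]
    exact RingHom.ker_ne_top Φ
  -- the two descriptions of the fibre
  let mA := Ideal.Quotient.mk ((q.comap (algebraMap R A)).map (algebraMap R (Localization.AtPrime q)))
  have hp : q.comap (algebraMap R A) = p := by
    show _ = (q.comap _).comap _
    rw [Ideal.comap_comap, ← IsScalarTower.algebraMap_eq]
  let f₁ : C →+* FibreAt R q := mA.comp Φ
  let f₂ : C →+* (C ⧸ fa Rp C) ⧸ GorFibreLocal.Jbar Rp J :=
    (Ideal.Quotient.mk _).comp (Ideal.Quotient.mk _)
  have h1 : RingHom.ker f₁ = J ⊔ fa Rp C := by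
    rw [← RingHom.comap_ker, Ideal.mk_ker, hfa, hp, Ideal.map_map, ← IsScalarTower.algebraMap_eq,
      show algebraMap R (Localization.AtPrime q) = Φ.comp (algebraMap R C) from
        RingHom.ext fun r => (hΦR r).symm, ← Ideal.map_map,
      Ideal.comap_map_of_surjective _ hΦ, ← RingHom.ker_eq_comap_bot, hker, sup_comm]
  have h2 : RingHom.ker f₂ = J ⊔ fa Rp C := by
    rw [← RingHom.comap_ker, Ideal.mk_ker, GorFibreLocal.Jbar,
      Ideal.comap_map_of_surjective _ Ideal.Quotient.mk_surjective, ← RingHom.ker_eq_comap_bot,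
      Ideal.mk_ker]
  let eF : FibreAt R q ≃+* (C ⧸ fa Rp C) ⧸ GorFibreLocal.Jbar Rp J :=
    (RingHom.quotientKerEquivOfSurjective (f := f₁) (Ideal.Quotient.mk_surjective.comp hΦ)).symm.trans
      ((Ideal.quotEquivOfEq (h1.trans h2.symm)).trans (RingHom.quotientKerEquivOfSurjective (f := f₂)
        (Ideal.Quotient.mk_surjective.comp Ideal.Quotient.mk_surjective)))
  exact ⟨inferInstance, inferInstance, inferInstance, hflatJ, hJ, hreg, hfa,
    (ringKrullDim_eq_of_ringEquiv (Ideal.quotEquivOfEq hfa)).trans_le hdim', ⟨eF⟩⟩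

include hsurj in
/-- The criterion at a prime. -/
theorem prime_iff [Module.Flat R A] (q : Ideal A) [q.IsPrime] :
    (LocCoh.IsGorensteinLocalRing (FibreAt R q) →
      ∃ c, c ≤ n ∧ (∀ i, i ≠ c → Subsingleton (LExt (P := MvPolynomial (Fin n) R) A q i)) ∧
        Nonempty (LExt (P := MvPolynomial (Fin n) R) A q c ≃ₗ[Localization.AtPrime (q.comap (algebraMap (MvPolynomial (Fin n) R) A))]
          Localization.AtPrime (q.comap (algebraMap (MvPolynomial (Fin n) R) A)) ⧸ locKer A q)) ∧
    (∀ c, (∀ i, i ≠ c → Subsingleton (LExt (P := MvPolynomial (Fin n) R) A q i)) →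
      Nonempty (LExt (P := MvPolynomial (Fin n) R) A q c ≃ₗ[Localization.AtPrime (q.comap (algebraMap (MvPolynomial (Fin n) R) A))]
          Localization.AtPrime (q.comap (algebraMap (MvPolynomial (Fin n) R) A)) ⧸ locKer A q) →
      LocCoh.IsGorensteinLocalRing (FibreAt R q)) := by
  let Q := q.comap (algebraMap (MvPolynomial (Fin n) R) A)
  let C := Localization.AtPrime Q
  let Rp := Localization.AtPrime (Q.comap (algebraMap R (MvPolynomial (Fin n) R)))
  letI : Algebra Rp C := algLoc Q
  let J : Ideal C := locKer A q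
  obtain ⟨hloc, htower, hflat, hflatJ', hJ, hreg, -, hdim, ⟨eF⟩⟩ := setup (n := n) hsurj q
  have := hflatJ' inferInstance
  obtain ⟨d, hd, -⟩ := Regular.Quotient.exists_dim_eq (R := C ⧸ fa Rp C)
  have hdn : d ≤ n := by
    rw [hd] at hdim
    exact_mod_cast hdim
  refine ⟨fun hG => ?_, fun c hv he => ?_⟩
  · obtain ⟨c, hc, h⟩ := GorFibreLocal.of_gorenstein hreg J hJ hd
      ((Goren.Flat.isGorensteinLocalRing_ringEquiv_iff eF).1 hG)
    exact ⟨c, hc.trans hdn, h⟩
  · obtain ⟨e⟩ := he
    exact (Goren.Flat.isGorensteinLocalRing_ringEquiv_iff eF).2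
      (GorFibreLocal.gorenstein_of_ext hreg J hJ hd c hv e)

/-- All fibres are Gorenstein iff the closed fibre at each prime is. -/
theorem fibres_iff [Algebra.FiniteType R A] :
    (∀ p : PrimeSpectrum R, LocCoh.IsGorensteinRing (A ⊗[R] p.asIdeal.ResidueField)) ↔
      ∀ (q : Ideal A) [q.IsPrime], LocCoh.IsGorensteinLocalRing (FibreAt R q) := by
  have hmm : ∀ (p : Ideal R) [p.IsPrime] (q : Ideal A) [q.IsPrime],
      (p.map (algebraMap R A)).map (algebraMap A (Localization.AtPrime q)) =
        p.map (algebraMap R (Localization.AtPrime q)) := fun p _ q _ => by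
    rw [Ideal.map_map, ← IsScalarTower.algebraMap_eq]
  constructor
  · intro h q _
    let p := q.comap (algebraMap R A)
    have hG : LocCoh.IsGorensteinRing (p.Fiber A) :=
      @Goren.Rings.isGorensteinRing_of_ringEquiv _ _ _ _
        (Algebra.TensorProduct.comm R A p.ResidueField).toRingEquiv (h ⟨p, inferInstance⟩)
    let x : (PrimeSpectrum.comap (algebraMap R A)) ⁻¹' {(⟨p, inferInstance⟩ : PrimeSpectrum R)} :=
      ⟨⟨q, inferInstance⟩, rfl⟩
    let qF := (PrimeSpectrum.preimageEquivFiber R A ⟨p, inferInstance⟩ x).asIdeal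
    have hQ : qF.comap (Algebra.TensorProduct.includeRight : A →ₐ[R] p.Fiber A) = q :=
      congrArg (fun y => y.1.asIdeal)
        ((PrimeSpectrum.preimageEquivFiber R A ⟨p, inferInstance⟩).symm_apply_apply x)
    have key : ∀ (q' : Ideal A) [q'.IsPrime], q' = q →
        Nonempty ((Localization.AtPrime q' ⧸ (p.map (algebraMap R A)).map
          (algebraMap A (Localization.AtPrime q'))) ≃+* FibreAt R q) := by
      intro q' _ h
      subst h
      exact ⟨Ideal.quotEquivOfEq (hmm _ _)⟩
    obtain ⟨e'⟩ := key _ hQ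
    exact @Goren.Flat.isGorensteinLocalRing_ringEquiv _ _ _ _
      ((Ideal.Fiber.algEquivAux₂ p qF).toRingEquiv.trans e')
      (hG.isGorensteinLocalRing_localization qF)
  · intro h p
    suffices LocCoh.IsGorensteinRing (p.asIdeal.Fiber A) from
      Goren.Rings.isGorensteinRing_of_ringEquiv
        (Algebra.TensorProduct.comm R A p.asIdeal.ResidueField).toRingEquiv.symm
    have : IsNoetherianRing (p.asIdeal.Fiber A) :=
      Algebra.FiniteType.isNoetherianRing p.asIdeal.ResidueField _
    refine { isGorensteinLocalRing_localization := fun qF _ => ?_ }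
    let q := qF.comap (Algebra.TensorProduct.includeRight : A →ₐ[R] p.asIdeal.Fiber A)
    have hqp : q.comap (algebraMap R A) = p.asIdeal := by
      show (qF.comap _).comap (algebraMap R A) = p.asIdeal
      rw [← Ideal.comap_coe (Algebra.TensorProduct.includeRight : A →ₐ[R] p.asIdeal.Fiber A),
        Ideal.comap_comap, AlgHom.comp_algebraMap]
      exact (Ideal.over_def qF p.asIdeal).symm
    refine @Goren.Flat.isGorensteinLocalRing_ringEquiv _ _ _ _
      ((Ideal.quotEquivOfEq ?_).trans (Ideal.Fiber.algEquivAux₂ p.asIdeal qF).toRingEquiv.symm) (h q)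
    rw [hqp, hmm]

end Groth.Agent.Lib.DMod.GorFibrePrime
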