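import Groth.Agent.Lib.DMod.PointDegree

/-!
The codimension function `deg` of a dualizing complex and the vanishing range of `Hom(M, ω[i])`.
-/

universe u

open CategoryTheory Category Limits Pretriangulated

attribute [local instance] HasDerivedCategory.standard

namespace Groth.Agent.Lib.DMod.Degree

open Groth.Agent.Lib.DMod.Basic Groth.Agent.Lib.DMod.HomSupp Groth.Agent.Lib.DMod.PointDegree

variable {A : Type u} [CommRing A] [IsNoetherianRing A] {ω : Dual.D A} (hω : Dual.IsDualizing A ω)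
include hω

/-- The degree in which `Hom(A/p, ω[i])` is nonzero at `p`. -/
noncomputable def deg (p : PrimeSpectrum A) : ℤ := (exists_degree hω p).choose

theorem notMem_support_of_ne_deg (p : PrimeSpectrum A) {i : ℤ} (hi : i ≠ deg hω p) :
    p ∉ Module.support A (Dual.inD A (A ⧸ p.asIdeal) ⟶ ω⟦i⟧) :=
  (exists_degree hω p).choose_spec.1 i hi

theorem mem_support_deg (p : PrimeSpectrum A) :
    p ∈ Module.support A (Dual.inD A (A ⧸ p.asIdeal) ⟶ ω⟦deg hω p⟧) :=
  (exists_degree hω p).choose_spec.2.1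

theorem exists_generator_deg (p : PrimeSpectrum A) :
    ∃ φ : A →ₗ[A] (Dual.inD A (A ⧸ p.asIdeal) ⟶ ω⟦deg hω p⟧),
      p ∉ Module.support A
        ((Dual.inD A (A ⧸ p.asIdeal) ⟶ ω⟦deg hω p⟧) ⧸ LinearMap.range φ) :=
  (exists_degree hω p).choose_spec.2.2

theorem mem_support_iff_eq_deg (p : PrimeSpectrum A) (i : ℤ) :
    p ∈ Module.support A (Dual.inD A (A ⧸ p.asIdeal) ⟶ ω⟦i⟧) ↔ i = deg hω p :=
  ⟨fun h => by_contra fun hne => notMem_support_of_ne_deg hω p hne h,
    fun h => h ▸ mem_support_deg hω p⟩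

theorem finite_hom (M : Type u) [AddCommGroup M] [Module A M] [Module.Finite A M] (i : ℤ) :
    Module.Finite A (Dual.inD A M ⟶ ω⟦i⟧) := by
  obtain ⟨a, b, -, -, hb⟩ := exists_hom_bounds hω
  refine Devissage.finite_hom_of_bounded _ _ 0 0 (a - i) (b - i)
    (fun j hj => subsingleton_HD_inD M (by lia)) (fun j => finite_HD_inD M j) (fun j hj => ?_)
    (fun j => ?_)
  · have := hb (i + j) (by lia)
    exact (HDShift ω i j (i + j) rfl).toEquiv.subsingleton
  · have := hω.finite_cohomology (i + j)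
    exact Module.Finite.equiv (HDShift ω i j (i + j) rfl).symm

omit [IsNoetherianRing A] hω in
/-- The triangle of multiplication by `x ∉ q` on `A/q`. -/
theorem exists_quotient_triangle (q : PrimeSpectrum A) (x : A) (hx : x ∉ q.asIdeal) :
    ∃ (C : Type u) (_ : AddCommGroup C) (_ : Module A C) (_ : Module.Finite A C),
      (∀ r : PrimeSpectrum A, r ∈ Module.support A C ↔ q ≤ r ∧ x ∈ r.asIdeal) ∧
      ∀ i j : ℤ, i + 1 = j →
        ∃ c : (Dual.inD A (A ⧸ q.asIdeal) ⟶ ω⟦i⟧) →ₗ[A] (Dual.inD A C ⟶ ω⟦j⟧),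
          ∀ m, c m = 0 → ∃ m', x • m' = m := by
  refine ⟨QuotSMulTop x (A ⧸ q.asIdeal), inferInstance, inferInstance, inferInstance, fun r => ?_, ?_⟩
  · rw [Module.support_quotSMulTop, Set.mem_inter_iff, mem_support_quotient_prime]
    simp [PrimeSpectrum.mem_zeroLocus]
  intro i j hij
  let f : (A ⧸ q.asIdeal) →ₗ[A] (A ⧸ q.asIdeal) := x • LinearMap.id
  have hf : Function.Injective f := by
    rw [injective_iff_map_eq_zero]
    intro m hm
    obtain ⟨m, rfl⟩ := Ideal.Quotient.mk_surjective m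
    change Ideal.Quotient.mk q.asIdeal (x * m) = 0 at hm
    rw [Ideal.Quotient.eq_zero_iff_mem] at hm ⊢
    exact (q.isPrime.mem_or_mem hm).resolve_left hx
  let g : (A ⧸ q.asIdeal) →ₗ[A] QuotSMulTop x (A ⧸ q.asIdeal) := Submodule.mkQ _
  have hfg : Function.Exact f g := fun m => by
    change Submodule.Quotient.mk m = 0 ↔ _
    rw [Submodule.Quotient.mk_eq_zero, Submodule.mem_smul_pointwise_iff_exists]
    simp [f]
  let S : ShortComplex (ModuleCat.{u} A) :=
    ShortComplex.mk (ModuleCat.ofHom f) (ModuleCat.ofHom g)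
      (ModuleCat.hom_ext hfg.linearMap_comp_eq_zero)
  have hS : S.ShortExact :=
    { exact := (ShortComplex.ShortExact.moduleCat_exact_iff_function_exact S).2 hfg
      mono_f := (ModuleCat.mono_iff_injective _).2 hf
      epi_g := (ModuleCat.epi_iff_surjective _).2 (Submodule.mkQ_surjective _) }
  refine ⟨conn hS.singleTriangle ω i j hij, fun m hm => ?_⟩
  obtain ⟨m', hm'⟩ := (exact_leftComp_conn hS.singleTriangle_distinguished ω i j hij m).1 hm
  refine ⟨m', ?_⟩
  rw [← hm']
  change x • m' =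
    (DerivedCategory.singleFunctor (ModuleCat.{u} A) 0).map (ModuleCat.ofHom f) ≫ m'
  rw [show ModuleCat.ofHom f = x • 𝟙 (ModuleCat.of A (A ⧸ q.asIdeal)) from rfl,
    CategoryTheory.Functor.map_smul, CategoryTheory.Functor.map_id]
  exact ((Linear.smul_comp _ _ _ x _ m').trans (congrArg (x • ·) (Category.id_comp m'))).symm

omit [IsNoetherianRing A] hω in
theorem exists_mem_notMem {q p : PrimeSpectrum A} (h : q < p) : ∃ x ∈ p.asIdeal, x ∉ q.asIdeal :=
  SetLike.exists_of_lt ((PrimeSpectrum.asIdeal_lt_asIdeal q p).2 h)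

/-- The degree increases by one at an immediate specialization. -/
theorem deg_eq_add_one {q p : PrimeSpectrum A} {x : A} (hqp : q ≤ p) (hxp : x ∈ p.asIdeal)
    (hxq : x ∉ q.asIdeal) (hmin : ∀ r : PrimeSpectrum A, r ≤ p → q ≤ r → x ∈ r.asIdeal → r = p) :
    deg hω p = deg hω q + 1 := by
  obtain ⟨C, _, _, _, hC, hseq⟩ := exists_quotient_triangle (ω := ω) q x hxq
  by_contra hne
  obtain ⟨c, hc⟩ := hseq (deg hω q) (deg hω q + 1) rfl
  have := finite_hom hω (A ⧸ q.asIdeal) (deg hω q)
  refine notMem_support_of_smul_exact hxp hc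
    (notMem_support_hom_of_primes p _ C fun r hr hrC => ?_)
    (Module.mem_support_mono hqp (mem_support_deg hω q))
  obtain rfl := hmin r hr ((hC r).1 hrC).1 ((hC r).1 hrC).2
  exact notMem_support_of_ne_deg hω r (Ne.symm hne)

theorem deg_lt {q p : PrimeSpectrum A} (h : q < p) : deg hω q < deg hω p := by
  suffices key : ∀ (I : Ideal A) (q : PrimeSpectrum A), q.asIdeal = I → q < p →
      deg hω q < deg hω p from key _ q rfl h
  intro I
  induction I using WellFoundedGT.induction with
  | _ I ih =>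
    intro q hqI hqp
    obtain ⟨x, hxp, hxq⟩ := exists_mem_notMem hqp
    obtain ⟨r, ⟨hr, hrle⟩⟩ := Ideal.exists_minimalPrimes_le (I := q.asIdeal ⊔ Ideal.span {x})
      (J := p.asIdeal) (sup_le hqp.le ((Ideal.span_singleton_le_iff_mem _).2 hxp))
    let r' : PrimeSpectrum A := ⟨r, hr.1.1⟩
    have hqr : q ≤ r' := show q.asIdeal ≤ r from le_trans le_sup_left hr.1.2
    have hxr : x ∈ r := (Ideal.span_singleton_le_iff_mem _).1 (le_trans le_sup_right hr.1.2)
    have hstep : deg hω r' = deg hω q + 1 :=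
      deg_eq_add_one hω hqr hxr hxq fun s hs hqs hxs =>
        PrimeSpectrum.ext (le_antisymm hs (hr.2 ⟨s.isPrime,
          sup_le hqs ((Ideal.span_singleton_le_iff_mem _).2 hxs)⟩ hs))
    rcases (show r' ≤ p from hrle).eq_or_lt with h | h
    · subst h
      lia
    · have hlt : r > I := by
        subst hqI
        exact lt_of_le_of_ne hqr fun he => hxq (he ▸ hxr)
      have := ih r hlt r' rfl h
      lia

theorem deg_le {q p : PrimeSpectrum A} (h : q ≤ p) : deg hω q ≤ deg hω p := by
  rcases h.eq_or_lt with h | h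
  · rw [h]
  · exact (deg_lt hω h).le

/-- Outside `[deg q, deg p]` the module `Hom(A/q, ω[i])` vanishes at `p`. -/
theorem notMem_support_quotient_of_outside (p q : PrimeSpectrum A) (hqp : q ≤ p) (i : ℤ)
    (hi : i < deg hω q ∨ deg hω p < i) :
    p ∉ Module.support A (Dual.inD A (A ⧸ q.asIdeal) ⟶ ω⟦i⟧) := by
  suffices key : ∀ (I : Ideal A) (q : PrimeSpectrum A), q.asIdeal = I → q ≤ p → ∀ i : ℤ,
      (i < deg hω q ∨ deg hω p < i) →
        p ∉ Module.support A (Dual.inD A (A ⧸ q.asIdeal) ⟶ ω⟦i⟧) from key _ q rfl hqp i hi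
  intro I
  induction I using WellFoundedGT.induction with
  | _ I ih =>
    intro q hqI hqp i hi
    subst hqI
    rcases hqp.eq_or_lt with h | h
    · subst h
      exact notMem_support_of_ne_deg hω q (by lia)
    · obtain ⟨x, hxp, hxq⟩ := exists_mem_notMem h
      obtain ⟨C, _, _, _, hC, hseq⟩ := exists_quotient_triangle (ω := ω) q x hxq
      obtain ⟨c, hc⟩ := hseq i (i + 1) rfl
      have := finite_hom hω (A ⧸ q.asIdeal) i
      refine notMem_support_of_smul_exact hxp hc (notMem_support_hom_of_primes p _ C fun r hr hrC => ?_)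
      obtain ⟨hqr, hxr⟩ := (hC r).1 hrC
      have hlt : q < r := lt_of_le_of_ne hqr fun he => hxq (he ▸ hxr)
      refine ih r.asIdeal ((PrimeSpectrum.asIdeal_lt_asIdeal q r).2 hlt) r rfl hr (i + 1) ?_
      have := deg_lt hω hlt
      lia

/-- The vanishing range of `Hom(M, ω[i])` at a prime. -/
theorem notMem_support_hom_of_outside (p : PrimeSpectrum A) (M : Type u) [AddCommGroup M]
    [Module A M] [Module.Finite A M] (i : ℤ)
    (hi : deg hω p < i ∨ ∀ q : PrimeSpectrum A, q ≤ p → q ∈ Module.support A M → i < deg hω q) :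
    p ∉ Module.support A (Dual.inD A M ⟶ ω⟦i⟧) :=
  notMem_support_hom_of_primes p _ M fun q hq hqM =>
    notMem_support_quotient_of_outside hω p q hq i (hi.elim Or.inr fun h => Or.inl (h q hq hqM))

/-- At a minimal prime of the support `Hom(M, ω[deg])` is nonzero. -/
theorem mem_support_hom_of_isolated (p : PrimeSpectrum A) (M : Type u) [AddCommGroup M] [Module A M]
    [Module.Finite A M] (hp : p ∈ Module.support A M)
    (hiso : ∀ q : PrimeSpectrum A, q ≤ p → q ∈ Module.support A M → q = p) :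
    p ∈ Module.support A (Dual.inD A M ⟶ ω⟦deg hω p⟧) := by
  obtain ⟨ι, hι⟩ := exists_injective_of_isolated p M hp hiso
  obtain ⟨V, hV, eV₁, eV₂, eV₃⟩ := exists_triangle_of_shortExact ι (LinearMap.range ι).mkQ hι
    (Submodule.mkQ_surjective _) (LinearMap.exact_map_mkQ_range ι)
  by_contra hc
  have hc' : p ∉ Module.support A (V.obj₂ ⟶ ω⟦deg hω p⟧) := by rw [eV₂]; exact hc
  have hC : p ∉ Module.support A (V.obj₃ ⟶ ω⟦deg hω p + 1⟧) := by
    rw [eV₃]
    exact notMem_support_hom_of_outside hω p _ _ (Or.inl (by lia))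
  refine notMem_support_equiv (Linear.homCongr A (eqToIso eV₁) (Iso.refl _)) ?_ (mem_support_deg hω p)
  exact notMem_support_of_exact (exact_leftComp_conn hV ω (deg hω p) (deg hω p + 1) rfl) hc' hC

/-- The lowest nonvanishing degree: the least degree of a prime of the support. -/
theorem mem_support_hom_of_minimal_deg (p q : PrimeSpectrum A) (hqp : q ≤ p) (M : Type u)
    [AddCommGroup M] [Module A M] [Module.Finite A M] (hq : q ∈ Module.support A M)
    (hmin : ∀ r : PrimeSpectrum A, r ≤ p → r ∈ Module.support A M → deg hω q ≤ deg hω r) :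
    p ∈ Module.support A (Dual.inD A M ⟶ ω⟦deg hω q⟧) := by
  refine Module.mem_support_mono hqp (mem_support_hom_of_isolated hω q M hq fun r hr hrM => ?_)
  by_contra hne
  exact absurd (hmin r (le_trans hr hqp) hrM) (not_le.2 (deg_lt hω (lt_of_le_of_ne hr hne)))

/-- The degrees of the generizations of `p` are bounded below. -/
theorem exists_le_deg : ∃ a b : ℤ, ∀ q : PrimeSpectrum A, a ≤ deg hω q ∧ deg hω q ≤ b := by
  obtain ⟨a, b, -, h, -⟩ := exists_hom_bounds hω
  refine ⟨a, b, fun q => ?_⟩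
  by_contra hc
  have := h (A ⧸ q.asIdeal) (deg hω q) (by lia)
  exact absurd (mem_support_deg hω q) (by simp [Module.support_eq_empty])

end Groth.Agent.Lib.DMod.Degree
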