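import Groth.Agent.Lib.DMod.OrdinaryOff
import Groth.Agent.Lib.Goren.Global

/-!
A Noetherian ring of finite injective dimension is dualizing for itself; translates of dualizing
complexes are dualizing.
-/

universe u

open CategoryTheory Category Limits Pretriangulated

attribute [local instance] HasDerivedCategory.standard

namespace Groth.Agent.Lib.DMod.Gorenstein

open Groth.Agent.Lib.DMod Groth.Agent.Lib.DMod.Basic

variable {A : Type u} [CommRing A]

/-- `End(A[0]) = A`. -/
noncomputable def endUnitEquiv : (Dual.inD A A ⟶ Dual.inD A A) ≃ₗ[A] A :=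
  (homUnitEquiv (Dual.inD A A)).trans (HDinD A)

theorem endUnitEquiv_id : endUnitEquiv (A := A) (𝟙 _) = 1 := by
  show HDinD A (mapHD (𝟙 (Dual.inD A A)) 0 ((HDinD (A := A) A).symm 1)) = 1
  rw [show mapHD (𝟙 (Dual.inD A A)) 0 ((HDinD (A := A) A).symm 1) = (HDinD (A := A) A).symm 1 from by
    simp only [mapHD]; erw [CategoryTheory.Functor.map_id]; rfl]
  exact LinearEquiv.apply_symm_apply _ _

theorem toEnd_bijective_unit : Function.Bijective (fun a : A => a • 𝟙 (Dual.inD A A)) := by
  have : (fun a : A => a • 𝟙 (Dual.inD A A)) = (endUnitEquiv (A := A)).symm := funext fun a => by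
    rw [LinearEquiv.eq_symm_apply, map_smul, endUnitEquiv_id, smul_eq_mul, mul_one]
  rw [this]
  exact LinearEquiv.bijective _

theorem subsingleton_ext_unit {i : ℤ} (hi : i ≠ 0) :
    Subsingleton (Dual.inD A A ⟶ (Dual.inD A A)⟦i⟧) :=
  have := subsingleton_HD_inD (A := A) A hi
  (homUnitShiftEquiv (Dual.inD A A) i).toEquiv.subsingleton

/-- `A[0]` is dualizing when `A` has finite injective dimension over itself. -/
theorem isDualizing_self [IsNoetherianRing A] {n : ℕ}
    (h : HasInjectiveDimensionLT (ModuleCat.of A A) n) : Dual.IsDualizing A (Dual.inD A A) where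
  isNoetherianRing := inferInstance
  finite_injective_dimension := by
    refine ⟨0, n, fun M _ _ i hi => ?_⟩
    rcases hi with hi | hi
    · exact subsingleton_hom_inD_neg M A hi
    · obtain ⟨j, rfl⟩ := Int.eq_ofNat_of_zero_le (show 0 ≤ i by lia)
      have : Subsingleton (Abelian.Ext.{u} (ModuleCat.of A M) (ModuleCat.of A A) j) :=
        HasInjectiveDimensionLT.subsingleton (ModuleCat.of A A) n j (by lia) _
      exact (extEquiv M A j).symm.toEquiv.subsingleton
  finite_cohomology i := finite_HD_inD A i
  toEnd_bijective := toEnd_bijective_unit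
  ext_self_subsingleton _ hi := subsingleton_ext_unit hi

/-- A translate of a dualizing complex is dualizing. -/
theorem isDualizing_shift {ω : Dual.D A} (hω : Dual.IsDualizing A ω) (n : ℤ) :
    Dual.IsDualizing A (ω⟦n⟧) where
  isNoetherianRing := hω.isNoetherianRing
  finite_injective_dimension := by
    obtain ⟨a, b, hab⟩ := hω.finite_injective_dimension
    refine ⟨a - n, b - n, fun M _ _ i hi => ?_⟩
    have := hab M (n + i) (by lia)
    exact (Linear.homCongr A (Iso.refl _)
      ((shiftFunctorAdd (Dual.D A) n i).app ω)).symm.toEquiv.subsingleton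
  finite_cohomology i := have := hω.finite_cohomology (n + i)
    Module.Finite.equiv (HDShift ω n i (n + i) rfl).symm
  toEnd_bijective := by
    have : (fun a : A => a • 𝟙 (ω⟦n⟧)) = homShiftEquiv ω ω n ∘ fun a : A => a • 𝟙 ω := funext fun a => by
      rw [Function.comp_apply, map_smul]
      exact congrArg (a • ·) (CategoryTheory.Functor.map_id _ _).symm
    rw [this]
    exact (LinearEquiv.bijective _).comp hω.toEnd_bijective
  ext_self_subsingleton i hi := by
    have := hω.ext_self_subsingleton i hi
    exact ((Linear.homCongr A (Iso.refl _) ((shiftFunctorAdd' (Dual.D A) n i (i + n) (by lia)).app ω)).symm.trans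
      (homShiftAdj ω ω n (i + n) i (by lia))).toEquiv.subsingleton

/-- A Gorenstein local ring of dimension `n`: `A[n]` is a normalized dualizing complex. -/
theorem isDualizing_gorenstein_local [LocCoh.IsGorensteinLocalRing A] (n : ℕ)
    (hd : ringKrullDim A = n) :
    Dual.IsDualizing A ((Dual.inD A A)⟦(n : ℤ)⟧) ∧ Dual.IsNormalized A ((Dual.inD A A)⟦(n : ℤ)⟧) := by
  obtain ⟨k, hk⟩ := LocCoh.IsGorensteinLocalRing.exists_hasInjectiveDimensionLT (A := A)
  have hω := isDualizing_self hk
  refine ⟨isDualizing_shift hω n, OrdinaryOff.isNormalized hω (⊤ : Ideal A) (by simp) ?_ n hd⟩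
  intro p _ i hi
  have := subsingleton_HD_inD (A := A) A hi
  simp [Module.support_eq_empty]

/-- `Hom(M, A[n][i]) = Ext^{n+i}(M, A)`. -/
noncomputable def shiftExtEquiv (M : Type u) [AddCommGroup M] [Module A M] (n i : ℤ) (j : ℕ)
    (h : n + i = j) :
    Abelian.Ext.{u} (ModuleCat.of A M) (ModuleCat.of A A) j ≃ₗ[A]
      (Dual.inD A M ⟶ ((Dual.inD A A)⟦n⟧)⟦i⟧) :=
  (extEquiv M A j).trans (Linear.homCongr A (Iso.refl _)
    ((shiftFunctorAdd' (Dual.D A) n i (j : ℤ) h).app _))

end Groth.Agent.Lib.DMod.Gorenstein
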