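import Groth.Agent.Lib.DMod.FlatDualizing
import Groth.Agent.Lib.DR.Descent
import Mathlib.RingTheory.Localization.AtPrime.Basic
import Mathlib.RingTheory.RingHom.Flat

/-!
Dualizing complexes and the derived base change functor along flat ring maps.
-/

universe u

open CategoryTheory CategoryTheory.Limits Pretriangulated TensorProduct
open Groth.Agent.Lib.DMod.Basic Groth.Agent.Lib.DMod.Conservative Groth.Agent.Lib.DMod.FlatHom
open Groth.Agent.Lib.DMod.FlatDualizing

attribute [local instance] HasDerivedCategory.standard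

namespace Groth.Agent.Lib.DMod.LBC

variable {A : Type u} [CommRing A]

theorem isDualizing_of_iso {ω ω' : Dual.D A} (e : ω ≅ ω') (h : Dual.IsDualizing A ω) :
    Dual.IsDualizing A ω' where
  isNoetherianRing := h.isNoetherianRing
  finite_injective_dimension := by
    obtain ⟨a, b, hab⟩ := h.finite_injective_dimension
    exact ⟨a, b, fun M _ _ i hi => have := hab M i hi
      (Iso.homCongr (Iso.refl _) ((shiftFunctor (Dual.D A) i).mapIso e.symm)).subsingleton⟩
  finite_cohomology i := by
    have := h.finite_cohomology i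
    exact Module.Finite.equiv (HDCongr e i)
  toEnd_bijective := by
    refine bij_congr ((Linear.homCongr A e e).bijective.comp h.toEnd_bijective) fun a => ?_
    simp [Linear.homCongr_apply]
  ext_self_subsingleton i hi := by
    have := h.ext_self_subsingleton i hi
    exact (Iso.homCongr e.symm ((shiftFunctor (Dual.D A) i).mapIso e.symm)).subsingleton

theorem isNormalized_of_iso [IsLocalRing A] {ω ω' : Dual.D A} (e : ω ≅ ω')
    (h : Dual.IsNormalized A ω) : Dual.IsNormalized A ω' := fun i hi =>
  have := h i hi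
  (Iso.homCongr (Iso.refl _) ((shiftFunctor (Dual.D A) i).mapIso e.symm)).subsingleton

variable {B : Type u} [CommRing B] [Algebra A B] [Module.Flat A B]
  [DRing.HasLBaseChange (algebraMap A B)]

theorem isDualizing_of [IsNoetherianRing A] [IsNoetherianRing B] {ω : Dual.D A}
    (hω : Dual.IsDualizing A ω)
    (hfid : ∃ a b : ℤ, ∀ (M : Type u) [AddCommGroup M] [Module B M] (i : ℤ),
      (i < a ∨ b < i) → Subsingleton (Dual.inD B M ⟶ ((L A B).obj ω)⟦i⟧)) :
    Dual.IsDualizing B ((DRing.LBaseChange (algebraMap A B)).obj ω) :=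
  isDualizing_of_iso ((isoLBaseChange A B).app ω).symm (isDualizing_L B hω hfid)

theorem isDualizing_of_extended [IsNoetherianRing A] [IsNoetherianRing B] {ω : Dual.D A}
    (hω : Dual.IsDualizing A ω) (hext : ∀ J : Ideal B, ∃ I : Ideal A, I.map (algebraMap A B) = J) :
    Dual.IsDualizing B ((DRing.LBaseChange (algebraMap A B)).obj ω) :=
  isDualizing_of hω
    (fid_L_of_extended B (bddFin_of_dualizing hω) hω.finite_injective_dimension hext)

theorem isDualizing_of_maximal [IsNoetherianRing A] [IsNoetherianRing B] {ω : Dual.D A}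
    (hω : Dual.IsDualizing A ω)
    (hext : ∀ P : Ideal B, P.IsMaximal → ∃ I : Ideal A, I.map (algebraMap A B) = P) :
    Dual.IsDualizing B ((DRing.LBaseChange (algebraMap A B)).obj ω) :=
  isDualizing_of hω
    (fid_L_of_maximal B (bddFin_of_dualizing hω) hω.finite_injective_dimension hext)

theorem isDualizing_of_unramified [IsNoetherianRing A] [IsNoetherianRing B] [IsLocalRing A]
    [IsLocalRing B] (hm : (IsLocalRing.maximalIdeal A).map (algebraMap A B) =
      IsLocalRing.maximalIdeal B) {ω : Dual.D A} (hω : Dual.IsDualizing A ω) :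
    Dual.IsDualizing B ((DRing.LBaseChange (algebraMap A B)).obj ω) :=
  isDualizing_of_maximal hω fun P hP =>
    ⟨IsLocalRing.maximalIdeal A, hm.trans (IsLocalRing.eq_maximalIdeal hP).symm⟩

theorem isNormalized_of_unramified [IsNoetherianRing A] [IsLocalRing A] [IsLocalRing B]
    (hm : (IsLocalRing.maximalIdeal A).map (algebraMap A B) = IsLocalRing.maximalIdeal B)
    {ω : Dual.D A} (hω : BddFin ω) (hn : Dual.IsNormalized A ω) :
    Dual.IsNormalized B ((DRing.LBaseChange (algebraMap A B)).obj ω) := by
  refine isNormalized_of_iso ((isoLBaseChange A B).app ω).symm fun i hi => ?_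
  have := vanish_quot B hω (IsLocalRing.maximalIdeal A) i (hn i hi)
  rw [hm] at this
  exact this

omit [Module.Flat A B] [DRing.HasLBaseChange (algebraMap A B)] in
/-- All ideals of a localization are extended. -/
theorem extended_localization (S : Submonoid A) [IsLocalization S B] (J : Ideal B) :
    ∃ I : Ideal A, I.map (algebraMap A B) = J :=
  ⟨J.comap (algebraMap A B), IsLocalization.map_comap S B J⟩

omit [Module.Flat A B] [DRing.HasLBaseChange (algebraMap A B)] in
/-- Maximal ideals are extended when `A → B/IB` is surjective and `IB` lies in the radical. -/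
theorem extended_of_surjective_mod (I : Ideal A)
    (hs : Function.Surjective ((Ideal.Quotient.mk (I.map (algebraMap A B))).comp (algebraMap A B)))
    (hJ : I.map (algebraMap A B) ≤ (⊥ : Ideal B).jacobson) (P : Ideal B) (hP : P.IsMaximal) :
    ∃ J : Ideal A, J.map (algebraMap A B) = P := by
  have hIP : I.map (algebraMap A B) ≤ P := hJ.trans (sInf_le ⟨bot_le, hP⟩)
  refine ⟨P.comap (algebraMap A B), le_antisymm Ideal.map_comap_le fun x hx => ?_⟩
  obtain ⟨a, ha⟩ := hs (Ideal.Quotient.mk _ x)
  have hd : x - algebraMap A B a ∈ I.map (algebraMap A B) := Ideal.Quotient.eq.1 ha.symm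
  have haP : algebraMap A B a ∈ P := by
    have := sub_mem hx (hIP hd)
    rwa [sub_sub_cancel] at this
  have h1 : I.map (algebraMap A B) ≤ (P.comap (algebraMap A B)).map (algebraMap A B) :=
    Ideal.map_mono (Ideal.map_le_iff_le_comap.1 hIP)
  have := add_mem (h1 hd) (Ideal.mem_map_of_mem (algebraMap A B) (Ideal.mem_comap.2 haP))
  rwa [sub_add_cancel] at this

section Families

omit [Module.Flat A B] [DRing.HasLBaseChange (algebraMap A B)]

variable {ι : Type*} {C : ι → Type u} [∀ i, CommRing (C i)] [∀ i, Algebra A (C i)]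

theorem detects_primes (p : ι → Ideal A) [∀ i, (p i).IsPrime]
    (hp : ∀ m : Ideal A, m.IsMaximal → ∃ i, p i = m) :
    Detects (A := A) (fun i => Localization.AtPrime (p i)) := by
  intro M _ _ h
  refine subsingleton_of_forall_eq 0 fun x => ?_
  by_contra hx
  obtain ⟨m, hm, hle⟩ := Ideal.exists_le_maximal (LinearMap.ker (LinearMap.toSpanSingleton A M x))
    (fun hc => hx (by
      have h1 : (1 : A) ∈ LinearMap.ker (LinearMap.toSpanSingleton A M x) := by rw [hc]; trivial
      simpa using h1))
  obtain ⟨i, rfl⟩ := hp m hm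
  have := h i
  have h0 : TensorProduct.mk A (Localization.AtPrime (p i)) M 1 x = 0 := Subsingleton.elim _ _
  obtain ⟨⟨s, hs'⟩, hs⟩ := (IsLocalizedModule.eq_zero_iff (p i).primeCompl
    (TensorProduct.mk A (Localization.AtPrime (p i)) M 1)).1 h0
  exact hs' (hle hs)

theorem detects_away {n : ℕ} (f : Fin n → A) (hf : Ideal.span (Set.range f) = ⊤) :
    Detects (A := A) (fun i => Localization.Away (f i)) := by
  intro M _ _ h
  refine subsingleton_of_forall_eq 0 fun m => ?_
  have key : ∀ i, ∃ k : ℕ, f i ^ k • m = 0 := fun i => by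
    have := h i
    have h0 : TensorProduct.mk A (Localization.Away (f i)) M 1 m = 0 := Subsingleton.elim _ _
    obtain ⟨⟨s, k, rfl⟩, hs⟩ := (IsLocalizedModule.eq_zero_iff (Submonoid.powers (f i))
      (TensorProduct.mk A (Localization.Away (f i)) M 1)).1 h0
    exact ⟨k, hs⟩
  choose k hk using key
  have hsp : Ideal.span (Set.range fun i => f i ^ k i) = ⊤ := by
    rw [← Ideal.radical_eq_top, eq_top_iff, ← hf, Ideal.span_le]
    rintro - ⟨i, rfl⟩
    exact ⟨k i, Ideal.subset_span ⟨i, rfl⟩⟩
  let J : Ideal A := LinearMap.ker (LinearMap.toSpanSingleton A M m)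
  have hJ : J = ⊤ := top_le_iff.1 (hsp ▸ Ideal.span_le.2 (by
    rintro - ⟨i, rfl⟩
    exact hk i))
  simpa [J] using (show (1 : A) ∈ J from hJ ▸ Submodule.mem_top)

variable [∀ i, Module.Flat A (C i)] [∀ i, DRing.HasLBaseChange (algebraMap A (C i))]

/-- Dualizing descends from a detecting family. -/
theorem isDualizing_descent' [IsNoetherianRing A] (hC : Detects (A := A) C) {ω : Dual.D A}
    (hω : BddFin ω)
    (hfid : ∃ a b : ℤ, ∀ (M : Type u) [AddCommGroup M] [Module A M] (i : ℤ),
      (i < a ∨ b < i) → Subsingleton (Dual.inD A M ⟶ ω⟦i⟧))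
    (h : ∀ i, Dual.IsDualizing (C i) ((DRing.LBaseChange (algebraMap A (C i))).obj ω)) :
    Dual.IsDualizing A ω :=
  isDualizing_descent hC hω hfid fun i =>
    isDualizing_of_iso ((isoLBaseChange A (C i)).app ω) (h i)

/-- Dualizing descends from a finite detecting family. -/
theorem isDualizing_descent_finite [IsNoetherianRing A] {κ : Type} [Finite κ] {C : κ → Type u}
    [∀ i, CommRing (C i)] [∀ i, Algebra A (C i)] [∀ i, Module.Flat A (C i)]
    [∀ i, DRing.HasLBaseChange (algebraMap A (C i))] (hC : Detects (A := A) C)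
    (hC' : DR.Descent.Detects (A := A) C) {ω : Dual.D A}
    (h : ∀ i, Dual.IsDualizing (C i) ((DRing.LBaseChange (algebraMap A (C i))).obj ω)) :
    Dual.IsDualizing A ω := by
  have h' : ∀ i, Dual.IsDualizing (C i) ((L A (C i)).obj ω) := fun i =>
    isDualizing_of_iso ((isoLBaseChange A (C i)).app ω) (h i)
  choose a b hab using fun i => (h' i).finite_injective_dimension
  obtain ⟨a', ha'⟩ := (Set.finite_range a).bddBelow
  obtain ⟨b', hb'⟩ := (Set.finite_range b).bddAbove
  have hab' : ∀ i (M : Type u) [AddCommGroup M] [Module (C i) M] (n : ℤ), (n < a' ∨ b' < n) →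
      Subsingleton (Dual.inD (C i) M ⟶ ((L A (C i)).obj ω)⟦n⟧) := fun i M _ _ n hn =>
    hab i M n (by
      have := ha' ⟨i, rfl⟩
      have := hb' ⟨i, rfl⟩
      lia)
  have hω : BddFin ω := by
    refine ⟨fun n => DR.Descent.finite_of_detects hC' _ fun i => ?_, a', b', fun n hn =>
      hC' _ fun i => ?_⟩
    · have := (h' i).finite_cohomology n
      exact Module.Finite.equiv (HDL (C i) ω n).symm
    · have := hab' i (C i) n hn
      have : Subsingleton (Dual.HD (C i) ((L A (C i)).obj ω) n) :=
        (homUnitShiftEquiv _ n).symm.toEquiv.subsingleton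
      exact (HDL (C i) ω n).toEquiv.subsingleton
  exact isDualizing_descent hC hω ⟨a', b', fid_descent hC hω a' b' hab'⟩ h'

end Families

end Groth.Agent.Lib.DMod.LBC
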