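import Groth.Agent.Lib.DMod.Pairing
import Groth.Agent.Lib.LocalCoh.Basic
import Groth.Prelude.Def_DualLC

/-!
Local duality over a Noetherian local ring with a normalized dualizing complex.
-/

universe u

open CategoryTheory Category Limits Pretriangulated Opposite

attribute [local instance] HasDerivedCategory.standard

namespace Groth.Agent.Lib.DMod.LocalDuality

open Groth.Agent.Lib.DMod Groth.Agent.Lib.DMod.Basic Groth.Agent.Lib.DMod.Sys
open Groth.Agent.Lib.DMod.Pairing Groth.Agent.Lib.LocalCoh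

variable {A : Type u} [CommRing A] [IsLocalRing A]

local notation "𝔪" => IsLocalRing.maximalIdeal A

variable {ω : Dual.D A} {E : Type u} [AddCommGroup E] [Module A E] (t : Trace ω E)

/-- The pairing map at level `n`. -/
noncomputable def pairX (X : Dual.D A) (n : ℕ) : (QD A n ⟶ X) →ₗ[A] ((X ⟶ ω) →ₗ[A] E) where
  toFun g := t.τ n ∘ₗ Linear.leftComp A ω g
  map_add' g g' := LinearMap.ext fun h => by simp
  map_smul' a g := LinearMap.ext fun h => by simp

theorem pairX_proj (X : Dual.D A) {n n' : ℕ} (h : n ≤ n') (g : QD A n ⟶ X) :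
    pairX t X n' (proj h ≫ g) = pairX t X n g := LinearMap.ext fun k => by
  show t.τ n' ((proj h ≫ g) ≫ k) = t.τ n (g ≫ k)
  rw [Category.assoc, t.compat]

/-- The system computing `Dual2.HDI`. -/
noncomputable abbrev sys (K : Dual.D A) (i : ℤ) : ℕᵒᵖᵒᵖ ⥤ ModuleCat.{u + 1} A :=
  (localCohomology.ringModIdeals (localCohomology.idealPowersDiagram 𝔪) ⋙
    DerivedCategory.singleFunctor (ModuleCat.{u} A) 0).op ⋙ (linearYoneda A (Dual.D A)).obj (K⟦i⟧)

/-- The pairing on `HDI`. -/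
noncomputable def pairCocone (K : Dual.D A) (i : ℤ) : Cocone (sys K i) where
  pt := ModuleCat.of A ((K⟦i⟧ ⟶ ω) →ₗ[A] E)
  ι :=
    { app := fun k => ModuleCat.ofHom (pairX t (K⟦i⟧) k.unop.unop)
      naturality := fun k k' g => by
        refine ModuleCat.hom_ext (LinearMap.ext fun x => ?_)
        exact pairX_proj t (K⟦i⟧) (leOfHom g.unop.unop) x }

/-- The map `HDI → Hom(Hom(K[i], ω), E)`. -/
noncomputable def hdiMap (K : Dual.D A) (i : ℤ) :
    Dual2.HDI A 𝔪 K i ⟶ ModuleCat.of A ((K⟦i⟧ ⟶ ω) →ₗ[A] E) :=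
  colimit.desc (sys K i) (pairCocone t K i)

theorem hdiMap_ι (K : Dual.D A) (i : ℤ) (k : ℕᵒᵖᵒᵖ) (x : (sys K i).obj k) :
    (hdiMap t K i).hom ((colimit.ι (sys K i) k).hom x) = pairX t (K⟦i⟧) k.unop.unop x :=
  ConcreteCategory.congr_hom (colimit.ι_desc (pairCocone t K i) k) x

instance forget_preservesColimits_natOpOp :
    PreservesColimitsOfShape ℕᵒᵖᵒᵖ (forget (ModuleCat.{u + 1} A)) := by
  have : PreservesFilteredColimitsOfSize.{0, 0} (forget AddCommGrpCat.{u + 1}) :=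
    preservesFilteredColimitsOfSize_shrink.{0, u + 1, 0, u + 1} _
  have : PreservesColimitsOfShape ℕᵒᵖᵒᵖ (forget AddCommGrpCat.{u + 1}) :=
    PreservesFilteredColimitsOfSize.preserves_filtered_colimits ℕᵒᵖᵒᵖ
  exact comp_preservesColimitsOfShape (forget₂ (ModuleCat.{u + 1} A) AddCommGrpCat.{u + 1})
    (forget AddCommGrpCat.{u + 1})

theorem hdiMap_bijective (K : Dual.D A) (i : ℤ) (h : Inj t (K⟦i⟧) ∧ Surj t (K⟦i⟧)) :
    Function.Bijective (hdiMap t K i).hom := by
  constructor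
  · rw [injective_iff_map_eq_zero]
    intro y hy
    obtain ⟨k, x, rfl⟩ := Concrete.colimit_exists_rep (sys K i) y
    rw [hdiMap_ι] at hy
    obtain ⟨N, hN, h0⟩ := h.1 k.unop.unop x (fun l => LinearMap.congr_fun hy l)
    have hw := ConcreteCategory.congr_hom
      (colimit.w (sys K i) (show k ⟶ op (op N) from (homOfLE hN).op.op)) x
    refine hw.symm.trans ?_
    refine (congrArg (colimit.ι (sys K i) (op (op N))).hom ?_).trans (map_zero _)
    exact h0
  · intro φ
    obtain ⟨n, g, hg⟩ := h.2 φ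
    refine ⟨(colimit.ι (sys K i) (op (op n))).hom g, ?_⟩
    have h1 : pairX t (K⟦i⟧) n g = φ := LinearMap.ext fun l => hg l
    exact (hdiMap_ι t K i (op (op n)) g).trans h1

/-- `Hom(X[i], ω) = Hom(X, ω[-i])`. -/
noncomputable def shiftDualEquiv (X : Dual.D A) (i : ℤ) :
    (X⟦i⟧ ⟶ ω) ≃ₗ[A] (X ⟶ ω⟦(-i)⟧) :=
  (Linear.homCongr A (Iso.refl _) ((shiftFunctorZero (Dual.D A) ℤ).app ω).symm).trans
    (homShiftAdj X ω i 0 (-i) (by lia))

variable [IsNoetherianRing A] (hω : Dual.IsDualizing A ω) (hn : Dual.IsNormalized A ω)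
  {f : IsLocalRing.ResidueField A →ₗ[A] E} (hf : InjHull.IsInjectiveHull f)
include hω hn hf

/-- `H^i_m(K) = Hom(Hom(K, ω[-i]), E)` for bounded `K` with finite cohomology. -/
theorem nonempty_hdi_equiv (K : Dual.D A) (hfin : ∀ j, Module.Finite A (Dual.HD A K j)) (a b : ℤ)
    (hab : ∀ j, j < a ∨ b < j → Subsingleton (Dual.HD A K j)) (i : ℤ) :
    Nonempty (Dual2.HDI A 𝔪 K i ≃ₗ[A] ((K ⟶ ω⟦(-i)⟧) →ₗ[A] E)) := by
  obtain ⟨t⟩ := exists_trace hω hn hf
  have hbij := hdiMap_bijective t K i (good_of_bounded t hω hn hf K hfin a b hab i)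
  exact ⟨(LinearEquiv.ofBijective _ hbij).trans
    (LinearEquiv.congrLeft E A (shiftDualEquiv K i))⟩

omit hω hn hf in
/-- The comparison `Ext^i(A/m^n, M) → Hom(A/m^n, M[i])` commutes with projections. -/
theorem extEquiv_proj (M : Type u) [AddCommGroup M] [Module A M] (i : ℕ) {n n' : ℕ} (h : n ≤ n')
    (α : Abelian.Ext.{u} (ModuleCat.of A (Q A n)) (ModuleCat.of A M) i) :
    extEquiv (Q A n') M i ((Abelian.Ext.mk₀ (ModuleCat.ofHom
        (Submodule.factor (Ideal.pow_le_pow_right h)))).comp α (zero_add i)) =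
      proj h ≫ extEquiv (Q A n) M i α := by
  show ((Abelian.Ext.mk₀ _).comp α (zero_add i)).hom = _
  rw [Abelian.Ext.comp_hom, Abelian.Ext.mk₀_hom, ShiftedHom.mk₀_comp]
  rfl

/-- `H^i_m(M) = Hom(Hom(M, ω[-i]), E)`. -/
theorem nonempty_lc_equiv (M : Type u) [AddCommGroup M] [Module A M] [Module.Finite A M] (i : ℕ) :
    Nonempty (LocCoh.H 𝔪 i M ≃ₗ[A] ((Dual.inD A M ⟶ ω⟦(-(i : ℤ))⟧) →ₗ[A] E)) := by
  obtain ⟨t⟩ := exists_trace hω hn hf
  have hgood := good_inD t hω hn hf M (i : ℤ)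
  let F := (Dual.inD A M)⟦(i : ℤ)⟧ ⟶ ω
  have hFfin : Module.Finite A F := by
    have := Degree.finite_hom hω M (-(i : ℤ))
    exact Module.Finite.equiv (shiftDualEquiv (ω := ω) (Dual.inD A M) (i : ℤ)).symm
  obtain ⟨r, π, hπ⟩ := Module.Finite.exists_fin' A F
  have hsmall : Small.{u} (F →ₗ[A] E) :=
    small_of_injective (f := fun φ => fun k : Fin r => φ (π (Pi.single k 1))) fun φ ψ hφψ => by
      refine (LinearMap.cancel_right hπ).1 ((Pi.basisFun A (Fin r)).ext fun k => ?_)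
      simpa using congrFun hφψ k
  let T : Type u := Shrink.{u} (F →ₗ[A] E)
  let sh : T ≃ₗ[A] (F →ₗ[A] E) := Shrink.linearEquiv A _
  let c : Cocone (colimExt.diag (quotSys 𝔪) i (ModuleCat.of A M)) :=
    { pt := ModuleCat.of A T
      ι :=
        { app := fun k => ModuleCat.ofHom (sh.symm.toLinearMap ∘ₗ
            pairX t ((Dual.inD A M)⟦(i : ℤ)⟧) k.unop.unop ∘ₗ
              (extEquiv (Q A k.unop.unop) M i).toLinearMap)
          naturality := fun k k' g => by
            refine ModuleCat.hom_ext (LinearMap.ext fun α => congrArg sh.symm ?_)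
            exact (congrArg (pairX t _ k'.unop.unop) (extEquiv_proj M i (leOfHom g.unop.unop) α)).trans
              (pairX_proj t _ (leOfHom g.unop.unop) _) } }
  let Φ : (colimExt (quotSys 𝔪) i).obj (ModuleCat.of A M) ⟶ ModuleCat.of A T :=
    (colimExt.isColimitAt (quotSys 𝔪) i (ModuleCat.of A M)).desc c
  have hΦ : ∀ k α, Φ.hom ((colimExt.ι (quotSys 𝔪) i k (ModuleCat.of A M)).hom α) =
      sh.symm (pairX t ((Dual.inD A M)⟦(i : ℤ)⟧) k.unop.unop (extEquiv (Q A k.unop.unop) M i α)) :=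
    fun k α => ConcreteCategory.congr_hom
      ((colimExt.isColimitAt (quotSys 𝔪) i (ModuleCat.of A M)).fac c k) α
  have hbij : Function.Bijective Φ.hom := by
    constructor
    · rw [injective_iff_map_eq_zero]
      intro y hy
      obtain ⟨k, α, rfl⟩ := colimExt.exists_rep _ i _ y
      replace hy := sh.symm.map_eq_zero_iff.1 ((hΦ k α).symm.trans hy)
      obtain ⟨N, hN, h0⟩ := hgood.1 k.unop.unop (extEquiv (Q A k.unop.unop) M i α)
        (fun l => LinearMap.congr_fun hy l)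
      rw [colimExt.ι_eq_zero_iff]
      refine ⟨op (op N), (homOfLE hN).op.op, (extEquiv (Q A N) M i).injective ?_⟩
      exact ((extEquiv_proj M i hN α).trans h0).trans (map_zero _).symm
    · intro φ
      obtain ⟨n, g, hg⟩ := hgood.2 (sh φ)
      refine ⟨(colimExt.ι (quotSys 𝔪) i (op (op n)) (ModuleCat.of A M)).hom
        ((extEquiv (Q A n) M i).symm g), ?_⟩
      refine (hΦ (op (op n)) ((extEquiv (Q A n) M i).symm g)).trans
        (sh.symm_apply_eq.2 (LinearMap.ext fun l => ?_))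
      show pairX t _ n (extEquiv (Q A n) M i ((extEquiv (Q A n) M i).symm g)) l = sh φ l
      rw [LinearEquiv.apply_symm_apply]
      exact hg l
  exact ⟨((((lcIso 𝔪 i).app (ModuleCat.of A M)).toLinearEquiv.trans
    (LinearEquiv.ofBijective Φ.hom hbij)).trans sh).trans
      (LinearEquiv.congrLeft E A (shiftDualEquiv (Dual.inD A M) (i : ℤ)))⟩

/-- Finite length modules: only degree `0`, and `Hom(N, ω) = Hom(N, E)`. -/
theorem finiteLength_duality (N : Type u) [AddCommGroup N] [Module A N] (hN : IsFiniteLength A N) :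
    (∀ i : ℤ, i ≠ 0 → Subsingleton (Dual.inD A N ⟶ ω⟦i⟧)) ∧
      Nonempty ((Dual.inD A N ⟶ ω) ≃ₗ[A] (N →ₗ[A] E)) := by
  obtain ⟨hnoe, hart⟩ := isFiniteLength_iff_isNoetherian_isArtinian.mp hN
  have : Module.Finite A N := inferInstance
  obtain ⟨n, hk⟩ := LocalCoh.exists_pow_smul_eq_zero (I := 𝔪) (LinearMap.id (R := A) (M := N))
    (InjHull.Artinian.isPowerTorsion_of_isArtinian N)
  have hk' : ∀ a ∈ 𝔪 ^ (n + 1), ∀ x : N, a • x = 0 := fun a ha x =>
    hk a (Ideal.pow_le_pow_right (Nat.le_succ n) ha) x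
  refine ⟨fun i hi => subsingleton_hom_of_killed hω hn (n + 1) hk' hi, ?_⟩
  obtain ⟨t⟩ := exists_trace hω hn hf
  exact ⟨LinearEquiv.ofBijective _ (pair_bijective hω hn t (n + 1) (by lia) hk')⟩

end Groth.Agent.Lib.DMod.LocalDuality
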