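import Groth.Agent.Lib.DMod.SkEquidim
import Groth.Agent.Lib.QDepth.Sk

/-!
The lowest dual module `Hom(M, ω[e])` of a finite module satisfies `(S₂)`.
-/

universe u

open CategoryTheory Category Limits Pretriangulated

attribute [local instance] HasDerivedCategory.standard

namespace Groth.Agent.Lib.DMod.Bottom

open Groth.Agent.Lib.DMod Groth.Agent.Lib.DMod.Basic Groth.Agent.Lib.DMod.Degree
open Groth.Agent.Lib.DMod.HomSupp
open scoped Pointwise

variable {A : Type u} [CommRing A] [IsNoetherianRing A] {ω : Dual.D A} (hω : Dual.IsDualizing A ω)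
include hω

theorem subsingleton_of_deg_lt (M : Type u) [AddCommGroup M] [Module A M] [Module.Finite A M] (i : ℤ)
    (h : ∀ q, q ∈ Module.support A M → i < deg hω q) :
    Subsingleton (Dual.inD A M ⟶ ω⟦i⟧) := by
  rw [← Module.support_eq_empty_iff (R := A), Set.eq_empty_iff_forall_notMem]
  exact fun p => notMem_support_hom_of_outside hω p M i (Or.inr fun q _ hq => h q hq)

omit [IsNoetherianRing A] hω in
theorem support_le_of_smul_eq_zero {M : Type u} [AddCommGroup M] [Module A M] (y : A)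
    (h : ∀ m : M, y • m = 0) {q : PrimeSpectrum A} (hq : q ∈ Module.support A M) : y ∈ q.asIdeal := by
  obtain ⟨m, hm⟩ := Module.mem_support_iff'.mp hq
  by_contra hc
  exact hm y hc (h m)

/-- An element outside the bottom primes is injective on the bottom dual, with small cokernel. -/
theorem exists_bottom_seq (M : Type u) [AddCommGroup M] [Module A M] [Module.Finite A M] (e : ℤ)
    (hbot : ∀ q, q ∈ Module.support A M → e ≤ deg hω q) (y : A)
    (hy : ∀ q, q ∈ Module.support A M → y ∈ q.asIdeal → e < deg hω q) :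
    Function.Injective (fun f : Dual.inD A M ⟶ ω⟦e⟧ => y • f) ∧
      ∃ δ : (Dual.inD A M ⟶ ω⟦e⟧) →ₗ[A] (Dual.inD A (QuotSMulTop y M) ⟶ ω⟦e + 1⟧),
        ∀ f, δ f = 0 → ∃ f', y • f' = f := by
  let l : M →ₗ[A] M := y • LinearMap.id
  let N := LinearMap.ker l
  let R := LinearMap.range l
  have hR : R = y • (⊤ : Submodule A M) := by
    ext m
    simp [R, l, Submodule.mem_smul_pointwise_iff_exists]
  let π : Dual.inD A M ⟶ Dual.inD A R :=
    (DerivedCategory.singleFunctor (ModuleCat.{u} A) 0).map (ModuleCat.ofHom l.rangeRestrict)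
  let ι : Dual.inD A R ⟶ Dual.inD A M :=
    (DerivedCategory.singleFunctor (ModuleCat.{u} A) 0).map (ModuleCat.ofHom R.subtype)
  have hπι : π ≫ ι = y • 𝟙 (Dual.inD A M) := by
    rw [← Functor.map_comp, ← CategoryTheory.Functor.map_id, ← CategoryTheory.Functor.map_smul]
    rfl
  have hsN : ∀ q, q ∈ Module.support A N → q ∈ Module.support A M ∧ y ∈ q.asIdeal := fun q hq => by
    refine ⟨?_, support_le_of_smul_eq_zero y (fun m => Subtype.ext m.2) hq⟩
    by_contra hc
    exact notMem_support_of_injective N.injective_subtype hc hq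
  have hsQ : ∀ q, q ∈ Module.support A (M ⧸ R) → q ∈ Module.support A M ∧ y ∈ q.asIdeal := fun q hq => by
    refine ⟨?_, support_le_of_smul_eq_zero y (fun m => ?_) hq⟩
    · by_contra hc
      exact notMem_support_of_surjective R.mkQ_surjective hc hq
    · obtain ⟨m, rfl⟩ := R.mkQ_surjective m
      rw [← map_smul, Submodule.mkQ_apply, Submodule.Quotient.mk_eq_zero]
      exact ⟨m, rfl⟩
  have hN0 : ∀ i ≤ e, Subsingleton (Dual.inD A N ⟶ ω⟦i⟧) := fun i hi =>
    subsingleton_of_deg_lt hω N i fun q hq => lt_of_le_of_lt hi (hy q (hsN q hq).1 (hsN q hq).2)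
  have hQ0 : Subsingleton (Dual.inD A (M ⧸ R) ⟶ ω⟦e⟧) :=
    subsingleton_of_deg_lt hω _ e fun q hq => hy q (hsQ q hq).1 (hsQ q hq).2
  -- `π^*` is bijective, `ι^*` injective
  have hπinj : ∀ g : Dual.inD A R ⟶ ω⟦e⟧, π ≫ g = 0 → g = 0 := by
    intro g hg
    obtain ⟨T', hT', e₁, e₂, e₃, hm⟩ : ∃ T' : Triangle (Dual.D A), T' ∈ distTriang (Dual.D A) ∧
        ∃ (e₁ : T'.obj₁ ≅ Dual.inD A N) (e₂ : T'.obj₂ ≅ Dual.inD A M) (e₃ : T'.obj₃ ≅ Dual.inD A R),
          T'.mor₂ ≫ e₃.hom = e₂.hom ≫ π := by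
      let S : ShortComplex (ModuleCat.{u} A) :=
        ShortComplex.mk (ModuleCat.ofHom N.subtype) (ModuleCat.ofHom l.rangeRestrict)
          (by ext x; exact x.2)
      have hS : S.ShortExact :=
        { exact := (ShortComplex.ShortExact.moduleCat_exact_iff_function_exact _).mpr
            (by
              rw [LinearMap.exact_iff]
              exact (LinearMap.ker_rangeRestrict l).trans (Submodule.range_subtype N).symm)
          mono_f := (ModuleCat.mono_iff_injective _).mpr Subtype.val_injective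
          epi_g := (ModuleCat.epi_iff_surjective _).mpr l.surjective_rangeRestrict }
      exact ⟨_, hS.singleTriangle_distinguished, Iso.refl _, Iso.refl _, Iso.refl _,
        (Category.comp_id _).trans (Category.id_comp _).symm⟩
    obtain ⟨h, hh⟩ := (exact_conn_leftComp hT' ω (e - 1) e (by lia) (e₃.hom ≫ g)).1 (by
      show T'.mor₂ ≫ e₃.hom ≫ g = 0
      rw [← Category.assoc, hm, Category.assoc, hg, comp_zero])
    have : Subsingleton (T'.obj₁ ⟶ ω⟦e - 1⟧) :=
      (Linear.homCongr A e₁ (Iso.refl _)).toEquiv.subsingleton_congr.2 (hN0 _ (by lia))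
    rw [Subsingleton.elim h 0, map_zero] at hh
    rw [← cancel_epi e₃.hom, ← hh, comp_zero]
  have hπsurj : ∀ f : Dual.inD A M ⟶ ω⟦e⟧, ∃ g : Dual.inD A R ⟶ ω⟦e⟧, π ≫ g = f := by
    intro f
    let S : ShortComplex (ModuleCat.{u} A) :=
      ShortComplex.mk (ModuleCat.ofHom N.subtype) (ModuleCat.ofHom l.rangeRestrict)
        (by ext x; exact x.2)
    have hS : S.ShortExact :=
      { exact := (ShortComplex.ShortExact.moduleCat_exact_iff_function_exact _).mpr
          (by
            rw [LinearMap.exact_iff]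
            exact (LinearMap.ker_rangeRestrict l).trans (Submodule.range_subtype N).symm)
        mono_f := (ModuleCat.mono_iff_injective _).mpr Subtype.val_injective
        epi_g := (ModuleCat.epi_iff_surjective _).mpr l.surjective_rangeRestrict }
    have := hN0 e le_rfl
    obtain ⟨g, hg⟩ := Triangle.yoneda_exact₂ _ hS.singleTriangle_distinguished f
      (Subsingleton.elim (α := (Dual.inD A N ⟶ ω⟦e⟧)) _ _)
    exact ⟨g, hg.symm⟩
  let S' : ShortComplex (ModuleCat.{u} A) :=
    ShortComplex.mk (ModuleCat.ofHom R.subtype) (ModuleCat.ofHom R.mkQ)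
      (by ext x; exact (Submodule.Quotient.mk_eq_zero R).mpr x.2)
  have hS' : S'.ShortExact :=
    { exact := (ShortComplex.ShortExact.moduleCat_exact_iff_function_exact _).mpr
        (LinearMap.exact_subtype_mkQ R)
      mono_f := (ModuleCat.mono_iff_injective _).mpr Subtype.val_injective
      epi_g := (ModuleCat.epi_iff_surjective _).mpr R.mkQ_surjective }
  let V := hS'.singleTriangle
  have hV : V ∈ distTriang (Dual.D A) := hS'.singleTriangle_distinguished
  constructor
  · intro f₁ f₂ hf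
    have h1 : π ≫ ι ≫ (f₁ - f₂) = 0 := by
      rw [← Category.assoc, hπι, Linear.smul_comp, Category.id_comp, smul_sub]
      exact sub_eq_zero.2 hf
    obtain ⟨g, hg⟩ := Triangle.yoneda_exact₂ _ hV (f₁ - f₂) (hπinj _ h1)
    have hg0 : g = 0 := Subsingleton.elim (α := (Dual.inD A (M ⧸ R) ⟶ ω⟦e⟧)) _ _
    subst hg0
    exact sub_eq_zero.1 (hg.trans comp_zero)
  · let πs : (Dual.inD A R ⟶ ω⟦e⟧) ≃ₗ[A] (Dual.inD A M ⟶ ω⟦e⟧) :=
      LinearEquiv.ofBijective (Linear.leftComp A (ω⟦e⟧) π)
        ⟨fun a b hab => sub_eq_zero.1 (hπinj _ (by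
          show π ≫ (a - b) = 0
          rw [Preadditive.comp_sub]; exact sub_eq_zero.2 hab)),
          fun f => hπsurj f⟩
    let eQ : Dual.inD A (M ⧸ R) ≅ Dual.inD A (QuotSMulTop y M) :=
      (DerivedCategory.singleFunctor (ModuleCat.{u} A) 0).mapIso (Submodule.quotEquivOfEq _ _ hR).toModuleIso
    refine ⟨((Linear.leftComp A (ω⟦e + 1⟧) eQ.inv) ∘ₗ conn V ω e (e + 1) rfl) ∘ₗ πs.symm.toLinearMap,
      fun f hf => ?_⟩
    have h1 : conn V ω e (e + 1) rfl (πs.symm f) = 0 := by
      have h2 : eQ.inv ≫ (conn V ω e (e + 1) rfl (πs.symm f)) = 0 := hf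
      exact (cancel_epi eQ.inv).1 (h2.trans comp_zero.symm)
    obtain ⟨f', hf'⟩ := (exact_leftComp_conn hV ω e (e + 1) rfl (πs.symm f)).1 h1
    refine ⟨f', ?_⟩
    have h3 : π ≫ ι ≫ f' = f := by
      refine Eq.trans ?_ (πs.apply_symm_apply f)
      rw [← hf']
      rfl
    have h4 : (π ≫ ι) ≫ f' = y • f' := by
      rw [hπι]
      exact (Linear.smul_comp _ _ _ _ _ _).trans (congrArg (y • ·) (Category.id_comp f'))
    exact h4.symm.trans ((Category.assoc _ _ _).trans h3)

/-- An element of `p` outside the primes of degree `e`. -/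
theorem exists_avoiding (M : Type u) [AddCommGroup M] [Module A M] [Module.Finite A M] (e : ℤ)
    (hbot : ∀ q, q ∈ Module.support A M → e ≤ deg hω q) (p : PrimeSpectrum A) (hp : e < deg hω p) :
    ∃ y ∈ p.asIdeal, ∀ q, q ∈ Module.support A M → y ∈ q.asIdeal → e < deg hω q := by
  let S : Set (Ideal A) := {P | ∃ q : PrimeSpectrum A, q ∈ Module.support A M ∧ deg hω q = e ∧ q.asIdeal = P}
  have hfin : S.Finite := by
    refine (Ideal.finite_minimalPrimes_of_isNoetherianRing A (Module.annihilator A M)).subset ?_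
    rintro _ ⟨q, hq, hqe, rfl⟩
    refine ⟨⟨q.isPrime, Module.annihilator_le_of_mem_support hq⟩, fun P ⟨hP, hPann⟩ hle => ?_⟩
    have hPs : (⟨P, hP⟩ : PrimeSpectrum A) ∈ Module.support A M := by
      rw [Module.support_eq_zeroLocus]; exact hPann
    by_contra hc
    have := deg_lt hω (show (⟨P, hP⟩ : PrimeSpectrum A) < q from lt_of_le_not_ge hle hc)
    have := hbot _ hPs
    lia
  have hnot : ¬ ((p.asIdeal : Set A) ⊆ ⋃ P ∈ S, (P : Set A)) := by
    intro hsub
    obtain ⟨P, ⟨q, hq, hqe, rfl⟩, hle⟩ := (Ideal.subset_union_prime_finite hfin ⊥ ⊥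
      (fun i hi _ _ => by obtain ⟨q, -, -, rfl⟩ := hi; exact q.isPrime)).mp hsub
    have := deg_le hω (show p ≤ q from hle)
    lia
  obtain ⟨y, hy, hyS⟩ := Set.not_subset.mp hnot
  refine ⟨y, hy, fun q hq hyq => lt_of_le_of_ne (hbot q hq) fun heq => hyS ?_⟩
  exact Set.mem_biUnion (show q.asIdeal ∈ S from ⟨q, hq, heq.symm, rfl⟩) hyq

variable {M : Type u} [AddCommGroup M] [Module A M] [Module.Finite A M] {e : ℤ}
  {L : Type u} [AddCommGroup L] [Module A L]

/-- The bottom dual module has depth `≥ min 2 (deg p - e)` at `p`. -/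
theorem le_depth_bottom (eL : L ≃ₗ[A] (Dual.inD A M ⟶ ω⟦e⟧))
    (hbot : ∀ q, q ∈ Module.support A M → e ≤ deg hω q) (p : PrimeSpectrum A) (j : ℕ) (hj : j ≤ 2)
    (hjp : e + j ≤ deg hω p) :
    (j : ℕ∞) ≤ LocCoh.depth (Localization.AtPrime p.asIdeal)
      (LocalizedModule p.asIdeal.primeCompl L) := by
  have := finite_hom hω M e
  have : Module.Finite A L := Module.Finite.equiv eL.symm
  refine le_trans ?_ (QDepth.idealDepth_le_depth_at p.asIdeal _ p le_rfl)
  rcases Nat.eq_zero_or_pos j with rfl | hj0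
  · simp
  obtain ⟨y, hyp, hy⟩ := exists_avoiding hω M e hbot p (by lia)
  obtain ⟨hinj, δ, hδ⟩ := exists_bottom_seq hω M e hbot y hy
  have hreg : IsSMulRegular L y := fun a b hab => eL.injective (hinj (by
    show y • eL a = y • eL b
    rw [← map_smul, ← map_smul]; exact congrArg eL hab))
  obtain ⟨j, rfl⟩ := Nat.exists_eq_succ_of_ne_zero (Nat.pos_iff_ne_zero.mp hj0)
  rw [Nat.succ_eq_add_one, Depth.SES.succ_le_idealDepth_iff p.asIdeal hyp hreg]
  rcases Nat.eq_zero_or_pos j with rfl | hj1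
  · simp
  obtain rfl : j = 1 := by lia
  rw [Nat.cast_one, Depth.Basic.one_le_idealDepth_iff]
  refine Or.inr ?_
  have hbot' : ∀ q, q ∈ Module.support A (QuotSMulTop y M) → e + 1 ≤ deg hω q := by
    intro q hq
    rw [Module.support_quotSMulTop] at hq
    have := hy q hq.1 (by simpa using hq.2)
    lia
  obtain ⟨z, hzp, hz⟩ := exists_avoiding hω (QuotSMulTop y M) (e + 1) hbot' p (by lia)
  obtain ⟨hzinj, -⟩ := exists_bottom_seq hω (QuotSMulTop y M) (e + 1) hbot' z hz
  refine ⟨z, hzp, ?_⟩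
  refine isSMulRegular_iff_right_eq_zero_of_smul.mpr fun q hq => ?_
  obtain ⟨f, rfl⟩ := Submodule.mkQ_surjective _ q
  rw [← map_smul, Submodule.mkQ_apply, Submodule.Quotient.mk_eq_zero] at hq
  obtain ⟨g, -, hg⟩ := (Submodule.mem_smul_pointwise_iff_exists _ _ _).mp hq
  have h0 : z • δ (eL f) = 0 := by
    rw [← map_smul, ← map_smul, ← hg, map_smul, map_smul]
    refine HomSupp.smul_hom_eq_zero_left (HomSupp.smul_id_inD ?_) (δ (eL g))
    intro m
    obtain ⟨m, rfl⟩ := Submodule.mkQ_surjective _ m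
    rw [← map_smul, Submodule.mkQ_apply, Submodule.Quotient.mk_eq_zero]
    exact Submodule.smul_mem_pointwise_smul _ _ _ Submodule.mem_top
  have h1 : δ (eL f) = 0 := hzinj (by
    show z • δ (eL f) = z • (0 : Dual.inD A (QuotSMulTop y M) ⟶ ω⟦e + 1⟧)
    rw [h0, smul_zero])
  obtain ⟨f', hf'⟩ := hδ (eL f) h1
  rw [Submodule.mkQ_apply, Submodule.Quotient.mk_eq_zero,
    show f = y • eL.symm f' by rw [← map_smul, hf', eL.symm_apply_apply]]
  exact Submodule.smul_mem_pointwise_smul _ _ _ Submodule.mem_top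

/-- The bottom dual module satisfies `(S₂)`. -/
theorem hasSk_two_bottom (eL : L ≃ₗ[A] (Dual.inD A M ⟶ ω⟦e⟧))
    (hbot : ∀ q, q ∈ Module.support A M → e ≤ deg hω q) :
    LocCoh.HasSk 2 A L := by
  have := finite_hom hω M e
  have : Module.Finite A L := Module.Finite.equiv eL.symm
  refine QDepth.hasSk_of_forall fun P _ j hj hd => ?_
  let p : PrimeSpectrum A := ⟨P, ‹_›⟩
  by_cases hp : p ∈ Module.support A L
  · refine le_depth_bottom hω eL hbot p j hj ?_
    obtain ⟨q, hqp, hq, hmin⟩ := DimDegree.exists_min_deg hω p L hp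
    have hdim := DimDegree.supportDim_localized_eq hω p q _ hqp hq hmin
    rw [show Module.supportDim (Localization.AtPrime P) (LocalizedModule P.primeCompl L)
      = (((deg hω p - deg hω q).toNat : ℕ) : WithBot ℕ∞) from hdim] at hd
    have hd' : j ≤ (deg hω p - deg hω q).toNat := by exact_mod_cast hd
    have he : e ≤ deg hω q := by
      by_contra hc
      rw [eL.support_eq] at hq
      exact notMem_support_hom_of_outside hω q M e (Or.inl (by lia)) hq
    have := deg_le hω hqp
    lia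
  · have : Subsingleton (LocalizedModule P.primeCompl L) :=
      Module.notMem_support_iff.1 hp
    rw [LocCoh.depth, Depth.Basic.idealDepth_subsingleton
      (M := LocalizedModule P.primeCompl L)]
    exact le_top

/-- The support of the bottom dual. -/
theorem mem_support_bottom_iff (eL : L ≃ₗ[A] (Dual.inD A M ⟶ ω⟦e⟧))
    (hbot : ∀ q, q ∈ Module.support A M → e ≤ deg hω q) (p : PrimeSpectrum A) :
    p ∈ Module.support A L ↔ ∃ q ∈ Module.support A M, q ≤ p ∧ deg hω q = e := by
  rw [eL.support_eq]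
  constructor
  · intro h
    by_contra hc
    push Not at hc
    exact notMem_support_hom_of_outside hω p M e
      (Or.inr fun q hqp hq => lt_of_le_of_ne (hbot q hq) (hc q hq hqp).symm) h
  · rintro ⟨q, hq, hqp, rfl⟩
    exact mem_support_hom_of_minimal_deg hω p q hqp M hq fun r _ hr => hbot r hr

end Groth.Agent.Lib.DMod.Bottom

namespace Groth.Agent.Lib.DMod.Bottom

open Groth.Agent.Lib.DMod Groth.Agent.Lib.DMod.Basic Groth.Agent.Lib.DMod.Degree

variable {A : Type u} [CommRing A] [IsNoetherianRing A] [IsLocalRing A] {ω : Dual.D A}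
  (hω : Dual.IsDualizing A ω) (hn : Dual.IsNormalized A ω) (d : ℕ) (hd : ringKrullDim A = d)
include hω hn hd

theorem neg_dim_le_deg (q : PrimeSpectrum A) : -(d : ℤ) ≤ deg hω q := by
  have h : ringKrullDim (A ⧸ q.asIdeal) ≤ ringKrullDim A :=
    ringKrullDim_le_of_surjective _ Ideal.Quotient.mk_surjective
  rw [LocalCase.ringKrullDim_quotient_eq_neg_deg hω hn q, hd] at h
  have h' : (-deg hω q).toNat ≤ d := by exact_mod_cast h
  have := LocalCase.deg_nonpos hω hn q
  lia

theorem deg_eq_neg_dim_iff (q : PrimeSpectrum A) :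
    deg hω q = -(d : ℤ) ↔ ringKrullDim (A ⧸ q.asIdeal) = d := by
  have := LocalCase.deg_nonpos hω hn q
  rw [LocalCase.ringKrullDim_quotient_eq_neg_deg hω hn q]
  constructor
  · intro h; rw [h]; simp
  · intro h
    have h' : (-deg hω q).toNat = d := by exact_mod_cast h
    lia

theorem mem_minimalPrimes_of_deg_eq (q : PrimeSpectrum A) (h : deg hω q = -(d : ℤ)) :
    q.asIdeal ∈ minimalPrimes A := by
  refine ⟨⟨q.isPrime, bot_le⟩, fun P hP hle => ?_⟩
  by_contra hc
  have h1 := deg_lt hω (show (⟨P, hP.1⟩ : PrimeSpectrum A) < q from lt_of_le_not_ge hle hc)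
  have := neg_dim_le_deg hω hn d hd ⟨P, hP.1⟩
  lia

end Groth.Agent.Lib.DMod.Bottom
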