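import Groth.Agent.Lib.DMod.Degree
import Groth.Agent.Lib.DMod.SupportDim

/-!
Dimensions of supports in terms of the codimension function of a dualizing complex.
-/

universe u

open CategoryTheory Category Limits Pretriangulated

attribute [local instance] HasDerivedCategory.standard

namespace Groth.Agent.Lib.DMod.DimDegree

open Groth.Agent.Lib.DMod.Basic Groth.Agent.Lib.DMod.Degree

variable {A : Type u} [CommRing A] [IsNoetherianRing A] {ω : Dual.D A} (hω : Dual.IsDualizing A ω)
include hω

/-- A specialization one step further. -/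
theorem exists_next {q p : PrimeSpectrum A} (h : q < p) :
    ∃ r : PrimeSpectrum A, q < r ∧ r ≤ p ∧ deg hω r = deg hω q + 1 := by
  obtain ⟨x, hxp, hxq⟩ := exists_mem_notMem h
  obtain ⟨r, ⟨hr, hrle⟩⟩ := Ideal.exists_minimalPrimes_le (I := q.asIdeal ⊔ Ideal.span {x})
    (J := p.asIdeal) (sup_le h.le ((Ideal.span_singleton_le_iff_mem _).2 hxp))
  have hqr : q ≤ (⟨r, hr.1.1⟩ : PrimeSpectrum A) :=
    show q.asIdeal ≤ r from le_trans le_sup_left hr.1.2
  have hxr : x ∈ r := (Ideal.span_singleton_le_iff_mem _).1 (le_trans le_sup_right hr.1.2)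
  refine ⟨⟨r, hr.1.1⟩, lt_of_le_of_ne hqr fun he => hxq (by rw [he]; exact hxr), hrle, ?_⟩
  exact deg_eq_add_one hω hqr hxr hxq fun s hs hqs hxs =>
    PrimeSpectrum.ext (le_antisymm hs (hr.2 ⟨s.isPrime,
      sup_le hqs ((Ideal.span_singleton_le_iff_mem _).2 hxs)⟩ hs))

/-- The degree is a dimension function. -/
theorem deg_covBy {q p : PrimeSpectrum A} (h : q ⋖ p) : deg hω p = deg hω q + 1 := by
  obtain ⟨r, hqr, hrp, hr⟩ := exists_next hω h.lt
  rcases hrp.eq_or_lt with e | e
  · rw [← e, hr]
  · exact absurd e (h.2 hqr)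

theorem exists_series (n : ℕ) : ∀ q p : PrimeSpectrum A, q ≤ p → deg hω p = deg hω q + n →
    ∃ s : LTSeries (PrimeSpectrum A), s.length = n ∧ s.head = q ∧ s.last = p := by
  induction n with
  | zero =>
    intro q p hqp h
    rcases hqp.eq_or_lt with e | e
    · exact ⟨RelSeries.singleton _ q, rfl, rfl, e⟩
    · have := deg_lt hω e
      lia
  | succ n ih =>
    intro q p hqp h
    rcases hqp.eq_or_lt with e | e
    · subst e
      lia
    · obtain ⟨r, hqr, hrp, hr⟩ := exists_next hω e
      obtain ⟨s, hs, hs₁, hs₂⟩ := ih r p hrp (by lia)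
      refine ⟨s.cons q (by rw [hs₁]; exact hqr), ?_, ?_, ?_⟩
      · simp [hs]
      · simp
      · simp [hs₂]

theorem head_deg_add_length_le (s : LTSeries (PrimeSpectrum A)) :
    deg hω s.head + s.length ≤ deg hω s.last := by
  have : ∀ i : ℕ, ∀ h : i < s.length + 1, deg hω s.head + i ≤ deg hω (s ⟨i, h⟩) := by
    intro i
    induction i with
    | zero => intro h; simp [RelSeries.head]
    | succ i ih =>
      intro h
      have h1 := ih (by lia)
      have h2 := deg_lt hω (s.strictMono (a := ⟨i, by lia⟩) (b := ⟨i + 1, h⟩) (by simp [Fin.lt_def]))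
      lia
  exact this s.length (by lia)

/-- The dimension of a specialization-closed set below `p`. -/
theorem krullDim_below (p q : PrimeSpectrum A) (S : Set (PrimeSpectrum A))
    (hS : ∀ r r' : PrimeSpectrum A, r ∈ S → r ≤ r' → r' ∈ S) (hqp : q ≤ p) (hq : q ∈ S)
    (hmin : ∀ r, r ∈ S → r ≤ p → deg hω q ≤ deg hω r) :
    Order.krullDim {r : PrimeSpectrum A // r ∈ S ∧ r ≤ p} =
      (((deg hω p - deg hω q).toNat : ℕ) : WithBot ℕ∞) := by
  have hle := deg_le hω hqp
  apply le_antisymm
  · refine iSup_le fun s => ?_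
    have h1 := head_deg_add_length_le hω (s.map Subtype.val (fun _ _ h => h))
    have h2 := hmin _ s.head.2.1 s.head.2.2
    have h3 := deg_le hω s.last.2.2
    change deg hω s.head.1 + s.length ≤ deg hω s.last.1 at h1
    exact_mod_cast (show s.length ≤ (deg hω p - deg hω q).toNat by lia)
  · obtain ⟨s, hs, hs₁, hs₂⟩ := exists_series hω (deg hω p - deg hω q).toNat q p hqp (by lia)
    have hmem : ∀ i, s i ∈ S ∧ s i ≤ p := fun i =>
      ⟨hS _ _ (hs₁ ▸ hq) (s.head_le i), hs₂ ▸ s.strictMono.monotone (Fin.le_last i)⟩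
    let s' : LTSeries {r : PrimeSpectrum A // r ∈ S ∧ r ≤ p} :=
      LTSeries.mk s.length (fun i => ⟨s i, hmem i⟩) fun i j h => s.strictMono h
    have := Order.LTSeries.length_le_krullDim s'
    rw [show s'.length = (deg hω p - deg hω q).toNat from hs] at this
    exact this

/-- A prime of least degree below `p`. -/
theorem exists_min_deg (p : PrimeSpectrum A) (M : Type*) [AddCommGroup M] [Module A M]
    (hp : p ∈ Module.support A M) :
    ∃ q : PrimeSpectrum A, q ≤ p ∧ q ∈ Module.support A M ∧
      ∀ r : PrimeSpectrum A, r ∈ Module.support A M → r ≤ p → deg hω q ≤ deg hω r := by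
  obtain ⟨a, b, hab⟩ := exists_le_deg hω
  obtain ⟨_, ⟨q, hq, hqp, rfl⟩, hmin⟩ := Int.exists_least_of_bdd
    (P := fun d => ∃ q : PrimeSpectrum A, q ∈ Module.support A M ∧ q ≤ p ∧ deg hω q = d)
    ⟨a, fun d ⟨q, _, _, hd⟩ => hd ▸ (hab q).1⟩ ⟨_, p, hp, le_rfl, rfl⟩
  exact ⟨q, hqp, hq, fun r hr hrp => hmin _ ⟨r, hr, hrp, rfl⟩⟩

/-- `dim M_p = deg p - (least degree of the support below p)`. -/
theorem supportDim_localized_eq (p q : PrimeSpectrum A) (M : Type*) [AddCommGroup M] [Module A M]
    (hqp : q ≤ p) (hq : q ∈ Module.support A M)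
    (hmin : ∀ r, r ∈ Module.support A M → r ≤ p → deg hω q ≤ deg hω r) :
    Module.supportDim (Localization.AtPrime p.asIdeal) (LocalizedModule p.asIdeal.primeCompl M) =
      (((deg hω p - deg hω q).toNat : ℕ) : WithBot ℕ∞) := by
  rw [SupportDim.supportDim_localized]
  exact krullDim_below hω p q _ (fun r r' h h' => Module.mem_support_mono h' h) hqp hq hmin

/-- `dim A = ` the span of the degree, over a local ring. -/
theorem supportDim_local_eq [IsLocalRing A] (q : PrimeSpectrum A) (M : Type*) [AddCommGroup M]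
    [Module A M] (hq : q ∈ Module.support A M)
    (hmin : ∀ r, r ∈ Module.support A M → deg hω q ≤ deg hω r) :
    Module.supportDim A M =
      (((deg hω (IsLocalRing.closedPoint A) - deg hω q).toNat : ℕ) : WithBot ℕ∞) := by
  rw [SupportDim.supportDim_local]
  exact krullDim_below hω _ q _ (fun r r' h h' => Module.mem_support_mono h' h)
    (IsLocalRing.le_maximalIdeal q.isPrime.ne_top) hq (fun r hr _ => hmin r hr)

/-- The coheight of a prime in a local ring. -/
theorem ringKrullDim_quotient_eq [IsLocalRing A] (q : PrimeSpectrum A) :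
    ringKrullDim (A ⧸ q.asIdeal) =
      (((deg hω (IsLocalRing.closedPoint A) - deg hω q).toNat : ℕ) : WithBot ℕ∞) := by
  rw [← Module.supportDim_quotient_eq_ringKrullDim]
  refine supportDim_local_eq hω q _ ((HomSupp.mem_support_quotient_prime q q).2 le_rfl) fun r hr => ?_
  exact deg_le hω ((HomSupp.mem_support_quotient_prime q r).1 hr)

theorem ringKrullDim_lt_top : ringKrullDim A < ⊤ := by
  obtain ⟨a, b, hab⟩ := exists_le_deg hω
  refine lt_of_le_of_lt (iSup_le fun s => ?_) (show (((b - a).toNat : ℕ) : WithBot ℕ∞) < ⊤ from ?_)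
  · have := head_deg_add_length_le hω s
    have := hab s.head
    have := hab s.last
    exact_mod_cast (show s.length ≤ (b - a).toNat by lia)
  · exact WithBot.coe_lt_coe.2 (ENat.natCast_lt_top _)

end Groth.Agent.Lib.DMod.DimDegree
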