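import Groth.Agent.Lib.DMod.GorLocus
import Groth.Agent.Lib.DMod.DimDegree
import Groth.Agent.Lib.DMod.Bottom
import Mathlib.RingTheory.Ideal.MinimalPrime.Noetherian

/-!
A pointwise dualizing complex over a Noetherian ring of finite dimension is dualizing.
-/

universe u

open CategoryTheory CategoryTheory.Limits Pretriangulated TensorProduct
open Groth.Agent.Lib.DMod Groth.Agent.Lib.DMod.Basic Groth.Agent.Lib.DMod.Conservative
open Groth.Agent.Lib.DMod.FlatHom Groth.Agent.Lib.DMod.FlatDualizing

attribute [local instance] HasDerivedCategory.standard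

namespace Groth.Agent.Lib.DMod.Pointwise

variable {A : Type u} [CommRing A] [IsNoetherianRing A] {B : Type u} [CommRing B] [Algebra A B]
  [Module.Flat A B]

variable (B) in
/-- Flat base change of `Hom(M[0], -)` into a bounded below object. -/
noncomputable def quotEquivGE (I : Ideal A) {Y : Dual.D A} {c : ℤ} (hY : Y.IsGE c) (i : ℤ) :
    B ⊗[A] (Dual.inD A (A ⧸ I) ⟶ Y⟦i⟧) ≃ₗ[B]
      (Dual.inD B (B ⧸ I.map (algebraMap A B)) ⟶ ((L A B).obj Y)⟦i⟧) :=
  (LinearEquiv.ofBijective (Φ B (Dual.inD A (A ⧸ I)) (Y⟦i⟧))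
      (bij_inD (A ⧸ I) (isGE_shift_neg hY i))).trans
    ((Linear.homCongr B DR.FlatBC.mapInD (((L A B).commShiftIso i).app Y)).trans
      (Linear.homCongr B ((DerivedCategory.singleFunctor (ModuleCat.{u} B) 0).mapIso
        (Algebra.TensorProduct.quotIdealMapEquivTensorQuot B I).symm.toLinearEquiv.toModuleIso)
        (Iso.refl _)))

omit [IsNoetherianRing A] [Module.Flat A B] in
theorem mem_support_of_baseChange {M : Type (u + 1)} [AddCommGroup M] [Module A M]
    (q : PrimeSpectrum B) (h : q ∈ Module.support B (B ⊗[A] M)) :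
    PrimeSpectrum.comap (algebraMap A B) q ∈ Module.support A M := by
  by_contra hc
  rw [Module.notMem_support_iff'] at hc
  obtain ⟨z, hz⟩ := Module.mem_support_iff'.1 h
  suffices ∃ r ∉ q.asIdeal, r • z = 0 by
    obtain ⟨r, hr, hrz⟩ := this
    exact hz r hr hrz
  clear hz h
  induction z using TensorProduct.induction_on with
  | zero => exact ⟨1, fun h => q.isPrime.ne_top ((Ideal.eq_top_iff_one _).2 h), smul_zero _⟩
  | tmul b m =>
    obtain ⟨s, hs, hsm⟩ := hc m
    refine ⟨algebraMap A B s, hs, ?_⟩
    rw [algebraMap_smul, ← TensorProduct.tmul_smul, hsm, TensorProduct.tmul_zero]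
  | add x y hx hy =>
    obtain ⟨r, hr, hrx⟩ := hx
    obtain ⟨s, hs, hsy⟩ := hy
    refine ⟨r * s, fun h => (q.isPrime.mem_or_mem h).elim hr hs, ?_⟩
    rw [smul_add, mul_smul, mul_smul, hsy, smul_zero, add_zero, smul_comm, hrx, smul_zero]

theorem isDualizing_of_pointwise (hdim : ringKrullDim A < ⊤) (K : Dual.D A)
    (hfin : ∀ i, Module.Finite A (Dual.HD A K i))
    (hbdd : ∃ a : ℤ, ∀ i, i < a → Subsingleton (Dual.HD A K i))
    (h : ∀ p : PrimeSpectrum A, Dual.IsDualizing (Localization.AtPrime p.asIdeal)
      ((L A (Localization.AtPrime p.asIdeal)).obj K)) :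
    Dual.IsDualizing A K := by
  obtain ⟨a, ha⟩ := hbdd
  have hGE : K.IsGE a := (isGE_iff K a).2 ha
  choose l r hlr using fun p => (h p).finite_injective_dimension
  let S : Set (PrimeSpectrum A) := {p | p.asIdeal ∈ minimalPrimes A}
  have hSfin : S.Finite :=
    (minimalPrimes.finite_of_isNoetherianRing A).preimage
      (fun p _ q _ hpq => PrimeSpectrum.ext hpq)
  obtain ⟨r₀, hr₀⟩ := (hSfin.image r).bddAbove
  obtain ⟨N, hN⟩ : ∃ N : ℕ, ringKrullDim A < (N : WithBot ℕ∞) := by
    rcases hd : ringKrullDim A with _ | _ | n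
    · exact ⟨0, WithBot.bot_lt_coe _⟩
    · rw [hd] at hdim; exact absurd rfl hdim.ne
    · exact ⟨n + 1, WithBot.coe_lt_coe.2 (WithTop.coe_lt_coe.2 (Nat.lt_succ_self n))⟩
  let b : ℤ := r₀ + N
  -- vanishing above `b` at every prime
  have key : ∀ (p : PrimeSpectrum A) (M : Type u) [AddCommGroup M]
      [Module (Localization.AtPrime p.asIdeal) M] [Module.Finite (Localization.AtPrime p.asIdeal) M]
      (i : ℤ), b < i → Subsingleton (Dual.inD (Localization.AtPrime p.asIdeal) M ⟶
        ((L A (Localization.AtPrime p.asIdeal)).obj K)⟦i⟧) := by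
    intro p M _ _ _ i hi
    let R := Localization.AtPrime p.asIdeal
    rw [← Module.support_eq_empty_iff (R := Localization.AtPrime p.asIdeal),
      Set.eq_empty_iff_forall_notMem]
    refine fun q => Degree.notMem_support_hom_of_outside (h p) q M i (Or.inl ?_)
    obtain ⟨η, hη, hηp⟩ := Ideal.exists_minimalPrimes_le (I := (⊥ : Ideal A)) (J := p.asIdeal) bot_le
    have hdisj : Disjoint (p.asIdeal.primeCompl : Set A) η :=
      Set.disjoint_left.2 fun x hx hx' => hx (hηp hx')
    have := hη.1.1
    let η' : PrimeSpectrum R := ⟨η.map (algebraMap A R),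
      IsLocalization.isPrime_of_isPrime_disjoint p.asIdeal.primeCompl R η hη.1.1 hdisj⟩
    let ηA : PrimeSpectrum A := ⟨η, hη.1.1⟩
    have hcomap : PrimeSpectrum.comap (algebraMap A R) η' = ηA :=
      PrimeSpectrum.ext (IsLocalization.comap_map_of_isPrime_disjoint p.asIdeal.primeCompl R
        hη.1.1 hdisj)
    have hi0 : Degree.deg (h p) η' ≤ r₀ := by
      have h1 := Degree.mem_support_deg (h p) η'
      let e := quotEquivGE R η hGE (Degree.deg (h p) η')
      have h2 : η' ∈ Module.support R
          (R ⊗[A] (Dual.inD A (A ⧸ η) ⟶ K⟦Degree.deg (h p) η'⟧)) :=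
        HomSupp.mem_support_equiv e.symm h1
      have h3 := mem_support_of_baseChange η' h2
      rw [hcomap] at h3
      refine le_trans ?_ (hr₀ ⟨ηA, hη, rfl⟩)
      by_contra hlt
      rw [Module.mem_support_iff] at h3
      have := hlr ηA (Localization.AtPrime η ⧸ η.map (algebraMap A (Localization.AtPrime η)))
        (Degree.deg (h p) η') (Or.inr (lt_of_not_ge hlt))
      have := (quotEquivGE (Localization.AtPrime η) η hGE (Degree.deg (h p) η')).toEquiv.subsingleton
      exact not_subsingleton _ ((LocalizedModule.equivTensorProduct η.primeCompl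
        (Dual.inD A (A ⧸ η) ⟶ K⟦Degree.deg (h p) η'⟧)).toEquiv.subsingleton :
          Subsingleton (LocalizedModule ηA.asIdeal.primeCompl _))
    let m : PrimeSpectrum R := IsLocalRing.closedPoint R
    have hle : η' ≤ m := IsLocalRing.le_maximalIdeal η'.2.ne_top
    have h4 := Degree.deg_le (h p) hle
    have h5 := Degree.deg_le (h p) (show q ≤ m from IsLocalRing.le_maximalIdeal q.2.ne_top)
    obtain ⟨s, hs, -, -⟩ := DimDegree.exists_series (h p)
      (Degree.deg (h p) m - Degree.deg (h p) η').toNat η' m hle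
      (by rw [Int.toNat_of_nonneg (sub_nonneg.2 h4), add_sub_cancel])
    have h6 : (s.length : WithBot ℕ∞) < (N : WithBot ℕ∞) :=
      lt_of_le_of_lt ((Order.LTSeries.length_le_krullDim s).trans
        (Order.krullDim_le_of_strictMono (PrimeSpectrum.comap (algebraMap A R))
        fun a b hab => lt_of_le_of_ne (show a.asIdeal.comap _ ≤ b.asIdeal.comap _ from Ideal.comap_mono hab.le)
          fun he => hab.ne (PrimeSpectrum.localization_comap_injective R p.asIdeal.primeCompl he))) hN
    have h7 : s.length < N := by exact_mod_cast h6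
    rw [hs] at h7
    show Degree.deg (h p) q < i
    change r₀ + (N : ℤ) < i at hi
    omega
  have hdet : Detects (A := A) (fun p : PrimeSpectrum A => Localization.AtPrime p.asIdeal) :=
    LBC.detects_primes _ fun m hm => ⟨⟨m, hm.isPrime⟩, rfl⟩
  have hdet' : ∀ (M : Type u) [AddCommGroup M] [Module A M],
      (∀ p : PrimeSpectrum A, Subsingleton (Localization.AtPrime p.asIdeal ⊗[A] M)) →
        Subsingleton M := fun M _ _ hM => by
    rw [← Module.support_eq_empty_iff (R := A), Set.eq_empty_iff_forall_notMem]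
    intro p
    rw [Module.notMem_support_iff]
    have := hM p
    exact (LocalizedModule.equivTensorProduct p.asIdeal.primeCompl M).toEquiv.subsingleton
  have hK : BddFin K := by
    refine ⟨hfin, a, b, fun i hi => ?_⟩
    rcases hi with hi | hi
    · exact ha i hi
    refine hdet' _ fun p => ?_
    let R := Localization.AtPrime p.asIdeal
    have := key p R i hi
    have : Subsingleton (Dual.HD R ((L A R).obj K) i) :=
      (homUnitShiftEquiv _ i).symm.toEquiv.subsingleton
    exact (HDL R K i).toEquiv.subsingleton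
  refine isDualizing_descent hdet hK (exists_fid_of_maximal hK b fun P hP i hi => hdet _ fun p => ?_) h
  let R := Localization.AtPrime p.asIdeal
  have := key p (R ⧸ P.map (algebraMap A R)) i hi
  exact (quotEquivShift R P hK i).toEquiv.subsingleton

end Groth.Agent.Lib.DMod.Pointwise
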