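import Groth.Agent.Lib.DMod.Basic
import Mathlib.Algebra.Category.ModuleCat.Ext.Finite

/-!
Truncation triangles in `D(A)` and the devissage of bounded objects with finite cohomology.
-/

universe u

open CategoryTheory Category Limits Pretriangulated

attribute [local instance] HasDerivedCategory.standard

namespace Groth.Agent.Lib.DMod.Devissage

open Groth.Agent.Lib.DMod.Basic

variable {A : Type u} [CommRing A]

/-- The bundled data of a truncation triangle `τ≤a K → K → τ>a K`. -/
theorem exists_trunc (K : Dual.D A) (a : ℤ) :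
    ∃ T : Triangle (Dual.D A), T ∈ distTriang (Dual.D A) ∧ T.obj₂ = K ∧
      T.obj₁.IsLE a ∧ T.obj₃.IsGE (a + 1) ∧
      (∀ i ≤ a, Nonempty (Dual.HD A T.obj₁ i ≃ₗ[A] Dual.HD A K i)) ∧
      (∀ i, a < i → Nonempty (Dual.HD A K i ≃ₗ[A] Dual.HD A T.obj₃ i)) := by
  obtain ⟨X₀, Y₁, hX₀, hY₁, ι, π, δ, hT⟩ :=
    DerivedCategory.TStructure.t.exists_triangle K a (a + 1) rfl
  replace hX₀ : X₀.IsLE a := ⟨hX₀⟩
  replace hY₁ : Y₁.IsGE (a + 1) := ⟨hY₁⟩
  refine ⟨Triangle.mk ι π δ, hT, rfl, hX₀, hY₁, fun i hi => ?_, fun i hi => ?_⟩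
  · have : IsIso ((DerivedCategory.homologyFunctor (ModuleCat.{u} A) i).map ι) :=
      Gen.isIso_homology_mor₁ hT (a + 1) i hY₁ (by lia)
    exact ⟨(asIso ((DerivedCategory.homologyFunctor (ModuleCat.{u} A) i).map ι)).toLinearEquiv⟩
  · have : IsIso ((DerivedCategory.homologyFunctor (ModuleCat.{u} A) i).map π) :=
      Gen.isIso_homology_mor₂ hT a i hX₀ hi
    exact ⟨(asIso ((DerivedCategory.homologyFunctor (ModuleCat.{u} A) i).map π)).toLinearEquiv⟩

/-- An object concentrated in degree `a` is a translate of its cohomology module. -/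
theorem exists_iso_inD_shift (K : Dual.D A) (a : ℤ) [K.IsGE a] [K.IsLE a] :
    Nonempty (K ≅ (Dual.inD A (Dual.HD A K a))⟦-a⟧) := by
  obtain ⟨Y, ⟨e⟩⟩ := DerivedCategory.exists_iso_singleFunctor_obj_of_isGE_of_isLE K a
  let eY : Y ≅ (DerivedCategory.homologyFunctor (ModuleCat.{u} A) a).obj K :=
    ((DerivedCategory.singleFunctorCompHomologyFunctorIso _ a).app Y).symm ≪≫
      (DerivedCategory.homologyFunctor _ a).mapIso e.symm
  exact ⟨e ≪≫ ((DerivedCategory.singleFunctors _).shiftIso (-a) a 0 (by lia)).symm.app Y ≪≫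
    (shiftFunctor _ (-a)).mapIso ((DerivedCategory.singleFunctor _ 0).mapIso eY)⟩

/-- Induction over bounded objects of `D(A)` whose cohomology modules satisfy a condition. -/
theorem bounded_induction (Q : ∀ (M : Type u) [AddCommGroup M] [Module A M], Prop)
    (hQ : ∀ (M N : Type u) [AddCommGroup M] [Module A M] [AddCommGroup N] [Module A N],
      (M ≃ₗ[A] N) → Q M → Q N)
    (hQ0 : ∀ (M : Type u) [AddCommGroup M] [Module A M], Subsingleton M → Q M)
    (P : Dual.D A → Prop) (hiso : ∀ K L : Dual.D A, (K ≅ L) → P K → P L)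
    (htri : ∀ T : Triangle (Dual.D A), T ∈ distTriang (Dual.D A) → P T.obj₁ → P T.obj₃ → P T.obj₂)
    (hbase : ∀ (M : Type u) [AddCommGroup M] [Module A M] (n : ℤ), Q M →
      P ((Dual.inD A M)⟦n⟧))
    (K : Dual.D A) (a b : ℤ) (hab : ∀ i, i < a ∨ b < i → Subsingleton (Dual.HD A K i))
    (hK : ∀ i, Q (Dual.HD A K i)) : P K := by
  have key : ∀ (k : ℕ) (a : ℤ) (K : Dual.D A),
      (∀ i, i < a ∨ a + (k : ℤ) ≤ i → Subsingleton (Dual.HD A K i)) →
      (∀ i, Q (Dual.HD A K i)) → P K := by
    intro k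
    induction k with
    | zero =>
      intro a K h hK
      have hz : IsZero K := (isZero_iff_HD K).2 fun i => h i (by lia)
      have h0 : IsZero ((Dual.inD A (Dual.HD A K 0))⟦(0 : ℤ)⟧) := by
        rw [isZero_iff_HD]
        intro i
        have := h 0 (by lia)
        have : Subsingleton (Dual.HD A (Dual.inD A (Dual.HD A K 0)) i) := by
          by_cases hi : i = 0
          · subst hi; exact (HDinD (A := A) _).toEquiv.subsingleton
          · exact subsingleton_HD_inD _ hi
        exact (HDShift _ 0 i i (zero_add i)).toEquiv.subsingleton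
      exact hiso _ _ (h0.iso hz) (hbase _ 0 (hK 0))
    | succ k ih =>
      intro a K h hK
      obtain ⟨T, hT, hT₂, hT₁, hT₃, h₁, h₃⟩ := exists_trunc K a
      have hP₁ : P T.obj₁ := by
        have hge : T.obj₁.IsGE a := (isGE_iff _ a).2 fun i hi => by
          obtain ⟨e⟩ := h₁ i hi.le
          have := h i (Or.inl hi)
          exact e.toEquiv.subsingleton
        obtain ⟨e⟩ := exists_iso_inD_shift T.obj₁ a
        obtain ⟨e₁⟩ := h₁ a le_rfl
        exact hiso _ _ e.symm (hbase _ _ (hQ _ _ e₁.symm (hK a)))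
      have hP₃ : P T.obj₃ := by
        refine ih (a + 1) T.obj₃ (fun i hi => ?_) (fun i => ?_)
        · by_cases hia : a < i
          · obtain ⟨e⟩ := h₃ i hia
            have := h i (by lia)
            exact e.symm.toEquiv.subsingleton
          · exact subsingleton_HD_of_isGE _ (a + 1) (by lia)
        · by_cases hia : a < i
          · obtain ⟨e⟩ := h₃ i hia
            exact hQ _ _ e (hK i)
          · exact hQ0 _ (subsingleton_HD_of_isGE _ (a + 1) (by lia))
      exact hT₂ ▸ htri T hT hP₁ hP₃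
  refine key (b + 1 - a).toNat a K (fun i hi => hab i ?_) hK
  lia

/-- Induction over bounded objects of `D(A)` whose cohomology modules satisfy a condition,
with control of the degrees of the pieces. -/
theorem bounded_induction_range (Q : ∀ (M : Type u) [AddCommGroup M] [Module A M], Prop)
    (hQ : ∀ (M N : Type u) [AddCommGroup M] [Module A M] [AddCommGroup N] [Module A N],
      (M ≃ₗ[A] N) → Q M → Q N)
    (hQ0 : ∀ (M : Type u) [AddCommGroup M] [Module A M], Subsingleton M → Q M)
    (P : Dual.D A → Prop) (hiso : ∀ K L : Dual.D A, (K ≅ L) → P K → P L)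
    (htri : ∀ T : Triangle (Dual.D A), T ∈ distTriang (Dual.D A) → P T.obj₁ → P T.obj₃ → P T.obj₂)
    (hzero : ∀ K : Dual.D A, IsZero K → P K) (a b : ℤ)
    (hbase : ∀ (M : Type u) [AddCommGroup M] [Module A M] (n : ℤ), a ≤ -n → -n ≤ b → Q M →
      P ((Dual.inD A M)⟦n⟧))
    (K : Dual.D A) (hab : ∀ i, i < a ∨ b < i → Subsingleton (Dual.HD A K i))
    (hK : ∀ i, Q (Dual.HD A K i)) : P K := by
  have key : ∀ (k : ℕ) (c : ℤ) (K : Dual.D A), a ≤ c → c + (k : ℤ) ≤ max (b + 1) a →
      (∀ i, i < c ∨ c + (k : ℤ) ≤ i → Subsingleton (Dual.HD A K i)) →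
      (∀ i, Q (Dual.HD A K i)) → P K := by
    intro k
    induction k with
    | zero =>
      intro c K _ _ h _
      exact hzero _ ((isZero_iff_HD K).2 fun i => h i (by lia))
    | succ k ih =>
      intro c K hca hcb h hK
      obtain ⟨T, hT, hT₂, hT₁, hT₃, h₁, h₃⟩ := exists_trunc K c
      have hP₁ : P T.obj₁ := by
        have hge : T.obj₁.IsGE c := (isGE_iff _ c).2 fun i hi => by
          obtain ⟨e⟩ := h₁ i hi.le
          have := h i (Or.inl hi)
          exact e.toEquiv.subsingleton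
        obtain ⟨e⟩ := exists_iso_inD_shift T.obj₁ c
        obtain ⟨e₁⟩ := h₁ c le_rfl
        exact hiso _ _ e.symm (hbase _ _ (by lia) (by lia) (hQ _ _ e₁.symm (hK c)))
      have hP₃ : P T.obj₃ := by
        refine ih (c + 1) T.obj₃ (by lia) (by lia) (fun i hi => ?_) (fun i => ?_)
        · by_cases hia : c < i
          · obtain ⟨e⟩ := h₃ i hia
            have := h i (by lia)
            exact e.symm.toEquiv.subsingleton
          · exact subsingleton_HD_of_isGE _ (c + 1) (by lia)
        · by_cases hia : c < i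
          · obtain ⟨e⟩ := h₃ i hia
            exact hQ _ _ e (hK i)
          · exact hQ0 _ (subsingleton_HD_of_isGE _ (c + 1) (by lia))
      exact hT₂ ▸ htri T hT hP₁ hP₃
  refine key (b + 1 - a).toNat a K le_rfl (by lia) (fun i hi => hab i ?_) hK
  lia

/-- Induction over bounded objects of `D(A)` with finite cohomology. -/
theorem bounded_finite_induction
    (P : Dual.D A → Prop) (hiso : ∀ K L : Dual.D A, (K ≅ L) → P K → P L)
    (htri : ∀ T : Triangle (Dual.D A), T ∈ distTriang (Dual.D A) → P T.obj₁ → P T.obj₃ → P T.obj₂)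
    (hbase : ∀ (M : Type u) [AddCommGroup M] [Module A M] [Module.Finite A M] (n : ℤ),
      P ((Dual.inD A M)⟦n⟧))
    (K : Dual.D A) (a b : ℤ) (hab : ∀ i, i < a ∨ b < i → Subsingleton (Dual.HD A K i))
    (hK : ∀ i, Module.Finite A (Dual.HD A K i)) : P K :=
  bounded_induction (fun M _ _ => Module.Finite A M)
    (fun M N _ _ _ _ e h => by exact Module.Finite.equiv e)
    (fun M _ _ h => by exact Module.Finite.of_finite)
    P hiso htri (fun M _ _ n h => hbase M n) K a b hab hK

theorem finite_hom_inD_inD [IsNoetherianRing A] (M N : Type u) [AddCommGroup M] [Module A M]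
    [AddCommGroup N] [Module A N] [Module.Finite A M] [Module.Finite A N] (n : ℤ) :
    Module.Finite A (Dual.inD A M ⟶ (Dual.inD A N)⟦n⟧) := by
  by_cases h : n < 0
  · have := subsingleton_hom_inD_neg (A := A) M N h
    exact Module.Finite.of_finite
  · lift n to ℕ using not_lt.1 h
    exact Module.Finite.equiv (extEquiv (A := A) M N n)

/-- `Hom` between bounded objects with finite cohomology is finite. -/
theorem finite_hom_of_bounded [IsNoetherianRing A] (K L : Dual.D A) (a b c d : ℤ)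
    (hKb : ∀ i, i < a ∨ b < i → Subsingleton (Dual.HD A K i))
    (hKf : ∀ i, Module.Finite A (Dual.HD A K i))
    (hLb : ∀ i, i < c ∨ d < i → Subsingleton (Dual.HD A L i))
    (hLf : ∀ i, Module.Finite A (Dual.HD A L i)) : Module.Finite A (K ⟶ L) := by
  refine bounded_finite_induction (fun X => Module.Finite A (X ⟶ L)) ?_ ?_ ?_ K a b hKb hKf
  · intro X Y e h
    exact Module.Finite.equiv (Linear.homCongr A e (Iso.refl L))
  · intro T hT h₁ h₃
    exact finite_hom_from_obj₂ hT L h₁ h₃
  · intro M _ _ _ p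
    refine bounded_finite_induction (fun Y => Module.Finite A ((Dual.inD A M)⟦p⟧ ⟶ Y)) ?_ ?_ ?_
      L c d hLb hLf
    · intro X Y e h
      exact Module.Finite.equiv (Linear.homCongr A (Iso.refl _) e)
    · intro T hT h₁ h₃
      exact finite_hom_to_obj₂ hT _ h₁ h₃
    · intro N _ _ _ q
      have := finite_hom_inD_inD (A := A) M N (q - p)
      exact Module.Finite.equiv (homShiftAdj _ _ p q (q - p) (by lia)).symm

/-- `Hom(K, L)` is unchanged by truncating `K` below a lower bound of `L`. -/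
theorem exists_trunc_hom_equiv (K L : Dual.D A) (c : ℤ) [L.IsGE c] :
    ∃ T : Triangle (Dual.D A), T ∈ distTriang (Dual.D A) ∧ T.obj₂ = K ∧
      T.obj₁.IsLE (c - 2) ∧ T.obj₃.IsGE (c - 1) ∧
      (∀ i, c - 2 < i → Nonempty (Dual.HD A K i ≃ₗ[A] Dual.HD A T.obj₃ i)) ∧
      Nonempty ((T.obj₃ ⟶ L) ≃ₗ[A] (K ⟶ L)) := by
  obtain ⟨T, hT, hT₂, hT₁, hT₃, h₁, h₃⟩ := exists_trunc K (c - 2)
  refine ⟨T, hT, hT₂, hT₁, (by rwa [show c - 2 + 1 = c - 1 by lia] at hT₃), h₃, ?_⟩
  subst hT₂
  refine ⟨LinearEquiv.ofBijective (Linear.leftComp A L T.mor₂) ⟨?_, ?_⟩⟩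
  · rw [injective_iff_map_eq_zero]
    intro f hf
    obtain ⟨g, hg⟩ := Triangle.yoneda_exact₃ _ hT f hf
    have : (T.obj₁⟦(1 : ℤ)⟧).IsLE (c - 3) :=
      DerivedCategory.TStructure.t.isLE_shift T.obj₁ (c - 2) 1 (c - 3) (by lia)
    rw [hg, DerivedCategory.TStructure.t.zero g (c - 3) c (by lia), comp_zero]
  · intro f
    obtain ⟨g, hg⟩ := Triangle.yoneda_exact₂ _ hT f
      (DerivedCategory.TStructure.t.zero (T.mor₁ ≫ f) (c - 2) c (by lia))
    exact ⟨g, hg.symm⟩

/-- `Hom(K, L)` is finite for `K` bounded above and `L` bounded, with finite cohomology. -/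
theorem finite_hom_of_isLE [IsNoetherianRing A] (K L : Dual.D A) (b c d : ℤ)
    (hKb : ∀ i, b < i → Subsingleton (Dual.HD A K i))
    (hKf : ∀ i, Module.Finite A (Dual.HD A K i))
    (hLb : ∀ i, i < c ∨ d < i → Subsingleton (Dual.HD A L i))
    (hLf : ∀ i, Module.Finite A (Dual.HD A L i)) : Module.Finite A (K ⟶ L) := by
  have : L.IsGE c := (isGE_iff L c).2 fun i hi => hLb i (Or.inl hi)
  obtain ⟨T, hT, hT₂, hT₁, hT₃, h₃, ⟨e⟩⟩ := exists_trunc_hom_equiv K L c
  have h : Module.Finite A (T.obj₃ ⟶ L) := by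
    refine finite_hom_of_bounded T.obj₃ L (c - 1) (max b (c - 2)) c d (fun i hi => ?_)
      (fun i => ?_) hLb hLf
    · rcases hi with hi | hi
      · exact subsingleton_HD_of_isGE _ (c - 1) hi
      · obtain ⟨f⟩ := h₃ i (by lia)
        have := hKb i (by lia)
        exact f.symm.toEquiv.subsingleton
    · by_cases hi : c - 2 < i
      · obtain ⟨f⟩ := h₃ i hi
        exact Module.Finite.equiv f
      · have := subsingleton_HD_of_isGE T.obj₃ (c - 1) (i := i) (by lia)
        exact Module.Finite.of_finite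
  exact Module.Finite.equiv e

end Groth.Agent.Lib.DMod.Devissage
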