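import Groth.Agent.Lib.DMod.Pairing
import Groth.Agent.Lib.DMod.Devissage
import Mathlib.RingTheory.Ideal.AssociatedPrime.Finiteness

/-!
`Hom(k, -)` detects zero objects and isomorphisms among bounded objects with finite cohomology
over a Noetherian local ring.
-/

universe u

open CategoryTheory Category Limits Pretriangulated

attribute [local instance] HasDerivedCategory.standard

namespace Groth.Agent.Lib.DMod.Conservative

open Groth.Agent.Lib.DMod Groth.Agent.Lib.DMod.Basic Groth.Agent.Lib.DMod.Sys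

variable {A : Type u} [CommRing A]

/-- An object is bounded with finite cohomology. -/
def BddFin (X : Dual.D A) : Prop :=
  (∀ i, Module.Finite A (Dual.HD A X i)) ∧
    ∃ a b : ℤ, ∀ i, i < a ∨ b < i → Subsingleton (Dual.HD A X i)

theorem bddFin_of_iso {X Y : Dual.D A} (e : X ≅ Y) (h : BddFin X) : BddFin Y := by
  obtain ⟨hf, a, b, hab⟩ := h
  exact ⟨fun i => have := hf i; Module.Finite.equiv (HDCongr e i),
    a, b, fun i hi => have := hab i hi; (HDCongr e i).symm.toEquiv.subsingleton⟩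

theorem bddFin_inD (M : Type u) [AddCommGroup M] [Module A M] [Module.Finite A M] :
    BddFin (Dual.inD A M) :=
  ⟨finite_HD_inD M, 0, 0, fun i hi => subsingleton_HD_inD M (by lia)⟩

theorem bddFin_shift {X : Dual.D A} (h : BddFin X) (n : ℤ) : BddFin (X⟦n⟧) := by
  obtain ⟨hf, a, b, hab⟩ := h
  exact ⟨fun i => have := hf (n + i); Module.Finite.equiv (HDShift X n i (n + i) rfl).symm,
    a - n, b - n, fun i hi => have := hab (n + i) (by lia)
      (HDShift X n i (n + i) rfl).toEquiv.subsingleton⟩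

theorem bddFin_obj₂ [IsNoetherianRing A] {T : Triangle (Dual.D A)} (hT : T ∈ distTriang (Dual.D A))
    (h₁ : BddFin T.obj₁) (h₃ : BddFin T.obj₃) : BddFin T.obj₂ := by
  obtain ⟨f₁, a, b, hab⟩ := h₁
  obtain ⟨f₃, a', b', hab'⟩ := h₃
  refine ⟨fun i => ?_, min a a', max b b', fun i hi => ?_⟩
  · have := f₁ i
    have := f₃ i
    refine Module.Finite.of_exact (f := mapHD T.mor₁ i) (g := (mapHD T.mor₂ i).rangeRestrict) ?_
      (LinearMap.surjective_rangeRestrict _)
    intro x
    rw [← exact_mapHD₂ hT i x]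
    exact Subtype.ext_iff
  · have := hab i (by lia)
    have := hab' i (by lia)
    refine subsingleton_of_forall_eq 0 fun x => ?_
    obtain ⟨y, rfl⟩ := (exact_mapHD₂ hT i x).1 (Subsingleton.elim _ _)
    rw [Subsingleton.elim y 0, map_zero]

theorem bddFin_obj₃ [IsNoetherianRing A] {T : Triangle (Dual.D A)} (hT : T ∈ distTriang (Dual.D A))
    (h₁ : BddFin T.obj₁) (h₂ : BddFin T.obj₂) : BddFin T.obj₃ :=
  bddFin_obj₂ (rot_of_distTriang _ hT) h₂ (bddFin_shift h₁ 1)

theorem finite_hom [IsNoetherianRing A] {X Y : Dual.D A} (hX : BddFin X) (hY : BddFin Y) :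
    Module.Finite A (X ⟶ Y) := by
  obtain ⟨hXf, a, b, hXb⟩ := hX
  obtain ⟨hYf, c, d, hYb⟩ := hY
  exact Devissage.finite_hom_of_bounded X Y a b c d hXb hXf hYb hYf

variable [IsLocalRing A] [IsNoetherianRing A]

local notation "𝔪" => IsLocalRing.maximalIdeal A

/-- A bounded object with finite cohomology receiving no maps from translates of `k` is zero. -/
theorem isZero_of_residue {X : Dual.D A} (hX : BddFin X)
    (h : ∀ i : ℤ, Subsingleton (Dual.inD A (A ⧸ 𝔪) ⟶ X⟦i⟧)) : IsZero X := by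
  suffices key : ∀ (I : Ideal A) (M : Type u) [AddCommGroup M] [Module A M] [Module.Finite A M],
      (∀ a ∈ I, ∀ x : M, a • x = 0) → ∀ i : ℤ, Subsingleton (Dual.inD A M ⟶ X⟦i⟧) by
    rw [isZero_iff_HD]
    intro i
    have := key ⊥ A (fun a ha x => by rw [Ideal.mem_bot.1 ha, zero_smul]) i
    exact (homUnitShiftEquiv X i).symm.toEquiv.subsingleton
  intro I
  induction I using WellFoundedGT.induction with
  | _ I ih =>
    intro M _ _ hfin hI i
    revert hI i
    refine IsNoetherianRing.induction_on_isQuotientEquivQuotientPrime A hfin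
      (motive := fun N => (∀ a ∈ I, ∀ x : N, a • x = 0) → ∀ i : ℤ,
        Subsingleton (Dual.inD A N ⟶ X⟦i⟧)) ?_ ?_ ?_
    · intro N _ _ _ _ _ i
      exact subsingleton_of_forall_eq 0 fun g =>
        (Functor.map_isZero _ (ModuleCat.isZero_of_subsingleton _)).eq_of_src g 0
    · intro N _ _ _ p e hI' i
      suffices hp : Subsingleton (Dual.inD A (A ⧸ p.1) ⟶ X⟦i⟧) from
        (Linear.homCongr A ((DerivedCategory.singleFunctor (ModuleCat.{u} A) 0).mapIso e.toModuleIso)
          (Iso.refl _)).toEquiv.subsingleton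
      have hIp : I ≤ p.1 := fun a ha => by
        have := congrArg e (hI' a ha (e.symm (Submodule.Quotient.mk 1)))
        rw [map_smul, LinearEquiv.apply_symm_apply, map_zero, ← Submodule.Quotient.mk_smul,
          Submodule.Quotient.mk_eq_zero, smul_eq_mul, mul_one] at this
        exact this
      by_cases hmax : p.1 = 𝔪
      · rw [hmax]; exact h i
      obtain ⟨x, hxm, hxp⟩ := SetLike.exists_of_lt
        (lt_of_le_of_ne (IsLocalRing.le_maximalIdeal p.2.ne_top) hmax)
      let l : (A ⧸ p.1) →ₗ[A] (A ⧸ p.1) := x • LinearMap.id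
      have hl : Function.Injective l := by
        rw [injective_iff_map_eq_zero]
        intro y hy
        obtain ⟨y, rfl⟩ := Submodule.Quotient.mk_surjective _ y
        change x • (Submodule.Quotient.mk y : A ⧸ p.1) = 0 at hy
        rw [← Submodule.Quotient.mk_smul, Submodule.Quotient.mk_eq_zero] at hy
        exact (Submodule.Quotient.mk_eq_zero _).2 ((p.2.mem_or_mem hy).resolve_left hxp)
      let S : ShortComplex (ModuleCat.{u} A) :=
        ShortComplex.mk (ModuleCat.ofHom l) (ModuleCat.ofHom (LinearMap.range l).mkQ)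
          (ModuleCat.hom_ext (LinearMap.exact_map_mkQ_range l).linearMap_comp_eq_zero)
      have hS : S.ShortExact :=
        { exact := (ShortComplex.ShortExact.moduleCat_exact_iff_function_exact S).2
            (LinearMap.exact_map_mkQ_range l)
          mono_f := (ModuleCat.mono_iff_injective _).2 hl
          epi_g := (ModuleCat.epi_iff_surjective _).2 (Submodule.mkQ_surjective _) }
      have hN : ∀ j : ℤ, Subsingleton
          (Dual.inD A ((A ⧸ p.1) ⧸ LinearMap.range l) ⟶ X⟦j⟧) := by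
        refine ih (p.1 ⊔ Ideal.span {x}) ?_ _ fun a ha y => ?_
        · exact lt_of_le_of_lt hIp (lt_of_le_of_ne le_sup_left fun hc => hxp (by
            rw [hc]; exact Ideal.mem_sup_right (Ideal.mem_span_singleton_self x)))
        · obtain ⟨y, rfl⟩ := Submodule.Quotient.mk_surjective _ y
          obtain ⟨b, hb, c, hc, rfl⟩ := Submodule.mem_sup.1 ha
          obtain ⟨d, rfl⟩ := Ideal.mem_span_singleton'.1 hc
          obtain ⟨y, rfl⟩ := Submodule.Quotient.mk_surjective _ y
          rw [← Submodule.Quotient.mk_smul, Submodule.Quotient.mk_eq_zero]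
          refine ⟨d • Submodule.Quotient.mk y, ?_⟩
          simp only [l, LinearMap.smul_apply, LinearMap.id_apply]
          rw [← Submodule.Quotient.mk_smul, ← Submodule.Quotient.mk_smul,
            ← Submodule.Quotient.mk_smul, Submodule.Quotient.eq, smul_eq_mul, smul_eq_mul, smul_eq_mul]
          have : x * (d * y) - (b + d * x) * y = -(b * y) := by ring
          rw [this]
          exact neg_mem (Ideal.mul_mem_right y _ hb)
      have := finite_hom (bddFin_inD (A := A) (A ⧸ p.1)) (bddFin_shift hX i)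
      refine subsingleton_of_forall_eq 0 fun g => ?_
      have htop : ∀ g : Dual.inD A (A ⧸ p.1) ⟶ X⟦i⟧, ∃ g', x • g' = g := fun g => by
        have hs : Subsingleton ((Dual.inD A ((A ⧸ p.1) ⧸ LinearMap.range l))⟦(-1 : ℤ)⟧ ⟶ X⟦i⟧) :=
          have := hN (i + 1)
          (homShiftAdj _ X (-1) i (i + 1) (by lia)).toEquiv.subsingleton
        obtain ⟨g', hg'⟩ := Triangle.yoneda_exact₂ _
          (inv_rot_of_distTriang _ hS.singleTriangle_distinguished) g (hs.elim _ _)
        refine ⟨g', ?_⟩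
        have h1 : hS.singleTriangle.mor₁ = x • 𝟙 (Dual.inD A (A ⧸ p.1)) := by
          rw [← CategoryTheory.Functor.map_id, ← CategoryTheory.Functor.map_smul]
          rfl
        exact ((Linear.smul_comp _ _ _ x (𝟙 (Dual.inD A (A ⧸ p.1))) g').trans
          (congrArg (x • ·) (Category.id_comp g'))).symm.trans
          ((congrArg (· ≫ g') h1.symm).trans hg'.symm)
      have h0 : (⊤ : Submodule A (Dual.inD A (A ⧸ p.1) ⟶ X⟦i⟧)) ≤ ⊥ :=
        Submodule.le_of_le_smul_of_le_jacobson_bot Module.Finite.fg_top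
          (IsLocalRing.maximalIdeal_le_jacobson ⊥) (fun g _ => by
            obtain ⟨g', rfl⟩ := htop g
            exact Submodule.mem_sup_right (Submodule.smul_mem_smul hxm trivial))
      simpa using h0 (Submodule.mem_top (x := g))
    · intro N₁ _ _ _ N₂ _ _ _ N₃ _ _ _ g₁ g₂ hg₁ hg₂ hex ih₁ ih₃ hI' i
      obtain ⟨T, hT, e₁, e₂, e₃⟩ := HomSupp.exists_triangle_of_shortExact g₁ g₂ hg₁ hg₂ hex
      rw [← e₂]
      refine subsingleton_hom_from_obj₂ hT _ (e₁ ▸ ih₁ (fun a ha y => hg₁ ?_) i)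
        (e₃ ▸ ih₃ (fun a ha y => ?_) i)
      · rw [map_smul, hI' a ha, map_zero]
      · obtain ⟨y, rfl⟩ := hg₂ y
        rw [← map_smul, hI' a ha, map_zero]

omit [IsLocalRing A] [IsNoetherianRing A] in
theorem comp_map_unit_smul {W X Y : Dual.D A} (g : W ⟶ X⟦(1 : ℤ)⟧) (v : X ⟶ Y) (ε : ℤˣ)
    (h : g ≫ (ε • v)⟦(1 : ℤ)⟧' = 0) : g ≫ v⟦(1 : ℤ)⟧' = 0 := by
  rcases Int.units_eq_one_or ε with hu | hu <;> subst hu
  · simpa using h
  · simpa [Units.smul_def] using h

omit [IsLocalRing A] [IsNoetherianRing A] in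
theorem unit_smul_comp {X Y Z : Dual.D A} (v : X ⟶ Y) (w : Y ⟶ Z) (ε : ℤˣ)
    (h : (ε • v) ≫ w = 0) : v ≫ w = 0 := by
  rcases Int.units_eq_one_or ε with hu | hu <;> subst hu
  · simpa using h
  · simpa [Units.smul_def] using h

/-- A map inducing bijections on `Hom(k, -)` is an isomorphism. -/
theorem isIso_of_residue {X Y : Dual.D A} (hX : BddFin X) (hY : BddFin Y) (f : X ⟶ Y)
    (hinj : ∀ (i : ℤ) (g : Dual.inD A (A ⧸ 𝔪) ⟶ X⟦i⟧), g ≫ f⟦i⟧' = 0 → g = 0)
    (hsurj : ∀ (i : ℤ) (g : Dual.inD A (A ⧸ 𝔪) ⟶ Y⟦i⟧), ∃ g', g' ≫ f⟦i⟧' = g) : IsIso f := by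
  obtain ⟨C, b, c, hT⟩ := distinguished_cocone_triangle f
  refine Triangle.isZero₃_iff_isIso₁ _ hT |>.1 (isZero_of_residue (bddFin_obj₃ hT hX hY) fun i => ?_)
  let S := (Triangle.shiftFunctor (Dual.D A) i).obj (Triangle.mk f b c)
  have hS : S ∈ distTriang (Dual.D A) := Triangle.shift_distinguished _ hT i
  refine subsingleton_of_forall_eq 0 fun (g : Dual.inD A (A ⧸ 𝔪) ⟶ S.obj₃) => ?_
  -- the image in `X[i][1]` is zero
  let e := (shiftFunctorAdd' (Dual.D A) i 1 (i + 1) rfl).app X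
  have h0 : g ≫ S.mor₃ = 0 := by
    have h1 : S.mor₃ ≫ S.mor₁⟦(1 : ℤ)⟧' = 0 := comp_distTriang_mor_zero₃₁ _ hS
    refine (cancel_mono e.inv).1 ((hinj (i + 1) _ ?_).trans zero_comp.symm)
    have hnat : e.inv ≫ f⟦i + 1⟧' = (f⟦i⟧')⟦(1 : ℤ)⟧' ≫ ((shiftFunctorAdd' (Dual.D A) i 1 (i + 1) rfl).app Y).inv :=
      ((shiftFunctorAdd' (Dual.D A) i 1 (i + 1) rfl).inv.naturality f).symm
    have h2 : (g ≫ S.mor₃) ≫ S.mor₁⟦(1 : ℤ)⟧' = 0 := by rw [Category.assoc, h1, comp_zero]
    have h3 : (g ≫ S.mor₃) ≫ (f⟦i⟧')⟦(1 : ℤ)⟧' = 0 :=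
      comp_map_unit_smul (g ≫ S.mor₃) (f⟦i⟧') i.negOnePow h2
    exact (Category.assoc _ _ _).trans <| (congrArg ((g ≫ S.mor₃) ≫ ·) hnat).trans <|
      (Category.assoc _ _ _).symm.trans <| (congrArg (· ≫ _) h3).trans zero_comp
  obtain ⟨g₂, hg₂⟩ := Triangle.coyoneda_exact₂ _ (rot_of_distTriang _ hS) g h0
  obtain ⟨g₁, hg₁⟩ := hsurj i g₂
  have h12 : S.mor₁ ≫ S.mor₂ = 0 := comp_distTriang_mor_zero₁₂ _ hS
  have h4 : f⟦i⟧' ≫ S.mor₂ = 0 := unit_smul_comp (f⟦i⟧') S.mor₂ i.negOnePow h12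
  refine hg₂.trans ?_
  exact (congrArg (· ≫ S.mor₂) hg₁.symm).trans <| (Category.assoc _ _ _).trans <|
    (congrArg (g₁ ≫ ·) h4).trans comp_zero

variable {ω ω' : Dual.D A}

theorem bddFin_of_isDualizing (hω : Dual.IsDualizing A ω) : BddFin ω := by
  obtain ⟨a, b, hab⟩ := hω.finite_injective_dimension
  exact ⟨hω.finite_cohomology, a, b, fun i hi =>
    have := hab A i hi
    (homUnitShiftEquiv ω i).symm.toEquiv.subsingleton⟩

/-- Normalized dualizing complexes are isomorphic. -/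
theorem nonempty_iso (hω : Dual.IsDualizing A ω) (hn : Dual.IsNormalized A ω)
    (hω' : Dual.IsDualizing A ω') (hn' : Dual.IsNormalized A ω') : Nonempty (ω ≅ ω') := by
  obtain ⟨E, _, _, ψ, hψ⟩ := InjHull.Basic.exists_hull (R := A) (IsLocalRing.ResidueField A)
  obtain ⟨e⟩ := LocalCase.nonempty_residue_equiv hω (IsLocalRing.closedPoint A)
    (IsLocalRing.maximalIdeal.isMaximal A)
  rw [LocalCase.deg_closedPoint_eq_zero hω hn] at e
  obtain ⟨e'⟩ := LocalCase.nonempty_residue_equiv hω' (IsLocalRing.closedPoint A)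
    (IsLocalRing.maximalIdeal.isMaximal A)
  rw [LocalCase.deg_closedPoint_eq_zero hω' hn'] at e'
  let k := Dual.inD A (A ⧸ (IsLocalRing.closedPoint A).asIdeal)
  let u : k ⟶ ω⟦(0 : ℤ)⟧ := e.symm (Submodule.Quotient.mk 1)
  suffices hf : ∃ f : ω ⟶ ω', u ≫ f⟦(0 : ℤ)⟧' ≠ 0 by
    obtain ⟨f, hf⟩ := hf
    suffices IsIso f from ⟨asIso f⟩
    have hne : e' (u ≫ f⟦(0 : ℤ)⟧') ≠ 0 := fun h => hf (e'.injective (h.trans (map_zero _).symm))
    obtain ⟨c, hc⟩ := Submodule.Quotient.mk_surjective _ (e' (u ≫ f⟦(0 : ℤ)⟧'))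
    have hcu : IsUnit c := by
      by_contra hu
      refine hne (hc.symm.trans ((Submodule.Quotient.mk_eq_zero _).2 ?_))
      exact (IsLocalRing.mem_maximalIdeal c).2 hu
    have hgen : ∀ g : k ⟶ ω⟦(0 : ℤ)⟧, ∃ a : A, g = a • u := fun g => by
      obtain ⟨a, ha⟩ := Submodule.Quotient.mk_surjective _ (e g)
      refine ⟨a, e.injective ?_⟩
      rw [map_smul, LinearEquiv.apply_symm_apply, ← Submodule.Quotient.mk_smul, smul_eq_mul, mul_one, ha]
    refine isIso_of_residue (bddFin_of_isDualizing hω) (bddFin_of_isDualizing hω') f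
      (fun i (g : k ⟶ ω⟦i⟧) (hg : g ≫ f⟦i⟧' = 0) => ?_)
      (fun i (g : k ⟶ ω'⟦i⟧) => show ∃ g' : k ⟶ ω⟦i⟧, g' ≫ f⟦i⟧' = g from ?_)
    · by_cases hi : i = 0
      · subst hi
        obtain ⟨a, rfl⟩ := hgen g
        rw [Linear.smul_comp] at hg
        have h1 := congrArg e' hg
        rw [map_smul, map_zero, ← hc, ← Submodule.Quotient.mk_smul, Submodule.Quotient.mk_eq_zero,
          smul_eq_mul] at h1
        show a • u = (0 : k ⟶ ω⟦(0 : ℤ)⟧)
        refine e.injective ?_
        rw [map_smul, LinearEquiv.apply_symm_apply, ← Submodule.Quotient.mk_smul, map_zero,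
          Submodule.Quotient.mk_eq_zero, smul_eq_mul, mul_one]
        exact ((IsLocalRing.maximalIdeal.isMaximal A).isPrime.mem_or_mem h1).resolve_right
          fun hc' => (IsLocalRing.mem_maximalIdeal c).1 hc' hcu
      · exact (hn i hi).elim _ _
    · by_cases hi : i = 0
      · subst hi
        obtain ⟨a, ha⟩ := Submodule.Quotient.mk_surjective _ (e' g)
        obtain ⟨v, hv⟩ := hcu
        refine ⟨(a * (↑v⁻¹ : A)) • u, e'.injective ?_⟩
        rw [Linear.smul_comp, map_smul, ← hc, ← Submodule.Quotient.mk_smul, ← ha, smul_eq_mul,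
          mul_assoc, ← hv, Units.inv_mul, mul_one]
      · exact ⟨0, (hn' i hi).elim _ _⟩
  by_contra hall
  push Not at hall
  obtain ⟨t⟩ := Sys.exists_trace hω' hn' hψ
  have hgood := Pairing.good_of_bounded t hω' hn' hψ ω hω.finite_cohomology
  obtain ⟨a, b, hab⟩ := hω.finite_injective_dimension
  have hgood := hgood a b (fun i hi =>
    have := hab A i hi
    (homUnitShiftEquiv ω i).symm.toEquiv.subsingleton) 0
  let q : QD A 1 ≅ k :=
    (DerivedCategory.singleFunctor (ModuleCat.{u} A) 0).mapIso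
      (Submodule.quotEquivOfEq _ _ (pow_one 𝔪)).toModuleIso
  obtain ⟨N, hN, h0⟩ := hgood.1 1 (q.hom ≫ u) (fun h => by
    obtain ⟨f, rfl⟩ : ∃ f : ω ⟶ ω', f⟦(0 : ℤ)⟧' ≫ ((shiftFunctorZero (Dual.D A) ℤ).app ω').hom = h :=
      ⟨((shiftFunctorZero (Dual.D A) ℤ).app ω).inv ≫ h, by
        have := (shiftFunctorZero (Dual.D A) ℤ).hom.naturality
          (((shiftFunctorZero (Dual.D A) ℤ).app ω).inv ≫ h)
        refine this.trans ?_
        simp⟩
    have hz : (q.hom ≫ u) ≫ f⟦(0 : ℤ)⟧' = 0 := by rw [Category.assoc, hall f, comp_zero]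
    rw [← Category.assoc, hz, zero_comp, map_zero])
  have h1 : q.hom ≫ u = 0 := by
    refine (cancel_mono ((shiftFunctorZero (Dual.D A) ℤ).app ω).hom).1 ?_
    rw [zero_comp]
    refine eq_zero_of_proj_comp hω hn hN _ ?_
    rw [← Category.assoc, h0, zero_comp]
  have h2 : u = 0 := (cancel_epi q.hom).1 (h1.trans comp_zero.symm)
  have h3 := congrArg e h2
  rw [LinearEquiv.apply_symm_apply, map_zero, Submodule.Quotient.mk_eq_zero] at h3
  exact (IsLocalRing.maximalIdeal.isMaximal A).ne_top ((Ideal.eq_top_iff_one _).2 h3)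

end Groth.Agent.Lib.DMod.Conservative

namespace Groth.Agent.Lib.DMod.Conservative

open Groth.Agent.Lib.DMod Groth.Agent.Lib.DMod.Basic

variable {A : Type u} [CommRing A] [IsLocalRing A] [IsNoetherianRing A]

/-- Translate a dualizing complex to a normalized one. -/
theorem exists_normalized_shift {ω : Dual.D A} (hω : Dual.IsDualizing A ω) :
    ∃ m : ℤ, Dual.IsNormalized A (ω⟦m⟧) := by
  refine ⟨Degree.deg hω (IsLocalRing.closedPoint A), fun i hi => ?_⟩
  have h : Subsingleton (Dual.inD A (A ⧸ (IsLocalRing.closedPoint A).asIdeal) ⟶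
      ω⟦Degree.deg hω (IsLocalRing.closedPoint A) + i⟧) :=
    LocalCase.subsingleton_residue_of_ne hω _ (IsLocalRing.maximalIdeal.isMaximal A) (by lia)
  exact (Linear.homCongr A (Iso.refl _)
    ((shiftFunctorAdd' (Dual.D A) _ i _ rfl).app ω)).symm.toEquiv.subsingleton_congr.2 h

end Groth.Agent.Lib.DMod.Conservative
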