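import Groth.Agent.Lib.DMod.DimDegree

/-!
Consequences at maximal ideals and over local rings.
-/

universe u v

open CategoryTheory Category Limits Pretriangulated

attribute [local instance] HasDerivedCategory.standard

namespace Groth.Agent.Lib.DMod.LocalCase

open Groth.Agent.Lib.DMod.Basic Groth.Agent.Lib.DMod.Degree

variable {A : Type u} [CommRing A]

theorem subsingleton_of_closedPoint_notMem [IsLocalRing A] (M : Type v) [AddCommGroup M] [Module A M]
    (h : IsLocalRing.closedPoint A ∉ Module.support A M) : Subsingleton M := by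
  by_contra hc
  rw [not_subsingleton_iff_nontrivial] at hc
  exact h (IsLocalRing.closedPoint_mem_support A M)

theorem subsingleton_iff_closedPoint_notMem [IsLocalRing A] (M : Type v) [AddCommGroup M]
    [Module A M] : Subsingleton M ↔ IsLocalRing.closedPoint A ∉ Module.support A M :=
  ⟨fun _ => by simp [Module.support_eq_empty], subsingleton_of_closedPoint_notMem M⟩

theorem nontrivial_iff_closedPoint_mem [IsLocalRing A] (M : Type v) [AddCommGroup M]
    [Module A M] : Nontrivial M ↔ IsLocalRing.closedPoint A ∈ Module.support A M := by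
  rw [← not_subsingleton_iff_nontrivial, subsingleton_iff_closedPoint_notMem (A := A) M, not_not]

/-- A module killed by a maximal ideal is supported at that ideal only. -/
theorem subsingleton_of_killed (m : PrimeSpectrum A) (hm : m.asIdeal.IsMaximal) (M : Type v)
    [AddCommGroup M] [Module A M] (hk : ∀ a ∈ m.asIdeal, ∀ x : M, a • x = 0)
    (h : m ∉ Module.support A M) : Subsingleton M := by
  rw [← Module.support_eq_empty_iff (R := A), Set.eq_empty_iff_forall_notMem]
  intro q hq
  obtain ⟨x, hx⟩ := Module.mem_support_iff'.1 hq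
  have hle : m.asIdeal ≤ q.asIdeal := fun a ha => by
    by_contra hc
    exact hx a hc (hk a ha x)
  have : q = m := PrimeSpectrum.ext (hm.eq_of_le q.isPrime.ne_top hle).symm
  exact h (this ▸ hq)

theorem smul_hom_inD_quotient_eq_zero (I : Ideal A) (Y : Dual.D A) (a : A) (ha : a ∈ I)
    (f : Dual.inD A (A ⧸ I) ⟶ Y) : a • f = 0 := by
  refine HomSupp.smul_hom_eq_zero_left (HomSupp.smul_id_inD fun x => ?_) f
  obtain ⟨x, rfl⟩ := Submodule.Quotient.mk_surjective _ x
  rw [← Submodule.Quotient.mk_smul, Submodule.Quotient.mk_eq_zero]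
  exact I.mul_mem_right x ha

variable [IsNoetherianRing A] {ω : Dual.D A} (hω : Dual.IsDualizing A ω)
include hω

theorem subsingleton_residue_of_ne (m : PrimeSpectrum A) (hm : m.asIdeal.IsMaximal) {i : ℤ}
    (hi : i ≠ deg hω m) : Subsingleton (Dual.inD A (A ⧸ m.asIdeal) ⟶ ω⟦i⟧) :=
  subsingleton_of_killed m hm _ (fun a ha f => smul_hom_inD_quotient_eq_zero _ _ a ha f)
    (notMem_support_of_ne_deg hω m hi)

theorem nonempty_residue_equiv (m : PrimeSpectrum A) (hm : m.asIdeal.IsMaximal) :
    Nonempty ((Dual.inD A (A ⧸ m.asIdeal) ⟶ ω⟦deg hω m⟧) ≃ₗ[A] (A ⧸ m.asIdeal)) := by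
  obtain ⟨φ, hφ⟩ := exists_generator_deg hω m
  have hsurj : Function.Surjective φ := by
    rw [← LinearMap.range_eq_top, ← Submodule.Quotient.subsingleton_iff]
    refine subsingleton_of_killed m hm _ (fun a ha x => ?_) hφ
    obtain ⟨x, rfl⟩ := Submodule.Quotient.mk_surjective _ x
    rw [← Submodule.Quotient.mk_smul, smul_hom_inD_quotient_eq_zero _ _ a ha x,
      Submodule.Quotient.mk_zero]
  have hker : LinearMap.ker φ = m.asIdeal := by
    refine (hm.eq_of_le (fun htop => ?_) fun a ha => ?_).symm
    · have h1 : φ 1 = 0 := LinearMap.mem_ker.1 (by rw [htop]; trivial)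
      have : Subsingleton (Dual.inD A (A ⧸ m.asIdeal) ⟶ ω⟦deg hω m⟧) := by
        refine subsingleton_of_forall_eq 0 fun y => ?_
        obtain ⟨a, rfl⟩ := hsurj y
        rw [← mul_one a, ← smul_eq_mul, map_smul, h1, smul_zero]
      exact absurd (mem_support_deg hω m) (by simp [Module.support_eq_empty])
    · rw [LinearMap.mem_ker, ← mul_one a, ← smul_eq_mul, map_smul]
      exact smul_hom_inD_quotient_eq_zero _ _ a ha (φ 1)
  exact ⟨((Submodule.quotEquivOfEq _ _ hker.symm).trans (φ.quotKerEquivOfSurjective hsurj)).symm⟩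

variable [IsLocalRing A]

theorem deg_closedPoint_eq_zero (hn : Dual.IsNormalized A ω) :
    deg hω (IsLocalRing.closedPoint A) = 0 := by
  by_contra hne
  have h : Subsingleton (Dual.inD A (A ⧸ (IsLocalRing.closedPoint A).asIdeal) ⟶
      ω⟦deg hω (IsLocalRing.closedPoint A)⟧) := hn _ hne
  exact absurd (mem_support_deg hω (IsLocalRing.closedPoint A)) (by simp [Module.support_eq_empty])

theorem deg_nonpos (hn : Dual.IsNormalized A ω) (q : PrimeSpectrum A) : deg hω q ≤ 0 :=
  deg_closedPoint_eq_zero hω hn ▸ deg_le hω (IsLocalRing.le_maximalIdeal q.isPrime.ne_top)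

/-- `deg q = - dim A/q` for a normalized dualizing complex. -/
theorem ringKrullDim_quotient_eq_neg_deg (hn : Dual.IsNormalized A ω) (q : PrimeSpectrum A) :
    ringKrullDim (A ⧸ q.asIdeal) = (((-deg hω q).toNat : ℕ) : WithBot ℕ∞) := by
  rw [DimDegree.ringKrullDim_quotient_eq hω q, deg_closedPoint_eq_zero hω hn]
  simp

/-- `Hom(M, ω[i]) = 0` for positive `i` over a local ring with normalized `ω`. -/
theorem subsingleton_hom_of_pos (hn : Dual.IsNormalized A ω) (M : Type u) [AddCommGroup M]
    [Module A M] [Module.Finite A M] {i : ℤ} (hi : 0 < i) :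
    Subsingleton (Dual.inD A M ⟶ ω⟦i⟧) := by
  refine subsingleton_of_closedPoint_notMem _ (notMem_support_hom_of_outside hω _ M i (Or.inl ?_))
  rwa [deg_closedPoint_eq_zero hω hn]

/-- Primes of least degree in the support have degree `- dim M`. -/
theorem exists_min_deg_local (hn : Dual.IsNormalized A ω) (M : Type v) [AddCommGroup M] [Module A M]
    [Nontrivial M] (d : ℕ) (hd : Module.supportDim A M = d) :
    ∃ q : PrimeSpectrum A, q ∈ Module.support A M ∧ deg hω q = -(d : ℤ) ∧
      ∀ r : PrimeSpectrum A, r ∈ Module.support A M → deg hω q ≤ deg hω r := by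
  obtain ⟨q, -, hq, hmin⟩ := DimDegree.exists_min_deg hω (IsLocalRing.closedPoint A) M
    (IsLocalRing.closedPoint_mem_support A M)
  have hmin' : ∀ r, r ∈ Module.support A M → deg hω q ≤ deg hω r :=
    fun r hr => hmin r hr (IsLocalRing.le_maximalIdeal r.isPrime.ne_top)
  refine ⟨q, hq, ?_, hmin'⟩
  rw [DimDegree.supportDim_local_eq hω q M hq hmin', deg_closedPoint_eq_zero hω hn] at hd
  have := deg_nonpos hω hn q
  have hd' : (0 - deg hω q).toNat = d := by exact_mod_cast hd
  lia

end Groth.Agent.Lib.DMod.LocalCase
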