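import Groth.Prelude.Def_DRing2
import Groth.Agent.Lib.DMod.Devissage
import Groth.Agent.Lib.DR.Amplitude
import Mathlib.Algebra.Homology.DerivedCategory.DerivabilityStructureInjectives
import Mathlib.Algebra.Category.ModuleCat.Injective
import Mathlib.Algebra.Category.ModuleCat.EnoughInjectives
import Mathlib.Algebra.Module.Injective

/-!
Injective amplitude in `D(A)` from the vanishing of `Hom((A/I)[0], K[i])`.
-/

universe u

open CategoryTheory CategoryTheory.Limits Pretriangulated

attribute [local instance] HasDerivedCategory.standard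

namespace Groth.Agent.Lib.DMod.InjAmp

variable {A : Type u} [CommRing A]

/-- Maps out of a module placed in degree `n`. -/
noncomputable def singleHomEquiv (M : ModuleCat.{u} A) (n : ℤ) (K : Dual.D A) :
    (DerivedCategory.Q.obj ((HomologicalComplex.single (ModuleCat.{u} A) (.up ℤ) n).obj M) ⟶ K) ≃
      (Dual.inD A M ⟶ K⟦n⟧) :=
  (Iso.homCongr (((DerivedCategory.singleFunctorIsoCompQ (ModuleCat.{u} A) n).app M).symm ≪≫
      (((DerivedCategory.singleFunctors (ModuleCat.{u} A)).shiftIso (-n) n 0 (by simp)).app M).symm)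
      (Iso.refl K)).trans
    ((shiftEquiv' (Dual.D A) (-n) n (by simp)).toAdjunction.homEquiv _ _)

theorem exists_Q_map_eq {X E : CochainComplex (ModuleCat.{u} A) ℤ} [E.IsKInjective]
    (f : DerivedCategory.Q.obj X ⟶ DerivedCategory.Q.obj E) :
    ∃ φ : X ⟶ E, DerivedCategory.Q.map φ = f := by
  let e := DerivedCategory.quotientCompQhIso (ModuleCat.{u} A)
  obtain ⟨g, hg⟩ := (CochainComplex.IsKInjective.Qh_map_bijective
    ((HomotopyCategory.quotient (ModuleCat.{u} A) (.up ℤ)).obj X) E).surjective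
      (e.hom.app X ≫ f ≫ e.inv.app E)
  obtain ⟨φ, rfl⟩ := (HomotopyCategory.quotient (ModuleCat.{u} A) (.up ℤ)).map_surjective g
  refine ⟨φ, ?_⟩
  have h := e.hom.naturality φ
  dsimp at h hg
  rw [hg] at h
  simp [Category.assoc] at h
  exact h.symm

theorem subsingleton_single_hom {E : DRing.Cx A} [E.IsKInjective] {n : ℤ} (h : IsZero (E.X n))
    (M : ModuleCat.{u} A) :
    Subsingleton (DerivedCategory.Q.obj ((HomologicalComplex.single (ModuleCat.{u} A) (.up ℤ) n).obj M)
      ⟶ DerivedCategory.Q.obj E) := by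
  refine subsingleton_of_forall_eq 0 fun f => ?_
  obtain ⟨φ, rfl⟩ := exists_Q_map_eq f
  rw [show φ = 0 from HomologicalComplex.from_single_hom_ext (h.eq_of_tgt _ _), Functor.map_zero]

theorem subsingleton_of_hasInjAmplitudeIn {K : Dual.D A} {a b : ℤ}
    (hK : DRing.HasInjAmplitudeIn A a b K) (N : Type u) [AddCommGroup N] [Module A N] {i : ℤ}
    (hi : i < a ∨ b < i) : Subsingleton (DRing.ExtD A (Dual.inD A N) K i) := by
  obtain ⟨E, hE, hinj, ⟨e⟩⟩ := hK
  have : ∀ n, Injective (E.X n) := fun n => by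
    have := hinj n
    exact Module.injective_object_of_injective_module A (E.X n)
  have : E.IsStrictlyGE a := (CochainComplex.isStrictlyGE_iff E a).2 fun j hj => hE j (Or.inl hj)
  have : E.IsKInjective := CochainComplex.isKInjective_of_injective E a
  have := subsingleton_single_hom (E := E) (hE i hi) (ModuleCat.of A N)
  have h2 : Subsingleton (DerivedCategory.Q.obj
      ((HomologicalComplex.single (ModuleCat.{u} A) (.up ℤ) i).obj (ModuleCat.of A N)) ⟶ K) :=
    (Iso.homCongr (Iso.refl _) e.symm).subsingleton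
  exact (singleHomEquiv (ModuleCat.of A N) i K).symm.subsingleton

/-- The cycles of a complex of injectives in degree `b` are injective as soon as all maps from
`(A/I)[-(b+1)]` vanish in the derived category. -/
theorem injective_cycles (J : DRing.Cx A) [J.IsKInjective] [∀ n, Injective (J.X n)] (b : ℤ)
    (h : ∀ I : Ideal A, Subsingleton (Dual.inD A (A ⧸ I) ⟶ (DerivedCategory.Q.obj J)⟦b + 1⟧)) :
    Module.Injective A (J.cycles b) := by
  refine Module.Baer.injective fun I g => ?_
  have : Module.Injective A (J.X b) := Module.injective_module_of_injective_object A (J.X b)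
  obtain ⟨e, he⟩ := Module.Baer.of_injective this I ((J.iCycles b).hom.comp g)
  have hker : I ≤ LinearMap.ker ((J.d b (b + 1)).hom.comp e) := fun x hx => by
    rw [LinearMap.mem_ker, LinearMap.comp_apply, he x hx]
    exact LinearMap.congr_fun (congrArg ModuleCat.Hom.hom (J.iCycles_d b (b + 1))) (g ⟨x, hx⟩)
  let q : ModuleCat.of A (A ⧸ I) ⟶ J.X (b + 1) :=
    ModuleCat.ofHom (Submodule.liftQ I _ hker)
  have hq : ∀ k, (ComplexShape.up ℤ).Rel (b + 1) k → q ≫ J.d (b + 1) k = 0 := fun k _ => by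
    refine ModuleCat.hom_ext (Submodule.linearMap_qext _ (LinearMap.ext_ring ?_))
    exact LinearMap.congr_fun (congrArg ModuleCat.Hom.hom (J.d_comp_d b (b + 1) k)) (e 1)
  let ψ := HomologicalComplex.mkHomFromSingle q hq
  have : Subsingleton (DerivedCategory.Q.obj ((HomologicalComplex.single (ModuleCat.{u} A) (.up ℤ)
      (b + 1)).obj (ModuleCat.of A (A ⧸ I))) ⟶ DerivedCategory.Q.obj J) :=
    have := h I
    (singleHomEquiv _ _ _).subsingleton
  obtain ⟨H⟩ := DR.Amplitude.nonempty_homotopy_of_Q_map_eq' (φ := ψ) (ψ := 0)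
    (Subsingleton.elim _ _)
  let s : ModuleCat.of A (A ⧸ I) ⟶ J.X b :=
    (HomologicalComplex.singleObjXSelf (.up ℤ) (b + 1) _).inv ≫ H.hom (b + 1) b
  have hs : s ≫ J.d b (b + 1) = q := by
    have := H.comm (b + 1)
    rw [dNext_eq H.hom (i' := b + 2) (by simp; lia), prevD_eq H.hom (j' := b) (by simp)] at this
    rw [show q = (HomologicalComplex.singleObjXSelf (.up ℤ) (b + 1) _).inv ≫ ψ.f (b + 1) by
      simp [ψ], this]
    simp [s]
  let e' : ModuleCat.of A A ⟶ J.X b := ModuleCat.ofHom (e - s.hom.comp I.mkQ)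
  have he' : e' ≫ J.d b (b + 1) = 0 := by
    refine ModuleCat.hom_ext (LinearMap.ext_ring ?_)
    have := LinearMap.congr_fun (congrArg ModuleCat.Hom.hom hs) (I.mkQ 1)
    show (J.d b (b + 1)).hom (e 1 - s.hom (I.mkQ 1)) = 0
    rw [map_sub]
    refine sub_eq_zero.2 (Eq.trans ?_ this.symm)
    rfl
  refine ⟨(J.liftCycles e' (b + 1) (by simp) he').hom, fun x hx => ?_⟩
  apply (ModuleCat.mono_iff_injective (J.iCycles b)).1 inferInstance
  have h1 := LinearMap.congr_fun (congrArg ModuleCat.Hom.hom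
    (J.liftCycles_i e' (b + 1) (by simp) he')) x
  refine h1.trans ?_
  show e x - s.hom (I.mkQ x) = _
  rw [he x hx, Submodule.mkQ_apply, (Submodule.Quotient.mk_eq_zero I).2 hx, map_zero, sub_zero]
  rfl

theorem hasInjAmplitudeIn_of_quotient {K : Dual.D A} {a b : ℤ}
    (h : ∀ (I : Ideal A) (i : ℤ), (i < a ∨ b < i) →
      Subsingleton (DRing.ExtD A (Dual.inD A (A ⧸ I)) K i)) :
    DRing.HasInjAmplitudeIn A a b K := by
  have hH : ∀ i, (i < a ∨ b < i) → Subsingleton (Dual.HD A K i) := fun i hi => by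
    have := h ⊥ i hi
    have e : Dual.inD A (A ⧸ (⊥ : Ideal A)) ≅ Dual.inD A A :=
      (DerivedCategory.singleFunctor (ModuleCat.{u} A) 0).mapIso
        (Submodule.quotEquivOfEqBot (⊥ : Ideal A) rfl).toModuleIso
    have : Subsingleton (Dual.inD A A ⟶ K⟦i⟧) :=
      (Iso.homCongr e.symm (Iso.refl _)).subsingleton
    exact (Basic.homUnitShiftEquiv K i).symm.toEquiv.subsingleton
  have : K.IsGE a := (Basic.isGE_iff K a).2 fun i hi => hH i (Or.inl hi)
  have : K.IsLE b := (Basic.isLE_iff K b).2 fun i hi => hH i (Or.inr hi)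
  obtain ⟨P, _, ⟨eP⟩⟩ := DerivedCategory.exists_iso_Q_obj_of_isGE K a
  obtain ⟨J, φ, _, hJ, _⟩ :=
    CochainComplex.Plus.modelCategoryQuillen.exists_quasiIso_injective P a
  have : J.IsKInjective := CochainComplex.isKInjective_of_injective J a
  let eJ : DerivedCategory.Q.obj J ≅ K := (asIso (DerivedCategory.Q.map φ)).symm ≪≫ eP.symm
  have : J.IsLE b := by
    rw [← DerivedCategory.isLE_Q_obj_iff]
    exact DerivedCategory.TStructure.t.isLE_of_iso eJ.symm b
  have hcyc : Module.Injective A (J.cycles b) := injective_cycles J b fun I => by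
    have := h I (b + 1) (Or.inr (by lia))
    exact (Iso.homCongr (Iso.refl _)
      ((shiftFunctor (Dual.D A) (b + 1)).mapIso eJ)).subsingleton
  refine ⟨J.truncLE b, fun i hi => ?_, fun i => ?_,
    ⟨asIso (DerivedCategory.Q.map (J.ιTruncLE b)) ≪≫ eJ⟩⟩
  · rcases lt_trichotomy i b with h' | h' | h'
    · refine IsZero.of_iso ?_ (J.truncLEXIso b i h')
      exact J.isZero_of_isStrictlyGE a i (by lia)
    · subst h'
      refine IsZero.of_iso ?_ (J.truncLEXIsoCycles i)
      exact IsZero.of_mono (J.iCycles i) (J.isZero_of_isStrictlyGE a i (by lia))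
    · exact (J.truncLE b).isZero_of_isStrictlyLE b i h'
  · rcases lt_trichotomy i b with h' | h' | h'
    · have : Injective (J.X i) := hJ i
      have := Injective.of_iso (J.truncLEXIso b i h').symm this
      exact Module.injective_module_of_injective_object A ((J.truncLE b).X i)
    · subst h'
      have := Module.injective_object_of_injective_module A (J.cycles i)
      have := Injective.of_iso (J.truncLEXIsoCycles i).symm this
      exact Module.injective_module_of_injective_object A ((J.truncLE i).X i)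
    · have := ((J.truncLE b).isZero_of_isStrictlyLE b i h').injective
      exact Module.injective_module_of_injective_object A ((J.truncLE b).X i)

theorem tfae (K : Dual.D A) (a b : ℤ) :
    [DRing.HasInjAmplitudeIn A a b K,
      ∀ (N : Type u) [AddCommGroup N] [Module A N] (i : ℤ), (i < a ∨ b < i) →
        Subsingleton (DRing.ExtD A (Dual.inD A N) K i),
      ∀ (I : Ideal A) (i : ℤ), (i < a ∨ b < i) →
        Subsingleton (DRing.ExtD A (Dual.inD A (A ⧸ I)) K i)].TFAE := by
  tfae_have 1 → 2 := fun h N _ _ _ hi => subsingleton_of_hasInjAmplitudeIn h N hi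
  tfae_have 2 → 3 := fun h I i hi => h (A ⧸ I) i hi
  tfae_have 3 → 1 := hasInjAmplitudeIn_of_quotient
  tfae_finish

/-- The isomorphism `Q(M[-n]) ≅ M[0][-n]`. -/
noncomputable def QsingleIso (M : ModuleCat.{u} A) (n : ℤ) :
    DerivedCategory.Q.obj ((HomologicalComplex.single (ModuleCat.{u} A) (.up ℤ) n).obj M) ≅
      (Dual.inD A M)⟦-n⟧ :=
  ((DerivedCategory.singleFunctorIsoCompQ (ModuleCat.{u} A) n).app M).symm ≪≫
    (((DerivedCategory.singleFunctors (ModuleCat.{u} A)).shiftIso (-n) n 0 (by simp)).app M).symm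

/-- `Hom(N[0], K[i])` vanishes outside some range of `i`. -/
def Amp (K : Dual.D A) : Prop :=
  ∃ a b : ℤ, ∀ (I : Ideal A) (i : ℤ), (i < a ∨ b < i) →
    Subsingleton (Dual.inD A (A ⧸ I) ⟶ K⟦i⟧)

theorem amp_iff (K : Dual.D A) : DRing.HasFiniteInjDim A K ↔ Amp K :=
  ⟨fun ⟨a, b, h⟩ => ⟨a, b, fun I _ hi => subsingleton_of_hasInjAmplitudeIn h (A ⧸ I) hi⟩,
    fun ⟨a, b, h⟩ => ⟨a, b, hasInjAmplitudeIn_of_quotient h⟩⟩

theorem Amp.of_iso {K L : Dual.D A} (e : K ≅ L) (h : Amp K) : Amp L := by
  obtain ⟨a, b, h⟩ := h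
  exact ⟨a, b, fun I i hi => have := h I i hi
    (Iso.homCongr (Iso.refl _) ((shiftFunctor (Dual.D A) i).mapIso e.symm)).subsingleton⟩

theorem Amp.of_isZero {K : Dual.D A} (h : IsZero K) : Amp K :=
  ⟨0, 0, fun I i _ => ⟨fun f g => (Functor.map_isZero _ h).eq_of_tgt f g⟩⟩

theorem Amp.shift {K : Dual.D A} (h : Amp K) (n : ℤ) : Amp (K⟦n⟧) := by
  obtain ⟨a, b, h⟩ := h
  refine ⟨a - n, b - n, fun I i hi => ?_⟩
  have := h I (n + i) (by lia)
  exact (Iso.homCongr (Iso.refl _) ((shiftFunctorAdd (Dual.D A) n i).app K).symm).subsingleton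

theorem Amp.ext (T : Triangle (Dual.D A)) (hT : T ∈ distTriang (Dual.D A)) (h₁ : Amp T.obj₁)
    (h₃ : Amp T.obj₃) : Amp T.obj₂ := by
  obtain ⟨a, b, h₁⟩ := h₁
  obtain ⟨c, d, h₃⟩ := h₃
  exact ⟨min a c, max b d, fun I i hi =>
    Basic.subsingleton_hom_to_obj₂ (Triangle.shift_distinguished T hT i) _
      (h₁ I i (by lia)) (h₃ I i (by lia))⟩

theorem hasFiniteInjDim_of_homology (K : Dual.D A)
    (hb : ∃ a b : ℤ, ∀ i : ℤ, (i < a ∨ b < i) → Subsingleton (Dual.HD A K i))
    (h : ∀ i : ℤ, DRing.HasFiniteInjDim A (Dual.inD A (Dual.HD A K i))) :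
    DRing.HasFiniteInjDim A K := by
  obtain ⟨a, b, hab⟩ := hb
  rw [amp_iff]
  refine Devissage.bounded_induction
    (fun M [AddCommGroup M] [Module A M] => Amp (Dual.inD A M)) ?_ ?_ Amp
    (fun _ _ e => Amp.of_iso e) (fun T hT => Amp.ext T hT) (fun M _ _ n hM => hM.shift n) K a b hab
    (fun i => (amp_iff _).1 (h i))
  · intro M N _ _ _ _ e hM
    exact hM.of_iso ((DerivedCategory.singleFunctor (ModuleCat.{u} A) 0).mapIso e.toModuleIso)
  · intro M _ _ hM
    exact Amp.of_isZero (Functor.map_isZero _ (ModuleCat.isZero_of_subsingleton (ModuleCat.of A M)))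

theorem amp_of_bounded_complex : ∀ (k : ℕ) (E : DRing.Cx A) (a : ℤ),
    (∀ i, i < a ∨ a + k ≤ i → IsZero (E.X i)) → (∀ i, Amp (Dual.inD A (E.X i))) →
    Amp (DRing.toD E) := by
  intro k
  induction k with
  | zero =>
    intro E a h _
    refine Amp.of_isZero (Functor.map_isZero _ ?_)
    rw [IsZero.iff_id_eq_zero]
    ext i : 1
    exact (h i (by lia)).eq_of_src _ _
  | succ k ih =>
    intro E a h hE
    obtain ⟨S, φ, hS, -, hS0, hiso, -⟩ := DR.FiniteComplex.exists_stupidTrunc
      (P := (⊤ : ObjectProperty (ModuleCat.{u} A)))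
      ⟨fun _ => trivial, fun _ _ => trivial, fun _ _ => trivial⟩ E (a + 1) fun _ => trivial
    have hmono : ∀ i, Mono (φ.f i) := fun i => by
      by_cases hi : a + 1 ≤ i
      · have := hiso i hi
        infer_instance
      · exact ⟨fun _ _ _ => (hS i (by lia)).eq_of_tgt _ _⟩
    have : Mono φ := HomologicalComplex.mono_of_mono_f φ hmono
    let T := ShortComplex.mk φ (cokernel.π φ) (cokernel.condition φ)
    have hT : T.ShortExact :=
      { exact := ShortComplex.exact_of_g_is_cokernel _ (cokernelIsCokernel φ) }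
    have hTi : ∀ i, (T.map (HomologicalComplex.eval (ModuleCat.{u} A) (.up ℤ) i)).ShortExact :=
      fun i => hT.map_of_exact _
    have hC : ∀ i, i ≠ a → IsZero ((cokernel φ).X i) := fun i hi => by
      have : Epi ((cokernel.π φ).f i) := (hTi i).epi_g
      refine IsZero.of_epi_eq_zero ((cokernel.π φ).f i) ?_
      by_cases hia : a + 1 ≤ i
      · have := hiso i hia
        rw [← cancel_epi (φ.f i), ← HomologicalComplex.comp_f, cokernel.condition]
        simp
      · exact (h i (by lia)).eq_of_src _ _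
    have hπ : IsIso ((cokernel.π φ).f a) := by
      have : Epi ((cokernel.π φ).f a) := (hTi a).epi_g
      have : Mono ((cokernel.π φ).f a) :=
        (hTi a).exact.mono_g ((hS a (by lia)).eq_of_src _ _)
      exact isIso_of_mono_of_epi _
    let ψ : cokernel φ ⟶
        (HomologicalComplex.single (ModuleCat.{u} A) (.up ℤ) a).obj (E.X a) :=
      HomologicalComplex.mkHomToSingle (inv ((cokernel.π φ).f a)) fun i (hi : i + 1 = a) =>
        (hC i (by lia)).eq_of_src _ _
    have : ∀ i, IsIso (ψ.f i) := fun i => by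
      by_cases hi : i = a
      · subst hi
        exact (HomologicalComplex.mkHomToSingle_f (c := ComplexShape.up ℤ) (inv ((cokernel.π φ).f i))
          _).symm ▸ inferInstance
      · exact ⟨⟨0, (hC i hi).eq_of_src _ _,
          (HomologicalComplex.isZero_single_obj_X _ _ _ i hi).eq_of_src _ _⟩⟩
    have : IsIso ψ := HomologicalComplex.Hom.isIso_of_components ψ
    refine Amp.ext _ (DerivedCategory.triangleOfSES_distinguished hT) ?_ ?_
    · refine ih S (a + 1) (fun i hi => ?_) fun i => ?_
      · rcases hi with hi | hi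
        · exact hS i hi
        · exact hS0 i (h i (by lia))
      · by_cases hia : a + 1 ≤ i
        · have := hiso i hia
          exact (hE i).of_iso
            ((DerivedCategory.singleFunctor (ModuleCat.{u} A) 0).mapIso (asIso (φ.f i))).symm
        · exact Amp.of_isZero (Functor.map_isZero _ (hS i (by lia)))
    · exact ((hE a).shift (-a)).of_iso
        ((DerivedCategory.Q.mapIso (asIso ψ)) ≪≫ QsingleIso (E.X a) a).symm

theorem hasFiniteInjDim_of_terms (E : DRing.Cx A) (a b : ℤ) (hv : DRing.VanishesOutside E a b)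
    (h : ∀ i, DRing.HasFiniteInjDim A (Dual.inD A (E.X i))) :
    DRing.HasFiniteInjDim A (DRing.toD E) :=
  (amp_iff _).2 <| amp_of_bounded_complex (b + 1 - a).toNat E a (fun i hi => hv i (by lia))
    fun i => (amp_iff _).1 (h i)

end Groth.Agent.Lib.DMod.InjAmp
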