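import Groth.Agent.Lib.DMod.InjAmp
import Mathlib.CategoryTheory.Linear.Yoneda
import Mathlib.Algebra.Homology.HomologicalComplexAbelian
import Mathlib.Algebra.Homology.DerivedCategory.SingleTriangle

/-!
Biduality for finite modules: if `I` is a bounded complex of injectives representing a dualizing
complex, then evaluation `M → Hom(Hom(M, I), I)` is bijective and `Hom(Hom(M, I), I[i]) = 0`
for `i ≠ 0`.
-/

universe u

open CategoryTheory CategoryTheory.Limits Pretriangulated Opposite
open Groth.Agent.Lib.DMod.Basic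

attribute [local instance] HasDerivedCategory.standard

namespace Groth.Agent.Lib.DMod.Biduality

variable {A : Type u} [CommRing A]

/-- `Hom(M, -)`. -/
noncomputable abbrev F (M : ModuleCat.{u} A) : ModuleCat.{u} A ⥤ ModuleCat.{u} A :=
  (linearCoyoneda A (ModuleCat.{u} A)).obj (op M)

/-- Evaluation at an element. -/
noncomputable def η (M : ModuleCat.{u} A) (m : M) : F M ⟶ 𝟭 _ where
  app X := ModuleCat.ofHom
    { toFun := fun (f : M ⟶ X) => f.hom m
      map_add' := fun _ _ => rfl
      map_smul' := fun _ _ => rfl }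
  naturality X Y g := by ext f; rfl

variable (I : DRing.Cx A)

/-- The complex `Hom(M, I)`. -/
noncomputable abbrev DC (M : ModuleCat.{u} A) : DRing.Cx A :=
  ((F M).mapHomologicalComplex (.up ℤ)).obj I

/-- Functoriality of `Hom(-, I)`. -/
noncomputable def DCmap {M N : ModuleCat.{u} A} (f : M ⟶ N) : DC I N ⟶ DC I M :=
  (NatTrans.mapHomologicalComplex ((linearCoyoneda A (ModuleCat.{u} A)).map f.op) (.up ℤ)).app I

theorem DCmap_f {M N : ModuleCat.{u} A} (f : M ⟶ N) (n : ℤ) (x : N ⟶ I.X n) :
    ((DCmap I f).f n).hom x = f ≫ x := rfl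

/-- Evaluation at an element, as a map of complexes. -/
noncomputable def ev (M : ModuleCat.{u} A) : M →ₗ[A] (DC I M ⟶ I) where
  toFun m :=
    { f := fun n => (η M m).app (I.X n)
      comm' := fun i j _ => ((η M m).naturality (I.d i j)).symm }
  map_add' m m' := by
    ext n x
    exact map_add (ModuleCat.Hom.hom x) m m'
  map_smul' a m := by
    ext n x
    exact map_smul (ModuleCat.Hom.hom x) a m

/-- `Hom(M, I)` in `D(A)`. -/
noncomputable abbrev D (M : ModuleCat.{u} A) : Dual.D A := DerivedCategory.Q.obj (DC I M)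

/-- Evaluation in `D(A)`. -/
noncomputable def evD (M : ModuleCat.{u} A) : M →ₗ[A] (D I M ⟶ DerivedCategory.Q.obj I) :=
  ((DerivedCategory.Q (C := ModuleCat.{u} A)).mapLinearMap A).comp (ev I M)

theorem evD_naturality {M N : ModuleCat.{u} A} (f : M ⟶ N) (m : M) :
    evD I N (f.hom m) = DerivedCategory.Q.map (DCmap I f) ≫ evD I M m := by
  refine (congrArg DerivedCategory.Q.map ?_).trans (DerivedCategory.Q.map_comp _ _)
  ext n x
  rfl

theorem isZero_X_DC (M : ModuleCat.{u} A) {n : ℤ} (h : IsZero (I.X n)) : IsZero ((DC I M).X n) :=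
  (F M).map_isZero h

variable {I}

/-- A short exact sequence gives a distinguished triangle. -/
theorem exists_triangle [∀ n, Injective (I.X n)] {S : ShortComplex (ModuleCat.{u} A)}
    (hS : S.ShortExact) :
    ∃ δ : D I S.X₁ ⟶ (D I S.X₃)⟦(1 : ℤ)⟧,
      Triangle.mk (DerivedCategory.Q.map (DCmap I S.g)) (DerivedCategory.Q.map (DCmap I S.f)) δ ∈
        distTriang (Dual.D A) := by
  have := hS.mono_f
  have := hS.epi_g
  let T : ShortComplex (DRing.Cx A) := ShortComplex.mk (DCmap I S.g) (DCmap I S.f) (by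
    refine HomologicalComplex.hom_ext _ _ fun n => ModuleCat.hom_ext (LinearMap.ext fun x => ?_)
    show S.f ≫ S.g ≫ (show S.X₃ ⟶ I.X n from x) = 0
    rw [← Category.assoc, S.zero, zero_comp])
  have hT : T.ShortExact := HomologicalComplex.shortExact_of_degreewise_shortExact T fun n => by
    refine
      { exact := (ShortComplex.ShortExact.moduleCat_exact_iff_function_exact _).2 fun x => ?_
        mono_f := (ModuleCat.mono_iff_injective _).2 fun x y h => (cancel_epi S.g).1 h
        epi_g := (ModuleCat.epi_iff_surjective _).2 fun x =>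
          ⟨Injective.factorThru (show S.X₁ ⟶ I.X n from x) S.f,
            Injective.comp_factorThru (show S.X₁ ⟶ I.X n from x) S.f⟩ }
    constructor
    · intro hx
      exact ⟨hS.exact.desc x hx, hS.exact.g_desc x hx⟩
    · rintro ⟨z, rfl⟩
      show S.f ≫ S.g ≫ (show S.X₃ ⟶ I.X n from z) = 0
      rw [← Category.assoc, S.zero, zero_comp]
  exact ⟨_, DerivedCategory.triangleOfSES_distinguished hT⟩

section Main

variable {a b : ℤ} (hI : ∀ i, i < a ∨ b < i → IsZero (I.X i))
include hI

theorem subsingleton_far [∀ n, Injective (I.X n)] (M : ModuleCat.{u} A) (i : ℤ)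
    (hi : b - a < i ∨ i < a - b) :
    Subsingleton (D I M ⟶ (DerivedCategory.Q.obj I)⟦i⟧) := by
  have : ∀ n, Injective ((I⟦i⟧).X n) := fun n =>
    Injective.of_iso (I.shiftFunctorObjXIso i n (n + i) rfl).symm inferInstance
  have : (I⟦i⟧).IsStrictlyGE (a - i) := (CochainComplex.isStrictlyGE_iff _ _).2 fun j hj =>
    (hI (j + i) (Or.inl (by lia))).of_iso (I.shiftFunctorObjXIso i j _ rfl)
  have : (I⟦i⟧).IsKInjective := CochainComplex.isKInjective_of_injective _ (a - i)
  let e : DerivedCategory.Q.obj (I⟦i⟧) ≅ (DerivedCategory.Q.obj I)⟦i⟧ :=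
    ((DerivedCategory.Q (C := ModuleCat.{u} A)).commShiftIso i).app I
  refine subsingleton_of_forall_eq 0 fun g => ?_
  obtain ⟨φ, hφ⟩ := InjAmp.exists_Q_map_eq (g ≫ e.inv)
  have : φ = 0 := by
    refine HomologicalComplex.hom_ext _ _ fun n => ?_
    by_cases hn : n < a ∨ b < n
    · exact (isZero_X_DC I M (hI n hn)).eq_of_src _ _
    · exact ((hI (n + i) (by lia)).of_iso (I.shiftFunctorObjXIso i n _ rfl)).eq_of_tgt _ _
  rw [this, Functor.map_zero] at hφ
  exact (cancel_mono e.inv).1 (hφ.symm.trans zero_comp.symm)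

end Main

/-- Evaluation is bijective and higher groups vanish. -/
structure GoodModule (I : DRing.Cx A) (M : ModuleCat.{u} A) : Prop where
  bij : Function.Bijective (evD I M)
  vanish : ∀ i : ℤ, i ≠ 0 → Subsingleton (D I M ⟶ (DerivedCategory.Q.obj I)⟦i⟧)

theorem GoodModule.subsingleton_one {M : ModuleCat.{u} A} (h : GoodModule I M) :
    Subsingleton ((D I M)⟦(1 : ℤ)⟧ ⟶ DerivedCategory.Q.obj I) :=
  have := h.vanish (-1) (by lia)
  ((Linear.homCongr A (Iso.refl _) ((shiftFunctorZero (Dual.D A) ℤ).app _).symm).trans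
    (homShiftAdj (D I M) (DerivedCategory.Q.obj I) 1 0 (-1) (by lia))).toEquiv.subsingleton

theorem goodModule_of_shortExact [∀ n, Injective (I.X n)] {S : ShortComplex (ModuleCat.{u} A)}
    (hS : S.ShortExact) (h₁ : GoodModule I S.X₁) (h₃ : GoodModule I S.X₃) :
    GoodModule I S.X₂ := by
  obtain ⟨δ, hT⟩ := exists_triangle (I := I) hS
  have hfg := (ShortComplex.ShortExact.moduleCat_exact_iff_function_exact S).1 hS.exact
  refine ⟨⟨?_, ?_⟩, fun i hi => subsingleton_hom_from_obj₂ hT _ (h₃.vanish i hi) (h₁.vanish i hi)⟩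
  · rw [injective_iff_map_eq_zero]
    intro x hx
    have hgx : S.g.hom x = 0 := by
      refine h₃.bij.1 ?_
      rw [evD_naturality, hx, comp_zero, map_zero]
    obtain ⟨k, rfl⟩ := (hfg x).1 hgx
    rw [evD_naturality] at hx
    obtain ⟨w, hw⟩ := Triangle.yoneda_exact₂ _ (rot_of_distTriang _ hT) (evD I S.X₁ k) hx
    have := h₃.subsingleton_one
    have h0 : evD I S.X₁ k = 0 := hw.trans ((congrArg _ (this.elim w 0)).trans comp_zero)
    rw [h₁.bij.1 (h0.trans (map_zero _).symm), map_zero]
  · intro w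
    obtain ⟨y, hy⟩ := h₃.bij.2 (DerivedCategory.Q.map (DCmap I S.g) ≫ w)
    obtain ⟨x, rfl⟩ := (ModuleCat.epi_iff_surjective _).1 hS.epi_g y
    rw [evD_naturality] at hy
    obtain ⟨z, hz⟩ := Triangle.yoneda_exact₂ _ hT (w - evD I S.X₂ x)
      ((Preadditive.comp_sub _ _ _).trans (sub_eq_zero.2 hy.symm))
    obtain ⟨k, rfl⟩ := h₁.bij.2 z
    refine ⟨x + S.f.hom k, ?_⟩
    rw [map_add, evD_naturality]
    exact ((congrArg (fun t => evD I S.X₂ x + t) hz.symm).trans (add_sub_cancel _ _))

theorem goodModule_of_isZero {M : ModuleCat.{u} A} (h : IsZero M) : GoodModule I M := by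
  have hz : ∀ n, IsZero ((DC I M).X n) := fun n => by
    rw [ModuleCat.isZero_iff_subsingleton]
    exact ⟨fun f g => h.eq_of_src f g⟩
  have hD : IsZero (D I M) := Functor.map_isZero _ (by
    rw [IsZero.iff_id_eq_zero]
    ext n : 1
    exact (hz n).eq_of_src _ _)
  have := ModuleCat.subsingleton_of_isZero h
  exact ⟨⟨fun _ _ _ => Subsingleton.elim _ _, fun f => ⟨0, hD.eq_of_src _ _⟩⟩,
    fun i _ => ⟨fun f g => hD.eq_of_src f g⟩⟩

theorem goodModule_unit (hω : Dual.IsDualizing A (DerivedCategory.Q.obj I)) :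
    GoodModule I (ModuleCat.of A A) := by
  have : ∀ n, IsIso ((η (ModuleCat.of A A) (1 : A)).app (I.X n)) := fun n => by
    refine (ConcreteCategory.isIso_iff_bijective _).2 ⟨fun x y h => ?_, fun x => ?_⟩
    · exact ModuleCat.hom_ext (LinearMap.ext_ring h)
    · exact ⟨ModuleCat.ofHom (LinearMap.toSpanSingleton A _ x), one_smul A x⟩
  have : IsIso (ev I (ModuleCat.of A A) (1 : A)) := by
    have : ∀ n, IsIso ((ev I (ModuleCat.of A A) (1 : A)).f n) := this
    exact HomologicalComplex.Hom.isIso_of_components _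
  let e : D I (ModuleCat.of A A) ≅ DerivedCategory.Q.obj I :=
    DerivedCategory.Q.mapIso (asIso (ev I (ModuleCat.of A A) (1 : A)))
  refine ⟨?_, fun i hi => ?_⟩
  · have h : (evD I (ModuleCat.of A A) : _ → _) =
        Linear.homCongr A e.symm (Iso.refl _) ∘ fun r : A => r • 𝟙 (DerivedCategory.Q.obj I) := by
      funext r
      have hr : evD I (ModuleCat.of A A) r = r • evD I (ModuleCat.of A A) (1 : A) := by
        refine Eq.trans ?_ (map_smul _ r (1 : A))
        exact congrArg _ (mul_one r).symm
      rw [hr]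
      simp [Linear.homCongr_apply, e, evD]
    rw [h]
    exact (LinearEquiv.bijective _).comp hω.toEnd_bijective
  · have := hω.ext_self_subsingleton i hi
    exact (Iso.homCongr e (Iso.refl _)).subsingleton

theorem goodModule_pi [∀ n, Injective (I.X n)] (hω : Dual.IsDualizing A (DerivedCategory.Q.obj I)) :
    ∀ n : ℕ, GoodModule I (ModuleCat.of A (Fin n → A)) := by
  intro n
  induction n with
  | zero => exact goodModule_of_isZero (ModuleCat.isZero_of_subsingleton _)
  | succ n ih =>
    let f : ModuleCat.of A (Fin n → A) ⟶ ModuleCat.of A (Fin (n + 1) → A) :=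
      ModuleCat.ofHom (LinearMap.pi (Fin.cons (0 : (Fin n → A) →ₗ[A] A) LinearMap.proj))
    let g : ModuleCat.of A (Fin (n + 1) → A) ⟶ ModuleCat.of A A :=
      ModuleCat.ofHom (LinearMap.proj 0)
    let S := ShortComplex.mk f g (ModuleCat.hom_ext (LinearMap.ext fun x => by simp [f, g]))
    have hS : S.ShortExact :=
      { exact := (ShortComplex.ShortExact.moduleCat_exact_iff_function_exact S).2 fun x => by
          constructor
          · intro hx
            refine ⟨Fin.tail x, funext fun i => ?_⟩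
            refine Fin.cases ?_ (fun j => ?_) i
            · exact (show x 0 = 0 from hx).symm
            · rfl
          · rintro ⟨y, rfl⟩
            rfl
        mono_f := (ModuleCat.mono_iff_injective _).2 fun x y hxy => funext fun j =>
          congr_fun hxy j.succ
        epi_g := (ModuleCat.epi_iff_surjective _).2 fun a => ⟨Fin.cons a 0, rfl⟩ }
    exact goodModule_of_shortExact hS ih (goodModule_unit hω)

/-- Biduality for finite modules. -/
theorem goodModule_finite [IsNoetherianRing A] [∀ n, Injective (I.X n)] {a b : ℤ}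
    (hI : ∀ i, i < a ∨ b < i → IsZero (I.X i)) (hω : Dual.IsDualizing A (DerivedCategory.Q.obj I))
    (M : Type u) [AddCommGroup M] [Module A M] [Module.Finite A M] :
    GoodModule I (ModuleCat.of A M) := by
  -- presentations
  have aux : ∀ (M : Type u) [AddCommGroup M] [Module A M] [Module.Finite A M],
      ∃ (n : ℕ) (f : (Fin n → A) →ₗ[A] M) (_ : Module.Finite A (LinearMap.ker f))
        (hS : (ShortComplex.mk (ModuleCat.ofHom (LinearMap.ker f).subtype) (ModuleCat.ofHom f)
          (ModuleCat.hom_ext (LinearMap.ext fun x => x.2))).ShortExact), True := fun M _ _ _ => by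
    obtain ⟨n, f, hf⟩ := Module.Finite.exists_fin' A M
    exact ⟨n, f, Module.Finite.iff_fg.2 (IsNoetherian.noetherian _),
      { exact := (ShortComplex.ShortExact.moduleCat_exact_iff_function_exact _).2
          (LinearMap.exact_subtype_ker_map f)
        mono_f := (ModuleCat.mono_iff_injective _).2 (Submodule.injective_subtype _)
        epi_g := (ModuleCat.epi_iff_surjective _).2 hf }, trivial⟩
  have hpos : ∀ (k : ℕ) (M : Type u) [AddCommGroup M] [Module A M] [Module.Finite A M] (i : ℤ),
      0 < i → b - a < i + k → Subsingleton (D I (ModuleCat.of A M) ⟶ (DerivedCategory.Q.obj I)⟦i⟧) := by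
    intro k
    induction k with
    | zero => exact fun M _ _ _ i _ hi => subsingleton_far hI _ i (Or.inl (by simpa using hi))
    | succ k ih =>
      intro M _ _ _ i hi hik
      obtain ⟨n, f, _, hS, -⟩ := aux M
      obtain ⟨δ, hT⟩ := exists_triangle (I := I) hS
      have := ih (LinearMap.ker f) (i + 1) (by lia) (by lia)
      refine subsingleton_hom_from_obj₂ (inv_rot_of_distTriang _ hT) _ ?_
        ((goodModule_pi hω n).vanish i (by lia))
      exact (homShiftAdj (D I (ModuleCat.of A (LinearMap.ker f))) (DerivedCategory.Q.obj I) (-1) i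
        (i + 1) (by lia)).toEquiv.subsingleton
  have hvpos : ∀ (M : Type u) [AddCommGroup M] [Module A M] [Module.Finite A M] (i : ℤ),
      0 < i → Subsingleton (D I (ModuleCat.of A M) ⟶ (DerivedCategory.Q.obj I)⟦i⟧) :=
    fun M _ _ _ i hi => hpos (b - a + 1).toNat M i hi (by lia)
  have hsurj : ∀ (M : Type u) [AddCommGroup M] [Module A M] [Module.Finite A M],
      Function.Surjective (evD I (ModuleCat.of A M)) := by
    intro M _ _ _ w
    obtain ⟨n, f, _, hS, -⟩ := aux M
    obtain ⟨δ, hT⟩ := exists_triangle (I := I) hS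
    have h1 := hvpos (LinearMap.ker f) 1 one_pos
    let Y := DerivedCategory.Q.obj I
    have : Subsingleton ((D I (ModuleCat.of A (LinearMap.ker f)))⟦(-1 : ℤ)⟧ ⟶ Y) :=
      ((Linear.homCongr A (Iso.refl _) ((shiftFunctorZero (Dual.D A) ℤ).app Y).symm).trans
        (homShiftAdj (D I (ModuleCat.of A (LinearMap.ker f))) Y (-1) 0 1 (by lia))).toEquiv.subsingleton
    obtain ⟨v, hv⟩ := Triangle.yoneda_exact₂ _ (inv_rot_of_distTriang _ hT) w (this.elim _ _)
    obtain ⟨x, rfl⟩ := (goodModule_pi hω n).bij.2 v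
    exact ⟨f x, (evD_naturality I (ModuleCat.ofHom f) x).trans hv.symm⟩
  have hinj : ∀ (M : Type u) [AddCommGroup M] [Module A M] [Module.Finite A M],
      Function.Injective (evD I (ModuleCat.of A M)) := by
    intro M _ _ _
    obtain ⟨n, f, _, hS, -⟩ := aux M
    obtain ⟨δ, hT⟩ := exists_triangle (I := I) hS
    rw [injective_iff_map_eq_zero]
    intro y hy
    obtain ⟨x, rfl⟩ := (ModuleCat.epi_iff_surjective _).1 hS.epi_g y
    rw [evD_naturality] at hy
    obtain ⟨z, hz⟩ := Triangle.yoneda_exact₂ _ hT _ hy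
    obtain ⟨k, rfl⟩ := hsurj (LinearMap.ker f) z
    have hz' : evD I (ModuleCat.of A (Fin n → A)) x =
        evD I (ModuleCat.of A (Fin n → A)) k.1 :=
      hz.trans (evD_naturality I (ModuleCat.ofHom (LinearMap.ker f).subtype) k).symm
    show f x = 0
    rw [(goodModule_pi hω n).bij.1 hz']
    exact k.2
  have hneg : ∀ (k : ℕ) (M : Type u) [AddCommGroup M] [Module A M] [Module.Finite A M] (i : ℤ),
      i = -1 - (k : ℤ) → Subsingleton (D I (ModuleCat.of A M) ⟶ (DerivedCategory.Q.obj I)⟦i⟧) := by
    intro k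
    induction k with
    | zero =>
      intro M _ _ _ i hi
      obtain rfl : i = -1 := by simpa using hi
      obtain ⟨n, f, _, hS, -⟩ := aux M
      obtain ⟨δ, hT⟩ := exists_triangle (I := I) hS
      let Y := DerivedCategory.Q.obj I
      suffices hsub : Subsingleton ((D I (ModuleCat.of A M))⟦(1 : ℤ)⟧ ⟶ Y) from
        haveI : Subsingleton ((D I (ModuleCat.of A M))⟦(1 : ℤ)⟧ ⟶ (𝟭 (Dual.D A)).obj Y) := hsub
        ((Linear.homCongr A (Iso.refl _) ((shiftFunctorZero (Dual.D A) ℤ).app Y).symm).trans
          (homShiftAdj (D I (ModuleCat.of A M)) Y 1 0 (-1) (by lia))).symm.toEquiv.subsingleton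
      refine subsingleton_of_forall_eq 0 fun h => ?_
      obtain ⟨q, hq⟩ := hsurj (LinearMap.ker f) (δ ≫ h)
      have hq0 : q = 0 := by
        have h1 : evD I (ModuleCat.of A (Fin n → A)) q.1 = 0 := by
          refine (evD_naturality I (ModuleCat.ofHom (LinearMap.ker f).subtype) q).trans ?_
          rw [hq]
          exact (Category.assoc _ _ _).symm.trans
            ((congrArg (· ≫ h) (comp_distTriang_mor_zero₂₃ _ hT)).trans zero_comp)
        exact Subtype.ext ((goodModule_pi hω n).bij.1 (h1.trans (map_zero _).symm))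
      rw [hq0, map_zero] at hq
      obtain ⟨w, hw⟩ := Triangle.yoneda_exact₂ _ (rot_of_distTriang _ (rot_of_distTriang _ hT)) h hq.symm
      have := (goodModule_pi hω n).subsingleton_one
      exact hw.trans ((congrArg _ (this.elim w 0)).trans comp_zero)
    | succ k ih =>
      intro M _ _ _ i hi
      obtain ⟨n, f, _, hS, -⟩ := aux M
      obtain ⟨δ, hT⟩ := exists_triangle (I := I) hS
      have := ih (LinearMap.ker f) (i + 1) (by push_cast at hi; lia)
      refine subsingleton_hom_from_obj₂ (inv_rot_of_distTriang _ hT) _ ?_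
        ((goodModule_pi hω n).vanish i (by push_cast at hi; lia))
      exact (homShiftAdj (D I (ModuleCat.of A (LinearMap.ker f))) (DerivedCategory.Q.obj I) (-1) i
        (i + 1) (by lia)).toEquiv.subsingleton
  refine ⟨⟨hinj M, hsurj M⟩, fun i hi => ?_⟩
  rcases lt_or_gt_of_ne hi with hi | hi
  · exact hneg (-1 - i).toNat M i (by lia)
  · exact hvpos M i hi

/-- A dualizing complex is represented by a bounded complex of injectives. -/
theorem exists_complex {ω : Dual.D A} (hω : Dual.IsDualizing A ω) :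
    ∃ (I : DRing.Cx A) (a b : ℤ), (∀ i, i < a ∨ b < i → IsZero (I.X i)) ∧
      (∀ n, Injective (I.X n)) ∧ Nonempty (DerivedCategory.Q.obj I ≅ ω) := by
  obtain ⟨a, b, hab⟩ := hω.finite_injective_dimension
  obtain ⟨E, hE, hinj, e⟩ := InjAmp.hasInjAmplitudeIn_of_quotient (K := ω) (a := a) (b := b)
    fun J i hi => hab (A ⧸ J) i hi
  exact ⟨E, a, b, hE, fun n => have := hinj n; Module.injective_object_of_injective_module A (E.X n), e⟩

end Groth.Agent.Lib.DMod.Biduality
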