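import Groth.Prelude.Def_DDual2
import Groth.Agent.Lib.DMod.Biduality
import Groth.Agent.Lib.DMod.LBC
import Groth.Agent.Lib.DMod.LocalCase
import Groth.Agent.Lib.DR.Derived
import Mathlib.CategoryTheory.Adjunction.Additive

/-!
The right adjoint of restriction of scalars along a finite ring map and dualizing complexes.
-/

universe u

open CategoryTheory CategoryTheory.Limits Pretriangulated
open Groth.Agent.Lib.DMod Groth.Agent.Lib.DMod.Basic Groth.Agent.Lib.DMod.Conservative
open Groth.Agent.Lib.DR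

attribute [local instance] HasDerivedCategory.standard

namespace Groth.Agent.Lib.DMod.FiniteRing

variable {A B : Type u} [CommRing A] [CommRing B] (φ : A →+* B)

theorem res_smul_id (X : Dual.D B) (a : A) :
    (DRing.restrictD φ).map (φ a • 𝟙 X) = a • 𝟙 ((DRing.restrictD φ).obj X) := by
  obtain ⟨K, ⟨e⟩⟩ : ∃ K : CochainComplex (ModuleCat.{u} B) ℤ,
      Nonempty (DerivedCategory.Q.obj K ≅ X) :=
    ⟨_, ⟨DerivedCategory.Q.objObjPreimageIso X⟩⟩
  let G := ModuleCat.restrictScalars.{u} φ
  have h1 : φ a • 𝟙 X = e.inv ≫ (φ a • 𝟙 (DerivedCategory.Q.obj K)) ≫ e.hom := by simp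
  have h2 : φ a • 𝟙 (DerivedCategory.Q.obj K) = DerivedCategory.Q.map (φ a • 𝟙 K) := by
    rw [Functor.map_smul, CategoryTheory.Functor.map_id]
  have h3 : (G.mapHomologicalComplex (.up ℤ)).map (φ a • 𝟙 K) =
      a • 𝟙 ((G.mapHomologicalComplex (.up ℤ)).obj K) := by
    ext i x
    rfl
  have h5 : DerivedCategory.Q.map (a • 𝟙 ((G.mapHomologicalComplex (.up ℤ)).obj K)) =
      a • 𝟙 (DerivedCategory.Q.obj ((G.mapHomologicalComplex (.up ℤ)).obj K)) :=
    (DerivedCategory.Q.map_smul _ _).trans (congrArg _ (DerivedCategory.Q.map_id _))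
  have h6 : (DRing.restrictD φ).map (DerivedCategory.Q.map (φ a • 𝟙 K)) =
      a • 𝟙 ((DRing.restrictD φ).obj (DerivedCategory.Q.obj K)) := by
    refine (cancel_mono (G.mapDerivedCategoryFactors.hom.app K)).1 ?_
    refine (G.mapDerivedCategoryFactors_hom_naturality (φ a • 𝟙 K)).trans ?_
    rw [h3]
    exact (congrArg (fun t => _ ≫ t) h5).trans
      ((Linear.comp_smul _ _ _ _ _ _).trans ((congrArg _ (Category.comp_id _)).trans
        ((congrArg _ (Category.id_comp _)).symm.trans (Linear.smul_comp _ _ _ _ _ _).symm)))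
  rw [h1, h2, Functor.map_comp, Functor.map_comp, h6, Linear.smul_comp, Linear.comp_smul,
    Category.id_comp, ← Functor.map_comp, e.inv_hom_id, CategoryTheory.Functor.map_id]

theorem res_map_smul {X Y : Dual.D B} (f : X ⟶ Y) (a : A) :
    (DRing.restrictD φ).map (φ a • f) = a • (DRing.restrictD φ).map f := by
  have : φ a • f = (φ a • 𝟙 X) ≫ f := by simp
  rw [this, Functor.map_comp, res_smul_id, Linear.smul_comp, Category.id_comp]

/-- `Hom(X[-i], Y) = Hom(X, Y[i])`. -/
noncomputable def shiftTo {C : Type u} [CommRing C] (X Y : Dual.D C) (i : ℤ) :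
    (X⟦-i⟧ ⟶ Y) ≃ₗ[C] (X ⟶ Y⟦i⟧) :=
  (Linear.homCongr C (Iso.refl _) ((shiftFunctorZero (Dual.D C) ℤ).app Y).symm).trans
    (homShiftAdj X Y (-i) 0 i (by lia))

variable {φ}

section Adj

/-- `ε` exhibits `Y` as representing `Hom(res -, K)`. -/
def IsRep {Y : Dual.D B} {K : Dual.D A} (ε : (DRing.restrictD φ).obj Y ⟶ K) : Prop :=
  ∀ X : Dual.D B, Function.Bijective fun g : X ⟶ Y => (DRing.restrictD φ).map g ≫ ε

theorem isRep_counit {R : Dual.D A ⥤ Dual.D B} (adj : DRing.restrictD φ ⊣ R) (K : Dual.D A) :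
    IsRep (φ := φ) (Y := R.obj K) (K := K) (adj.counit.app K) := fun X => by
  convert (adj.homEquiv X K).symm.bijective using 1
  funext g
  exact (adj.homEquiv_counit _ _ _).symm

variable {Y : Dual.D B} {K : Dual.D A} {ε : (DRing.restrictD φ).obj Y ⟶ K}

/-- The representing isomorphism. -/
noncomputable def repEquiv (h : IsRep ε) (X : Dual.D B) :
    (X ⟶ Y) ≃+ ((DRing.restrictD φ).obj X ⟶ K) :=
  AddEquiv.ofBijective
    (AddMonoidHom.mk' (fun g => (DRing.restrictD φ).map g ≫ ε) fun f g => by
      rw [Functor.map_add, Preadditive.add_comp]) (h X)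

theorem repEquiv_smul (h : IsRep ε) (X : Dual.D B) (a : A) (f : X ⟶ Y) :
    repEquiv h X (φ a • f) = a • repEquiv h X f := by
  show (DRing.restrictD φ).map (φ a • f) ≫ ε = a • ((DRing.restrictD φ).map f ≫ ε)
  rw [res_map_smul, Linear.smul_comp]

/-- The representing isomorphism in all degrees. -/
noncomputable def adjEquiv (h : IsRep ε) (X : Dual.D B) (i : ℤ) :
    (X ⟶ Y⟦i⟧) ≃+ ((DRing.restrictD φ).obj X ⟶ K⟦i⟧) :=
  ((shiftTo X Y i).symm.toAddEquiv.trans (repEquiv h (X⟦-i⟧))).trans
    ((Linear.homCongr A (((DRing.restrictD φ).commShiftIso (-i)).app X) (Iso.refl K)).trans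
      (shiftTo ((DRing.restrictD φ).obj X) K i)).toAddEquiv

theorem adjEquiv_smul (h : IsRep ε) (X : Dual.D B) (i : ℤ) (a : A) (g : X ⟶ Y⟦i⟧) :
    adjEquiv h X i (φ a • g) = a • adjEquiv h X i g := by
  show ((Linear.homCongr A (((DRing.restrictD φ).commShiftIso (-i)).app X) (Iso.refl K)).trans
      (shiftTo ((DRing.restrictD φ).obj X) K i))
    (repEquiv h (X⟦-i⟧) ((shiftTo X Y i).symm (φ a • g))) = _
  rw [map_smul, repEquiv_smul h, map_smul]
  rfl

/-- Restriction of a module in degree zero. -/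
noncomputable def resSingle (M : ModuleCat.{u} B) :
    (DRing.restrictD φ).obj ((DerivedCategory.singleFunctor (ModuleCat.{u} B) 0).obj M) ≅
      (DerivedCategory.singleFunctor (ModuleCat.{u} A) 0).obj
        ((ModuleCat.restrictScalars.{u} φ).obj M) :=
  ExactPush.mapSingle (ModuleCat.restrictScalars.{u} φ) M 0

end Adj

theorem finite_of_semilinear {N : Type (u + 1)} {M : Type (u + 1)} [AddCommGroup N] [Module B N]
    [AddCommGroup M] [Module A M] (e : N ≃+ M) (he : ∀ (a : A) (x : N), e (φ a • x) = a • e x)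
    [Module.Finite A M] : Module.Finite B N := by
  letI : Algebra A B := φ.toAlgebra
  letI : Module A N := Module.compHom N φ
  haveI : IsScalarTower A B N := ⟨fun a b x => by
    show (a • b) • x = φ a • (b • x)
    rw [Algebra.smul_def, mul_smul]
    rfl⟩
  haveI : Module.Finite A N :=
    Module.Finite.equiv (e.toLinearEquiv (fun a x => he a x) : N ≃ₗ[A] M).symm
  exact Module.Finite.of_restrictScalars_finite A B N

section Bounded

variable [IsNoetherianRing A]

/-- `Hom(M[0], K[i])` is finite for `K` bounded below with finite cohomology. -/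
theorem finite_hom_boundedBelow (M : Type u) [AddCommGroup M] [Module A M] [Module.Finite A M]
    (K : Dual.D A) (a : ℤ) (hKa : ∀ i : ℤ, i < a → Subsingleton (Dual.HD A K i))
    (hK : ∀ i : ℤ, Module.Finite A (Dual.HD A K i)) (i : ℤ) :
    Module.Finite A (Dual.inD A M ⟶ K⟦i⟧) := by
  obtain ⟨T, hT, hT₂, hT₁, hT₃, h₁, h₃⟩ := Devissage.exists_trunc K (max i a)
  have hb₁ : BddFin T.obj₁ := by
    refine ⟨fun j => ?_, a, max i a, fun j hj => ?_⟩
    · by_cases hj : j ≤ max i a
      · obtain ⟨e⟩ := h₁ j hj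
        have := hK j
        exact Module.Finite.equiv e.symm
      · have := subsingleton_HD_of_isLE T.obj₁ (max i a) (not_le.1 hj)
        exact Module.Finite.of_finite
    · rcases hj with hj | hj
      · obtain ⟨e⟩ := h₁ j (by lia)
        have := hKa j hj
        exact e.toEquiv.subsingleton
      · exact subsingleton_HD_of_isLE T.obj₁ (max i a) hj
  have h3 : Subsingleton (Dual.inD A M ⟶ T.obj₃⟦i⟧) := by
    refine subsingleton_of_forall_eq 0 fun f => ?_
    have : (T.obj₃⟦i⟧).IsGE (max i a + 1 - i) :=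
      DerivedCategory.TStructure.t.isGE_shift T.obj₃ (max i a + 1) i _ (by lia)
    have : (T.obj₃⟦i⟧).IsGE 1 :=
      DerivedCategory.TStructure.t.isGE_of_ge _ 1 (max i a + 1 - i) (by lia)
    exact DerivedCategory.TStructure.t.zero f 0 1
  have h1 := finite_hom (bddFin_inD (A := A) M) (bddFin_shift hb₁ i)
  subst hT₂
  have h3' : Module.Finite A (Dual.inD A M ⟶ T.obj₃⟦i⟧) := Module.Finite.of_finite
  exact finite_hom_to_obj₂ (Triangle.shift_distinguished T hT i) (Dual.inD A M) h1 h3'

theorem finite_HD_rep [IsNoetherianRing B] (hφ : φ.Finite) {Y : Dual.D B} {K : Dual.D A}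
    {ε : (DRing.restrictD φ).obj Y ⟶ K} (hrep : IsRep ε) (a : ℤ)
    (hKa : ∀ i : ℤ, i < a → Subsingleton (Dual.HD A K i))
    (hK : ∀ i : ℤ, Module.Finite A (Dual.HD A K i)) (i : ℤ) :
    Module.Finite B (Dual.HD B Y i) := by
  have : Module.Finite A ((ModuleCat.restrictScalars.{u} φ).obj (ModuleCat.of B B)) := hφ
  have := finite_hom_boundedBelow ((ModuleCat.restrictScalars.{u} φ).obj (ModuleCat.of B B)) K a hKa hK i
  let e : (Dual.inD B B ⟶ Y⟦i⟧) ≃+
      (Dual.inD A ((ModuleCat.restrictScalars.{u} φ).obj (ModuleCat.of B B)) ⟶ K⟦i⟧) :=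
    (adjEquiv hrep (Dual.inD B B) i).trans
      (Linear.homCongr A (resSingle (ModuleCat.of B B)) (Iso.refl _)).toAddEquiv
  have := finite_of_semilinear e fun a' x => by
    show Linear.homCongr A _ _ (adjEquiv hrep _ i (φ a' • x)) = _
    rw [adjEquiv_smul, map_smul]
    rfl
  exact Module.Finite.equiv (homUnitShiftEquiv Y i)

theorem finite_HD_right [IsNoetherianRing B] (hφ : φ.Finite) {R : Dual.D A ⥤ Dual.D B}
    (adj : DRing.restrictD φ ⊣ R) (K : Dual.D A) (a : ℤ)
    (hKa : ∀ i : ℤ, i < a → Subsingleton (Dual.HD A K i))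
    (hK : ∀ i : ℤ, Module.Finite A (Dual.HD A K i)) (i : ℤ) :
    Module.Finite B (Dual.HD B (R.obj K) i) :=
  finite_HD_rep hφ (isRep_counit adj K) a hKa hK i
end Bounded

section Dualizing

variable [IsNoetherianRing A] [IsNoetherianRing B]
variable (φ) (I : DRing.Cx A)

instance : (ModuleCat.coextendScalars.{u, u, u} φ).Additive :=
  (ModuleCat.restrictCoextendScalarsAdj.{u, u, u} φ).right_adjoint_additive

/-- Coextension of scalars of a complex. -/
noncomputable abbrev coI : DRing.Cx B :=
  ((ModuleCat.coextendScalars.{u, u, u} φ).mapHomologicalComplex (.up ℤ)).obj I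

/-- The adjunction on complexes. -/
noncomputable abbrev cxa : (ModuleCat.restrictScalars.{u} φ).mapHomologicalComplex (.up ℤ) ⊣
    (ModuleCat.coextendScalars.{u, u, u} φ).mapHomologicalComplex (.up ℤ) :=
  DR.Derived.cxAdj (ModuleCat.restrictCoextendScalarsAdj.{u, u, u} φ)

/-- The counit in the derived category. -/
noncomputable def eps : (DRing.restrictD φ).obj (DerivedCategory.Q.obj (coI φ I)) ⟶
    DerivedCategory.Q.obj I :=
  (ModuleCat.restrictScalars.{u} φ).mapDerivedCategoryFactors.hom.app (coI φ I) ≫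
    DerivedCategory.Q.map ((cxa φ).counit.app I)

/-- The derived adjunction map into `Q I`. -/
noncomputable def θ (X : Dual.D B) :
    (X ⟶ DerivedCategory.Q.obj (coI φ I)) →+
      ((DRing.restrictD φ).obj X ⟶ DerivedCategory.Q.obj I) :=
  AddMonoidHom.mk' (fun g => (DRing.restrictD φ).map g ≫ eps φ I) fun f g => by
    rw [Functor.map_add, Preadditive.add_comp]

variable {I} {a b : ℤ}

omit [IsNoetherianRing A] [IsNoetherianRing B] in
theorem θ_bijective_of_ge (hI : ∀ i, i < a → IsZero (I.X i)) [∀ n, Injective (I.X n)]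
    (X : Dual.D B) : Function.Bijective (θ φ I X) := by
  have hco : (coI φ I).IsKInjective := by
    have : ∀ n, Injective ((coI φ I).X n) := fun n =>
      Injective.injective_of_adjoint (ModuleCat.restrictCoextendScalarsAdj.{u, u, u} φ) (I.X n)
    have : (coI φ I).IsStrictlyGE a := (CochainComplex.isStrictlyGE_iff _ _).2 fun j hj =>
      (ModuleCat.coextendScalars.{u, u, u} φ).map_isZero (hI j hj)
    exact CochainComplex.isKInjective_of_injective _ a
  have hIK : I.IsKInjective := by
    have : I.IsStrictlyGE a := (CochainComplex.isStrictlyGE_iff I a).2 hI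
    exact CochainComplex.isKInjective_of_injective I a
  suffices h : ∀ K : DRing.Cx B, Function.Bijective (θ φ I (DerivedCategory.Q.obj K)) by
    obtain ⟨K, ⟨e⟩⟩ : ∃ K : CochainComplex (ModuleCat.{u} B) ℤ,
        Nonempty (DerivedCategory.Q.obj K ≅ X) :=
      ⟨_, ⟨DerivedCategory.Q.objObjPreimageIso X⟩⟩
    have : (θ φ I X : _ → _) = (Iso.homCongr ((DRing.restrictD φ).mapIso e) (Iso.refl _)) ∘
        (θ φ I (DerivedCategory.Q.obj K)) ∘ (Iso.homCongr e (Iso.refl _)).symm := by
      funext g
      simp [θ, Iso.homCongr]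
    rw [this]
    exact (Equiv.bijective _).comp ((h K).comp (Equiv.bijective _))
  intro K
  let G := ModuleCat.restrictScalars.{u} φ
  have key : ∀ ψ : K ⟶ coI φ I, θ φ I _ (DerivedCategory.Q.map ψ) =
      G.mapDerivedCategoryFactors.hom.app K ≫
        DerivedCategory.Q.map (((cxa φ).homEquiv K I).symm ψ) := fun ψ => by
    rw [Adjunction.homEquiv_counit]
    show (DRing.restrictD φ).map (DerivedCategory.Q.map ψ) ≫
      (G.mapDerivedCategoryFactors.hom.app (coI φ I) ≫
        DerivedCategory.Q.map ((cxa φ).counit.app I)) = _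
    refine (Category.assoc _ _ _).symm.trans ?_
    refine (congrArg (· ≫ DerivedCategory.Q.map ((cxa φ).counit.app I))
      (G.mapDerivedCategoryFactors_hom_naturality ψ)).trans ?_
    exact (Category.assoc _ _ _).trans (congrArg _ (DerivedCategory.Q.map_comp _ _).symm)
  refine ⟨?_, fun h => ?_⟩
  · rw [injective_iff_map_eq_zero]
    intro g hg
    obtain ⟨ψ, rfl⟩ := InjAmp.exists_Q_map_eq g
    rw [key] at hg
    have h0 : DerivedCategory.Q.map (((cxa φ).homEquiv K I).symm ψ) = 0 := by
      rw [← cancel_epi (G.mapDerivedCategoryFactors.hom.app K)]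
      exact hg.trans comp_zero.symm
    obtain ⟨h⟩ := DR.Amplitude.nonempty_homotopy_of_Q_map_eq'
      (h0.trans (DerivedCategory.Q.map_zero _ _).symm)
    have h' := (((ModuleCat.coextendScalars.{u, u, u} φ).mapHomotopy h).compLeft ((cxa φ).unit.app K))
    have hψ : ψ = (cxa φ).unit.app K ≫
        ((ModuleCat.coextendScalars.{u, u, u} φ).mapHomologicalComplex (.up ℤ)).map
          (((cxa φ).homEquiv K I).symm ψ) :=
      (((cxa φ).homEquiv K I).apply_symm_apply ψ).symm.trans ((cxa φ).homEquiv_unit _ _ _)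
    rw [hψ]
    refine (DerivedCategory.Q_map_eq_of_homotopy _ h').trans ?_
    simp
  · obtain ⟨f, hf⟩ := InjAmp.exists_Q_map_eq (G.mapDerivedCategoryFactors.inv.app K ≫ h)
    refine ⟨DerivedCategory.Q.map (((cxa φ).homEquiv K I) f), ?_⟩
    rw [key, Equiv.symm_apply_apply, hf]
    exact Iso.hom_inv_id_app_assoc _ _ _

omit [IsNoetherianRing A] [IsNoetherianRing B] in
theorem θ_bijective (hI : ∀ i, i < a ∨ b < i → IsZero (I.X i)) [∀ n, Injective (I.X n)]
    (X : Dual.D B) : Function.Bijective (θ φ I X) :=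
  θ_bijective_of_ge φ (fun i hi => hI i (Or.inl hi)) X

omit [IsNoetherianRing A] [IsNoetherianRing B] in
/-- Any right adjoint of restriction is computed by coextension of a bounded below injective complex. -/
theorem nonempty_iso_coI_of_ge (hI : ∀ i, i < a → IsZero (I.X i)) [∀ n, Injective (I.X n)]
    {R : Dual.D A ⥤ Dual.D B} (adj : DRing.restrictD φ ⊣ R) :
    Nonempty (DerivedCategory.Q.obj (coI φ I) ≅ R.obj (DerivedCategory.Q.obj I)) := by
  let f := adj.homEquiv (DerivedCategory.Q.obj (coI φ I)) _ (eps φ I)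
  obtain ⟨g, hg⟩ := (θ_bijective_of_ge φ hI (R.obj (DerivedCategory.Q.obj I))).2
    (adj.counit.app (DerivedCategory.Q.obj I))
  have hf : (DRing.restrictD φ).map f ≫ adj.counit.app _ = eps φ I :=
    (adj.homEquiv_counit _ _ _).symm.trans ((adj.homEquiv _ _).symm_apply_apply _)
  refine ⟨⟨f, g, (θ_bijective_of_ge φ hI _).1 ?_, (adj.homEquiv _ _).symm.injective ?_⟩⟩
  · show (DRing.restrictD φ).map (f ≫ g) ≫ eps φ I = (DRing.restrictD φ).map (𝟙 _) ≫ eps φ I
    rw [Functor.map_comp, Category.assoc, show (DRing.restrictD φ).map g ≫ eps φ I = _ from hg, hf,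
      CategoryTheory.Functor.map_id, Category.id_comp]
  · rw [Adjunction.homEquiv_counit, Adjunction.homEquiv_counit, Functor.map_comp, Category.assoc,
      hf, CategoryTheory.Functor.map_id, Category.id_comp]
    exact hg

omit [IsNoetherianRing A] [IsNoetherianRing B] in
theorem nonempty_iso_coI (hI : ∀ i, i < a ∨ b < i → IsZero (I.X i)) [∀ n, Injective (I.X n)]
    {R : Dual.D A ⥤ Dual.D B} (adj : DRing.restrictD φ ⊣ R) :
    Nonempty (DerivedCategory.Q.obj (coI φ I) ≅ R.obj (DerivedCategory.Q.obj I)) :=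
  nonempty_iso_coI_of_ge φ (fun i hi => hI i (Or.inl hi)) adj

/-- `Hom_A(B, N)` as restriction of coextension. -/
noncomputable def resCoEquiv (N : ModuleCat.{u} A) :
    (ModuleCat.restrictScalars.{u} φ).obj ((ModuleCat.coextendScalars.{u, u, u} φ).obj N) ≃ₗ[A]
      ((ModuleCat.restrictScalars.{u} φ).obj (ModuleCat.of B B) ⟶ N) :=
  AddEquiv.toLinearEquiv
    { toFun := fun f => ModuleCat.ofHom (X := (ModuleCat.restrictScalars.{u} φ).obj (ModuleCat.of B B)) (ModuleCat.CoextendScalars.equiv φ N f)
      invFun := fun f => (ModuleCat.CoextendScalars.equiv φ N).symm f.hom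
      map_add' := fun f g => by ext x; rfl
      left_inv := fun f => LinearEquiv.symm_apply_apply (ModuleCat.CoextendScalars.equiv φ N) f
      right_inv := fun f => by ext x; rfl }
    fun r f => by
      refine ModuleCat.hom_ext (LinearMap.ext
        fun (x : (ModuleCat.restrictScalars.{u} φ).obj (ModuleCat.of B B)) => ?_)
      let g := ModuleCat.CoextendScalars.equiv φ N f
      refine Eq.trans ?_ (g.map_smul r x)
      exact congrArg g (mul_comm (G := B) _ _)

omit [IsNoetherianRing A] [IsNoetherianRing B] in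
theorem resCoEquiv_naturality {N N' : ModuleCat.{u} A} (g : N ⟶ N')
    (f : (ModuleCat.restrictScalars.{u} φ).obj ((ModuleCat.coextendScalars.{u, u, u} φ).obj N)) :
    resCoEquiv φ N' (((ModuleCat.restrictScalars.{u} φ).map
      ((ModuleCat.coextendScalars.{u, u, u} φ).map g)).hom f) = resCoEquiv φ N f ≫ g := by
  refine ModuleCat.hom_ext (LinearMap.ext
    fun (x : (ModuleCat.restrictScalars.{u} φ).obj (ModuleCat.of B B)) => ?_)
  exact ModuleCat.CoextendScalars.map_apply φ g f x

omit [IsNoetherianRing A] [IsNoetherianRing B] in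
theorem resCoEquiv_one_mul {N : ModuleCat.{u} A} (r : B)
    (f : (ModuleCat.coextendScalars.{u, u, u} φ).obj N) :
    ((ModuleCat.restrictCoextendScalarsAdj.{u, u, u} φ).counit.app N).hom (r • f) =
      (resCoEquiv φ N f).hom r :=
  congrArg (ModuleCat.CoextendScalars.equiv φ N f) (one_mul (M := B) r)

variable (I) in
/-- Restriction of the coextended complex is `Hom(B, I)`. -/
noncomputable def resCoI : ((ModuleCat.restrictScalars.{u} φ).mapHomologicalComplex (.up ℤ)).obj
      (coI φ I) ≅ Biduality.DC I ((ModuleCat.restrictScalars.{u} φ).obj (ModuleCat.of B B)) :=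
  HomologicalComplex.Hom.isoOfComponents (fun n => (resCoEquiv φ (I.X n)).toModuleIso)
    (fun i j _ => by
      ext f : 2
      exact (resCoEquiv_naturality φ (I.d i j) f).symm)

omit [IsNoetherianRing A] [IsNoetherianRing B] in
theorem res_smul_counit (r : B) :
    ((ModuleCat.restrictScalars.{u} φ).mapHomologicalComplex (.up ℤ)).map (r • 𝟙 (coI φ I)) ≫
      (cxa φ).counit.app I =
    (resCoI φ I).hom ≫ Biduality.ev I ((ModuleCat.restrictScalars.{u} φ).obj (ModuleCat.of B B)) r := by
  ext n f
  simp only [HomologicalComplex.comp_f, ModuleCat.hom_comp, LinearMap.comp_apply]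
  exact resCoEquiv_one_mul φ r f

theorem isDualizing_coI (hφ : φ.Finite) (hI : ∀ i, i < a ∨ b < i → IsZero (I.X i))
    [∀ n, Injective (I.X n)] (hω : Dual.IsDualizing A (DerivedCategory.Q.obj I)) :
    Dual.IsDualizing B (DerivedCategory.Q.obj (coI φ I)) := by
  have hrep : IsRep (eps φ I) := fun X => θ_bijective φ hI X
  let e : DerivedCategory.Q.obj (coI φ I) ≅ DerivedCategory.Q.obj (coI φ I) := Iso.refl _
  let Bm := (ModuleCat.restrictScalars.{u} φ).obj (ModuleCat.of B B)
  have : Module.Finite A Bm := hφ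
  have hgood := Biduality.goodModule_finite hI hω Bm
  let c : (DRing.restrictD φ).obj (DerivedCategory.Q.obj (coI φ I)) ≅ Biduality.D I Bm :=
    (ModuleCat.restrictScalars.{u} φ).mapDerivedCategoryFactors.app (coI φ I) ≪≫
      DerivedCategory.Q.mapIso (resCoI φ I)
  obtain ⟨hfin, c₀, c₁, hc⟩ := FlatDualizing.bddFin_of_dualizing hω
  refine LBC.isDualizing_of_iso (Iso.refl _)
    { isNoetherianRing := inferInstance
      finite_injective_dimension := ?_
      finite_cohomology := fun i => finite_HD_rep hφ hrep c₀ (fun j hj => hc j (Or.inl hj)) hfin i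
      toEnd_bijective := ?_
      ext_self_subsingleton := ?_ }
  · obtain ⟨l, r, hlr⟩ := hω.finite_injective_dimension
    refine ⟨l, r, fun M _ _ i hi => ?_⟩
    have := hlr ((ModuleCat.restrictScalars.{u} φ).obj (ModuleCat.of B M)) i hi
    exact ((adjEquiv hrep (Dual.inD B M) i).trans
      (Linear.homCongr A (resSingle (ModuleCat.of B M)) (Iso.refl _)).toAddEquiv).toEquiv.subsingleton
  · let X := DerivedCategory.Q.obj (coI φ I)
    have h1 : Function.Bijective fun r : B => θ φ I X (r • 𝟙 X) := by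
      have h2 : (fun r : B => θ φ I X (r • 𝟙 X)) =
          (Linear.homCongr A c.symm (Iso.refl _)) ∘ Biduality.evD I Bm := by
        funext r
        have hr : r • 𝟙 X = DerivedCategory.Q.map (r • 𝟙 (coI φ I)) :=
          ((DerivedCategory.Q.map_smul _ _).trans (congrArg _ (DerivedCategory.Q.map_id _))).symm
        rw [hr]
        show (DRing.restrictD φ).map (DerivedCategory.Q.map (r • 𝟙 (coI φ I))) ≫
            ((ModuleCat.restrictScalars.{u} φ).mapDerivedCategoryFactors.hom.app (coI φ I) ≫
              DerivedCategory.Q.map ((cxa φ).counit.app I)) = _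
        refine (Category.assoc _ _ _).symm.trans ?_
        refine (congrArg (· ≫ DerivedCategory.Q.map ((cxa φ).counit.app I))
          ((ModuleCat.restrictScalars.{u} φ).mapDerivedCategoryFactors_hom_naturality _)).trans ?_
        refine (Category.assoc _ _ _).trans ?_
        refine (congrArg _ ((DerivedCategory.Q.map_comp _ _).symm.trans
          ((congrArg DerivedCategory.Q.map (res_smul_counit φ r)).trans
            (DerivedCategory.Q.map_comp _ _)))).trans ?_
        refine Eq.trans ?_ (Linear.homCongr_apply A c.symm (Iso.refl _) (Biduality.evD I Bm r)).symm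
        simp [c, Bm]
        rfl
      rw [h2]
      exact (LinearEquiv.bijective _).comp hgood.bij
    have h3 := (Function.Bijective.of_comp_iff' (θ_bijective φ hI X) _).1 h1
    refine FlatHom.bij_congr ((Linear.homCongr B e e).bijective.comp h3) fun r => ?_
    simp [Linear.homCongr_apply, X]
  · intro i hi
    have := hgood.vanish i hi
    have h2 : Subsingleton (DerivedCategory.Q.obj (coI φ I) ⟶ (DerivedCategory.Q.obj (coI φ I))⟦i⟧) :=
      ((adjEquiv hrep _ i).trans (Linear.homCongr A
        (((DRing.restrictD φ).mapIso e).symm ≪≫ c) (Iso.refl _)).toAddEquiv).toEquiv.subsingleton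
    exact h2

theorem isDualizing_right (hφ : φ.Finite) {R : Dual.D A ⥤ Dual.D B} (adj : DRing.restrictD φ ⊣ R)
    {ω : Dual.D A} (hω : Dual.IsDualizing A ω) : Dual.IsDualizing B (R.obj ω) := by
  obtain ⟨I, a, b, hI, hinj, ⟨e⟩⟩ := Biduality.exists_complex hω
  have hQ := LBC.isDualizing_of_iso e.symm hω
  obtain ⟨e'⟩ := nonempty_iso_coI φ hI adj
  exact LBC.isDualizing_of_iso (e' ≪≫ R.mapIso e) (isDualizing_coI φ hφ hI hQ)

/-- A finite algebra of a ring with a dualizing complex has one. -/
theorem exists_isDualizing (hφ : φ.Finite) {ω : Dual.D A} (hω : Dual.IsDualizing A ω) :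
    ∃ ω' : Dual.D B, Dual.IsDualizing B ω' := by
  obtain ⟨I, a, b, hI, hinj, ⟨e⟩⟩ := Biduality.exists_complex hω
  exact ⟨_, isDualizing_coI φ hφ hI (LBC.isDualizing_of_iso e.symm hω)⟩

theorem isNormalized_right [IsLocalRing A] [IsLocalRing B] [IsLocalHom φ] (hφ : φ.Finite)
    {R : Dual.D A ⥤ Dual.D B} (adj : DRing.restrictD φ ⊣ R)
    {ω : Dual.D A} (hω : Dual.IsDualizing A ω) (hn : Dual.IsNormalized A ω) :
    Dual.IsNormalized B (R.obj ω) := by
  intro i hi
  let N := (ModuleCat.restrictScalars.{u} φ).obj (ModuleCat.of B (IsLocalRing.ResidueField B))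
  suffices Subsingleton (Dual.inD A N ⟶ ω⟦i⟧) from
    ((adjEquiv (isRep_counit adj ω) _ i).trans (Linear.homCongr A
      (resSingle (ModuleCat.of B (IsLocalRing.ResidueField B))) (Iso.refl _)).toAddEquiv).toEquiv.subsingleton
  have : Module.Finite A N := by
    letI : Algebra A B := φ.toAlgebra
    have : Module.Finite A B := hφ
    have hfin : Module.Finite A (IsLocalRing.ResidueField B) :=
      Module.Finite.of_surjective (IsScalarTower.toAlgHom A B (IsLocalRing.ResidueField B)).toLinearMap
        IsLocalRing.residue_surjective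
    refine Module.Finite.equiv (R := A) (M := IsLocalRing.ResidueField B)
      { AddEquiv.refl _ with map_smul' := fun r x => ?_ }
    show r • x = φ r • x
    exact (algebraMap_smul B r x).symm
  refine LocalCase.subsingleton_of_closedPoint_notMem (A := A) _ ?_
  refine Degree.notMem_support_hom_of_outside hω (IsLocalRing.closedPoint A) N i ?_
  rw [LocalCase.deg_closedPoint_eq_zero hω hn]
  rcases lt_or_gt_of_ne hi with h | h
  · right
    intro q _ hq
    have hqm : q = IsLocalRing.closedPoint A := by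
      refine PrimeSpectrum.ext (le_antisymm (IsLocalRing.le_maximalIdeal q.2.ne_top) fun x hx => ?_)
      obtain ⟨m, hm⟩ := Module.mem_support_iff'.1 hq
      by_contra hxq
      refine hm x hxq ?_
      have hb : φ x ∈ IsLocalRing.maximalIdeal B := map_nonunit φ x hx
      show IsLocalRing.residue B (φ x) * (show IsLocalRing.ResidueField B from m) = 0
      rw [(IsLocalRing.residue_eq_zero_iff _).2 hb, zero_mul]
    rw [hqm, LocalCase.deg_closedPoint_eq_zero hω hn]
    exact h
  · exact Or.inl h

end Dualizing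

end Groth.Agent.Lib.DMod.FiniteRing
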