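import Groth.Agent.Lib.DMod.FlatHom
import Groth.Agent.Lib.DMod.Conservative
import Groth.Agent.Lib.DMod.InjAmp
import Mathlib.RingTheory.TensorProduct.Quotient
import Mathlib.RingTheory.Localization.Ideal
import Mathlib.RingTheory.Nakayama

/-!
Dualizing complexes and flat base change.
-/

universe u

open CategoryTheory CategoryTheory.Limits Pretriangulated TensorProduct
open Groth.Agent.Lib.DR
open Groth.Agent.Lib.DMod.Basic Groth.Agent.Lib.DMod.Conservative Groth.Agent.Lib.DMod.FlatHom

attribute [local instance] HasDerivedCategory.standard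

namespace Groth.Agent.Lib.DMod.FlatDualizing

variable {A : Type u} [CommRing A]

theorem bddFin_of_dualizing {ω : Dual.D A} (hω : Dual.IsDualizing A ω) : BddFin ω := by
  obtain ⟨a, b, hab⟩ := hω.finite_injective_dimension
  exact ⟨hω.finite_cohomology, a, b, fun i hi =>
    have := hab A i hi
    (homUnitShiftEquiv ω i).symm.toEquiv.subsingleton⟩

theorem exists_isGE {K : Dual.D A} (hK : BddFin K) : ∃ a : ℤ, K.IsGE a := by
  obtain ⟨-, a, b, h⟩ := hK
  exact ⟨a, (isGE_iff K a).2 fun i hi => h i (Or.inl hi)⟩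

theorem exists_vanish_below {K : Dual.D A} (hK : BddFin K) :
    ∃ a : ℤ, ∀ (M : Type u) [AddCommGroup M] [Module A M] (i : ℤ), i < a →
      Subsingleton (Dual.inD A M ⟶ K⟦i⟧) := by
  obtain ⟨a, ha⟩ := exists_isGE hK
  refine ⟨a, fun M _ _ i hi => subsingleton_of_forall_eq 0 fun f => ?_⟩
  have : (K⟦i⟧).IsGE (a - i) :=
    DerivedCategory.TStructure.t.isGE_shift K a i (a - i) (by lia)
  have : (K⟦i⟧).IsGE 1 := DerivedCategory.TStructure.t.isGE_of_ge _ 1 (a - i) (by lia)
  exact DerivedCategory.TStructure.t.zero f 0 1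

/-- Vanishing of `Hom((A/m)[0], K[i])` for all maximal `m` and `i > b` propagates to all ideals. -/
theorem vanish_above_of_maximal [IsNoetherianRing A] {K : Dual.D A} (hK : BddFin K) (b : ℤ)
    (h : ∀ P : Ideal A, P.IsMaximal → ∀ i : ℤ, b < i → Subsingleton (Dual.inD A (A ⧸ P) ⟶ K⟦i⟧))
    (J : Ideal A) (i : ℤ) (hi : b < i) : Subsingleton (Dual.inD A (A ⧸ J) ⟶ K⟦i⟧) := by
  suffices key : ∀ (I : Ideal A) (M : Type u) [AddCommGroup M] [Module A M] [Module.Finite A M],
      (∀ a ∈ I, ∀ x : M, a • x = 0) → ∀ i : ℤ, b < i → Subsingleton (Dual.inD A M ⟶ K⟦i⟧) from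
    key ⊥ (A ⧸ J) (fun a ha x => by rw [Ideal.mem_bot.1 ha, zero_smul]) i hi
  clear hi i J
  intro I
  induction I using WellFoundedGT.induction with
  | _ I ih =>
    intro M _ _ hfin hI i hi
    revert hI i
    refine IsNoetherianRing.induction_on_isQuotientEquivQuotientPrime A hfin
      (motive := fun N => (∀ a ∈ I, ∀ x : N, a • x = 0) → ∀ i : ℤ, b < i →
        Subsingleton (Dual.inD A N ⟶ K⟦i⟧)) ?_ ?_ ?_
    · intro N _ _ _ _ _ i _
      exact subsingleton_of_forall_eq 0 fun g =>
        (Functor.map_isZero _ (ModuleCat.isZero_of_subsingleton _)).eq_of_src g 0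
    · intro N _ _ _ p e hI' i hi
      suffices hp : Subsingleton (Dual.inD A (A ⧸ p.1) ⟶ K⟦i⟧) from
        (Linear.homCongr A ((DerivedCategory.singleFunctor (ModuleCat.{u} A) 0).mapIso e.toModuleIso)
          (Iso.refl _)).toEquiv.subsingleton
      have hIp : I ≤ p.1 := fun a ha => by
        have := congrArg e (hI' a ha (e.symm (Submodule.Quotient.mk 1)))
        rw [map_smul, LinearEquiv.apply_symm_apply, map_zero, ← Submodule.Quotient.mk_smul,
          Submodule.Quotient.mk_eq_zero, smul_eq_mul, mul_one] at this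
        exact this
      by_cases hmax : p.1.IsMaximal
      · exact h p.1 hmax i hi
      let H := Dual.inD A (A ⧸ p.1) ⟶ K⟦i⟧
      have hHfin : Module.Finite A H := finite_hom (bddFin_inD (A := A) (A ⧸ p.1)) (bddFin_shift hK i)
      suffices hann : (⊤ : Submodule A H).annihilator = ⊤ by
        refine subsingleton_of_forall_eq 0 fun g => ?_
        have h1 : (1 : A) ∈ (⊤ : Submodule A H).annihilator := by rw [hann]; trivial
        simpa using Submodule.mem_annihilator.1 h1 g trivial
      by_contra hne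
      obtain ⟨m, hm, hle⟩ := Ideal.exists_le_maximal _ hne
      have hpann : ∀ a ∈ p.1, a ∈ (⊤ : Submodule A H).annihilator := fun a ha => by
        refine Submodule.mem_annihilator.2 fun g _ => ?_
        refine HomSupp.smul_hom_eq_zero_left (HomSupp.smul_id_inD fun x => ?_) g
        obtain ⟨x, rfl⟩ := Submodule.Quotient.mk_surjective _ x
        rw [← Submodule.Quotient.mk_smul, Submodule.Quotient.mk_eq_zero]
        exact Ideal.mul_mem_right x _ ha
      have hpm : p.1 < m := lt_of_le_of_ne (fun a ha => hle (hpann a ha))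
        fun hc => hmax (hc ▸ hm)
      obtain ⟨x, hxm, hxp⟩ := SetLike.exists_of_lt hpm
      let l : (A ⧸ p.1) →ₗ[A] (A ⧸ p.1) := x • LinearMap.id
      have hl : Function.Injective l := by
        rw [injective_iff_map_eq_zero]
        intro y hy
        obtain ⟨y, rfl⟩ := Submodule.Quotient.mk_surjective _ y
        change x • (Submodule.Quotient.mk y : A ⧸ p.1) = 0 at hy
        rw [← Submodule.Quotient.mk_smul, Submodule.Quotient.mk_eq_zero] at hy
        exact (Submodule.Quotient.mk_eq_zero _).2 ((p.2.mem_or_mem hy).resolve_left hxp)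
      let S : ShortComplex (ModuleCat.{u} A) :=
        ShortComplex.mk (ModuleCat.ofHom l) (ModuleCat.ofHom (LinearMap.range l).mkQ)
          (ModuleCat.hom_ext (LinearMap.exact_map_mkQ_range l).linearMap_comp_eq_zero)
      have hS : S.ShortExact :=
        { exact := (ShortComplex.ShortExact.moduleCat_exact_iff_function_exact S).2
            (LinearMap.exact_map_mkQ_range l)
          mono_f := (ModuleCat.mono_iff_injective _).2 hl
          epi_g := (ModuleCat.epi_iff_surjective _).2 (Submodule.mkQ_surjective _) }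
      have hN : Subsingleton (Dual.inD A ((A ⧸ p.1) ⧸ LinearMap.range l) ⟶ K⟦i + 1⟧) := by
        refine ih (p.1 ⊔ Ideal.span {x}) ?_ _ (fun a ha y => ?_) (i + 1) (by lia)
        · exact lt_of_le_of_lt hIp (lt_of_le_of_ne le_sup_left fun hc => hxp (by
            rw [hc]; exact Ideal.mem_sup_right (Ideal.mem_span_singleton_self x)))
        · obtain ⟨y, rfl⟩ := Submodule.Quotient.mk_surjective _ y
          obtain ⟨b, hb, c, hc, rfl⟩ := Submodule.mem_sup.1 ha
          obtain ⟨d, rfl⟩ := Ideal.mem_span_singleton'.1 hc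
          obtain ⟨y, rfl⟩ := Submodule.Quotient.mk_surjective _ y
          rw [← Submodule.Quotient.mk_smul, Submodule.Quotient.mk_eq_zero]
          refine ⟨d • Submodule.Quotient.mk y, ?_⟩
          simp only [l, LinearMap.smul_apply, LinearMap.id_apply]
          rw [← Submodule.Quotient.mk_smul, ← Submodule.Quotient.mk_smul,
            ← Submodule.Quotient.mk_smul, Submodule.Quotient.eq, smul_eq_mul, smul_eq_mul, smul_eq_mul]
          have : x * (d * y) - (b + d * x) * y = -(b * y) := by ring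
          rw [this]
          exact neg_mem (Ideal.mul_mem_right y _ hb)
      have htop : (⊤ : Submodule A H) ≤ Ideal.span {x} • (⊤ : Submodule A H) := fun g _ => by
        have hs : Subsingleton ((Dual.inD A ((A ⧸ p.1) ⧸ LinearMap.range l))⟦(-1 : ℤ)⟧ ⟶ K⟦i⟧) :=
          (homShiftAdj _ K (-1) i (i + 1) (by lia)).toEquiv.subsingleton
        obtain ⟨g', hg'⟩ := Triangle.yoneda_exact₂ _
          (inv_rot_of_distTriang _ hS.singleTriangle_distinguished) g (hs.elim _ _)
        have h1 : hS.singleTriangle.mor₁ = x • 𝟙 (Dual.inD A (A ⧸ p.1)) := by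
          rw [← CategoryTheory.Functor.map_id, ← CategoryTheory.Functor.map_smul]
          rfl
        have hx : x • g' = g :=
          ((Linear.smul_comp _ _ _ x (𝟙 (Dual.inD A (A ⧸ p.1))) g').trans
            (congrArg (x • ·) (Category.id_comp g'))).symm.trans
            ((congrArg (· ≫ g') h1.symm).trans hg'.symm)
        rw [← hx]
        exact Submodule.smul_mem_smul (Ideal.mem_span_singleton_self x) trivial
      obtain ⟨r, hr1, hr2⟩ := Submodule.exists_sub_one_mem_and_smul_eq_zero_of_fg_of_le_smul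
        (Ideal.span {x}) (⊤ : Submodule A H) Module.Finite.fg_top htop
      have hrm : r ∈ m := hle (Submodule.mem_annihilator.2 hr2)
      obtain ⟨d, hd⟩ := Ideal.mem_span_singleton'.1 hr1
      have h1 : (1 : A) ∈ m := by
        have : (1 : A) = r - d * x := by rw [hd]; ring
        rw [this]
        exact sub_mem hrm (Ideal.mul_mem_left _ d hxm)
      exact hm.ne_top ((Ideal.eq_top_iff_one _).2 h1)
    · intro N₁ _ _ _ N₂ _ _ _ N₃ _ _ _ g₁ g₂ hg₁ hg₂ hex ih₁ ih₃ hI' i hi
      obtain ⟨T, hT, e₁, e₂, e₃⟩ := HomSupp.exists_triangle_of_shortExact g₁ g₂ hg₁ hg₂ hex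
      rw [← e₂]
      refine subsingleton_hom_from_obj₂ hT _ (e₁ ▸ ih₁ (fun a ha y => hg₁ ?_) i hi)
        (e₃ ▸ ih₃ (fun a ha y => ?_) i hi)
      · rw [map_smul, hI' a ha, map_zero]
      · obtain ⟨y, rfl⟩ := hg₂ y
        rw [← map_smul, hI' a ha, map_zero]

/-- Finite injective dimension is detected on quotients by maximal ideals. -/
theorem exists_fid_of_maximal [IsNoetherianRing A] {K : Dual.D A} (hK : BddFin K) (b : ℤ)
    (h : ∀ P : Ideal A, P.IsMaximal → ∀ i : ℤ, b < i → Subsingleton (Dual.inD A (A ⧸ P) ⟶ K⟦i⟧)) :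
    ∃ a b : ℤ, ∀ (M : Type u) [AddCommGroup M] [Module A M] (i : ℤ), (i < a ∨ b < i) →
      Subsingleton (Dual.inD A M ⟶ K⟦i⟧) := by
  obtain ⟨a, ha⟩ := exists_vanish_below hK
  refine ⟨a, b, fun M _ _ i hi => InjAmp.subsingleton_of_hasInjAmplitudeIn
    (InjAmp.hasInjAmplitudeIn_of_quotient fun I j hj => ?_) M hi⟩
  rcases hj with hj | hj
  · exact ha (A ⧸ I) j hj
  · exact vanish_above_of_maximal hK b h I j hj

section Flat

variable [IsNoetherianRing A] (B : Type u) [CommRing B] [Algebra A B] [Module.Flat A B]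

omit [IsNoetherianRing A] in
theorem bddFin_L {K : Dual.D A} (hK : BddFin K) : BddFin ((L A B).obj K) := by
  obtain ⟨hf, a, b, h⟩ := hK
  refine ⟨fun i => ?_, a, b, fun i hi => ?_⟩
  · have := hf i
    exact Module.Finite.equiv (HDL B K i)
  · have := h i hi
    have : Subsingleton (B ⊗[A] Dual.HD A K i) := by
      refine subsingleton_of_forall_eq 0 fun z => ?_
      induction z using TensorProduct.induction_on with
      | zero => rfl
      | tmul b f => rw [Subsingleton.elim f 0, TensorProduct.tmul_zero]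
      | add x y hx hy => rw [hx, hy, add_zero]
    exact (HDL B K i).symm.toEquiv.subsingleton

/-- Flat base change of `Hom`. -/
noncomputable def homEquivL {X Y : Dual.D A} (hX : BddFin X) (hY : BddFin Y) :
    B ⊗[A] (X ⟶ Y) ≃ₗ[B] ((L A B).obj X ⟶ (L A B).obj Y) :=
  LinearEquiv.ofBijective (Φ B X Y) <| by
    obtain ⟨c, hc⟩ := exists_isGE hY
    obtain ⟨hf, a, b, hab⟩ := hX
    exact bij_of_bounded hab hf hc

/-- Flat base change of `Hom` in every degree. -/
noncomputable def homEquivShift {X Y : Dual.D A} (hX : BddFin X) (hY : BddFin Y) (i : ℤ) :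
    B ⊗[A] (X ⟶ Y⟦i⟧) ≃ₗ[B] ((L A B).obj X ⟶ ((L A B).obj Y)⟦i⟧) :=
  (homEquivL B hX (bddFin_shift hY i)).trans
    (Linear.homCongr B (Iso.refl _) (((L A B).commShiftIso i).app Y))

/-- Flat base change of `Hom(M[0], -)`. -/
noncomputable def inDEquivShift (M : Type u) [AddCommGroup M] [Module A M] [Module.Finite A M]
    {Y : Dual.D A} (hY : BddFin Y) (i : ℤ) :
    B ⊗[A] (Dual.inD A M ⟶ Y⟦i⟧) ≃ₗ[B] (Dual.inD B (B ⊗[A] M) ⟶ ((L A B).obj Y)⟦i⟧) :=
  (homEquivShift B (bddFin_inD (A := A) M) hY i).trans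
    (Linear.homCongr B FlatBC.mapInD (Iso.refl _))

/-- Flat base change of `Hom((A/I)[0], -)`. -/
noncomputable def quotEquivShift (I : Ideal A) {Y : Dual.D A} (hY : BddFin Y) (i : ℤ) :
    B ⊗[A] (Dual.inD A (A ⧸ I) ⟶ Y⟦i⟧) ≃ₗ[B]
      (Dual.inD B (B ⧸ I.map (algebraMap A B)) ⟶ ((L A B).obj Y)⟦i⟧) :=
  (inDEquivShift B (A ⧸ I) hY i).trans
    (Linear.homCongr B ((DerivedCategory.singleFunctor (ModuleCat.{u} B) 0).mapIso
      (Algebra.TensorProduct.quotIdealMapEquivTensorQuot B I).symm.toLinearEquiv.toModuleIso)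
      (Iso.refl _))

omit [IsNoetherianRing A] [Module.Flat A B] in
theorem subsingleton_tensor (M : Type*) [AddCommGroup M] [Module A M] [Subsingleton M] :
    Subsingleton (B ⊗[A] M) := by
  refine subsingleton_of_forall_eq 0 fun z => ?_
  induction z using TensorProduct.induction_on with
  | zero => rfl
  | tmul b f => rw [Subsingleton.elim f 0, TensorProduct.tmul_zero]
  | add x y hx hy => rw [hx, hy, add_zero]

theorem vanish_quot {Y : Dual.D A} (hY : BddFin Y) (I : Ideal A) (i : ℤ)
    (h : Subsingleton (Dual.inD A (A ⧸ I) ⟶ Y⟦i⟧)) :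
    Subsingleton (Dual.inD B (B ⧸ I.map (algebraMap A B)) ⟶ ((L A B).obj Y)⟦i⟧) :=
  haveI := subsingleton_tensor B (A := A) (Dual.inD A (A ⧸ I) ⟶ Y⟦i⟧)
  (quotEquivShift B I hY i).symm.toEquiv.subsingleton

variable {ω : Dual.D A}

/-- The map `b ↦ b • 𝟙` after base change is the base change of `a ↦ a • 𝟙`. -/
theorem toEnd_eq (hω : BddFin ω) (b : B) :
    b • 𝟙 ((L A B).obj ω) = homEquivL B hω hω
      ((LinearMap.toSpanSingleton A (ω ⟶ ω) (𝟙 ω)).baseChange B
        ((Algebra.TensorProduct.rid A B B).symm b)) := by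
  simp [homEquivL, Algebra.TensorProduct.rid_symm_apply]

/-- The base change of a dualizing complex is dualizing once it has finite injective dimension. -/
theorem isDualizing_L [IsNoetherianRing B] (hω : Dual.IsDualizing A ω)
    (hfid : ∃ a b : ℤ, ∀ (M : Type u) [AddCommGroup M] [Module B M] (i : ℤ),
      (i < a ∨ b < i) → Subsingleton (Dual.inD B M ⟶ ((L A B).obj ω)⟦i⟧)) :
    Dual.IsDualizing B ((L A B).obj ω) where
  isNoetherianRing := inferInstance
  finite_injective_dimension := hfid
  finite_cohomology := (bddFin_L B (bddFin_of_dualizing hω)).1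
  toEnd_bijective := by
    have hb := bddFin_of_dualizing hω
    let u : A ≃ₗ[A] (ω ⟶ ω) :=
      LinearEquiv.ofBijective (LinearMap.toSpanSingleton A (ω ⟶ ω) (𝟙 ω)) hω.toEnd_bijective
    refine bij_congr ((homEquivL B hb hb).bijective.comp
      ((LinearEquiv.baseChange A B _ _ u).bijective.comp
        (Algebra.TensorProduct.rid A B B).symm.bijective)) fun b => (toEnd_eq B hb b).symm
  ext_self_subsingleton i hi := by
    have hb := bddFin_of_dualizing hω
    have := hω.ext_self_subsingleton i hi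
    have := subsingleton_tensor B (A := A) (ω ⟶ ω⟦i⟧)
    exact (homEquivShift B hb hb i).symm.toEquiv.subsingleton

/-- If every ideal of `B` is extended, finite injective dimension is preserved. -/
theorem fid_L_of_extended (hω : BddFin ω)
    (hfid : ∃ a b : ℤ, ∀ (M : Type u) [AddCommGroup M] [Module A M] (i : ℤ),
      (i < a ∨ b < i) → Subsingleton (Dual.inD A M ⟶ ω⟦i⟧))
    (hext : ∀ J : Ideal B, ∃ I : Ideal A, I.map (algebraMap A B) = J) :
    ∃ a b : ℤ, ∀ (M : Type u) [AddCommGroup M] [Module B M] (i : ℤ),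
      (i < a ∨ b < i) → Subsingleton (Dual.inD B M ⟶ ((L A B).obj ω)⟦i⟧) := by
  obtain ⟨a, b, hab⟩ := hfid
  refine ⟨a, b, fun M _ _ i hi => InjAmp.subsingleton_of_hasInjAmplitudeIn
    (InjAmp.hasInjAmplitudeIn_of_quotient fun J j hj => ?_) M hi⟩
  obtain ⟨I, rfl⟩ := hext J
  exact vanish_quot B hω I j (hab (A ⧸ I) j hj)

/-- Closed points over which the fibre is a field extension. -/
theorem fid_L_of_maximal [IsNoetherianRing B] (hω : BddFin ω)
    (hfid : ∃ a b : ℤ, ∀ (M : Type u) [AddCommGroup M] [Module A M] (i : ℤ),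
      (i < a ∨ b < i) → Subsingleton (Dual.inD A M ⟶ ω⟦i⟧))
    (hext : ∀ P : Ideal B, P.IsMaximal → ∃ I : Ideal A, I.map (algebraMap A B) = P) :
    ∃ a b : ℤ, ∀ (M : Type u) [AddCommGroup M] [Module B M] (i : ℤ),
      (i < a ∨ b < i) → Subsingleton (Dual.inD B M ⟶ ((L A B).obj ω)⟦i⟧) := by
  obtain ⟨a, b, hab⟩ := hfid
  refine exists_fid_of_maximal (bddFin_L B hω) b fun P hP i hi => ?_
  obtain ⟨I, rfl⟩ := hext P hP
  exact vanish_quot B hω I i (hab (A ⧸ I) i (Or.inr hi))

end Flat

section Descent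

variable [IsNoetherianRing A]

/-- A family of algebras detects zero modules. -/
def Detects {ι : Type*} (B : ι → Type u) [∀ i, CommRing (B i)] [∀ i, Algebra A (B i)] : Prop :=
  ∀ (M : Type (u + 1)) [AddCommGroup M] [Module A M],
    (∀ i, Subsingleton (B i ⊗[A] M)) → Subsingleton M

variable {ι : Type*} {B : ι → Type u} [∀ i, CommRing (B i)] [∀ i, Algebra A (B i)]
  [∀ i, Module.Flat A (B i)]

omit [IsNoetherianRing A] in
theorem bijective_of_detects (hB : Detects (A := A) B) {M N : Type (u + 1)} [AddCommGroup M]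
    [AddCommGroup N] [Module A M] [Module A N] (f : M →ₗ[A] N)
    (hf : ∀ i, Function.Bijective (f.baseChange (B i))) : Function.Bijective f := by
  refine ⟨?_, ?_⟩
  · rw [← LinearMap.ker_eq_bot, ← Submodule.subsingleton_iff_eq_bot]
    refine hB _ fun i => ?_
    refine subsingleton_of_forall_eq 0 fun z => ?_
    refine Module.Flat.lTensor_preserves_injective_linearMap (M := B i) (LinearMap.ker f).subtype
      (Submodule.injective_subtype _) ?_
    refine (hf i).1 ?_
    rw [map_zero, map_zero]
    show f.lTensor (B i) ((LinearMap.ker f).subtype.lTensor (B i) z) = 0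
    rw [← LinearMap.comp_apply, ← LinearMap.lTensor_comp,
      show f ∘ₗ (LinearMap.ker f).subtype = 0 from LinearMap.ext fun x => x.2,
      LinearMap.lTensor_zero]
    rfl
  · rw [← LinearMap.range_eq_top, ← Submodule.Quotient.subsingleton_iff]
    refine hB _ fun i => subsingleton_of_forall_eq 0 fun z => ?_
    obtain ⟨z, rfl⟩ := LinearMap.lTensor_surjective (B i) (Submodule.mkQ_surjective _) z
    obtain ⟨w, hw⟩ := (hf i).2 z
    rw [← hw]
    show (LinearMap.range f).mkQ.lTensor (B i) (f.lTensor (B i) w) = 0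
    rw [← LinearMap.comp_apply, ← LinearMap.lTensor_comp, LinearMap.range_mkQ_comp,
      LinearMap.lTensor_zero]
    rfl

/-- Dualizing descends along a family detecting zero modules, given boundedness, finiteness and
uniform vanishing. -/
theorem isDualizing_descent (hB : Detects (A := A) B) {ω : Dual.D A} (hω : BddFin ω)
    (hfid : ∃ a b : ℤ, ∀ (M : Type u) [AddCommGroup M] [Module A M] (i : ℤ),
      (i < a ∨ b < i) → Subsingleton (Dual.inD A M ⟶ ω⟦i⟧))
    (h : ∀ i, Dual.IsDualizing (B i) ((L A (B i)).obj ω)) : Dual.IsDualizing A ω where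
  isNoetherianRing := inferInstance
  finite_injective_dimension := hfid
  finite_cohomology := hω.1
  toEnd_bijective := by
    let v : ULift.{u + 1} A ≃ₗ[A] A := ULift.moduleEquiv
    let f : A →ₗ[A] (ω ⟶ ω) := LinearMap.toSpanSingleton A (ω ⟶ ω) (𝟙 ω)
    have hfv : Function.Bijective (f.comp v.toLinearMap) := by
      refine bijective_of_detects hB _ fun i => ?_
      have h1 := bij_congr (h i).toEnd_bijective (toEnd_eq (B i) hω)
      have h2 : Function.Bijective fun b : B i => f.baseChange (B i)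
          ((Algebra.TensorProduct.rid A (B i) (B i)).symm b) :=
        (Function.Bijective.of_comp_iff' (homEquivL (B i) hω hω).bijective _).1 h1
      have h3 : Function.Bijective (f.baseChange (B i)) :=
        (Function.Bijective.of_comp_iff _
          (Algebra.TensorProduct.rid A (B i) (B i)).symm.bijective).1 h2
      rw [LinearMap.baseChange_comp]
      exact h3.comp (LinearEquiv.baseChange A (B i) _ _ v).bijective
    exact (Function.Bijective.of_comp_iff _ v.bijective).1 hfv
  ext_self_subsingleton n hn := hB _ fun i => by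
    have := (h i).ext_self_subsingleton n hn
    exact (homEquivShift (B i) hω hω n).toEquiv.subsingleton

/-- Uniform vanishing on quotients descends. -/
theorem fid_descent (hB : Detects (A := A) B) {ω : Dual.D A} (hω : BddFin ω) (a b : ℤ)
    (h : ∀ i (M : Type u) [AddCommGroup M] [Module (B i) M] (n : ℤ), (n < a ∨ b < n) →
      Subsingleton (Dual.inD (B i) M ⟶ ((L A (B i)).obj ω)⟦n⟧)) :
    ∀ (M : Type u) [AddCommGroup M] [Module A M] (n : ℤ), (n < a ∨ b < n) →
      Subsingleton (Dual.inD A M ⟶ ω⟦n⟧) := fun M _ _ n hn =>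
  InjAmp.subsingleton_of_hasInjAmplitudeIn
    (InjAmp.hasInjAmplitudeIn_of_quotient fun I j hj => hB _ fun i =>
      haveI := h i (B i ⧸ I.map (algebraMap A (B i))) j hj
      (quotEquivShift (B i) I hω j).toEquiv.subsingleton) M hn

end Descent

end Groth.Agent.Lib.DMod.FlatDualizing
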