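import Groth.Agent.Lib.DMod.RelDual.Duality
import Groth.Agent.Lib.DMod.Biduality
import Groth.Agent.Lib.DMod.FlatDualizing
import Groth.Agent.Lib.DR.RHomRes
import Groth.Agent.Lib.DR.PairingFinite
import Groth.Agent.S6943
import Mathlib.Algebra.Homology.Embedding.CochainComplex

/-!
Biduality for complexes with finite cohomology.
-/

set_option linter.style.haveILetI false

universe u

open CategoryTheory CategoryTheory.Limits MonoidalCategory
open CochainComplex CochainComplex.HomComplex
open Groth.Agent.Lib.DR Groth.Agent.Lib.DR.HomCx Groth.Agent.Lib.TensorCx.Basic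
open Groth.Agent.Lib.DR.FiniteComplex Groth.Agent.Lib.DR.PseudoCoherent
open Groth.Agent.Lib.DMod Groth.Agent.Lib.DMod.RelDual

attribute [local instance] HasDerivedCategory.standard

namespace Groth.Agent.Lib.DMod.BidualityCx

variable {A : Type u} [CommRing A]

theorem leftUnitor_one (I : DRing.Cx A) (p : ℤ) (k : I.X p) :
    (λ_ I).hom.f p (incl (𝟙_ (DRing.Cx A)) I 0 p p (zero_add p)
      (PairingFinite.unitEquiv.symm 1 ⊗ₜ k)) = k := by
  rw [← PairingFinite.lam_inv]
  exact ConcreteCategory.congr_hom (congrArg (fun f : I ⟶ I => f.f p) (λ_ I).inv_hom_id) k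

/-- The criterion for a map to induce an isomorphism on cohomology. -/
theorem quasiIsoAt_of_elements {K L : DRing.Cx A} (f : K ⟶ L) (i j k : ℤ) (hij : i + 1 = j) (hjk : j + 1 = k)
    (hsurj : ∀ z, L.d j k z = 0 → ∃ x, K.d j k x = 0 ∧ ∃ y, L.d i j y = z - f.f j x)
    (hinj : ∀ x, K.d j k x = 0 → ∀ y, L.d i j y = f.f j x → ∃ y', K.d i j y' = x) : QuasiIsoAt f j := by
  rw [quasiIsoAt_iff' f i j k (by simp; lia) (by simp; lia)]
  let φ := (HomologicalComplex.shortComplexFunctor' (ModuleCat.{u} A) (.up ℤ) i j k).map f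
  let γ : ShortComplex.LeftHomologyMapData φ (K.sc' i j k).moduleCatLeftHomologyData
      (L.sc' i j k).moduleCatLeftHomologyData := default
  refine γ.quasiIso_iff.2 ((ConcreteCategory.isIso_iff_bijective γ.φH).2 ⟨?_, ?_⟩)
  · refine (injective_iff_map_eq_zero γ.φH.hom).2 fun w hw => ?_
    obtain ⟨x, rfl⟩ := Submodule.mkQ_surjective _ w
    obtain ⟨y, hy⟩ := (Submodule.Quotient.mk_eq_zero _).1 ((ConcreteCategory.congr_hom γ.commπ x).symm.trans hw)
    have e1 : (γ.φK x : LinearMap.ker (L.sc' i j k).g.hom).1 = f.f j x.1 :=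
      (ConcreteCategory.congr_hom γ.commi x :)
    obtain ⟨y', hy'⟩ := hinj x.1 x.2 y ((congrArg Subtype.val hy).trans e1)
    exact (Submodule.Quotient.mk_eq_zero _).2 ⟨y', Subtype.ext hy'⟩
  · intro w
    obtain ⟨z, rfl⟩ := Submodule.mkQ_surjective _ w
    obtain ⟨x, hx, y, hy⟩ := hsurj z.1 z.2
    let x' : LinearMap.ker (K.sc' i j k).g.hom := ⟨x, hx⟩
    refine ⟨(K.sc' i j k).moduleCatLeftHomologyData.π x', (ConcreteCategory.congr_hom γ.commπ x').trans ?_⟩
    let w' : LinearMap.ker (L.sc' i j k).g.hom := γ.φK x'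
    have e1 : w'.1 = f.f j x := (ConcreteCategory.congr_hom γ.commi x' :)
    have h2 : z - w' ∈ LinearMap.range (L.sc' i j k).moduleCatToCycles := ⟨y, Subtype.ext ?_⟩
    · exact ((Submodule.Quotient.eq _).2 h2).symm
    exact hy.trans (congrArg (z.1 - ·) e1.symm)

/-- The unit into the endomorphisms of a complex with trivial derived endomorphisms. -/
theorem quasiIso_endUnit (I : DRing.Cx A) [I.IsKInjective]
    (hb : Function.Bijective fun a : A => a • 𝟙 (DerivedCategory.Q.obj I))
    (h0 : ∀ j : ℤ, j ≠ 0 → Subsingleton (DerivedCategory.Q.obj I ⟶ (DerivedCategory.Q.obj I)⟦j⟧)) :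
    QuasiIso (Elem.endUnit I) := by
  let U := 𝟙_ (DRing.Cx A)
  let one : U.X 0 := PairingFinite.unitEquiv.symm 1
  have hz : ∀ i : ℤ, i ≠ 0 → IsZero (U.X i) := fun i hi =>
    HomologicalComplex.isZero_single_obj_X (ComplexShape.up ℤ) 0 (ModuleCat.of A A) i hi
  have hone : ∀ x : U.X 0, ∃ a : A, x = a • one := fun x => ⟨PairingFinite.unitEquiv x, by
    rw [← map_smul, smul_eq_mul, mul_one, LinearEquiv.symm_apply_apply]⟩
  have hc : ∀ a : A, ((Elem.endUnit I).f 0 (a • one) : Cochain I I 0) = Cochain.ofHom (a • 𝟙 I) := by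
    intro a
    have h1 : ((Elem.endUnit I).f 0 one : Cochain I I 0) = Cochain.ofHom (𝟙 I) :=
      lv_ext fun p q hpq => LinearMap.ext fun k => by
        obtain rfl : q = p := by lia
        exact ((homEquiv_apply (λ_ I).hom 0 q q hpq one k).trans (leftUnitor_one I q k)).trans
          (lv_ofHom (𝟙 I) q k).symm
    refine (map_smul ((Elem.endUnit I).f 0).hom a one).trans ((congrArg (a • ·) h1).trans ?_)
    refine Cochain.ext _ _ fun p q hpq => ?_
    obtain rfl : q = p := by lia
    show a • (Cochain.ofHom (𝟙 I)).v q q hpq = _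
    rw [Cochain.ofHom_v, Cochain.ofHom_v]
    rfl
  refine ⟨fun j => ?_⟩
  obtain ⟨i, rfl⟩ : ∃ i : ℤ, j = i + 1 := ⟨j - 1, by lia⟩
  refine quasiIsoAt_of_elements (Elem.endUnit I) i (i + 1) (i + 1 + 1) rfl rfl (fun z hz' => ?_)
    (fun x hx y hy => ?_)
  · by_cases hj : i + 1 = 0
    · obtain rfl : i = -1 := by lia
      let v : I ⟶ I := Cocycle.homOf (Cocycle.mk (z : Cochain I I 0) 1 rfl hz')
      obtain ⟨a, ha⟩ := hb.2 (DerivedCategory.Q.map v)
      have h1 : DerivedCategory.Q.map v = DerivedCategory.Q.map (a • 𝟙 I) :=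
        ha.symm.trans ((congrArg (a • ·) (DerivedCategory.Q.map_id I).symm).trans (DerivedCategory.Q.map_smul _ _).symm)
      obtain ⟨H⟩ := EvalHom.nonempty_homotopy_of_Q_map_eq_injective h1
      obtain ⟨y, hy⟩ := Cochain.equivHomotopy _ _ H
      refine ⟨a • one, (ModuleCat.subsingleton_of_isZero (hz 1 (by lia))).elim _ _, y, ?_⟩
      rw [show Cochain.ofHom v = (z : Cochain I I 0) from Cocycle.cochain_ofHom_homOf_eq_coe _, ← hc] at hy
      exact eq_sub_of_add_eq hy.symm
    · let j := i + 1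
      let e := (DerivedCategory.Q.commShiftIso (C := CochainComplex (ModuleCat.{u} A) ℤ) j).app I
      let x : Cocycle I I j := Cocycle.mk (z : Cochain I I j) (j + 1) rfl hz'
      have h1 : DerivedCategory.Q.map (Cocycle.equivHomShift.symm x) = DerivedCategory.Q.map 0 :=
        (cancel_mono e.hom).1 ((h0 j hj).elim _ _)
      obtain ⟨H⟩ := EvalHom.nonempty_homotopy_of_Q_map_eq_injective (K := I⟦j⟧) h1
      have h2 : CohomologyClass.toHom (CohomologyClass.mk x) = 0 := by
        rw [CohomologyClass.toHom_mk, HomotopyCategory.eq_of_homotopy _ _ H, Functor.map_zero]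
      obtain ⟨m, hm, y, hy⟩ := (CohomologyClass.toHom_mk_eq_zero_iff x).1 h2
      obtain rfl : m = i := by lia
      exact ⟨0, map_zero _, y, hy.trans (by rw [map_zero, sub_zero]; rfl)⟩
  · by_cases hj : i + 1 = 0
    · obtain rfl : i = -1 := by lia
      obtain ⟨a, rfl⟩ := hone x
      have h1 : Cochain.ofHom (a • 𝟙 I) = δ (-1) 0 (y : Cochain I I (-1)) + Cochain.ofHom 0 := by
        rw [Cochain.ofHom_zero, add_zero, ← hc]
        exact hy.symm
      have h2 := DerivedCategory.Q_map_eq_of_homotopy _ ((Cochain.equivHomotopy (a • 𝟙 I) 0).symm ⟨y, h1⟩)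
      rw [Functor.map_smul, CategoryTheory.Functor.map_id, Functor.map_zero] at h2
      have ha : a = 0 := hb.1 (h2.trans (zero_smul A _).symm)
      exact ⟨0, by rw [ha, zero_smul]; exact map_zero _⟩
    · exact ⟨0, (ModuleCat.subsingleton_of_isZero (hz _ hj)).elim _ _⟩

section Bounded

variable {a b : ℤ} (I : DRing.Cx A) (hI : ∀ i, i < a ∨ b < i → IsZero (I.X i))

include hI

/-- Biduality for bounded above complexes of finite projective modules. -/
theorem quasiIso_bd_of_projective (hu : QuasiIso (Elem.endUnit I)) (F : DRing.Cx A) (c : ℤ)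
    (hF : ∀ p, c < p → IsZero (F.X p)) (hp : ∀ p, fproj A (F.X p)) : QuasiIso (Duality.bd F I) := by
  haveI := isKProjective_of_bounds projective_of_fproj hF hp
  haveI : QuasiIso (Elem.endUnit I ▷ F) :=
    KFlat.quasiIso_tensor_of_isKFlat (KFlat.isKFlat_of_isKProjective F) _
  haveI := EvalHomCx.isIso_evalHomCx F I I (fun p => hp p)
    (EvalHomCx.finitary_of_bdd F I I a c b hF (fun q hq => hI q (Or.inl hq)) (fun r hr => hI r (Or.inr hr)))
  have h : QuasiIso ((λ_ F).hom ≫ Duality.bd F I) := by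
    rw [← Duality.eval_eq]
    infer_instance
  exact (quasiIso_iff_comp_left _ _).1 h

/-- Precomposition in a degree seen only by components where the map is invertible. -/
theorem isIso_precomp_f {X X' : DRing.Cx A} (f : X' ⟶ X) (j : ℤ)
    (hf : ∀ p, a - j ≤ p → p ≤ b - j → IsIso (f.f p)) : IsIso (((RHomRes.precomp f).app I).f j) := by
  classical
  rw [ConcreteCategory.isIso_iff_bijective]
  have key : ∀ (z : Cochain X I j) (p q : ℤ) (h : p + j = q) (k : X'.X p),
      lv p q h (((RHomRes.precomp f).app I).f j z : Cochain X' I j) k = lv p q h z (f.f p k) :=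
    fun z p q h k => Elem.precomp_apply f j p q h z k
  have hout : ∀ p q : ℤ, p + j = q → ¬(a - j ≤ p ∧ p ≤ b - j) → IsZero (I.X q) := fun p q h hp =>
    hI q (by simp only [not_and_or, not_le] at hp; lia)
  refine ⟨fun z z' hzz => lv_ext fun p q h => LinearMap.ext fun x => ?_, fun w => ?_⟩
  · by_cases hp : a - j ≤ p ∧ p ≤ b - j
    · haveI := hf p hp.1 hp.2
      obtain ⟨k, rfl⟩ := ((ConcreteCategory.isIso_iff_bijective (f.f p)).1 inferInstance).2 x
      exact (key z p q h k).symm.trans
        ((congrArg (fun c : Cochain X' I j => lv p q h c k) hzz).trans (key z' p q h k))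
    · haveI := ModuleCat.subsingleton_of_isZero (hout p q h hp)
      exact Subsingleton.elim _ _
  · let w' : Cochain X' I j := w
    refine ⟨(Cochain.mk fun p q h => if hp : IsIso (f.f p) then @inv _ _ _ _ (f.f p) hp ≫ w'.v p q h else 0 :
      Cochain X I j), lv_ext fun p q h => LinearMap.ext fun k => ?_⟩
    refine (key _ p q h k).trans ?_
    by_cases hp : a - j ≤ p ∧ p ≤ b - j
    · have hi := hf p hp.1 hp.2
      show ((Cochain.mk _ : Cochain X I j).v p q h).hom (f.f p k) = (w'.v p q h).hom k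
      rw [Cochain.mk_v, dif_pos hi]
      exact congrArg (w'.v p q h).hom (ConcreteCategory.congr_hom (IsIso.hom_inv_id (f.f p)) k)
    · haveI := ModuleCat.subsingleton_of_isZero (hout p q h hp)
      exact Subsingleton.elim _ _

theorem quasiIsoAt_precomp {X X' : DRing.Cx A} (f : X' ⟶ X) (c i : ℤ) (hf : ∀ p, p < c → IsIso (f.f p))
    (hi : b - i + 1 < c) : QuasiIsoAt ((RHomRes.precomp f).app I) i := by
  rw [quasiIsoAt_iff' _ (i - 1) i (i + 1) (by simp) (by simp)]
  let φ := (HomologicalComplex.shortComplexFunctor' (ModuleCat.{u} A) (.up ℤ) (i - 1) i (i + 1)).map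
    ((RHomRes.precomp f).app I)
  have h : ∀ j, i - 1 ≤ j → IsIso (((RHomRes.precomp f).app I).f j) := fun j hj =>
    isIso_precomp_f I hI f j fun p _ hp => hf p (by lia)
  haveI : IsIso φ.τ₁ := h (i - 1) le_rfl
  haveI : IsIso φ.τ₂ := h i (by lia)
  haveI : IsIso φ.τ₃ := h (i + 1) (by lia)
  exact ShortComplex.quasiIso_of_epi_of_isIso_of_mono φ

theorem quasiIsoAt_bidual {X X' : DRing.Cx A} (f : X' ⟶ X) (c i : ℤ) (hf : ∀ p, p < c → IsIso (f.f p))
    (hi : b - a + i + 1 < c) :
    QuasiIsoAt ((RHomRes.precomp ((RHomRes.precomp f).app I)).app I) i := by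
  rw [quasiIsoAt_iff' _ (i - 1) i (i + 1) (by simp) (by simp)]
  let g := (RHomRes.precomp f).app I
  let φ := (HomologicalComplex.shortComplexFunctor' (ModuleCat.{u} A) (.up ℤ) (i - 1) i (i + 1)).map
    ((RHomRes.precomp g).app I)
  have h : ∀ j, j ≤ i + 1 → IsIso (((RHomRes.precomp g).app I).f j) := fun j hj =>
    isIso_precomp_f I hI g j fun m hm _ => isIso_precomp_f I hI f m fun p _ hp => hf p (by lia)
  haveI : IsIso φ.τ₁ := h (i - 1) (by lia)
  haveI : IsIso φ.τ₂ := h i (by lia)
  haveI : IsIso φ.τ₃ := h (i + 1) le_rfl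
  exact ShortComplex.quasiIso_of_epi_of_isIso_of_mono φ

end Bounded

theorem isIso_ιTruncLE_f (X : DRing.Cx A) (c p : ℤ) (hp : p < c) : IsIso ((X.ιTruncLE c).f p) := by
  obtain ⟨k, rfl⟩ : ∃ k : ℕ, p = c - k := ⟨(c - p).toNat, by lia⟩
  let e := ComplexShape.embeddingUpIntLE c
  have hb : ¬ e.BoundaryLE k := by
    rw [ComplexShape.boundaryLE_embeddingUpIntLE_iff]
    lia
  have h : IsIso ((X.op.πTruncGE e.op).f (e.f k)) := by
    exact (e.op.isIso_liftExtend_f_iff _ _ (i := k) rfl).2
      (X.op.isIso_restrictionToTruncGE' e.op k (by simpa using hb))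
  exact @isIso_unop _ _ _ _ ((X.op.πTruncGE e.op).f (e.f k)) h

section Noetherian

variable [IsNoetherianRing A]

/-- A bounded above complex with finite cohomology has a resolution by finite free modules. -/
theorem exists_ff_res (X : DRing.Cx A) (c : ℤ) (hle : X.IsLE c)
    (hX : ∀ i, Module.Finite A (Dual.HD A (DerivedCategory.Q.obj X) i)) :
    ∃ (b : ℤ) (F : DRing.Cx A) (q : F ⟶ X), QuasiIso q ∧ (∀ p, b < p → IsZero (F.X p)) ∧
      (∀ p, ff A (F.X p)) := by
  haveI := (DerivedCategory.isLE_Q_obj_iff X c).2 hle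
  have hpc : DRing.IsPseudoCoherent' A (DerivedCategory.Q.obj X) :=
    ((Groth.Agent.S6943.result A (fun I _ => Module.finitePresentation_of_finite A I) _
      ⟨c, (Basic.isLE_iff _ c).1 inferInstance⟩ 0).2).2 fun i => have := hX i
        Module.finitePresentation_of_finite A _
  obtain ⟨b, F, hb, hbe⟩ := (Representative.isPseudoCoherent'_iff _).1 hpc
  obtain ⟨eF⟩ := hbe.2
  haveI := isKProjective_of_bounds projective_of_ff hb hbe.1
  obtain ⟨q, hq⟩ := Groth.Agent.Lib.DR.Basic.exists_Q_map_eq (E := F) eF.hom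
  haveI : QuasiIso q := by
    rw [← DerivedCategory.isIso_Q_map_iff_quasiIso, hq]
    infer_instance
  exact ⟨b, F, q, inferInstance, hb, hbe.1⟩

theorem finite_homology_of_finite (Y : DRing.Cx A) (i : ℤ) [Module.Finite A (Y.X i)] :
    Module.Finite A (Y.homology i) := by
  haveI : IsNoetherian A (Y.X i) := isNoetherian_of_isNoetherianRing_of_finite A _
  haveI : IsNoetherian A (Y.sc i).X₂ := ‹IsNoetherian A (Y.X i)›
  haveI : Module.Finite A (LinearMap.ker (Y.sc i).g.hom) := Module.Finite.iff_fg.2 (IsNoetherian.noetherian _)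
  haveI : Module.Finite A (Y.sc i).moduleCatLeftHomologyData.H :=
    Module.Finite.of_surjective (LinearMap.range (Y.sc i).moduleCatToCycles).mkQ (Submodule.mkQ_surjective _)
  exact Module.Finite.equiv (Y.sc i).moduleCatHomologyIso.toLinearEquiv.symm

theorem finite_HD_Q_iff (Y : DRing.Cx A) (i : ℤ) :
    Module.Finite A (Dual.HD A (DerivedCategory.Q.obj Y) i) ↔ Module.Finite A (Y.homology i) := by
  let e := ((DerivedCategory.homologyFunctorFactors (ModuleCat.{u} A) i).app Y).toLinearEquiv
  exact ⟨fun h => @Module.Finite.equiv _ _ _ _ _ _ _ _ h e, fun h => @Module.Finite.equiv _ _ _ _ _ _ _ _ h e.symm⟩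

variable {a b : ℤ} (I : DRing.Cx A) (hI : ∀ i, i < a ∨ b < i → IsZero (I.X i)) [I.IsKInjective]
  (hω : Dual.IsDualizing A (DerivedCategory.Q.obj I))

include hI hω

/-- Biduality. -/
theorem quasiIso_bd (X : DRing.Cx A) (hX : ∀ i, Module.Finite A (Dual.HD A (DerivedCategory.Q.obj X) i)) :
    QuasiIso (Duality.bd X I) := by
  have hu := quasiIso_endUnit I hω.toEnd_bijective hω.ext_self_subsingleton
  have key : ∀ (Y : DRing.Cx A) (c : ℤ), Y.IsLE c →
      (∀ i, Module.Finite A (Dual.HD A (DerivedCategory.Q.obj Y) i)) → QuasiIso (Duality.bd Y I) := by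
    intro Y c hc hY
    obtain ⟨d, F, q, hq, hFb, hF⟩ := exists_ff_res Y c hc hY
    haveI := quasiIso_bd_of_projective I hI hu F d hFb fun p => fproj_of_ff _ (hF p)
    haveI : QuasiIso ((RHomRes.precomp q).app I) :=
      (DerivedCategory.isIso_Q_map_iff_quasiIso _ _).1 (RHomRes.isIso_precomp q I)
    haveI : QuasiIso ((RHomRes.precomp ((RHomRes.precomp q).app I)).app I) :=
      (DerivedCategory.isIso_Q_map_iff_quasiIso _ _).1 (RHomRes.isIso_precomp _ I)
    have h : QuasiIso (q ≫ Duality.bd Y I) := by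
      rw [Duality.bd_naturality]
      exact Duality.qis_comp _ _ inferInstance (by assumption)
    exact (quasiIso_iff_comp_left _ _).1 h
  refine ⟨fun i => ?_⟩
  let c := b - a + i + 2 + max 0 (a - b)
  let f := X.ιTruncLE c
  haveI : (X.truncLE c).IsLE c := inferInstance
  have hfin : ∀ j, Module.Finite A (Dual.HD A (DerivedCategory.Q.obj (X.truncLE c)) j) := by
    intro j
    rw [finite_HD_Q_iff]
    by_cases hj : j ≤ c
    · haveI := CochainComplex.quasiIsoAt_ιTruncLE X c j hj
      haveI := (finite_HD_Q_iff X j).1 (hX j)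
      exact Module.Finite.equiv (asIso (HomologicalComplex.homologyMap f j)).toLinearEquiv.symm
    · haveI := ModuleCat.subsingleton_of_isZero
        ((X.truncLE c).isZero_of_isLE c j (by lia))
      infer_instance
  haveI := key (X.truncLE c) c inferInstance hfin
  haveI : QuasiIsoAt ((RHomRes.precomp ((RHomRes.precomp f).app I)).app I) i :=
    quasiIsoAt_bidual I hI f c i (fun p hp => isIso_ιTruncLE_f X c p hp) (by lia)
  haveI : QuasiIsoAt f i := CochainComplex.quasiIsoAt_ιTruncLE X c i (by lia)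
  have h : QuasiIsoAt (f ≫ Duality.bd X I) i := by
    rw [Duality.bd_naturality]
    exact @quasiIsoAt_comp _ _ _ _ _ _ _ _ (Duality.bd (X.truncLE c) I)
      ((RHomRes.precomp ((RHomRes.precomp f).app I)).app I) i _ _ _ inferInstance (by assumption)
  exact (quasiIsoAt_iff_comp_left f (Duality.bd X I) i).1 h

/-- Duals of complexes with finite cohomology have finite cohomology. -/
theorem finite_dual (X : DRing.Cx A) (hX : ∀ i, Module.Finite A (Dual.HD A (DerivedCategory.Q.obj X) i)) (i : ℤ) :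
    Module.Finite A (Dual.HD A (DerivedCategory.Q.obj (DRing.homCx X I)) i) := by
  obtain ⟨hfin, -⟩ := FlatDualizing.bddFin_of_dualizing hω
  haveI : I.IsLE b := haveI : I.IsStrictlyLE b :=
      (CochainComplex.isStrictlyLE_iff _ _).2 fun q hq => hI q (Or.inr hq)
    inferInstance
  haveI : I.IsGE a := haveI : I.IsStrictlyGE a :=
      (CochainComplex.isStrictlyGE_iff _ _).2 fun q hq => hI q (Or.inl hq)
    inferInstance
  obtain ⟨d₀, G, q, hq, hGb, hG⟩ := exists_ff_res I b inferInstance hfin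
  haveI : G.IsGE a := (CochainComplex.isGE_iff _ _).2 fun j hj =>
    (exactAt_iff_of_quasiIsoAt q j).2 ((CochainComplex.isGE_iff I a).1 inferInstance j hj)
  let G' := G.truncGE a
  have hGfin : ∀ p, Module.Finite A (G'.X p) := fun p =>
    haveI := (fproj_of_ff _ (hG p)).1
    Module.Finite.of_surjective ((G.πTruncGE a).f p).hom
      ((ModuleCat.epi_iff_surjective _).1 (inferInstanceAs (Epi ((HomologicalComplex.πTruncGE G (ComplexShape.embeddingUpIntGE a)).f p))))
  have hG'lo : ∀ p, p < a → IsZero (G'.X p) := fun p hp => G'.isZero_of_isStrictlyGE a p hp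
  obtain ⟨u, hu⟩ := EvalHom.exists_Q_map_eq_injective (E := G') (K := I)
    (inv (DerivedCategory.Q.map (G.πTruncGE a)) ≫ DerivedCategory.Q.map q)
  haveI : QuasiIso u := by
    rw [← DerivedCategory.isIso_Q_map_iff_quasiIso, hu]
    infer_instance
  let c := b - i + 2
  let f := X.ιTruncLE c
  haveI := quasiIsoAt_precomp I hI f c i (fun p hp => isIso_ιTruncLE_f X c p hp) (by lia)
  rw [finite_HD_Q_iff]
  suffices Module.Finite A ((DRing.homCx (X.truncLE c) I).homology i) from
    @Module.Finite.equiv _ _ _ _ _ _ _ _ this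
      (asIso (HomologicalComplex.homologyMap ((RHomRes.precomp f).app I) i)).toLinearEquiv.symm
  have hfin' : ∀ j, Module.Finite A (Dual.HD A (DerivedCategory.Q.obj (X.truncLE c)) j) := by
    intro j
    rw [finite_HD_Q_iff]
    by_cases hj : j ≤ c
    · haveI := CochainComplex.quasiIsoAt_ιTruncLE X c j hj
      haveI := (finite_HD_Q_iff X j).1 (hX j)
      exact Module.Finite.equiv (asIso (HomologicalComplex.homologyMap f j)).toLinearEquiv.symm
    · haveI := ModuleCat.subsingleton_of_isZero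
        ((X.truncLE c).isZero_of_isLE c j (by lia))
      infer_instance
  obtain ⟨d, F, r, hr, hFb, hF⟩ := exists_ff_res (X.truncLE c) c inferInstance hfin'
  haveI := isKProjective_of_bounds projective_of_ff hFb hF
  have h1 : IsIso (DerivedCategory.Q.map ((RHomRes.precomp r).app I)) := RHomRes.isIso_precomp r I
  have h2 : IsIso (DerivedCategory.Q.map ((DRing.homCxFunctor F).map u)) :=
    RHom.inverts_homCxQ F u (inferInstance : QuasiIso u)
  rw [← finite_HD_Q_iff]
  suffices Module.Finite A (Dual.HD A (DerivedCategory.Q.obj (DRing.homCx F G')) i) from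
    @Module.Finite.equiv _ _ _ _ _ _ _ _ this ((DerivedCategory.homologyFunctor (ModuleCat.{u} A) i).mapIso
      (@asIso _ _ _ _ _ h2 ≪≫ (@asIso _ _ _ _ _ h1).symm)).toLinearEquiv
  rw [finite_HD_Q_iff]
  haveI : Module.Finite A ((DRing.homCx F G').X i) := by
    let S := Finset.Icc (a - i) d
    haveI : ∀ p : S, Module.Finite A (F.X p.1) := fun p => (hF p.1).1
    haveI : ∀ p : S, Module.Free A (F.X p.1) := fun p => (hF p.1).2
    haveI : ∀ p : S, Module.Finite A (G'.X (p.1 + i)) := fun p => hGfin _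
    let L : Cochain F G' i →ₗ[A] (∀ p : S, F.X p.1 →ₗ[A] G'.X (p.1 + i)) :=
      LinearMap.pi fun p => lv p.1 (p.1 + i) rfl
    haveI : ∀ p : S, Module.Finite A (F.X p.1 →ₗ[A] G'.X (p.1 + i)) := fun p => Module.Finite.linearMap ..
    have hL : Function.Injective L := fun z z' h => lv_ext fun p q hpq => LinearMap.ext fun x => by
      obtain rfl : q = p + i := hpq.symm
      by_cases hp : p ∈ S
      · exact LinearMap.congr_fun (congr_fun h ⟨p, hp⟩) x
      · simp only [S, Finset.mem_Icc, not_and_or, not_le] at hp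
        rcases hp with hp | hp
        · haveI := ModuleCat.subsingleton_of_isZero (hG'lo (p + i) (by lia))
          exact Subsingleton.elim _ _
        · haveI := ModuleCat.subsingleton_of_isZero (hFb p hp)
          rw [Subsingleton.elim x 0, map_zero, map_zero]
    exact Module.Finite.of_injective L hL
  exact finite_homology_of_finite _ i

end Noetherian

/-- `RHom` into a K-injective complex. -/
theorem nonempty_RHomCx_kinj (K : DRing.Cx A) [DRing.HasRHomCx K] (J : DRing.Cx A) [J.IsKInjective] :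
    Nonempty ((DRing.RHomCx K).obj (DerivedCategory.Q.obj J) ≅ DerivedCategory.Q.obj (DRing.homCx K J)) := by
  let q : (KProjRes.res A).obj K ⟶ K := (KProjRes.aug A).app K
  haveI : QuasiIso q := KProjRes.quasiIso_aug A K
  obtain ⟨e⟩ := RHomRes.nonempty_RHomCx_iso_homD q
  have h := RHomRes.isIso_precomp q J
  exact ⟨e.app _ ≪≫ (DComp.homDIso _).app J ≪≫ (@asIso _ _ _ _ _ h).symm⟩

end Groth.Agent.Lib.DMod.BidualityCx
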