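import Groth.Agent.Lib.DMod.FibreRed
import Mathlib.RingTheory.Regular.RegularSequence

/-!
Acyclicity of a complex on which a regular sequence is null-homotopic, and flatness of the
cokernels of a complex which is acyclic on the closed fibre.
-/

universe u

open IsLocalRing RingTheory.Sequence
open scoped Pointwise
open Groth.Agent.Lib.DMod.FibreRed

namespace Groth.Agent.Lib.DMod.Acyclic

variable {C : Type u} [CommRing C]

/-- Multiplication by `x` is null-homotopic. -/
def NullHomotopic {G : ℕ → Type u} [∀ i, AddCommGroup (G i)] [∀ i, Module C (G i)]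
    (d : ∀ i, G i →ₗ[C] G (i + 1)) (x : C) : Prop :=
  ∃ h : ∀ i, G (i + 1) →ₗ[C] G i, (∀ z, h 0 (d 0 z) = x • z) ∧
    ∀ i z, d i (h i z) + h (i + 1) (d (i + 1) z) = x • z

/-- The complex modulo `x`. -/
def dquot {G : ℕ → Type u} [∀ i, AddCommGroup (G i)] [∀ i, Module C (G i)]
    (d : ∀ i, G i →ₗ[C] G (i + 1)) (x : C) (i : ℕ) :
    QuotSMulTop x (G i) →ₗ[C] QuotSMulTop x (G (i + 1)) :=
  QuotSMulTop.map x (d i)

/-- Exactness below the length of a null-homotopic regular sequence. -/
theorem exact_of_regular : ∀ (rs : List C) {G : ℕ → Type u} [∀ i, AddCommGroup (G i)]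
    [∀ i, Module C (G i)] (d : ∀ i, G i →ₗ[C] G (i + 1)),
    (∀ i z, d (i + 1) (d i z) = 0) → (∀ i, IsWeaklyRegular (G i) rs) →
    (∀ x ∈ rs, NullHomotopic d x) →
      (0 < rs.length → Function.Injective (d 0)) ∧
        ∀ i, i + 1 < rs.length → ∀ z, d (i + 1) z = 0 → ∃ y, d i y = z := by
  intro rs
  induction rs with
  | nil => exact fun d _ _ _ => ⟨fun h => absurd h (by simp), fun i hi => absurd hi (by simp)⟩
  | cons x rs ih =>
    intro G _ _ d hd hreg hx
    obtain ⟨h, h0, hs⟩ := hx x List.mem_cons_self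
    have hxreg : ∀ i, IsSMulRegular (G i) x := fun i => ((isWeaklyRegular_cons_iff _ _ _).1 (hreg i)).1
    have hzero : Function.Injective (d 0) := by
      rw [injective_iff_map_eq_zero]
      intro z hz
      refine (hxreg 0).right_eq_zero_of_smul ?_
      rw [← h0 z, hz, map_zero]
    refine ⟨fun _ => hzero, fun i hi z hz => ?_⟩
    have hd' : ∀ i z, dquot d x (i + 1) (dquot d x i z) = 0 := fun i z => by
      obtain ⟨z, rfl⟩ := Submodule.Quotient.mk_surjective _ z
      rw [dquot, dquot, QuotSMulTop.map_apply_mk, QuotSMulTop.map_apply_mk, hd,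
        Submodule.Quotient.mk_zero]
    obtain ⟨ih0, ihs⟩ := ih (G := fun i => QuotSMulTop x (G i)) (dquot d x) hd'
      (fun i => ((isWeaklyRegular_cons_iff _ _ _).1 (hreg i)).2) fun y hy => by
        obtain ⟨k, k0, ks⟩ := hx y (List.mem_cons_of_mem _ hy)
        refine ⟨fun i => QuotSMulTop.map x (k i), fun w => ?_, fun i w => ?_⟩
        · obtain ⟨w, rfl⟩ := Submodule.Quotient.mk_surjective _ w
          rw [dquot, QuotSMulTop.map_apply_mk, QuotSMulTop.map_apply_mk, k0, Submodule.Quotient.mk_smul]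
        · obtain ⟨w, rfl⟩ := Submodule.Quotient.mk_surjective _ w
          rw [dquot, dquot, QuotSMulTop.map_apply_mk, QuotSMulTop.map_apply_mk, QuotSMulTop.map_apply_mk,
            QuotSMulTop.map_apply_mk, ← Submodule.Quotient.mk_add, ks, Submodule.Quotient.mk_smul]
    have hxz : d i (h i z) = x • z := by
      have := hs i z
      rwa [hz, map_zero, add_zero] at this
    have hw : dquot d x i (Submodule.Quotient.mk (h i z)) = 0 := by
      rw [dquot, QuotSMulTop.map_apply_mk, hxz, Submodule.Quotient.mk_eq_zero]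
      exact Submodule.smul_mem_pointwise_smul z x ⊤ Submodule.mem_top
    rw [List.length_cons] at hi
    obtain ⟨w', hw'⟩ : ∃ w', d i (h i z) = x • d i w' := by
      cases i with
      | zero =>
        have h1 := ih0 (by omega) (hw.trans (map_zero _).symm)
        rw [Submodule.Quotient.mk_eq_zero, Submodule.mem_smul_pointwise_iff_exists] at h1
        obtain ⟨w', -, hw'⟩ := h1
        exact ⟨w', by rw [← hw', map_smul]⟩
      | succ i =>
        obtain ⟨u, hu⟩ := ihs i (by omega) _ hw
        obtain ⟨u, rfl⟩ := Submodule.Quotient.mk_surjective _ u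
        rw [dquot, QuotSMulTop.map_apply_mk, Submodule.Quotient.eq,
          Submodule.mem_smul_pointwise_iff_exists] at hu
        obtain ⟨w', -, hw'⟩ := hu
        refine ⟨-w', ?_⟩
        rw [← map_smul, smul_neg, hw', neg_sub, map_sub, hd, sub_zero]
    exact ⟨w', hxreg (i + 1) (hw'.symm.trans hxz)⟩

section Flat

variable {R : Type u} [CommRing R] [IsLocalRing R] [Algebra R C] [IsNoetherianRing R] [IsLocalRing C]
  [IsNoetherianRing C] [IsLocalHom (algebraMap R C)] {G : ℕ → Type u} [∀ i, AddCommGroup (G i)]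
  [∀ i, Module C (G i)] [∀ i, Module R (G i)] [∀ i, IsScalarTower R C (G i)]
  [∀ i, Module.Finite C (G i)] [∀ i, Module.Flat R (G i)] (d : ∀ i, G i →ₗ[C] G (i + 1))
  (hd : ∀ i z, d (i + 1) (d i z) = 0)

include hd in
/-- Acyclicity on the closed fibre below `c` makes the cokernels up to `c` flat. -/
theorem flat_coker (c : ℕ)
    (h0 : 0 < c → ∀ z, d 0 z ∈ fa R C • (⊤ : Submodule C (G 1)) → z ∈ fa R C • (⊤ : Submodule C (G 0)))
    (hs : ∀ i, i + 1 < c → ∀ z, d (i + 1) z ∈ fa R C • (⊤ : Submodule C (G (i + 2))) →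
      ∃ y, z - d i y ∈ fa R C • (⊤ : Submodule C (G (i + 1)))) :
    ∀ i, i < c → Module.Flat R (G (i + 1) ⧸ LinearMap.range (d i)) := by
  intro i
  induction i with
  | zero => exact fun hi => (injective_flat_coker (R := R) (d 0) (h0 hi)).2
  | succ i ih =>
    intro hi
    have := ih (by omega)
    let u : (G (i + 1) ⧸ LinearMap.range (d i)) →ₗ[C] G (i + 2) :=
      (LinearMap.range (d i)).liftQ (d (i + 1)) (by rintro _ ⟨y, rfl⟩; exact hd i y)
    have hu : LinearMap.range u = LinearMap.range (d (i + 1)) := Submodule.range_liftQ _ _ _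
    have hflat : Module.Flat R (G (i + 2) ⧸ LinearMap.range u) :=
      (injective_flat_coker (R := R) u fun z hz => by
        obtain ⟨z, rfl⟩ := Submodule.Quotient.mk_surjective _ z
        obtain ⟨y, hy⟩ := hs i hi z hz
        have h1 := mem_smul_map (LinearMap.range (d i)).mkQ hy
        have h2 : Submodule.Quotient.mk (z - d i y) =
            (Submodule.Quotient.mk z : G (i + 1) ⧸ LinearMap.range (d i)) := by
          rw [Submodule.Quotient.eq, sub_sub_cancel_left]
          exact neg_mem ⟨y, rfl⟩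
        rw [Submodule.mkQ_apply, h2] at h1
        exact h1).2
    exact Module.Flat.of_linearEquiv
      ((Submodule.quotEquivOfEq _ _ hu).restrictScalars R).symm

omit [IsNoetherianRing R] [IsLocalRing C] [IsNoetherianRing C] [IsLocalHom (algebraMap R C)]
  [∀ i, Module R (G i)] [∀ i, IsScalarTower R C (G i)] [∀ i, Module.Finite C (G i)]
  [∀ i, Module.Flat R (G i)] in
include hd in
/-- A null-homotopic sequence regular on the fibre gives acyclicity there. -/
theorem fibre_exact (rs : List C)
    (hreg : ∀ i, IsWeaklyRegular (G i ⧸ fa R C • (⊤ : Submodule C (G i))) rs)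
    (hx : ∀ x ∈ rs, NullHomotopic d x) :
    (0 < rs.length → ∀ z, d 0 z ∈ fa R C • (⊤ : Submodule C (G 1)) →
        z ∈ fa R C • (⊤ : Submodule C (G 0))) ∧
      ∀ i, i + 1 < rs.length → ∀ z, d (i + 1) z ∈ fa R C • (⊤ : Submodule C (G (i + 2))) →
        ∃ y, z - d i y ∈ fa R C • (⊤ : Submodule C (G (i + 1))) := by
  let S : ∀ i, Submodule C (G i) := fun i => fa R C • ⊤
  have hmap : ∀ i j (f : G i →ₗ[C] G j), S i ≤ (S j).comap f := fun i j f x hx => mem_smul_map f hx
  let dbar : ∀ i, (G i ⧸ S i) →ₗ[C] (G (i + 1) ⧸ S (i + 1)) := fun i =>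
    (S i).mapQ (S (i + 1)) (d i) (hmap _ _ _)
  obtain ⟨e0, es⟩ := exact_of_regular rs (G := fun i => G i ⧸ S i) dbar (fun i z => by
      obtain ⟨z, rfl⟩ := Submodule.Quotient.mk_surjective _ z
      show Submodule.Quotient.mk (d (i + 1) (d i z)) = _
      rw [hd, Submodule.Quotient.mk_zero]) hreg fun x hx' => by
    obtain ⟨h, h0, hs⟩ := hx x hx'
    refine ⟨fun i => (S (i + 1)).mapQ (S i) (h i) (hmap _ _ _), fun z => ?_, fun i z => ?_⟩
    · obtain ⟨z, rfl⟩ := Submodule.Quotient.mk_surjective _ z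
      show Submodule.Quotient.mk (h 0 (d 0 z)) = _
      rw [h0, Submodule.Quotient.mk_smul]
    · obtain ⟨z, rfl⟩ := Submodule.Quotient.mk_surjective _ z
      show Submodule.Quotient.mk (d i (h i z)) + Submodule.Quotient.mk (h (i + 1) (d (i + 1) z)) = _
      rw [← Submodule.Quotient.mk_add, hs, Submodule.Quotient.mk_smul]
  refine ⟨fun hc z hz => ?_, fun i hi z hz => ?_⟩
  · rw [← Submodule.Quotient.mk_eq_zero]
    refine e0 hc ?_
    show Submodule.Quotient.mk (d 0 z) = _
    rw [map_zero, Submodule.Quotient.mk_eq_zero]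
    exact hz
  · obtain ⟨y, hy⟩ := es i hi (Submodule.Quotient.mk z) ((Submodule.Quotient.mk_eq_zero _).2 hz)
    obtain ⟨y, rfl⟩ := Submodule.Quotient.mk_surjective _ y
    exact ⟨y, (Submodule.Quotient.eq _).1 hy.symm⟩

end Flat

end Groth.Agent.Lib.DMod.Acyclic
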