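import Groth.Agent.Lib.DMod.DepthLocal
import Groth.Agent.Lib.DMod.Gorenstein
import Groth.Agent.Lib.ModelFibre.GorensteinQuot
import Groth.Agent.Lib.Depth.CM

/-!
A quotient of a regular local ring is Cohen-Macaulay iff its `Ext` into the ring vanishes outside
the codimension.
-/

universe u

open CategoryTheory CategoryTheory.Limits Pretriangulated
open Groth.Agent.Lib.DMod Groth.Agent.Lib.DMod.Basic

attribute [local instance] HasDerivedCategory.standard

namespace Groth.Agent.Lib.DMod.CMCriterion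

variable {S : Type u} [CommRing S] [IsRegularLocalRing S] (J : Ideal S) (hJ : J ≠ ⊤)
  {D d : ℕ} (hD : ringKrullDim S = D) (hd : ringKrullDim (S ⧸ J) = d)

include hD hd in
theorem le_dim : d ≤ D := by
  have h := ringKrullDim_le_of_surjective (Ideal.Quotient.mk J) Ideal.Quotient.mk_surjective
  rw [hD, hd] at h
  exact_mod_cast h

include hJ hD hd in
/-- The codimension is a nonvanishing degree. -/
theorem nontrivial_ext (c : ℕ) (hc : c + d = D) :
    Nontrivial (Abelian.Ext.{u} (ModuleCat.of S (S ⧸ J)) (ModuleCat.of S S) c) := by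
  have := ModelFibre.GorensteinQuot.isGorenstein_of_isRegular S
  obtain ⟨hω, hn⟩ := Gorenstein.isDualizing_gorenstein_local D hD
  have : Nontrivial (S ⧸ J) := Ideal.Quotient.nontrivial_iff.2 hJ
  have hsd : Module.supportDim S (S ⧸ J) = d :=
    (Module.supportDim_quotient_eq_ringKrullDim J).trans hd
  obtain ⟨q, hq, hdeg, hmin⟩ := LocalCase.exists_min_deg_local hω hn (S ⧸ J) d hsd
  have h := Degree.mem_support_hom_of_minimal_deg hω (IsLocalRing.closedPoint S) q
    (IsLocalRing.le_maximalIdeal q.2.ne_top) (S ⧸ J) hq fun r _ hr => hmin r hr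
  have h2 := (LocalCase.nontrivial_iff_closedPoint_mem _).2 h
  exact (Gorenstein.shiftExtEquiv (S ⧸ J) (D : ℤ) (Degree.deg hω q) c
    (by rw [hdeg]; omega)).toEquiv.nontrivial

include hJ hD hd in
/-- Below the codimension `Ext` vanishes. -/
theorem subsingleton_ext_of_lt (j : ℕ) (hj : j + d < D) :
    Subsingleton (Abelian.Ext.{u} (ModuleCat.of S (S ⧸ J)) (ModuleCat.of S S) j) := by
  have := ModelFibre.GorensteinQuot.isGorenstein_of_isRegular S
  obtain ⟨hω, hn⟩ := Gorenstein.isDualizing_gorenstein_local D hD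
  have : Nontrivial (S ⧸ J) := Ideal.Quotient.nontrivial_iff.2 hJ
  have hsd : Module.supportDim S (S ⧸ J) = d :=
    (Module.supportDim_quotient_eq_ringKrullDim J).trans hd
  obtain ⟨q, hq, hdeg, hmin⟩ := LocalCase.exists_min_deg_local hω hn (S ⧸ J) d hsd
  have h := LocalCase.subsingleton_of_closedPoint_notMem _
    (Degree.notMem_support_hom_of_outside hω (IsLocalRing.closedPoint S) (S ⧸ J) (-((D : ℤ) - j))
      (Or.inr fun r _ hr => by have := hmin r hr; omega))
  exact (Gorenstein.shiftExtEquiv (S ⧸ J) (D : ℤ) (-((D : ℤ) - j)) j (by omega)).toEquiv.subsingleton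

include hJ hD hd in
/-- The criterion. -/
theorem isCohenMacaulay_quotient_iff :
    LocCoh.IsCohenMacaulayLocalRing (S ⧸ J) ↔
      ∀ j : ℕ, j + d ≠ D →
        Subsingleton (Abelian.Ext.{u} (ModuleCat.of S (S ⧸ J)) (ModuleCat.of S S) j) := by
  have := ModelFibre.GorensteinQuot.isGorenstein_of_isRegular S
  obtain ⟨hω, hn⟩ := Gorenstein.isDualizing_gorenstein_local D hD
  have : Nontrivial (S ⧸ J) := Ideal.Quotient.nontrivial_iff.2 hJ
  have : IsLocalRing (S ⧸ J) :=
    IsLocalRing.of_surjective' (Ideal.Quotient.mk J) Ideal.Quotient.mk_surjective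
  have hsd : Module.supportDim S (S ⧸ J) = d :=
    (Module.supportDim_quotient_eq_ringKrullDim J).trans hd
  rw [Depth.CM.isCohenMacaulayLocalRing_quotient_iff_module J,
    DepthLocal.isCohenMacaulayModule_iff hω hn (S ⧸ J) d hsd]
  constructor
  · intro h j hj
    have := h ((D : ℤ) - j) (by omega)
    exact (Gorenstein.shiftExtEquiv (S ⧸ J) (D : ℤ) (-((D : ℤ) - j)) j (by omega)).toEquiv.subsingleton
  · intro h i hi
    rcases lt_or_ge ((D : ℤ) - i) 0 with h0 | h0
    · have := subsingleton_hom_inD_neg (A := S) (S ⧸ J) S h0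
      exact (Linear.homCongr S (Iso.refl _)
        ((shiftFunctorAdd' (Dual.D S) (D : ℤ) (-i) ((D : ℤ) - i) (by omega)).app
          (Dual.inD S S))).symm.toEquiv.subsingleton
    · obtain ⟨j, hj⟩ := Int.eq_ofNat_of_zero_le h0
      have := h j (by omega)
      exact (Gorenstein.shiftExtEquiv (S ⧸ J) (D : ℤ) (-i) j (by omega)).symm.toEquiv.subsingleton

end Groth.Agent.Lib.DMod.CMCriterion
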