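import Groth.Agent.Lib.Depth.Vanish
import Groth.Agent.Lib.Depth.CM
import Groth.Agent.Lib.QDepth.Local
import Mathlib.RingTheory.Regular.Category
import Mathlib.RingTheory.Regular.RegularSequence

/-!
The first possibly nonzero `Ext(C/J, C)` over a Cohen–Macaulay local ring has depth at least two
or the dimension of its support.
-/

universe u

open CategoryTheory Abelian RingTheory.Sequence Pointwise LocCoh IsLocalRing
open Groth.Agent.Lib.Depth

namespace Groth.Agent.Lib.DMod.CMExtTwo

variable {C : Type u} [CommRing C]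

/-- Rees: `Ext^{len}(N, M) = Hom(N, M/(rs)M)`. -/
theorem nonempty_ext_equiv (N : ModuleCat.{u} C) : ∀ (rs : List C) (M : Type u) [AddCommGroup M]
    [Module C M], IsWeaklyRegular M rs → (∀ r ∈ rs, r ∈ Module.annihilator C N) →
    Nonempty (Ext N (ModuleCat.of C M) rs.length ≃ₗ[C]
      (N →ₗ[C] (M ⧸ Ideal.ofList rs • (⊤ : Submodule C M)))) := by
  intro rs
  induction rs with
  | nil =>
    intro M _ _ _ _
    exact ⟨Ext.linearEquiv₀.trans (ModuleCat.homLinearEquiv.trans
      ((Submodule.quotEquivOfEqBot _ (by rw [Ideal.ofList_nil, Submodule.bot_smul])).symm.congrRight))⟩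
  | cons x rs ih =>
    intro M _ _ hreg hmem
    simp only [List.mem_cons, forall_eq_or_imp] at hmem
    have hreg' := (isWeaklyRegular_cons_iff M x rs).1 hreg
    obtain ⟨e⟩ := ih (QuotSMulTop x M) hreg'.2 hmem.2
    let MC := ModuleCat.of C M
    let S := MC.smulShortComplex x
    have hS : S.ShortExact := IsSMulRegular.smulShortComplex_shortExact (M := MC) hreg'.1
    have hvan : Subsingleton (Ext N MC rs.length) :=
      Vanish.subsingleton_ext_of_isWeaklyRegular (M := MC) (I := Module.annihilator C N) (k := 1)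
        (by rw [pow_one]) hreg (fun r hr => by
          rcases List.mem_cons.1 hr with rfl | h
          · exact hmem.1
          · exact hmem.2 r h) (by simp)
    let φ : Ext N S.X₃ rs.length →ₗ[C] Ext N MC (rs.length + 1) :=
      { toFun := fun a => a.comp hS.extClass rfl
        map_add' := fun a b => Ext.add_comp a b _ _
        map_smul' := fun c a => Ext.smul_comp .. }
    have hφ : Function.Bijective φ := by
      refine ⟨(injective_iff_map_eq_zero φ).2 fun a ha => ?_, fun a => ?_⟩
      · obtain ⟨b, hb⟩ := Ext.covariant_sequence_exact₃ N hS a rfl ha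
        rw [← hb, (show Subsingleton (Ext N S.X₂ rs.length) from hvan).elim b 0, Ext.zero_comp]
      · obtain ⟨b, hb⟩ := Ext.covariant_sequence_exact₁ N hS a (by
          rw [ModuleCat.smulShortComplex_f_eq_smul_id]
          exact (Ext.smul_eq_comp_mk₀ a x).symm.trans
            (Depth.Ext.smul_eq_zero_of_annihilator_src hmem.1 a)) rfl
        exact ⟨b, hb⟩
    exact ⟨(LinearEquiv.ofBijective φ hφ).symm.trans
      (e.trans (Submodule.quotOfListConsSMulTopEquivQuotSMulTopInner M x rs).symm.congrRight)⟩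

/-- Quotients of a Cohen–Macaulay module by regular sequences are Cohen–Macaulay. -/
theorem isCohenMacaulayModule_quotient [IsLocalRing C] [IsNoetherianRing C] : ∀ (rs : List C)
    (M : Type u) [AddCommGroup M] [Module C M] [Module.Finite C M],
    IsCohenMacaulayModule C M → (∀ r ∈ rs, r ∈ maximalIdeal C) → IsWeaklyRegular M rs →
    IsCohenMacaulayModule C (M ⧸ Ideal.ofList rs • (⊤ : Submodule C M)) := by
  intro rs
  induction rs with
  | nil =>
    intro M _ _ _ h _ _
    exact (CM.isCohenMacaulayModule_congr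
      (Submodule.quotEquivOfEqBot _ (by rw [Ideal.ofList_nil, Submodule.bot_smul]))).2 h
  | cons x rs ih =>
    intro M _ _ _ h hmem hreg
    simp only [List.mem_cons, forall_eq_or_imp] at hmem
    have hreg' := (isWeaklyRegular_cons_iff M x rs).1 hreg
    have := CM.nontrivial_of_isCohenMacaulayModule h
    have h' := (CM.isCohenMacaulayModule_quotSMulTop_iff hmem.1 hreg'.1).2 h
    exact (CM.isCohenMacaulayModule_congr (Submodule.quotOfListConsSMulTopEquivQuotSMulTopInner M x rs)).2
      (ih _ h' hmem.2 hreg'.2)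

/-- Depth of powers. -/
theorem le_idealDepth_pow [IsNoetherianRing C] (I : Ideal C) (W : Type u) [AddCommGroup W]
    [Module C W] [Module.Finite C W] {j : ℕ} (h : (j : ℕ∞) ≤ idealDepth I W) :
    ∀ m : ℕ, (j : ℕ∞) ≤ idealDepth I (Fin m → W) := by
  intro m
  induction m with
  | zero =>
    rw [Basic.idealDepth_subsingleton (M := (Fin 0 → W))]
    exact le_top
  | succ m ih =>
    let e : (Fin (m + 1) → W) ≃ₗ[C] W × (Fin m → W) := (Fin.consLinearEquiv C fun _ => W).symm
    refine SES.le_idealDepth_middle I (f := e.symm.toLinearMap ∘ₗ LinearMap.inl C W (Fin m → W))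
      (g := LinearMap.snd C W (Fin m → W) ∘ₗ e.toLinearMap)
      (e.symm.injective.comp LinearMap.inl_injective) ?_
      ((LinearMap.snd_surjective (R := C) (M := W) (M₂ := Fin m → W)).comp e.surjective) h ih
    intro y
    simp only [LinearMap.comp_apply, LinearEquiv.coe_coe, Set.mem_range, LinearMap.snd_apply,
      LinearEquiv.symm_apply_eq]
    exact ⟨fun hy => ⟨(e y).1, Prod.ext rfl hy.symm⟩, fun ⟨x, hx⟩ => by rw [← hx]; rfl⟩

/-- A Cohen–Macaulay local ring has depth at least the height in an ideal. -/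
theorem exists_regular [IsCohenMacaulayLocalRing C] (J : Ideal C) (hJ : J ≠ ⊤) (c : ℕ)
    (hc : ∀ P : Ideal C, P.IsPrime → J ≤ P → (c : ℕ∞) ≤ P.height) :
    ∃ rs : List C, rs.length = c ∧ (∀ r ∈ rs, r ∈ J) ∧ IsWeaklyRegular C rs := by
  refine (Basic.le_idealDepth_iff_of_ne_top (by rwa [smul_eq_mul, Ideal.mul_top]) c).1
    ((QDepth.le_idealDepth_iff_forall J C c).2 fun P hP => ?_)
  have hP' : P ∈ Module.support C C := by
    simp [Module.support_eq_zeroLocus, Module.annihilator_eq_bot.mpr]
  have hCM := CM.isCohenMacaulayModule_localization CM.isCohenMacaulayModule_self P.asIdeal hP'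
  let e : LocalizedModule P.asIdeal.primeCompl C ≃ₗ[Localization.AtPrime P.asIdeal]
      Localization.AtPrime P.asIdeal :=
    (IsLocalizedModule.iso P.asIdeal.primeCompl
      (Algebra.linearMap C (Localization.AtPrime P.asIdeal))).extendScalarsOfIsLocalization
        P.asIdeal.primeCompl _
  have h1 : Module.supportDim (Localization.AtPrime P.asIdeal)
      (LocalizedModule P.asIdeal.primeCompl C) = (P.asIdeal.height : WithBot ℕ∞) := by
    rw [Module.supportDim_eq_of_equiv e, Module.supportDim_self_eq_ringKrullDim,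
      IsLocalization.AtPrime.ringKrullDim_eq_height P.asIdeal]
  have h2 := hc P.asIdeal P.isPrime hP
  exact h2.trans (WithBot.coe_le_coe.1 (h1.symm.trans hCM).le)

/-- Below the height of `J` the module `Ext^j(C/J, C)` vanishes. -/
theorem subsingleton_ext [IsCohenMacaulayLocalRing C] (J : Ideal C) (hJ : J ≠ ⊤) (c : ℕ)
    (hc : ∀ P : Ideal C, P.IsPrime → J ≤ P → (c : ℕ∞) ≤ P.height) (j : ℕ) (hj : j < c) :
    Subsingleton (Ext (ModuleCat.of C (C ⧸ J)) (ModuleCat.of C C) j) := by
  obtain ⟨rs, hlen, hmem, hreg⟩ := exists_regular J hJ c hc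
  exact Vanish.subsingleton_ext_of_isWeaklyRegular (I := J) (k := 1)
    (by rw [pow_one]; exact le_of_eq (Ideal.annihilator_quotient (I := J)).symm) hreg hmem (by omega)

/-- The module in the degree of the height has depth `≥ min 2 dim`. -/
theorem le_depth_ext [IsCohenMacaulayLocalRing C] (J : Ideal C) (hJ : J ≠ ⊤) (c : ℕ)
    (hc : ∀ P : Ideal C, P.IsPrime → J ≤ P → (c : ℕ∞) ≤ P.height) (j : ℕ) (hj : j ≤ 2)
    (hd : ((j : ℕ∞) : WithBot ℕ∞) ≤
      Module.supportDim C (Ext (ModuleCat.of C (C ⧸ J)) (ModuleCat.of C C) c)) :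
    (j : ℕ∞) ≤ LocCoh.depth C (Ext (ModuleCat.of C (C ⧸ J)) (ModuleCat.of C C) c) := by
  obtain ⟨rs, hlen, hmem, hreg⟩ := exists_regular J hJ c hc
  subst hlen
  obtain ⟨e⟩ := nonempty_ext_equiv (ModuleCat.of C (C ⧸ J)) rs C hreg fun r hr =>
    (le_of_eq (Ideal.annihilator_quotient (I := J)).symm) (hmem r hr)
  rw [Depth.Basic.depth_congr e]
  rw [Module.supportDim_eq_of_equiv e] at hd
  set W := C ⧸ Ideal.ofList rs • (⊤ : Submodule C C)
  have hCM : IsCohenMacaulayModule C W := isCohenMacaulayModule_quotient rs C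
    CM.isCohenMacaulayModule_self (fun r hr => IsLocalRing.le_maximalIdeal hJ (hmem r hr)) hreg
  obtain ⟨m, g, hg⟩ := Submodule.fg_iff_exists_fin_generating_family.1 (IsNoetherian.noetherian J)
  let f : ((C ⧸ J) →ₗ[C] W) →ₗ[C] W := LinearMap.applyₗ (Submodule.Quotient.mk 1)
  let G : W →ₗ[C] (Fin m → W) := LinearMap.pi fun k => LinearMap.lsmul C W (g k)
  have hf : Function.Injective f := fun a b hab => Submodule.linearMap_qext _ (LinearMap.ext_ring hab)
  have hex : Function.Exact f G := by
    intro w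
    constructor
    · intro hw
      have hker : J ≤ LinearMap.ker (LinearMap.toSpanSingleton C W w) := by
        rw [← hg, Submodule.span_le]
        rintro - ⟨k, rfl⟩
        exact congrFun hw k
      exact ⟨J.liftQ _ hker, one_smul C w⟩
    · rintro ⟨a, rfl⟩
      funext k
      show g k • a (Submodule.Quotient.mk 1) = 0
      have hk : g k ∈ J := hg.le (Submodule.subset_span ⟨k, rfl⟩)
      have h0 : g k • (Submodule.Quotient.mk 1 : C ⧸ J) = 0 :=
        (Submodule.Quotient.mk_eq_zero J).2 (J.mul_mem_right 1 hk)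
      rw [← map_smul]
      exact (congrArg a h0).trans a.map_zero
  have hW : (j : ℕ∞) ≤ idealDepth (maximalIdeal C) W := by
    have := hd.trans ((Module.supportDim_le_of_injective f hf).trans hCM.le)
    exact WithBot.coe_le_coe.1 this
  exact QDepth.le_of_exact_of_le_two (maximalIdeal C) f G hf hex hj hW
    (le_idealDepth_pow _ W ((Nat.cast_le.2 (Nat.sub_le j 1)).trans hW) m)

/-- `Ext^c(C/J, C)` is finite. -/
theorem finite_ext [IsCohenMacaulayLocalRing C] (J : Ideal C) (hJ : J ≠ ⊤) (c : ℕ)
    (hc : ∀ P : Ideal C, P.IsPrime → J ≤ P → (c : ℕ∞) ≤ P.height) :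
    Module.Finite C (Ext (ModuleCat.of C (C ⧸ J)) (ModuleCat.of C C) c) := by
  obtain ⟨rs, hlen, hmem, hreg⟩ := exists_regular J hJ c hc
  subst hlen
  obtain ⟨e⟩ := nonempty_ext_equiv (ModuleCat.of C (C ⧸ J)) rs C hreg fun r hr =>
    (le_of_eq (Ideal.annihilator_quotient (I := J)).symm) (hmem r hr)
  exact Module.Finite.equiv e.symm

end Groth.Agent.Lib.DMod.CMExtTwo
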