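import Groth.Agent.Lib.DMod.CMFibrePrime
import Mathlib.RingTheory.Flat.Localization

/-!
Cohen-Macaulay fibres of pure dimension, globally.
-/

set_option linter.style.haveILetI false

universe u

open IsLocalRing CategoryTheory TensorProduct
open Groth.Agent.Lib.DMod.LocalExtCI Groth.Agent.Lib.DMod.GorFibrePrime Groth.Agent.Lib.LCFin

namespace Groth.Agent.Lib.DMod.CMFibreGlobal

/-- Flatness over the base from flatness at the maximal ideals containing an annihilating ideal. -/
theorem flat_of_local {R P : Type u} [CommRing R] [CommRing P] [Algebra R P] (K : Ideal P)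
    (E : Type u) [AddCommGroup E] [Module P E] (hK : ∀ a ∈ K, ∀ x : E, a • x = 0)
    (h : ∀ (M : Ideal P) [M.IsMaximal], K ≤ M → Module.Flat R
      (RestrictScalars R (Localization M.primeCompl) (LocalizedModule M.primeCompl E))) :
    Module.Flat R (RestrictScalars R P E) := by
  letI : Module R E := Module.compHom E (algebraMap R P)
  haveI : IsScalarTower R P E := IsScalarTower.of_algebraMap_smul fun _ _ => rfl
  rw [CMFibrePrime.restrict_iff]
  refine Module.flat_of_isLocalized_maximal P E (fun M => LocalizedModule M.primeCompl E)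
    (fun M => LocalizedModule.mkLinearMap M.primeCompl E) fun M hM => ?_
  by_cases hle : K ≤ M
  · exact (CMFibrePrime.restrict_iff _).1 (h M hle)
  · obtain ⟨a, ha, ha'⟩ := SetLike.not_le_iff_exists.1 hle
    have : Subsingleton (LocalizedModule M.primeCompl E) :=
      LocalizedModule.subsingleton_iff.2 fun x => ⟨a, ha', hK a ha x⟩
    infer_instance

/-- The tensor product of a module flat over the base with a flat module. -/
theorem flat_tensor {R P : Type u} [CommRing R] [CommRing P] [Algebra R P] (L : Type u) [AddCommGroup L]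
    [Module P L] [Module R L] [IsScalarTower R P L] [Module.Flat P L] (E : Type u) [AddCommGroup E]
    [Module P E] [Module R E] [IsScalarTower R P E] [Module.Flat R E] :
    Module.Flat R (L ⊗[P] E) := by
  rw [Module.Flat.iff_lTensor_preserves_injective_linearMap]
  intro X Y _ _ _ _ f hf
  have h1 : Function.Injective ((AlgebraTensorModule.lTensor P E f).lTensor L) :=
    Module.Flat.lTensor_preserves_injective_linearMap (M := L) _
      (Module.Flat.lTensor_preserves_injective_linearMap f hf)
  let eX := AlgebraTensorModule.assoc R P P L E X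
  let eY := AlgebraTensorModule.assoc R P P L E Y
  have h2 : ∀ z, eY (f.lTensor (L ⊗[P] E) z) = (AlgebraTensorModule.lTensor P E f).lTensor L (eX z) := by
    intro z
    induction z using TensorProduct.induction_on with
    | zero => simp
    | add a b ha hb => simp only [map_add, ha, hb]
    | tmul w x =>
      induction w using TensorProduct.induction_on with
      | zero => simp
      | add a b ha hb => simp only [TensorProduct.add_tmul, map_add, ha, hb]
      | tmul l m => rfl
  intro a b hab
  exact eX.injective (h1 (by rw [← h2, ← h2, hab]))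

/-- Flatness over the base transported along an equivalence. -/
theorem flat_congr (R : Type u) {C : Type u} [CommRing R] [CommRing C] [Algebra R C] {X Y : Type u}
    [AddCommGroup X] [Module C X] [AddCommGroup Y] [Module C Y] (e : X ≃ₗ[C] Y)
    (h : Module.Flat R (RestrictScalars R C X)) : Module.Flat R (RestrictScalars R C Y) := by
  letI : Module R X := Module.compHom X (algebraMap R C)
  letI : Module R Y := Module.compHom Y (algebraMap R C)
  haveI : IsScalarTower R C X := IsScalarTower.of_algebraMap_smul fun _ _ => rfl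
  haveI : IsScalarTower R C Y := IsScalarTower.of_algebraMap_smul fun _ _ => rfl
  exact (CMFibrePrime.restrict_iff Y).2
    ((Module.Flat.equiv_iff (e.restrictScalars R)).1 ((CMFibrePrime.restrict_iff X).1 h))

/-- A flat localized module. -/
theorem flat_localized {R P : Type u} [CommRing R] [CommRing P] [Algebra R P] (S : Submonoid P)
    (E : Type u) [AddCommGroup E] [Module P E] [h : Module.Flat R (RestrictScalars R P E)]
    {B : Type u} [AddCommGroup B] [Module (Localization S) B] {ψ : E →+ B}
    (hψ : ExtLoc.IsLocalizing S ψ) : Module.Flat R (RestrictScalars R (Localization S) B) := by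
  letI : Module R E := Module.compHom E (algebraMap R P)
  haveI : IsScalarTower R P E := IsScalarTower.of_algebraMap_smul fun _ _ => rfl
  have hE : Module.Flat R E := (CMFibrePrime.restrict_iff E).1 h
  obtain ⟨e⟩ := hψ.nonempty_equiv
  letI : Module R B := Module.compHom B (algebraMap R (Localization S))
  haveI : IsScalarTower R (Localization S) B := IsScalarTower.of_algebraMap_smul fun _ _ => rfl
  refine (CMFibrePrime.restrict_iff B).2 ?_
  haveI : Module.Flat P (Localization S) := IsLocalization.flat _ S
  have hT : Module.Flat R (Localization S ⊗[P] E) :=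
    flat_tensor (Localization S) E
  exact Module.Flat.of_linearEquiv
    (((LocalizedModule.equivTensorProduct S E).symm.trans e).restrictScalars R).symm

variable {R : Type u} [CommRing R] [IsNoetherianRing R] {N n : ℕ}
  {A : Type u} [CommRing A] [Algebra (MvPolynomial (Fin N) R) A] [Algebra R A]
  [IsScalarTower R (MvPolynomial (Fin N) R) A] [Module.Flat R A]
  (hsurj : Function.Surjective (algebraMap (MvPolynomial (Fin N) R) A))

/-- The `Ext` modules of the presentation. -/
abbrev GExt (R : Type u) [CommRing R] (N : ℕ) (A : Type u) [CommRing A]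
    [Algebra (MvPolynomial (Fin N) R) A] (i : ℕ) : Type u :=
  Abelian.Ext.{u} (ModuleCat.of (MvPolynomial (Fin N) R) A)
    (ModuleCat.of (MvPolynomial (Fin N) R) (MvPolynomial (Fin N) R)) i

include hsurj in
/-- From the fibres to `Ext`. -/
theorem ext_of_fibres
    (h : ∀ p : PrimeSpectrum R, LocCoh.IsCohenMacaulayRing (p.asIdeal.Fiber A) ∧
      ∀ Q : PrimeSpectrum (p.asIdeal.Fiber A), Q.asIdeal ∈ minimalPrimes (p.asIdeal.Fiber A) →
        Order.coheight Q = (n : ℕ∞)) :
    (∀ j, j ≠ N - n → Subsingleton (GExt R N A j)) ∧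
      Module.Flat R (RestrictScalars R (MvPolynomial (Fin N) R) (GExt R N A (N - n))) := by
  -- the local structure
  have key : ∀ (q : Ideal A) [q.IsPrime],
      (∀ i, i ≠ N - n → Subsingleton (LExt (P := MvPolynomial (Fin N) R) A q i)) ∧
      Module.Flat R (RestrictScalars R (Localization.AtPrime
          (q.comap (algebraMap (MvPolynomial (Fin N) R) A))) (LExt (P := MvPolynomial (Fin N) R) A q (N - n))) := by
    intro q _
    let p := q.comap (algebraMap R A)
    let x : (PrimeSpectrum.comap (algebraMap R A)) ⁻¹' {(⟨p, inferInstance⟩ : PrimeSpectrum R)} :=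
      ⟨⟨q, inferInstance⟩, rfl⟩
    let Qf := (PrimeSpectrum.preimageEquivFiber R A ⟨p, inferInstance⟩ x).asIdeal
    have hQ : Qf.comap (Algebra.TensorProduct.includeRight : A →ₐ[R] p.Fiber A) = q :=
      congrArg (fun y => y.1.asIdeal)
        ((PrimeSpectrum.preimageEquivFiber R A ⟨p, inferInstance⟩).symm_apply_apply x)
    obtain ⟨hCM, hmin⟩ := h ⟨p, inferInstance⟩
    -- the structure at any prime of the fibre
    have hloc : ∀ (Qg : Ideal (p.Fiber A)) [Qg.IsPrime], ∃ c D d e : ℕ, c + d = D ∧ D + e = N ∧
        Qg.height = d ∧ Order.coheight (⟨Qg, inferInstance⟩ : PrimeSpectrum (p.Fiber A)) = (e : ℕ∞) ∧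
        (∀ i, i ≠ c → Subsingleton (LExt (P := MvPolynomial (Fin N) R) A
          (Qg.comap (Algebra.TensorProduct.includeRight : A →ₐ[R] p.Fiber A)) i)) ∧
        Module.Flat R (RestrictScalars R (Localization.AtPrime
          ((Qg.comap (Algebra.TensorProduct.includeRight : A →ₐ[R] p.Fiber A)).comap
            (algebraMap (MvPolynomial (Fin N) R) A)))
          (LExt (P := MvPolynomial (Fin N) R) A
            (Qg.comap (Algebra.TensorProduct.includeRight : A →ₐ[R] p.Fiber A)) c)) ∧
        Nontrivial (LExt (P := MvPolynomial (Fin N) R) A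
          (Qg.comap (Algebra.TensorProduct.includeRight : A →ₐ[R] p.Fiber A)) c) := by
      intro Qg _
      obtain ⟨D, d, e, hD, hd, hht, hco, hsum, ⟨el⟩⟩ := CMFibrePrime.exists_dims hsurj p Qg
      have hq : LocCoh.IsCohenMacaulayLocalRing
          (FibreAt R (Qg.comap (Algebra.TensorProduct.includeRight : A →ₐ[R] p.Fiber A))) :=
        @Excellent.Transport.isCohenMacaulayLocalRing_of_ringEquiv _ _ _ _ el
          (hCM.isCohenMacaulayLocalRing_localization Qg)
      obtain ⟨c, hcd, hv, hflat, hne⟩ := (CMFibrePrime.prime_iff hsurj _ hD hd).1 hq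
      exact ⟨c, D, d, e, hcd, hsum, hht, hco, hv, hflat, hne⟩
    obtain ⟨Q0, hQ0, hle⟩ := Ideal.exists_minimalPrimes_le (bot_le : (⊥ : Ideal (p.Fiber A)) ≤ Qf)
    have := hQ0.1.1
    obtain ⟨c, D, d, e, hcd, -, -, -, hv, hflat, hne⟩ := hloc Qf
    obtain ⟨c0, D0, d0, e0, hcd0, hsum0, hht0, hco0, hv0, -, hne0⟩ := hloc Q0
    have hd0 : d0 = 0 := by
      have h0 : Q0.height = 0 := by
        rw [Ideal.height_eq_zero_iff]
        exact hQ0
      rw [hht0] at h0
      exact_mod_cast h0
    have he0 : e0 = n := by
      have := hco0.symm.trans (hmin ⟨Q0, inferInstance⟩ hQ0)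
      exact_mod_cast this
    have hc : c = N - n := by
      by_contra hne'
      have hc0 : c0 = N - n := by omega
      obtain ⟨ψ, hψ⟩ := exists_localizing (P := MvPolynomial (Fin N) R) hsurj
        (Q0.comap (Algebra.TensorProduct.includeRight : A →ₐ[R] p.Fiber A)) c0
      obtain ⟨φ, hφ⟩ := exists_localizing (P := MvPolynomial (Fin N) R) hsurj
        (Qf.comap (Algebra.TensorProduct.includeRight : A →ₐ[R] p.Fiber A)) c0
      refine not_subsingleton_iff_nontrivial.2 hne0 (subsingleton_of_forall_eq 0 fun z => ?_)
      obtain ⟨y, t, hy⟩ := hψ.surj z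
      have := hv c0 (by omega)
      obtain ⟨s, hs⟩ := hφ.eq_zero y (Subsingleton.elim _ _)
      have h1 : ψ (s.1 • y) = 0 := by rw [hs, map_zero]
      rw [hψ.map_smul, ← hy, smul_smul] at h1
      exact ((IsLocalization.map_units (Localization (Ideal.primeCompl
        ((Q0.comap (Algebra.TensorProduct.includeRight : A →ₐ[R] p.Fiber A)).comap
          (algebraMap (MvPolynomial (Fin N) R) A))))
        (⟨s.1, fun hs' => s.2 (hle hs')⟩ : Ideal.primeCompl
        ((Q0.comap (Algebra.TensorProduct.includeRight : A →ₐ[R] p.Fiber A)).comap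
          (algebraMap (MvPolynomial (Fin N) R) A)))).mul
        (IsLocalization.map_units _ t)).smul_eq_zero.1 h1
    subst hc
    have key3 : ∀ (q' : Ideal A) [q'.IsPrime], q' = q →
        (∀ i, i ≠ N - n → Subsingleton (LExt (P := MvPolynomial (Fin N) R) A q' i)) →
        Module.Flat R (RestrictScalars R (Localization.AtPrime
          (q'.comap (algebraMap (MvPolynomial (Fin N) R) A))) (LExt (P := MvPolynomial (Fin N) R) A q' (N - n))) →
        (∀ i, i ≠ N - n → Subsingleton (LExt (P := MvPolynomial (Fin N) R) A q i)) ∧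
        Module.Flat R (RestrictScalars R (Localization.AtPrime
          (q.comap (algebraMap (MvPolynomial (Fin N) R) A))) (LExt (P := MvPolynomial (Fin N) R) A q (N - n))) := by
      intro q' _ e
      subst e
      exact fun a b => ⟨a, b⟩
    exact key3 _ hQ hv hflat
  let P := MvPolynomial (Fin N) R
  have hK : ∀ (i : ℕ), ∀ a ∈ RingHom.ker (algebraMap P A), ∀ x : GExt R N A i, a • x = 0 := by
    intro i a ha x
    have h1 : a • (LinearMap.id : A →ₗ[P] A) = 0 := LinearMap.ext fun y => by
      rw [LinearMap.smul_apply, Algebra.smul_def, RingHom.mem_ker.1 ha, zero_mul]; rfl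
    rw [← ExtHomPresent.pb_id x, ← ExtHomPresent.pb_smul, h1, ExtHomPresent.pb_zero]
  refine ⟨fun j hj => subsingleton_of_forall_eq 0 fun x => ?_,
    flat_of_local (RingHom.ker (algebraMap P A)) _ (hK _) fun M hM hle => ?_⟩
  · by_contra hx
    obtain ⟨M, hM, hle⟩ := Ideal.exists_le_maximal _
      (fun e => hx ((Ideal.torsionOf_eq_top_iff P x).1 e))
    have hker : RingHom.ker (algebraMap P A) ≤ M :=
      fun a ha => hle ((Ideal.mem_torsionOf_iff x a).2 (hK j a ha x))
    have := hM.isPrime
    have : (M.map (algebraMap P A)).IsPrime := Ideal.map_isPrime_of_surjective hsurj hker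
    have hMq : (M.map (algebraMap P A)).comap (algebraMap P A) = M := by
      rw [Ideal.comap_map_of_surjective _ hsurj, ← RingHom.ker_eq_comap_bot, sup_eq_left.2 hker]
    obtain ⟨ψ, hψ⟩ := exists_localizing (P := P) hsurj (M.map (algebraMap P A)) j
    have := (key (M.map (algebraMap P A))).1 j hj
    obtain ⟨⟨s, hs⟩, hsx⟩ := hψ.eq_zero x (Subsingleton.elim _ _)
    refine hs ?_
    show s ∈ Ideal.comap _ _
    rw [hMq]
    exact hle ((Ideal.mem_torsionOf_iff x s).2 hsx)
  · have := hM.isPrime
    have : (M.map (algebraMap P A)).IsPrime := Ideal.map_isPrime_of_surjective hsurj hle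
    have hMq : (M.map (algebraMap P A)).comap (algebraMap P A) = M := by
      rw [Ideal.comap_map_of_surjective _ hsurj, ← RingHom.ker_eq_comap_bot, sup_eq_left.2 hle]
    obtain ⟨ψ, hψ⟩ := exists_localizing (P := P) hsurj (M.map (algebraMap P A)) (N - n)
    obtain ⟨e⟩ := hψ.nonempty_equiv
    have h2 := (key (M.map (algebraMap P A))).2
    have h3 : Module.Flat R (RestrictScalars R
        (Localization ((M.map (algebraMap P A)).comap (algebraMap P A)).primeCompl)
        (LocalizedModule ((M.map (algebraMap P A)).comap (algebraMap P A)).primeCompl (GExt R N A (N - n)))) :=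
      flat_congr R e.symm h2
    have key2 : ∀ (M' : Ideal P) [M'.IsPrime], M' = M → Module.Flat R (RestrictScalars R
        (Localization M'.primeCompl) (LocalizedModule M'.primeCompl (GExt R N A (N - n)))) →
        Module.Flat R (RestrictScalars R
        (Localization M.primeCompl) (LocalizedModule M.primeCompl (GExt R N A (N - n)))) := by
      intro M' _ e
      subst e
      exact id
    exact key2 _ hMq h3

include hsurj in
/-- From `Ext` to the fibres. -/
theorem fibres_of_ext (hnN : n ≤ N) (hv : ∀ j, j ≠ N - n → Subsingleton (GExt R N A j))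
    (hflat : Module.Flat R (RestrictScalars R (MvPolynomial (Fin N) R) (GExt R N A (N - n))))
    (p : PrimeSpectrum R) : LocCoh.IsCohenMacaulayRing (p.asIdeal.Fiber A) ∧
      ∀ Q : PrimeSpectrum (p.asIdeal.Fiber A), Q.asIdeal ∈ minimalPrimes (p.asIdeal.Fiber A) →
        Order.coheight Q = (n : ℕ∞) := by
  have : Algebra.FiniteType R A := Algebra.FiniteType.of_surjective
    (IsScalarTower.toAlgHom R (MvPolynomial (Fin N) R) A) hsurj
  have : IsNoetherianRing (p.asIdeal.Fiber A) :=
    Algebra.FiniteType.isNoetherianRing p.asIdeal.ResidueField _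
  have key : ∀ (Qf : Ideal (p.asIdeal.Fiber A)) [Qf.IsPrime],
      LocCoh.IsCohenMacaulayLocalRing (Localization.AtPrime Qf) ∧
        (Qf.height = 0 → Order.coheight (⟨Qf, inferInstance⟩ : PrimeSpectrum (p.asIdeal.Fiber A)) = n) := by
    intro Qf _
    obtain ⟨D, d, e, hD, hd, hht, hco, hsum, ⟨el⟩⟩ := CMFibrePrime.exists_dims hsurj p.asIdeal Qf
    let q := Qf.comap (Algebra.TensorProduct.includeRight : A →ₐ[R] p.asIdeal.Fiber A)
    obtain ⟨h1, h2⟩ := (CMFibrePrime.prime_iff hsurj q hD hd).2 (N - n) (fun i hi => by
      obtain ⟨ψ, hψ⟩ := exists_localizing (P := MvPolynomial (Fin N) R) hsurj q i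
      refine subsingleton_of_forall_eq 0 fun z => ?_
      obtain ⟨y, t, hy⟩ := hψ.surj z
      rw [@Subsingleton.elim _ (hv i hi) y 0, map_zero] at hy
      exact (IsLocalization.map_units _ t).smul_eq_zero.1 hy) (by
      obtain ⟨ψ, hψ⟩ := exists_localizing (P := MvPolynomial (Fin N) R) hsurj q (N - n)
      exact flat_localized _ _ hψ)
    refine ⟨@Excellent.Transport.isCohenMacaulayLocalRing_of_ringEquiv _ _ _ _ el.symm h1, fun h0 => ?_⟩
    rw [hht] at h0
    have : d = 0 := by exact_mod_cast h0
    rw [hco]
    exact_mod_cast (show e = n by omega)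
  refine ⟨{ isCohenMacaulayLocalRing_localization := fun Qf _ => (key Qf).1 }, fun Q hQ => ?_⟩
  refine (key Q.asIdeal).2 ?_
  rw [Ideal.height_eq_zero_iff]
  exact hQ

end Groth.Agent.Lib.DMod.CMFibreGlobal
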