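import Groth.Agent.Lib.DMod.GorFibreLocal
import Groth.Agent.Lib.DMod.CMCriterion

/-!
For a flat quotient of a smooth local algebra, the closed fibre is Cohen-Macaulay iff the `Ext` into
the ambient ring is concentrated in one degree and flat there.
-/

universe u

open IsLocalRing CategoryTheory
open Groth.Agent.Lib.DMod.FibreRed Groth.Agent.Lib.DMod.ExtFibre Groth.Agent.Lib.LCFin

namespace Groth.Agent.Lib.DMod.CMFibreLocal

variable {R C : Type u} [CommRing R] [CommRing C] [IsLocalRing R] [Algebra R C]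
  [IsNoetherianRing R] [IsLocalRing C] [IsNoetherianRing C] [IsLocalHom (algebraMap R C)]
  [Module.Flat R C] (hreg : IsRegularLocalRing (C ⧸ fa R C)) (J : Ideal C) (hJ : J ≠ ⊤)
  [Module.Flat R (C ⧸ J)] {D d : ℕ} (hD : ringKrullDim (C ⧸ fa R C) = D)
  (hd : ringKrullDim ((C ⧸ fa R C) ⧸ GorFibreLocal.Jbar R J) = d)

include hreg hJ hD hd in
/-- A Cohen-Macaulay fibre gives concentrated flat `Ext`. -/
theorem of_cm (hG : LocCoh.IsCohenMacaulayLocalRing ((C ⧸ fa R C) ⧸ GorFibreLocal.Jbar R J)) :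
    ∃ c, c + d = D ∧ (∀ i, i ≠ c → Subsingleton (EC C (C ⧸ J) i)) ∧
      Module.Flat R (RestrictScalars R C (EC C (C ⧸ J) c)) ∧ Nontrivial (EC C (C ⧸ J) c) := by
  have := hreg
  have hle := CMCriterion.le_dim _ hD hd
  have hne := GorFibreLocal.jbar_ne_top (R := R) J hJ
  have hc := (CMCriterion.isCohenMacaulay_quotient_iff _ hne hD hd).1 hG
  obtain ⟨β⟩ := GorFibreLocal.nonempty_bar_equiv (R := R) J
  let pe : ∀ i, EC (C ⧸ fa R C) ((C ⧸ fa R C) ⧸ GorFibreLocal.Jbar R J) i ≃ₗ[C ⧸ fa R C]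
      EF R C (C ⧸ J) i := fun i => LocalExtCI.pbEquiv β _ i
  obtain ⟨hv, hflat, π, hπ⟩ := ExtFibre.main (R := R) (M := C ⧸ J)
    ⟨D, fun N _ _ => GorFibreLocal.pdle_of_dim hreg hD N⟩ (D - d) fun i hi => by
      have := hc i (by omega)
      exact (pe i).symm.toEquiv.subsingleton
  refine ⟨D - d, by omega, hv, hflat, ?_⟩
  have := CMCriterion.nontrivial_ext _ hne hD hd (D - d) (by omega)
  have := (pe (D - d)).symm.toEquiv.nontrivial
  exact hπ.surj.nontrivial

include hreg hJ hD hd in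
/-- Concentrated flat `Ext` gives a Cohen-Macaulay fibre. -/
theorem cm_of_ext (c : ℕ) (hv : ∀ i, i ≠ c → Subsingleton (EC C (C ⧸ J) i))
    (hflatc : Module.Flat R (RestrictScalars R C (EC C (C ⧸ J) c))) :
    LocCoh.IsCohenMacaulayLocalRing ((C ⧸ fa R C) ⧸ GorFibreLocal.Jbar R J) ∧ c + d = D := by
  have := hreg
  have hflat : ∀ i, Module.Flat R (RestrictScalars R C (EC C (C ⧸ J) i)) := fun i => by
    by_cases hi : i = c
    · subst hi
      exact hflatc
    · have := hv i hi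
      exact subsingleton_flat
  obtain ⟨-, hgood, hbc⟩ := ExtFibre.baseChange_of_flat (R := R) D (C ⧸ J)
    (GorFibreLocal.pdle_of_dim hreg hD _) fun i _ => hflat i
  have hbc' : ∀ i, HasBC (fa R C) (EC C (C ⧸ J) i) (EF R C (C ⧸ J) i) := fun i => by
    rcases Nat.eq_zero_or_pos i with rfl | h
    · exact HasBC.of_equiv (X := (C ⧸ J) →ₗ[C] C) (X' := Bar R C (C ⧸ J) →ₗ[C ⧸ fa R C] C ⧸ fa R C)
        (ExtLoc.homEquiv (C ⧸ J) C) (ExtLoc.homEquiv (Bar R C (C ⧸ J)) (C ⧸ fa R C)).symm ⟨_, hgood⟩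
    · exact hbc i h
  obtain ⟨β⟩ := GorFibreLocal.nonempty_bar_equiv (R := R) J
  have hne := GorFibreLocal.jbar_ne_top (R := R) J hJ
  have hvF : ∀ i, i ≠ c → Subsingleton
      (EC (C ⧸ fa R C) ((C ⧸ fa R C) ⧸ GorFibreLocal.Jbar R J) i) := fun i hi => by
    have := hv i hi
    obtain ⟨π, hπ⟩ := hbc' i
    have := hπ.surj.subsingleton
    exact (LocalExtCI.pbEquiv β _ i).toEquiv.subsingleton
  have hle := CMCriterion.le_dim _ hD hd
  have hcd : c + d = D := by
    by_contra hne'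
    have h1 := hvF (D - d) (by omega)
    exact not_subsingleton_iff_nontrivial.2
      (CMCriterion.nontrivial_ext _ hne hD hd (D - d) (by omega)) h1
  exact ⟨(CMCriterion.isCohenMacaulay_quotient_iff _ hne hD hd).2 fun j hj => hvF j (by omega), hcd⟩

end Groth.Agent.Lib.DMod.CMFibreLocal
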