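import Groth.Agent.Lib.DMod.CMFibreLocal
import Groth.Agent.Lib.Depth.Ext
import Groth.Agent.Lib.Depth.Vanish

/-!
Regular sequences of the fibre lift; the grade of an ideal is at least the codimension in the fibre.
-/

universe u

open IsLocalRing CategoryTheory RingTheory.Sequence
open scoped Pointwise
open Groth.Agent.Lib.DMod.FibreRed Groth.Agent.Lib.DMod.ExtFibre

namespace Groth.Agent.Lib.DMod.GradeLift

/-- Quotients by two submodules in either order. -/
noncomputable def quotQuotComm {C N : Type u} [CommRing C] [AddCommGroup N] [Module C N]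
    (S T : Submodule C N) :
    ((N ⧸ S) ⧸ T.map S.mkQ) ≃ₗ[C] ((N ⧸ T) ⧸ S.map T.mkQ) :=
  (Submodule.quotientQuotientEquivQuotientSup S T).trans
    ((Submodule.quotEquivOfEq _ _ (sup_comm S T)).trans
      (Submodule.quotientQuotientEquivQuotientSup T S).symm)

variable {R C : Type u} [CommRing R] [CommRing C] [IsLocalRing R] [Algebra R C]
  [IsNoetherianRing R] [IsLocalRing C] [IsNoetherianRing C] [IsLocalHom (algebraMap R C)]

/-- A regular sequence on the fibre is regular. -/
theorem isWeaklyRegular_of_fibre : ∀ (rs : List C) (N : Type u) [AddCommGroup N] [Module C N]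
    [Module R N] [IsScalarTower R C N] [Module.Finite C N] [Module.Flat R N],
    IsWeaklyRegular (N ⧸ fa R C • (⊤ : Submodule C N)) rs → IsWeaklyRegular N rs := by
  intro rs
  induction rs with
  | nil => exact fun N _ _ _ _ _ _ _ => IsWeaklyRegular.nil C N
  | cons r rs ih =>
    intro N _ _ _ _ _ _ h
    rw [isWeaklyRegular_cons_iff] at h ⊢
    obtain ⟨h1, h2⟩ := h
    let u : N →ₗ[C] N := LinearMap.lsmul C N r
    obtain ⟨hinj, hflat⟩ := injective_flat_coker (R := R) u fun x hx => by
      rw [← Submodule.Quotient.mk_eq_zero]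
      refine h1 ?_
      show r • _ = r • (0 : N ⧸ fa R C • (⊤ : Submodule C N))
      rw [smul_zero, ← Submodule.Quotient.mk_smul, Submodule.Quotient.mk_eq_zero]
      exact hx
    refine ⟨hinj, ?_⟩
    have hr : LinearMap.range u = r • (⊤ : Submodule C N) := by
      rw [← Submodule.map_top]
      rfl
    have : Module.Flat R (QuotSMulTop r N) :=
      Module.Flat.of_linearEquiv ((Submodule.quotEquivOfEq _ _ hr).restrictScalars R).symm
    refine ih (QuotSMulTop r N) ?_
    let Sx := fa R C • (⊤ : Submodule C N)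
    let Tx := r • (⊤ : Submodule C N)
    have hS : r • (⊤ : Submodule C (N ⧸ Sx)) = Tx.map Sx.mkQ := by
      rw [← Submodule.range_mkQ Sx, ← Submodule.map_top]
      exact (Submodule.map_pointwise_smul r ⊤ Sx.mkQ).symm
    have hT : Sx.map Tx.mkQ = fa R C • (⊤ : Submodule C (N ⧸ Tx)) := by
      rw [Submodule.map_smul'', Submodule.map_top, Submodule.range_mkQ]
    let e : QuotSMulTop r (N ⧸ Sx) ≃ₗ[C] (QuotSMulTop r N) ⧸ fa R C • (⊤ : Submodule C (QuotSMulTop r N)) :=
      (Submodule.quotEquivOfEq _ _ hS).trans ((quotQuotComm Sx Tx).trans (Submodule.quotEquivOfEq _ _ hT))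
    exact (e.isWeaklyRegular_congr rs).1 h2

variable [Module.Flat R C] (hreg : IsRegularLocalRing (C ⧸ fa R C)) (J : Ideal C) (hJ : J ≠ ⊤)
  {D d : ℕ} (hD : ringKrullDim (C ⧸ fa R C) = D)
  (hd : ringKrullDim ((C ⧸ fa R C) ⧸ GorFibreLocal.Jbar R J) = d)

omit [Module.Flat R C] in
include hreg hJ hD hd in
/-- A sequence in `J` of the length of the codimension, regular on the fibre. -/
theorem exists_sequence :
    ∃ rs : List C, rs.length = D - d ∧ (∀ r ∈ rs, r ∈ J) ∧ IsWeaklyRegular (C ⧸ fa R C) rs := by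
  have := hreg
  have hne := GorFibreLocal.jbar_ne_top (R := R) J hJ
  have hdepth : ((D - d : ℕ) : ℕ∞) ≤ LocCoh.idealDepth (GorFibreLocal.Jbar R J) (C ⧸ fa R C) :=
    (Depth.Ext.le_idealDepth_iff_ext_quotient _ _ _).2 fun i hi =>
      CMCriterion.subsingleton_ext_of_lt _ hne hD hd i (by omega)
  have htop : GorFibreLocal.Jbar R J • (⊤ : Submodule (C ⧸ fa R C) (C ⧸ fa R C)) ≠ ⊤ := by
    rw [smul_eq_mul, Ideal.mul_top]
    exact hne
  obtain ⟨rs, hlen, hmem, hreg'⟩ := (Depth.Basic.le_idealDepth_iff_of_ne_top htop _).1 hdepth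
  have hlift : ∀ r ∈ rs, ∃ x : C, x ∈ J ∧ Ideal.Quotient.mk (fa R C) x = r := fun r hr => by
    obtain ⟨x, hx, hxr⟩ := (Ideal.mem_map_iff_of_surjective _ Ideal.Quotient.mk_surjective).1 (hmem r hr)
    exact ⟨x, hx, hxr⟩
  choose g hg hg' using hlift
  let rs' := rs.attach.map fun r => g r.1 r.2
  have hmap : rs'.map (algebraMap C (C ⧸ fa R C)) = rs := by
    rw [List.map_map]
    conv_rhs => rw [← List.attach_map_subtype_val rs]
    exact List.map_congr_left fun r _ => hg' r.1 r.2
  have h1 : IsWeaklyRegular (C ⧸ fa R C) rs' := by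
    rw [← isWeaklyRegular_map_algebraMap_iff (C ⧸ fa R C), hmap]
    exact hreg'
  refine ⟨rs', by rw [List.length_map, List.length_attach, hlen], fun r hr => ?_, h1⟩
  obtain ⟨a, -, rfl⟩ := List.mem_map.1 hr
  exact hg a.1 a.2

include hreg hJ hD hd in
/-- `Ext^j(C/J, C)` vanishes below the codimension in the fibre. -/
theorem subsingleton_ext (j : ℕ) (hj : j + d < D) : Subsingleton (EC C (C ⧸ J) j) := by
  obtain ⟨rs', hlen, hmem, h1⟩ := exists_sequence hreg J hJ hD hd
  have h2 : IsWeaklyRegular (C ⧸ fa R C • (⊤ : Submodule C C)) rs' :=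
    ((Submodule.quotEquivOfEq _ _ (by rw [smul_eq_mul, Ideal.mul_top])).isWeaklyRegular_congr rs').2 h1
  have h3 := isWeaklyRegular_of_fibre (R := R) rs' C h2
  refine Depth.Vanish.subsingleton_ext_of_isWeaklyRegular (I := J) (k := 1) ?_ h3 ?_ ?_
  · rw [pow_one]
    exact le_of_eq (Ideal.annihilator_quotient (I := J)).symm
  · exact hmem
  · omega

end Groth.Agent.Lib.DMod.GradeLift
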