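import Groth.Agent.Lib.DMod.GorFibrePrime
import Groth.Agent.Lib.DMod.CMFibreLocal
import Groth.Agent.Lib.DMod.GradeLift
import Groth.Agent.Lib.Excellent.CatenaryDim
import Groth.Agent.Lib.Excellent.Transport
import Groth.Agent.Lib.Unram.EtaleOverAffineSpace

/-!
Cohen-Macaulay fibres of pure dimension in terms of `Ext` over a polynomial presentation.
-/

set_option linter.style.haveILetI false

universe u

open IsLocalRing CategoryTheory TensorProduct
open Groth.Agent.Lib.DMod.FibreRed Groth.Agent.Lib.DMod.LocalExtCI Groth.Agent.Lib.DMod.GorFibrePrime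

namespace Groth.Agent.Lib.DMod.CMFibrePrime

/-- Flatness of a module and of its restriction of scalars. -/
theorem restrict_iff {R C : Type u} [CommRing R] [CommRing C] [Algebra R C] (E : Type u)
    [AddCommGroup E] [Module C E] [Module R E] [IsScalarTower R C E] :
    Module.Flat R (RestrictScalars R C E) ↔ Module.Flat R E :=
  Module.Flat.equiv_iff
    ({ (RestrictScalars.addEquiv R C E) with
        map_smul' := fun r x => algebraMap_smul C r _ } : RestrictScalars R C E ≃ₗ[R] E)

/-- Flatness over a localization of the base and over the base. -/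
theorem flat_transfer {R Rp C : Type u} [CommRing R] [CommRing Rp] [CommRing C] [Algebra R Rp]
    [Algebra R C] [Algebra Rp C] [IsScalarTower R Rp C] (S : Submonoid R) [IsLocalization S Rp]
    (E : Type u) [AddCommGroup E] [Module C E] :
    Module.Flat Rp (RestrictScalars Rp C E) ↔ Module.Flat R (RestrictScalars R C E) := by
  letI : Module R E := Module.compHom E (algebraMap R C)
  letI : Module Rp E := Module.compHom E (algebraMap Rp C)
  haveI : IsScalarTower R C E := IsScalarTower.of_algebraMap_smul fun _ _ => rfl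
  haveI : IsScalarTower Rp C E := IsScalarTower.of_algebraMap_smul fun _ _ => rfl
  haveI : IsScalarTower R Rp E := IsScalarTower.of_algebraMap_smul fun r x => by
    show algebraMap Rp C (algebraMap R Rp r) • x = algebraMap R C r • x
    rw [← IsScalarTower.algebraMap_apply]
  exact (restrict_iff E).trans ((Module.flat_iff_of_isLocalization Rp S E).trans (restrict_iff E).symm)

variable {R : Type u} [CommRing R] [IsNoetherianRing R] {N : ℕ}

local notation3 "PR" => MvPolynomial (Fin N) R

variable {A : Type u} [CommRing A] [Algebra (MvPolynomial (Fin N) R) A] [Algebra R A]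
  [IsScalarTower R (MvPolynomial (Fin N) R) A]
  (hsurj : Function.Surjective (algebraMap (MvPolynomial (Fin N) R) A)) [Module.Flat R A]

/-- The closed fibre of the local ring of the ambient polynomial ring. -/
abbrev AmbientAt (R : Type u) [CommRing R] {N : ℕ} (Q : Ideal (MvPolynomial (Fin N) R)) [Q.IsPrime] :
    Type u :=
  Localization.AtPrime Q ⧸
    ((Q.comap (algebraMap R (MvPolynomial (Fin N) R))).map (algebraMap R (MvPolynomial (Fin N) R))).map
      (algebraMap (MvPolynomial (Fin N) R) (Localization.AtPrime Q))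

include hsurj in
/-- The two directions at a prime. -/
theorem prime_iff (q : Ideal A) [q.IsPrime] {D d : ℕ}
    (hD : ringKrullDim (AmbientAt R (q.comap (algebraMap (MvPolynomial (Fin N) R) A))) = D)
    (hd : ringKrullDim (FibreAt R q) = d) :
    (LocCoh.IsCohenMacaulayLocalRing (FibreAt R q) →
      ∃ c, c + d = D ∧ (∀ i, i ≠ c → Subsingleton (LExt (P := MvPolynomial (Fin N) R) A q i)) ∧
        Module.Flat R (RestrictScalars R (Localization.AtPrime
          (q.comap (algebraMap (MvPolynomial (Fin N) R) A))) (LExt (P := MvPolynomial (Fin N) R) A q c)) ∧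
        Nontrivial (LExt (P := MvPolynomial (Fin N) R) A q c)) ∧
    (∀ c, (∀ i, i ≠ c → Subsingleton (LExt (P := MvPolynomial (Fin N) R) A q i)) →
      Module.Flat R (RestrictScalars R (Localization.AtPrime
          (q.comap (algebraMap (MvPolynomial (Fin N) R) A))) (LExt (P := MvPolynomial (Fin N) R) A q c)) →
      LocCoh.IsCohenMacaulayLocalRing (FibreAt R q) ∧ c + d = D) := by
  let Q := q.comap (algebraMap (MvPolynomial (Fin N) R) A)
  let C := Localization.AtPrime Q
  let p := Q.comap (algebraMap R (MvPolynomial (Fin N) R))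
  let Rp := Localization.AtPrime p
  letI : Algebra Rp C := algLoc Q
  let J : Ideal C := locKer A q
  obtain ⟨hloc, htower, hflat, hflatJ', hJ, hreg, hfa, -, ⟨eF⟩⟩ := setup (n := N) hsurj q
  have := hflatJ' inferInstance
  have hD' : ringKrullDim (C ⧸ fa Rp C) = D :=
    (ringKrullDim_eq_of_ringEquiv (Ideal.quotEquivOfEq hfa)).trans hD
  have hd' : ringKrullDim ((C ⧸ fa Rp C) ⧸ GorFibreLocal.Jbar Rp J) = d :=
    (ringKrullDim_eq_of_ringEquiv eF).symm.trans hd
  refine ⟨fun hG => ?_, fun c hv hc => ?_⟩
  · obtain ⟨c, hcd, hv, hflatc, hne⟩ := CMFibreLocal.of_cm hreg J hJ hD' hd'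
      (@Excellent.Transport.isCohenMacaulayLocalRing_of_ringEquiv _ _ _ _ eF hG)
    exact ⟨c, hcd, hv, (flat_transfer p.primeCompl _).1 hflatc, hne⟩
  · obtain ⟨h1, h2⟩ := CMFibreLocal.cm_of_ext hreg J hJ hD' hd' c hv
      ((flat_transfer p.primeCompl _).2 hc)
    exact ⟨@Excellent.Transport.isCohenMacaulayLocalRing_of_ringEquiv _ _ _ _ eF.symm h1, h2⟩

omit [Module.Flat R A] in
include hsurj in
/-- Below the codimension in the fibre the local `Ext` vanishes. -/
theorem subsingleton_of_lt (q : Ideal A) [q.IsPrime] {D d : ℕ}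
    (hD : ringKrullDim (AmbientAt R (q.comap (algebraMap (MvPolynomial (Fin N) R) A))) = D)
    (hd : ringKrullDim (FibreAt R q) = d) (j : ℕ) (hj : j + d < D) :
    Subsingleton (LExt (P := MvPolynomial (Fin N) R) A q j) := by
  let Q := q.comap (algebraMap (MvPolynomial (Fin N) R) A)
  let C := Localization.AtPrime Q
  let p := Q.comap (algebraMap R (MvPolynomial (Fin N) R))
  let Rp := Localization.AtPrime p
  letI : Algebra Rp C := algLoc Q
  let J : Ideal C := locKer A q
  obtain ⟨hloc, htower, hflat, -, hJ, hreg, hfa, -, ⟨eF⟩⟩ := setup (n := N) hsurj q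
  exact GradeLift.subsingleton_ext hreg J hJ
    ((ringKrullDim_eq_of_ringEquiv (Ideal.quotEquivOfEq hfa)).trans hD)
    ((ringKrullDim_eq_of_ringEquiv eF).symm.trans hd) j hj

variable (p : Ideal R) [p.IsPrime]

/-- The map of fibres. -/
noncomputable def fibreMap : p.Fiber (MvPolynomial (Fin N) R) →ₐ[R] p.Fiber A :=
  Algebra.TensorProduct.map (AlgHom.id R p.ResidueField)
    (IsScalarTower.toAlgHom R (MvPolynomial (Fin N) R) A)

include hsurj in
omit [IsNoetherianRing R] [Module.Flat R A] in
theorem fibreMap_surjective : Function.Surjective (fibreMap (N := N) (A := A) p) :=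
  TensorProduct.map_surjective Function.surjective_id hsurj

omit [IsNoetherianRing R] [Module.Flat R A] in
theorem comap_comap_fibreMap (Qf : Ideal (p.Fiber A)) :
    (Qf.comap (fibreMap (N := N) p)).comap
        (Algebra.TensorProduct.includeRight : MvPolynomial (Fin N) R →ₐ[R] p.Fiber (MvPolynomial (Fin N) R)) =
      (Qf.comap (Algebra.TensorProduct.includeRight : A →ₐ[R] p.Fiber A)).comap
        (algebraMap (MvPolynomial (Fin N) R) A) := by
  ext x
  simp [fibreMap]

/-- Transport of the ambient fibre along equal primes. -/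
theorem ambient_eq (p : Ideal R) [p.IsPrime] (Qp : Ideal (p.Fiber (MvPolynomial (Fin N) R))) [Qp.IsPrime]
    (Q : Ideal (MvPolynomial (Fin N) R)) [Q.IsPrime]
    (h : Qp.comap (Algebra.TensorProduct.includeRight :
      MvPolynomial (Fin N) R →ₐ[R] p.Fiber (MvPolynomial (Fin N) R)) = Q) :
    ringKrullDim (AmbientAt R Q) = Qp.height := by
  subst h
  have hp : (Qp.comap (Algebra.TensorProduct.includeRight :
      MvPolynomial (Fin N) R →ₐ[R] p.Fiber (MvPolynomial (Fin N) R))).comap
        (algebraMap R (MvPolynomial (Fin N) R)) = p := by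
    rw [← Ideal.comap_coe (Algebra.TensorProduct.includeRight :
      MvPolynomial (Fin N) R →ₐ[R] p.Fiber (MvPolynomial (Fin N) R)),
      Ideal.comap_comap, AlgHom.comp_algebraMap]
    exact (Ideal.over_def Qp p).symm
  rw [← IsLocalization.AtPrime.ringKrullDim_eq_height Qp (Localization.AtPrime Qp)]
  exact ringKrullDim_eq_of_ringEquiv ((Ideal.quotEquivOfEq (by rw [hp])).trans
    (Ideal.Fiber.algEquivAux₂ p Qp).toRingEquiv.symm)

include hsurj in
omit [Module.Flat R A] in
/-- Dimensions at a prime of a fibre. -/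
theorem exists_dims (Qf : Ideal (p.Fiber A)) [Qf.IsPrime] :
    ∃ D d e : ℕ,
      ringKrullDim (AmbientAt R ((Qf.comap (Algebra.TensorProduct.includeRight : A →ₐ[R] p.Fiber A)).comap
        (algebraMap (MvPolynomial (Fin N) R) A))) = D ∧
      ringKrullDim (FibreAt R (Qf.comap (Algebra.TensorProduct.includeRight : A →ₐ[R] p.Fiber A))) = d ∧
      Qf.height = d ∧ Order.coheight (⟨Qf, inferInstance⟩ : PrimeSpectrum (p.Fiber A)) = (e : ℕ∞) ∧
      D + e = N ∧ Nonempty (Localization.AtPrime Qf ≃+*
        FibreAt R (Qf.comap (Algebra.TensorProduct.includeRight : A →ₐ[R] p.Fiber A))) := by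
  have : Algebra.FiniteType R A := Algebra.FiniteType.of_surjective
    (IsScalarTower.toAlgHom R (MvPolynomial (Fin N) R) A) hsurj
  have : IsNoetherianRing (p.Fiber A) := Algebra.FiniteType.isNoetherianRing p.ResidueField _
  let q := Qf.comap (Algebra.TensorProduct.includeRight : A →ₐ[R] p.Fiber A)
  have hqp : q.comap (algebraMap R A) = p := by
    show (Qf.comap _).comap (algebraMap R A) = p
    rw [← Ideal.comap_coe (Algebra.TensorProduct.includeRight : A →ₐ[R] p.Fiber A),
      Ideal.comap_comap, AlgHom.comp_algebraMap]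
    exact (Ideal.over_def Qf p).symm
  let eloc : Localization.AtPrime Qf ≃+* FibreAt R q :=
    (Ideal.Fiber.algEquivAux₂ p Qf).toRingEquiv.trans (Ideal.quotEquivOfEq (by
      rw [hqp, Ideal.map_map, ← IsScalarTower.algebraMap_eq]))
  let Qp := Qf.comap (fibreMap (N := N) p)
  have h1 := ambient_eq p Qp _ (comap_comap_fibreMap (N := N) p Qf)
  let e := MvPolynomial.algebraTensorAlgEquiv (σ := Fin N) R p.ResidueField
  let r : Ideal (MvPolynomial (Fin N) p.ResidueField) := Qp.comap e.symm.toRingEquiv.toRingHom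
  have : r.IsPrime := Ideal.IsPrime.comap _
  have hr := Unram.EtaleOverAffineSpace.height_add_dimQ p.ResidueField N r
  have hQr : r.height = Qp.height := RingEquiv.height_comap e.symm.toRingEquiv Qp
  let φ : MvPolynomial (Fin N) p.ResidueField →+* p.Fiber A ⧸ Qf :=
    (Ideal.Quotient.mk Qf).comp ((fibreMap (N := N) p).toRingHom.comp e.symm.toRingEquiv.toRingHom)
  have hφ : Function.Surjective φ := Ideal.Quotient.mk_surjective.comp
    ((fibreMap_surjective hsurj p).comp e.symm.toRingEquiv.surjective)
  have hker : RingHom.ker φ = r := by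
    ext x
    rw [RingHom.mem_ker]
    exact Ideal.Quotient.eq_zero_iff_mem
  have he := (ringKrullDim_eq_of_ringEquiv (S := p.Fiber A ⧸ Qf) ((Ideal.quotEquivOfEq hker.symm).trans
    (RingHom.quotientKerEquivOfSurjective hφ))).symm.trans
    (Dim.Basic.ringKrullDim_quotient_prime p.ResidueField r)
  have hco := (Excellent.CatenaryDim.ringKrullDim_quotient_eq_coheight
    (⟨Qf, inferInstance⟩ : PrimeSpectrum (p.Fiber A))).symm.trans he
  obtain ⟨d, hd⟩ := ENat.ne_top_iff_exists.1
    (Ideal.height_ne_top (I := Qf) (Ideal.IsPrime.ne_top inferInstance))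
  have hD : Qp.height ≠ ⊤ := by
    rw [← hQr]
    intro hc
    rw [hc, top_add] at hr
    exact ENat.top_ne_natCast _ hr
  obtain ⟨D, hD'⟩ := ENat.ne_top_iff_exists.1 hD
  refine ⟨D, d, Dim.Basic.dimQ p.ResidueField r, ?_, ?_, hd.symm, WithBot.coe_injective hco, ?_, ⟨eloc⟩⟩
  · rw [h1, ← hD']
    rfl
  · rw [← ringKrullDim_eq_of_ringEquiv eloc,
      IsLocalization.AtPrime.ringKrullDim_eq_height Qf (Localization.AtPrime Qf), ← hd]
    rfl
  · rw [hQr, ← hD'] at hr
    exact_mod_cast hr

end Groth.Agent.Lib.DMod.CMFibrePrime
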