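import Groth.Agent.Lib.DMod.RelDual.Extend

/-!
Coextension of a Hom complex out of an extended complex.
-/

set_option linter.style.haveILetI false

universe u

open CategoryTheory CategoryTheory.Limits MonoidalCategory
open CochainComplex CochainComplex.HomComplex
open Groth.Agent.Lib.DR Groth.Agent.Lib.DR.HomCx
open Groth.Agent.Lib.DMod Groth.Agent.Lib.DMod.RelDual Groth.Agent.Lib.DMod.RelDual.Extend
open scoped TensorProduct ChangeOfRings

namespace Groth.Agent.Lib.DMod.CoextExt

variable {A P T : Type u} [CommRing A] [CommRing P] [CommRing T] (i : A →+* P) (ψ : P →+* T) (φ : A →+* T)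
  (hφ : ∀ r, φ r = ψ (i r))

include hφ

theorem equiv_smul {M : ModuleCat.{u} P} (f : (ModuleCat.coextendScalars.{u, u, u} ψ).obj M) (r : A) (t : T) :
    ModuleCat.CoextendScalars.equiv ψ M (φ r • f) t = i r • ModuleCat.CoextendScalars.equiv ψ M f t := by
  refine (ModuleCat.CoextendScalars.smul_apply ψ M f (φ r) t).trans ?_
  rw [← (ModuleCat.CoextendScalars.equiv ψ M f).map_smul]
  refine congrArg _ ?_
  show (show T from t) * φ r = ψ (i r) * (show T from t)
  rw [hφ, mul_comm]

/-- The components. -/
noncomputable def comp (F : DRing.Cx A) (J : DRing.Cx P) (n p q : ℤ) (h : p + n = q)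
    (f : (FiniteRing.coI ψ (DRing.homCx ((DTen.extCx i).obj F) J)).X n) :
    ((DTen.extCx φ).obj F).X p ⟶ (FiniteRing.coI ψ J).X q :=
  ((ModuleCat.extendRestrictScalarsAdj.{u} φ).homEquiv _ _).symm
    (ModuleCat.ofHom (Y := (DTen.resM φ).obj ((FiniteRing.coI ψ J).X q))
      { toFun := fun x => (ModuleCat.coextendScalars.{u, u, u} ψ).map (evalAt i F J n p q h x) f
        map_add' := fun x y => ModuleCat.CoextendScalars.ext (LinearMap.ext fun a => by
          exact val_add i F J n p q h x y (ModuleCat.CoextendScalars.equiv ψ _ f a))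
        map_smul' := fun r x => ModuleCat.CoextendScalars.ext (LinearMap.ext fun a => by
          refine Eq.trans ?_ (equiv_smul i ψ φ hφ ((ModuleCat.coextendScalars.{u, u, u} ψ).map
            (evalAt i F J n p q h x) f) r a).symm
          exact val_smul i F J n p q h r x (ModuleCat.CoextendScalars.equiv ψ _ f a)) })

theorem comp_one (F : DRing.Cx A) (J : DRing.Cx P) (n p q : ℤ) (h : p + n = q)
    (f : (FiniteRing.coI ψ (DRing.homCx ((DTen.extCx i).obj F) J)).X n) (x : F.X p) :
    comp i ψ φ hφ F J n p q h f (one₁ φ x) = (ModuleCat.coextendScalars.{u, u, u} ψ).map (evalAt i F J n p q h x) f :=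
  homEquiv_symm_one φ _ x

/-- Coextension of a Hom complex out of an extended complex, in one degree. -/
noncomputable def Cfun (F : DRing.Cx A) (J : DRing.Cx P) (n : ℤ) :
    (FiniteRing.coI ψ (DRing.homCx ((DTen.extCx i).obj F) J)).X n →ₗ[T]
      Cochain ((DTen.extCx φ).obj F) (FiniteRing.coI ψ J) n where
  toFun f := Cochain.mk fun p q h => comp i ψ φ hφ F J n p q h f
  map_add' f g := Cochain.ext _ _ fun p q h => ModuleCat.ExtendScalars.hom_ext fun x => by
    show comp i ψ φ hφ F J n p q h (f + g) (one₁ φ x) =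
      comp i ψ φ hφ F J n p q h f (one₁ φ x) + comp i ψ φ hφ F J n p q h g (one₁ φ x)
    rw [comp_one, comp_one, comp_one]
    exact map_add ((ModuleCat.coextendScalars.{u, u, u} ψ).map (evalAt i F J n p q h x)).hom f g
  map_smul' r f := Cochain.ext _ _ fun p q h => ModuleCat.ExtendScalars.hom_ext fun x => by
    show comp i ψ φ hφ F J n p q h (r • f) (one₁ φ x) = r • comp i ψ φ hφ F J n p q h f (one₁ φ x)
    rw [comp_one, comp_one]
    exact map_smul ((ModuleCat.coextendScalars.{u, u, u} ψ).map (evalAt i F J n p q h x)).hom r f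

theorem Cfun_apply (F : DRing.Cx A) (J : DRing.Cx P) (n p q : ℤ) (h : p + n = q)
    (f : (FiniteRing.coI ψ (DRing.homCx ((DTen.extCx i).obj F) J)).X n) (x : F.X p) (a : T) :
    ModuleCat.CoextendScalars.equiv ψ _ (val φ F (FiniteRing.coI ψ J) n p q h x (Cfun i ψ φ hφ F J n f)) a =
      val i F J n p q h x (ModuleCat.CoextendScalars.equiv ψ _ f a) :=
  (congrArg (fun t => ModuleCat.CoextendScalars.equiv ψ _ t a) (comp_one i ψ φ hφ F J n p q h f x)).trans rfl

theorem bijective_Cfun (F : DRing.Cx A) (J : DRing.Cx P) (n : ℤ) :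
    Function.Bijective (Cfun i ψ φ hφ F J n) := by
  refine ⟨fun f g hfg => ?_, fun z => ?_⟩
  · refine ModuleCat.CoextendScalars.ext (LinearMap.ext fun a => cochain_ext i F J n fun p q h x => ?_)
    have := congrArg (fun c => ModuleCat.CoextendScalars.equiv ψ _ (val φ F (FiniteRing.coI ψ J) n p q h x c) a) hfg
    exact (Cfun_apply i ψ φ hφ F J n p q h f x a).symm.trans (this.trans (Cfun_apply i ψ φ hφ F J n p q h g x a))
  · have hsmul : ∀ (p q : ℤ) (h : p + n = q) (r : A) (a : T) (x : F.X p),
        ModuleCat.CoextendScalars.equiv ψ _ (val φ F (FiniteRing.coI ψ J) n p q h (r • x) z) a =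
          i r • ModuleCat.CoextendScalars.equiv ψ _ (val φ F (FiniteRing.coI ψ J) n p q h x z) a := fun p q h r a x =>
      (congrArg (fun t => ModuleCat.CoextendScalars.equiv ψ _ t a)
        (val_smul φ F (FiniteRing.coI ψ J) n p q h r x z)).trans (equiv_smul i ψ φ hφ _ r a)
    let c : T → ∀ p q : ℤ, p + n = q → (((DTen.extCx i).obj F).X p ⟶ J.X q) := fun a p q h =>
      ((ModuleCat.extendRestrictScalarsAdj.{u} i).homEquiv _ _).symm (ModuleCat.ofHom (Y := (DTen.resM i).obj (J.X q))
        { toFun := fun x => ModuleCat.CoextendScalars.equiv ψ _ (val φ F (FiniteRing.coI ψ J) n p q h x z) a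
          map_add' := fun x y => (congrArg (fun t => ModuleCat.CoextendScalars.equiv ψ _ t a)
            (val_add φ F (FiniteRing.coI ψ J) n p q h x y z)).trans rfl
          map_smul' := fun r x => hsmul p q h r a x })
    have hc : ∀ a p q h x, c a p q h (one₁ i x) =
        ModuleCat.CoextendScalars.equiv ψ _ (val φ F (FiniteRing.coI ψ J) n p q h x z) a :=
      fun a p q h x => homEquiv_symm_one i _ x
    let f : (FiniteRing.coI ψ (DRing.homCx ((DTen.extCx i).obj F) J)).X n :=
      (ModuleCat.CoextendScalars.equiv ψ _).symm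
        { toFun := fun a => (Cochain.mk fun p q h => c a p q h : Cochain ((DTen.extCx i).obj F) J n)
          map_add' := fun a b => Cochain.ext _ _ fun p q h => ModuleCat.ExtendScalars.hom_ext fun x => by
            show c _ p q h (one₁ i x) = c a p q h (one₁ i x) + c b p q h (one₁ i x)
            rw [hc, hc, hc]
            exact map_add _ _ _
          map_smul' := fun b a => Cochain.ext _ _ fun p q h => ModuleCat.ExtendScalars.hom_ext fun x => by
            show c _ p q h (one₁ i x) = b • c a p q h (one₁ i x)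
            rw [hc, hc]
            exact map_smul _ b a }
    refine ⟨f, cochain_ext φ F _ n fun p q h x => ModuleCat.CoextendScalars.ext (LinearMap.ext fun a => ?_)⟩
    exact (Cfun_apply i ψ φ hφ F J n p q h f x a).trans (hc a p q h x)

/-- Coextension of a Hom complex out of an extended complex. -/
noncomputable def C (F : DRing.Cx A) (J : DRing.Cx P) :
    FiniteRing.coI ψ (DRing.homCx ((DTen.extCx i).obj F) J) ≅
      DRing.homCx ((DTen.extCx φ).obj F) (FiniteRing.coI ψ J) :=
  HomologicalComplex.Hom.isoOfComponents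
    (fun n => (LinearEquiv.ofBijective (Cfun i ψ φ hφ F J n) (bijective_Cfun i ψ φ hφ F J n)).toModuleIso)
    (fun n m hnm => ModuleCat.hom_ext (LinearMap.ext fun f => cochain_ext φ F _ m fun p q h x =>
      ModuleCat.CoextendScalars.ext (LinearMap.ext fun a => by
        let f' : (FiniteRing.coI ψ (DRing.homCx ((DTen.extCx i).obj F) J)).X n := f
        let c : Cochain ((DTen.extCx i).obj F) J n := ModuleCat.CoextendScalars.equiv ψ _ f' a
        refine (congrArg (fun t => ModuleCat.CoextendScalars.equiv ψ _ t a)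
          (lv_d (show n + 1 = m from hnm) (Cfun i ψ φ hφ F J n f') p q (q - 1) (p + 1) h rfl rfl (one₁ φ x))).trans ?_
        refine Eq.trans ?_ (Cfun_apply i ψ φ hφ F J m p q h
          ((FiniteRing.coI ψ (DRing.homCx ((DTen.extCx i).obj F) J)).d n m f') x a).symm
        refine Eq.trans ?_ (lv_d (show n + 1 = m from hnm) c p q (q - 1) (p + 1) h rfl rfl (one₁ i x)).symm
        refine ((congrArg (fun L => L a) (map_add (ModuleCat.CoextendScalars.equiv ψ (J.X q)) _ _)).trans
          (LinearMap.add_apply _ _ _)).trans (congrArg₂ (· + ·) ?_ ?_)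
        · exact congrArg (J.d (q - 1) q) (Cfun_apply i ψ φ hφ F J n p (q - 1) (by have : n + 1 = m := hnm; lia) f' x a)
        · refine ((congrArg (fun L => L a) (map_zsmul (ModuleCat.CoextendScalars.equiv ψ (J.X q)) _ _)).trans
            (LinearMap.smul_apply _ _ _)).trans (congrArg (((m.negOnePow : ℤˣ) : ℤ) • ·) ?_)
          have d₁ : ((DTen.extCx φ).obj F).d p (p + 1) (one₁ φ x) = one₁ φ (F.d p (p + 1) x) :=
            ModuleCat.ExtendScalars.map_tmul φ (F.d p (p + 1)) 1 x
          have d₂ : ((DTen.extCx i).obj F).d p (p + 1) (one₁ i x) = one₁ i (F.d p (p + 1) x) :=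
            ModuleCat.ExtendScalars.map_tmul i (F.d p (p + 1)) 1 x
          rw [d₁, d₂]
          exact Cfun_apply i ψ φ hφ F J n (p + 1) q (by have : n + 1 = m := hnm; lia) f' (F.d p (p + 1) x) a)))

end Groth.Agent.Lib.DMod.CoextExt
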