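import Groth.Agent.Lib.DMod.Acyclic
import Groth.Agent.Lib.DMod.CMFibreGlobal

/-!
Flatness over the base of the cokernels of a complex of projective modules on which the ideal of a
presentation is null-homotopic.
-/

set_option linter.style.haveILetI false

universe u

open IsLocalRing TensorProduct RingTheory.Sequence
open Groth.Agent.Lib.DMod.FibreRed Groth.Agent.Lib.DMod.Acyclic

namespace Groth.Agent.Lib.DMod.CokerFlat

theorem isWeaklyRegular_replicate_one {C : Type u} [CommRing C] : ∀ (c : ℕ) (M : Type u)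
    [AddCommGroup M] [Module C M], IsWeaklyRegular M (List.replicate c (1 : C)) := by
  intro c
  induction c with
  | zero => exact fun M _ _ => IsWeaklyRegular.nil C M
  | succ c ih =>
    intro M _ _
    rw [List.replicate_succ, isWeaklyRegular_cons_iff]
    exact ⟨IsSMulRegular.one M, ih _⟩

theorem NullHomotopic.mul {C : Type u} [CommRing C] {G : ℕ → Type u} [∀ i, AddCommGroup (G i)]
    [∀ i, Module C (G i)] {d : ∀ i, G i →ₗ[C] G (i + 1)} {x : C} (h : NullHomotopic d x) (a : C) :
    NullHomotopic d (a * x) := by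
  obtain ⟨h, h0, hs⟩ := h
  refine ⟨fun i => a • h i, fun z => ?_, fun i z => ?_⟩
  · rw [LinearMap.smul_apply, h0, smul_smul]
  · rw [LinearMap.smul_apply, LinearMap.smul_apply, map_smul, ← smul_add, hs, smul_smul]

theorem NullHomotopic.baseChange {P C : Type u} [CommRing P] [CommRing C] [Algebra P C]
    {G : ℕ → Type u} [∀ i, AddCommGroup (G i)] [∀ i, Module P (G i)]
    {d : ∀ i, G i →ₗ[P] G (i + 1)} {x : P} (h : NullHomotopic d x) :
    NullHomotopic (fun i => (d i).baseChange C) (algebraMap P C x) := by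
  obtain ⟨h, h0, hs⟩ := h
  refine ⟨fun i => (h i).baseChange C, fun z => ?_, fun i z => ?_⟩
  · induction z using TensorProduct.induction_on with
    | zero => simp
    | add a b ha hb => rw [map_add, map_add, ha, hb, smul_add]
    | tmul a b =>
      rw [LinearMap.baseChange_tmul, LinearMap.baseChange_tmul, h0, algebraMap_smul, tmul_smul]
  · induction z using TensorProduct.induction_on with
    | zero => simp
    | add a b ha hb => rw [map_add, map_add, map_add, map_add, add_add_add_comm, ha, hb, smul_add]
    | tmul a b =>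
      rw [LinearMap.baseChange_tmul, LinearMap.baseChange_tmul, LinearMap.baseChange_tmul,
        LinearMap.baseChange_tmul, ← TensorProduct.tmul_add, hs, algebraMap_smul, tmul_smul]

/-- The local statement. -/
theorem flat_coker_local {Rp C : Type u} [CommRing Rp] [CommRing C] [IsLocalRing Rp] [Algebra Rp C]
    [IsNoetherianRing Rp] [IsLocalRing C] [IsNoetherianRing C] [IsLocalHom (algebraMap Rp C)]
    [Module.Flat Rp C] {G : ℕ → Type u} [∀ i, AddCommGroup (G i)] [∀ i, Module C (G i)]
    [∀ i, Module.Finite C (G i)] [∀ i, Module.Projective C (G i)] (d : ∀ i, G i →ₗ[C] G (i + 1))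
    (hd : ∀ i z, d (i + 1) (d i z) = 0) (c : ℕ) (rs : List C) (hlen : c ≤ rs.length)
    (hreg : IsWeaklyRegular (C ⧸ fa Rp C) rs) (hx : ∀ x ∈ rs, NullHomotopic d x) (i : ℕ) (hi : i < c) :
    Module.Flat Rp (RestrictScalars Rp C (G (i + 1) ⧸ LinearMap.range (d i))) := by
  letI : ∀ j, Module Rp (G j) := fun j => Module.compHom _ (algebraMap Rp C)
  haveI : ∀ j, IsScalarTower Rp C (G j) := fun j =>
    IsScalarTower.of_algebraMap_smul fun _ _ => rfl
  haveI : ∀ j, Module.Flat Rp (G j) := fun j => Module.Flat.trans Rp C (G j)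
  obtain ⟨e0, es⟩ := fibre_exact (R := Rp) d hd rs (fun j =>
    ((tensorQuotEquivQuotSMul (R := C) (G j) (fa Rp C)).isWeaklyRegular_congr rs).1
      hreg.isWeaklyRegular_lTensor) hx
  exact (CMFibrePrime.restrict_iff _).2
    (Acyclic.flat_coker (R := Rp) d hd c (fun h => e0 (by omega)) (fun j hj => es j (by omega)) i hi)

/-- Localization commutes with cokernels. -/
theorem nonempty_coker_equiv {P : Type u} [CommRing P] (S : Submonoid P) {C : Type u} [CommRing C]
    [Algebra P C] [IsLocalization S C] {X Y : Type u} [AddCommGroup X] [Module P X] [AddCommGroup Y]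
    [Module P Y] (d : X →ₗ[P] Y) :
    Nonempty ((C ⊗[P] Y ⧸ LinearMap.range (d.baseChange C)) ≃ₗ[C] C ⊗[P] (Y ⧸ LinearMap.range d)) := by
  let π := (LinearMap.range d).mkQ.baseChange C
  have hπ : Function.Surjective π := LinearMap.lTensor_surjective C (Submodule.mkQ_surjective _)
  have hex : LinearMap.ker π = LinearMap.range (d.baseChange C) := by
    refine LinearMap.exact_iff.1 ?_
    exact lTensor_exact C (LinearMap.exact_map_mkQ_range d) (Submodule.mkQ_surjective _)
  exact ⟨(Submodule.quotEquivOfEq _ _ hex.symm).trans (π.quotKerEquivOfSurjective hπ)⟩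

section Global

variable {R : Type u} [CommRing R] [IsNoetherianRing R] {N : ℕ} {A : Type u} [CommRing A]
  [Algebra (MvPolynomial (Fin N) R) A] [Algebra R A] [IsScalarTower R (MvPolynomial (Fin N) R) A]
  (hsurj : Function.Surjective (algebraMap (MvPolynomial (Fin N) R) A))

include hsurj in
/-- Sequences of length `c` at each prime, regular on the fibre and killing `A`. -/
theorem exists_regular (c : ℕ)
    (hc : ∀ (q : Ideal A) [q.IsPrime], ∃ D d : ℕ,
      ringKrullDim (CMFibrePrime.AmbientAt R (q.comap (algebraMap (MvPolynomial (Fin N) R) A))) = D ∧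
      ringKrullDim (GorFibrePrime.FibreAt R q) = d ∧ c + d ≤ D)
    (Q : Ideal (MvPolynomial (Fin N) R)) [Q.IsPrime] :
    letI := GorFibrePrime.algLoc Q
    ∃ rs : List (Localization.AtPrime Q), c ≤ rs.length ∧
      (∀ r ∈ rs, r ∈ (RingHom.ker (algebraMap (MvPolynomial (Fin N) R) A)).map
        (algebraMap (MvPolynomial (Fin N) R) (Localization.AtPrime Q))) ∧
      IsWeaklyRegular (Localization.AtPrime Q ⧸
        fa (Localization.AtPrime (Q.comap (algebraMap R (MvPolynomial (Fin N) R)))) (Localization.AtPrime Q)) rs := by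
  let P := MvPolynomial (Fin N) R
  let K := RingHom.ker (algebraMap P A)
  letI := GorFibrePrime.algLoc Q
  by_cases hle : K ≤ Q
  · have : (Q.map (algebraMap P A)).IsPrime := Ideal.map_isPrime_of_surjective hsurj hle
    have hQ : (Q.map (algebraMap P A)).comap (algebraMap P A) = Q := by
      rw [Ideal.comap_map_of_surjective _ hsurj, ← RingHom.ker_eq_comap_bot, sup_eq_left.2 hle]
    have key : ∀ (Q' : Ideal P) [Q'.IsPrime] (q : Ideal A) [q.IsPrime], q.comap (algebraMap P A) = Q' →
        letI := GorFibrePrime.algLoc Q'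
        ∃ rs : List (Localization.AtPrime Q'), c ≤ rs.length ∧
          (∀ r ∈ rs, r ∈ K.map (algebraMap P (Localization.AtPrime Q'))) ∧
          IsWeaklyRegular (Localization.AtPrime Q' ⧸
            fa (Localization.AtPrime (Q'.comap (algebraMap R P))) (Localization.AtPrime Q')) rs := by
      intro Q' _ q _ h
      subst h
      obtain ⟨D, d, hD, hd, hcd⟩ := hc q
      let C := Localization.AtPrime (q.comap (algebraMap P A))
      let Rp := Localization.AtPrime ((q.comap (algebraMap P A)).comap (algebraMap R P))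
      letI : Algebra Rp C := GorFibrePrime.algLoc _
      obtain ⟨hloc, htower, hflat, -, hJ, hreg, hfa, -, ⟨eF⟩⟩ := GorFibrePrime.setup (n := N) hsurj q
      obtain ⟨rs, hlen, hmem, hr⟩ := GradeLift.exists_sequence hreg (LocalExtCI.locKer (P := P) A q) hJ
        ((ringKrullDim_eq_of_ringEquiv (Ideal.quotEquivOfEq hfa)).trans hD)
        ((ringKrullDim_eq_of_ringEquiv eF).symm.trans hd)
      exact ⟨rs, by omega, hmem, hr⟩
    exact key Q _ hQ
  · obtain ⟨a, ha, ha'⟩ := SetLike.not_le_iff_exists.1 hle
    have htop : K.map (algebraMap P (Localization.AtPrime Q)) = ⊤ :=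
      Ideal.eq_top_of_isUnit_mem _ (Ideal.mem_map_of_mem _ ha)
        (IsLocalization.map_units _ (⟨a, ha'⟩ : Q.primeCompl))
    exact ⟨List.replicate c 1, by rw [List.length_replicate], fun r _ => by rw [htop]; trivial,
      isWeaklyRegular_replicate_one c _⟩

variable {G : ℕ → Type u} [∀ i, AddCommGroup (G i)] [∀ i, Module (MvPolynomial (Fin N) R) (G i)]
  [∀ i, Module.Finite (MvPolynomial (Fin N) R) (G i)]
  [∀ i, Module.Projective (MvPolynomial (Fin N) R) (G i)]
  (d : ∀ i, G i →ₗ[MvPolynomial (Fin N) R] G (i + 1)) (hd : ∀ i z, d (i + 1) (d i z) = 0)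

include hsurj hd in
/-- The cokernels are flat below the codimension. -/
theorem flat_coker (c : ℕ)
    (hc : ∀ (q : Ideal A) [q.IsPrime], ∃ D d : ℕ,
      ringKrullDim (CMFibrePrime.AmbientAt R (q.comap (algebraMap (MvPolynomial (Fin N) R) A))) = D ∧
      ringKrullDim (GorFibrePrime.FibreAt R q) = d ∧ c + d ≤ D)
    (hh : ∀ k ∈ RingHom.ker (algebraMap (MvPolynomial (Fin N) R) A), NullHomotopic d k)
    (i : ℕ) (hi : i < c) :
    Module.Flat R (RestrictScalars R (MvPolynomial (Fin N) R) (G (i + 1) ⧸ LinearMap.range (d i))) := by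
  let P := MvPolynomial (Fin N) R
  refine CMFibreGlobal.flat_of_local (⊥ : Ideal P) _ (fun a ha x => by
    rw [(Submodule.mem_bot P).1 ha, zero_smul]) fun Q hQ _ => ?_
  have := hQ.isPrime
  let C := Localization.AtPrime Q
  let p := Q.comap (algebraMap R P)
  let Rp := Localization.AtPrime p
  letI : Algebra Rp C := GorFibrePrime.algLoc Q
  haveI : IsLocalHom (algebraMap Rp C) := Localization.isLocalHom_localRingHom p Q (algebraMap R P) rfl
  haveI : IsScalarTower R Rp C := IsScalarTower.of_algebraMap_eq' <| RingHom.ext fun r => by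
    rw [RingHom.comp_apply, RingHom.algebraMap_toAlgebra, Localization.localRingHom_to_map,
      ← IsScalarTower.algebraMap_apply]
  haveI : Module.Flat P C := IsLocalization.flat C Q.primeCompl
  haveI : Module.Flat R C := Module.Flat.trans R P C
  haveI : Module.Flat Rp C := (Module.flat_iff_of_isLocalization Rp p.primeCompl C).2 inferInstance
  let d' : ∀ j, C ⊗[P] G j →ₗ[C] C ⊗[P] G (j + 1) := fun j => (d j).baseChange C
  have hd' : ∀ j z, d' (j + 1) (d' j z) = 0 := fun j z => by
    induction z using TensorProduct.induction_on with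
    | zero => simp
    | add a b ha hb => rw [map_add, map_add, ha, hb, add_zero]
    | tmul a b => rw [LinearMap.baseChange_tmul, LinearMap.baseChange_tmul, hd, tmul_zero]
  obtain ⟨rs, hlen, hmem, hreg⟩ := exists_regular hsurj c hc Q
  have hx : ∀ x ∈ rs, NullHomotopic (C := C) (G := fun j => C ⊗[P] G j) d' x := by
    intro x hx
    obtain ⟨⟨⟨k, hk⟩, t⟩, hkt⟩ := (IsLocalization.mem_map_algebraMap_iff Q.primeCompl C).1 (hmem x hx)
    have hu := IsLocalization.map_units C t
    rw [show x = (↑hu.unit⁻¹ : C) * algebraMap P C k from by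
      rw [← hkt, mul_left_comm, IsUnit.val_inv_mul, mul_one]]
    exact NullHomotopic.mul (NullHomotopic.baseChange (hh k hk)) _
  have hflat := flat_coker_local (Rp := Rp) (C := C) (G := fun j => C ⊗[P] G j) d' hd' c rs hlen hreg hx i hi
  obtain ⟨e₀⟩ := nonempty_coker_equiv Q.primeCompl (C := C) (d i)
  let e := e₀.trans
    (LocalizedModule.equivTensorProduct Q.primeCompl (G (i + 1) ⧸ LinearMap.range (d i))).symm
  exact CMFibreGlobal.flat_congr R e ((CMFibrePrime.flat_transfer p.primeCompl _).1
    hflat)

end Global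

end Groth.Agent.Lib.DMod.CokerFlat
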