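import Groth.Agent.Lib.DMod.Biduality
import Groth.Agent.Lib.RGamma.HDI
import Groth.Agent.Lib.DR.Basic

/-!
The cohomology of `Hom(M, I)`.
-/

universe u

open CategoryTheory CategoryTheory.Limits

attribute [local instance] HasDerivedCategory.standard

namespace Groth.Agent.Lib.DMod.DCHomology

variable {A : Type u} [CommRing A] (M : ModuleCat.{u} A)

theorem nonempty_homology_zero (L : DRing.Cx A) [L.IsKInjective] :
    Nonempty ((Biduality.DC L M).homology 0 ≃ₗ[A]
      ((DerivedCategory.singleFunctor (ModuleCat.{u} A) 0).obj M ⟶ DerivedCategory.Q.obj L)) := by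
  let S := (Biduality.DC L M).sc' (-1) 0 1
  have hS : LinearMap.ker S.g.hom = RGamma.PreHom M L := rfl
  let p : LinearMap.ker S.g.hom →ₗ[A]
      ((DerivedCategory.singleFunctor (ModuleCat.{u} A) 0).obj M ⟶ DerivedCategory.Q.obj L) := RGamma.psi M L
  have hsurj : Function.Surjective p := RGamma.psi_surjective
  have hker : LinearMap.range S.moduleCatToCycles = LinearMap.ker p := by
    ext f
    rw [LinearMap.mem_ker]
    refine ⟨?_, fun hf => ?_⟩
    · rintro ⟨g, rfl⟩
      exact (RGamma.psi_eq_zero_iff _).2 ⟨g, rfl⟩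
    · obtain ⟨g, hg⟩ := (RGamma.psi_eq_zero_iff f).1 hf
      exact ⟨g, Subtype.ext hg⟩
  exact ⟨((ShortComplex.homologyMapIso ((Biduality.DC L M).isoSc' (-1) 0 1 (by simp) (by simp))) ≪≫
    S.moduleCatHomologyIso).toLinearEquiv.trans
      ((Submodule.quotEquivOfEq _ _ hker).trans (p.quotKerEquivOfSurjective hsurj))⟩

theorem nonempty_HD_DC (I : DRing.Cx A) [I.IsKInjective] (i : ℤ) :
    Nonempty (Dual.HD A (Biduality.D I M) i ≃ₗ[A]
      ((DerivedCategory.singleFunctor (ModuleCat.{u} A) 0).obj M ⟶ (DerivedCategory.Q.obj I)⟦i⟧)) := by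
  obtain ⟨e⟩ := nonempty_homology_zero M (I⟦i⟧)
  let G := (Biduality.F M).mapHomologicalComplex (ComplexShape.up ℤ)
  let e₂ := (HomologicalComplex.homologyFunctor (ModuleCat.{u} A) (ComplexShape.up ℤ) 0).mapIso
      ((G.commShiftIso i).app I) ≪≫
    ((HomologicalComplex.homologyFunctor (ModuleCat.{u} A) (ComplexShape.up ℤ) 0).shiftIso
      i 0 i (add_zero i)).app (G.obj I)
  exact ⟨(DR.Basic.homologyQIso (Biduality.DC I M) i ≪≫ e₂.symm).toLinearEquiv.trans
    (e.trans (Linear.homCongr A (Iso.refl _) ((DerivedCategory.Q.commShiftIso i).app I)))⟩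

end Groth.Agent.Lib.DMod.DCHomology
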