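import Groth.Agent.Lib.DMod.DepthDegree
import Groth.Agent.Lib.DMod.LocalCase

/-!
Depth over a local ring with a normalized dualizing complex.
-/

universe u v

open CategoryTheory Category Limits Pretriangulated
open scoped Pointwise

attribute [local instance] HasDerivedCategory.standard

namespace Groth.Agent.Lib.DMod.DepthLocal

open Groth.Agent.Lib.DMod.Basic Groth.Agent.Lib.DMod.Degree

variable {A : Type u} [CommRing A] [IsLocalRing A]

theorem algebraMap_bijective :
    Function.Bijective (algebraMap A (Localization.AtPrime (IsLocalRing.closedPoint A).asIdeal)) := by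
  have H : (IsLocalRing.closedPoint A).asIdeal.primeCompl ≤ IsUnit.submonoid A := fun x hx =>
    IsLocalRing.notMem_maximalIdeal.1 hx
  have e := (IsLocalization.atUnits A (IsLocalRing.closedPoint A).asIdeal.primeCompl H
    (S := Localization.AtPrime (IsLocalRing.closedPoint A).asIdeal))
  have : (algebraMap A (Localization.AtPrime (IsLocalRing.closedPoint A).asIdeal) : A → _) = e := by
    funext x
    exact (e.commutes x).symm
  rw [this]
  exact e.bijective

theorem depth_self_localization (M : Type u) [AddCommGroup M] [Module A M] [Module.Finite A M]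
    [Nontrivial M] :
    LocCoh.depth (Localization.AtPrime (IsLocalRing.closedPoint A).asIdeal)
        (LocalizedModule (IsLocalRing.closedPoint A).asIdeal.primeCompl M) =
      LocCoh.depth A M := by
  let P := IsLocalRing.closedPoint A
  let R := Localization.AtPrime P.asIdeal
  let N := LocalizedModule P.asIdeal.primeCompl M
  let f := LocalizedModule.mkLinearMap P.asIdeal.primeCompl M
  have hf : Function.Bijective f := by
    constructor
    · rw [injective_iff_map_eq_zero]
      intro m hm
      obtain ⟨s, hs⟩ := (IsLocalizedModule.eq_zero_iff P.asIdeal.primeCompl f).1 hm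
      exact (IsLocalRing.notMem_maximalIdeal.1 s.2).smul_eq_zero.1 hs
    · intro y
      obtain ⟨⟨m, s⟩, hs⟩ := IsLocalizedModule.surj P.asIdeal.primeCompl f y
      obtain ⟨u, hu⟩ := IsLocalRing.notMem_maximalIdeal.1 s.2
      refine ⟨(↑u⁻¹ : A) • m, ?_⟩
      rw [map_smul, ← hs]
      change (↑u⁻¹ : A) • (s : A) • y = y
      rw [← hu, ← mul_smul, Units.inv_mul, one_smul]
  let e : M ≃ₗ[A] N := LinearEquiv.ofBijective f hf
  have : Nontrivial N := e.symm.toEquiv.nontrivial
  have : Module.Finite R N := Module.Finite.of_isLocalizedModule P.asIdeal.primeCompl f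
  have hne : ∀ (B : Type u) [CommRing B] [IsLocalRing B] (L : Type u) [AddCommGroup L] [Module B L]
      [Module.Finite B L] [Nontrivial L],
      ¬ IsLocalRing.maximalIdeal B • (⊤ : Submodule B L) = ⊤ := fun B _ _ L _ _ _ _ h =>
    (Submodule.top_ne_ideal_smul_of_le_jacobson_annihilator
      (IsLocalRing.maximalIdeal_le_jacobson _)) h.symm
  rw [LocCoh.depth, LocCoh.depth, LocCoh.idealDepth, LocCoh.idealDepth, if_neg (hne R N),
    if_neg (hne A M)]
  have hreg : ∀ rs : List A, RingTheory.Sequence.IsWeaklyRegular N (rs.map (algebraMap A R)) ↔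
      RingTheory.Sequence.IsWeaklyRegular M rs := fun rs => by
    rw [RingTheory.Sequence.isWeaklyRegular_map_algebraMap_iff]
    exact (e.isWeaklyRegular_congr rs).symm
  have hmem : ∀ a : A, algebraMap A R a ∈ IsLocalRing.maximalIdeal R ↔ a ∈ P.asIdeal :=
    fun a => IsLocalization.AtPrime.to_map_mem_maximal_iff R P.asIdeal a
  apply le_antisymm
  · refine iSup₂_le fun rs hrs => ?_
    obtain ⟨rs, rfl⟩ : ∃ rs' : List A, rs'.map (algebraMap A R) = rs :=
      List.map_surjective_iff.2 algebraMap_bijective.2 rs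
    refine le_iSup₂_of_le rs ⟨(hreg rs).1 hrs.1, fun r hr => ?_⟩ (by simp)
    exact (hmem r).1 (hrs.2 _ (List.mem_map_of_mem hr))
  · refine iSup₂_le fun rs hrs => ?_
    refine le_iSup₂_of_le (rs.map (algebraMap A R)) ⟨(hreg rs).2 hrs.1, fun r hr => ?_⟩ (by simp)
    obtain ⟨a, ha, rfl⟩ := List.mem_map.1 hr
    exact (hmem a).2 (hrs.2 a ha)

variable [IsNoetherianRing A] {ω : Dual.D A} (hω : Dual.IsDualizing A ω)
include hω

/-- The depth is the least `δ` with `Hom(M, ω[-δ]) ≠ 0`. -/
theorem exists_depth (hn : Dual.IsNormalized A ω) (M : Type u) [AddCommGroup M] [Module A M]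
    [Module.Finite A M] [Nontrivial M] :
    ∃ n : ℕ, LocCoh.depth A M = n ∧ Nontrivial (Dual.inD A M ⟶ ω⟦-(n : ℤ)⟧) ∧
      ∀ i : ℤ, -(n : ℤ) < i → Subsingleton (Dual.inD A M ⟶ ω⟦i⟧) := by
  obtain ⟨n, h1, h2, h3⟩ := DepthDegree.depth_eq hω (IsLocalRing.closedPoint A) M
    (IsLocalRing.closedPoint_mem_support A M)
  rw [LocalCase.deg_closedPoint_eq_zero hω hn, zero_sub] at h2
  refine ⟨n, (depth_self_localization M).symm.trans h1,
    (LocalCase.nontrivial_iff_closedPoint_mem _).2 h2,
    fun i hi => LocalCase.subsingleton_of_closedPoint_notMem _ (h3 i ?_)⟩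
  rwa [LocalCase.deg_closedPoint_eq_zero hω hn, zero_sub]

theorem depth_eq_iff (hn : Dual.IsNormalized A ω) (M : Type u) [AddCommGroup M] [Module A M]
    [Module.Finite A M] [Nontrivial M] (n : ℕ) :
    LocCoh.depth A M = n ↔
      ((∀ δ : ℕ, δ < n → Subsingleton (Dual.inD A M ⟶ ω⟦(-(δ : ℤ))⟧)) ∧
        Nontrivial (Dual.inD A M ⟶ ω⟦(-(n : ℤ))⟧)) := by
  obtain ⟨d, hd, hne, hvan⟩ := exists_depth hω hn M
  rw [hd, Nat.cast_inj]
  constructor
  · rintro rfl
    exact ⟨fun δ hδ => hvan _ (by lia), hne⟩
  · rintro ⟨h1, h2⟩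
    rcases lt_trichotomy d n with h | h | h
    · have := h1 d h
      exact absurd hne (not_nontrivial _)
    · exact h
    · have := hvan (-(n : ℤ)) (by lia)
      exact absurd h2 (not_nontrivial _)

theorem isCohenMacaulayModule_iff (hn : Dual.IsNormalized A ω) (M : Type u) [AddCommGroup M]
    [Module A M] [Module.Finite A M] [Nontrivial M] (d : ℕ) (hd : Module.supportDim A M = d) :
    LocCoh.IsCohenMacaulayModule A M ↔
      ∀ i : ℤ, i ≠ d → Subsingleton (Dual.inD A M ⟶ ω⟦(-i)⟧) := by
  obtain ⟨n, hdep, hne, hvan⟩ := exists_depth hω hn M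
  obtain ⟨q, hq, hdeg, hmin⟩ := LocalCase.exists_min_deg_local hω hn M d hd
  have hlow : ∀ i : ℤ, i < -(d : ℤ) → Subsingleton (Dual.inD A M ⟶ ω⟦i⟧) := fun i hi =>
    LocalCase.subsingleton_of_closedPoint_notMem _
      (notMem_support_hom_of_outside hω _ M i (Or.inr fun r _ hr => by have := hmin r hr; lia))
  rw [LocCoh.IsCohenMacaulayModule, hd, hdep]
  constructor
  · intro h i hi
    have h' : d = n := by exact_mod_cast h
    by_cases hlt : i < (d : ℤ)
    · exact hvan _ (by lia)
    · exact hlow _ (by lia)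
  · intro h
    have : (n : ℤ) = d := by
      by_contra hc
      have := h n hc
      exact absurd hne (not_nontrivial _)
    exact_mod_cast this.symm

end Groth.Agent.Lib.DMod.DepthLocal
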