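import Groth.Agent.Lib.DMod.Biduality
import Groth.Agent.Lib.Regular.PD
import Mathlib.CategoryTheory.Abelian.Exact
import Mathlib.Algebra.Homology.DerivedCategory.KProjective
import Mathlib.Algebra.Homology.HomotopyCategory.MappingCocone
import Mathlib.LinearAlgebra.Dual.Lemmas
import Mathlib.Algebra.Category.ModuleCat.Biproducts

/-!
For a module of finite projective dimension, `Hom(M, I)` is represented by a bounded complex of
finite projective modules.
-/

universe u

open CategoryTheory CategoryTheory.Limits Pretriangulated Opposite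
open Groth.Agent.Lib.DMod.Basic Groth.Agent.Lib.Regular

attribute [local instance] HasDerivedCategory.standard

namespace Groth.Agent.Lib.DMod.DualComplex

variable {P : Type u} [CommRing P]

/-- A morphism out of a K-projective complex comes from a map of complexes. -/
theorem exists_Q_map_eq {X E : DRing.Cx P} [X.IsKProjective]
    (f : DerivedCategory.Q.obj X ⟶ DerivedCategory.Q.obj E) :
    ∃ φ : X ⟶ E, DerivedCategory.Q.map φ = f := by
  let e := DerivedCategory.quotientCompQhIso (ModuleCat.{u} P)
  obtain ⟨g, hg⟩ := (CochainComplex.IsKProjective.Qh_map_bijective X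
    ((HomotopyCategory.quotient (ModuleCat.{u} P) (.up ℤ)).obj E)).surjective
      (e.hom.app X ≫ f ≫ e.inv.app E)
  obtain ⟨φ, rfl⟩ := (HomotopyCategory.quotient (ModuleCat.{u} P) (.up ℤ)).map_surjective g
  refine ⟨φ, ?_⟩
  have h := e.hom.naturality φ
  dsimp at h hg
  rw [hg] at h
  simp [Category.assoc] at h
  exact h.symm

/-- A map out of a K-projective complex that vanishes in the derived category is null-homotopic. -/
theorem nonempty_homotopy {X E : DRing.Cx P} [X.IsKProjective] (φ : X ⟶ E)
    (h : DerivedCategory.Q.map φ = 0) : Nonempty (Homotopy φ 0) := by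
  refine ⟨HomotopyCategory.homotopyOfEq _ _ ((CochainComplex.IsKProjective.Qh_map_bijective X _).injective ?_)⟩
  let e := DerivedCategory.quotientCompQhIso (ModuleCat.{u} P)
  have h1 := e.hom.naturality φ
  dsimp at h1
  rw [h, comp_zero, ← cancel_mono (e.hom.app E), h1] at *
  rw [Functor.map_zero, Functor.map_zero, zero_comp]

/-- `Hom(M, -)` is exact for projective `M`. -/
theorem preservesHomology_F (M : Type u) [AddCommGroup M] [Module P M] [Module.Projective P M] :
    (Biduality.F (ModuleCat.of P M)).PreservesHomology := by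
  have : Projective (ModuleCat.of P M) := (IsProjective.iff_projective M).1 inferInstance
  refine Functor.preservesHomology_of_map_exact _ fun S hS => ?_
  rw [ShortComplex.moduleCat_exact_iff]
  intro f hf
  exact ⟨hS.liftFromProjective f hf, hS.liftFromProjective_comp f hf⟩

/-- `E` represents `Hom(M, I)` by finite projective modules in degrees `[0, d]`. -/
structure Rep (I : DRing.Cx P) (M : ModuleCat.{u} P) (d : ℕ) (E : DRing.Cx P) : Prop where
  zero : ∀ i : ℤ, i < 0 ∨ (d : ℤ) < i → IsZero (E.X i)
  finite : ∀ i : ℤ, Module.Finite P (E.X i)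
  proj : ∀ i : ℤ, Module.Projective P (E.X i)
  iso : Nonempty (DerivedCategory.Q.obj E ≅ Biduality.D I M)

theorem finite_projective_of_isZero {X : ModuleCat.{u} P} (h : IsZero X) :
    Module.Finite P X ∧ Module.Projective P X := by
  have : Subsingleton X := ModuleCat.isZero_iff_subsingleton.1 h
  exact ⟨inferInstance, inferInstance⟩

variable {I : DRing.Cx P}
  (α : (CochainComplex.singleFunctor (ModuleCat.{u} P) 0).obj (ModuleCat.of P P) ⟶ I) [hα : QuasiIso α]

include hα in
/-- The projective case. -/
theorem exists_rep_projective (M : Type u) [AddCommGroup M] [Module P M] [Module.Finite P M]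
    [Module.Projective P M] :
    Rep I (ModuleCat.of P M) 0 ((CochainComplex.singleFunctor (ModuleCat.{u} P) 0).obj
      ((Biduality.F (ModuleCat.of P M)).obj (ModuleCat.of P P))) := by
  let F := Biduality.F (ModuleCat.of P M)
  have := preservesHomology_F (P := P) M
  have hN : Module.Finite P (F.obj (ModuleCat.of P P)) ∧ Module.Projective P (F.obj (ModuleCat.of P P)) := by
    let e : Module.Dual P M ≃ₗ[P] F.obj (ModuleCat.of P P) :=
      (ModuleCat.homLinearEquiv (S := P) (M := ModuleCat.of P M) (N := ModuleCat.of P P)).symm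
    exact ⟨Module.Finite.equiv e, Module.Projective.of_equiv e⟩
  have hz : ∀ i : ℤ, i ≠ 0 → IsZero (((CochainComplex.singleFunctor (ModuleCat.{u} P) 0).obj
      (F.obj (ModuleCat.of P P))).X i) := fun i hi =>
    HomologicalComplex.isZero_single_obj_X _ _ _ i hi
  refine ⟨fun i hi => hz i (by omega), fun i => ?_, fun i => ?_, ?_⟩
  · rcases eq_or_ne i 0 with rfl | hi
    · have := hN.1
      exact Module.Finite.equiv (HomologicalComplex.singleObjXSelf (.up ℤ) 0 (F.obj (ModuleCat.of P P))).toLinearEquiv.symm
    · exact (finite_projective_of_isZero (hz i hi)).1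
  · rcases eq_or_ne i 0 with rfl | hi
    · have := hN.2
      exact Module.Projective.of_equiv (HomologicalComplex.singleObjXSelf (.up ℤ) 0 (F.obj (ModuleCat.of P P))).toLinearEquiv.symm
    · exact (finite_projective_of_isZero (hz i hi)).2
  · let β := (F.mapHomologicalComplex (.up ℤ)).map α
    have : IsIso (DerivedCategory.Q.map β) := (DerivedCategory.isIso_Q_map_iff_quasiIso _ β).2 inferInstance
    exact ⟨DerivedCategory.Q.mapIso
      ((HomologicalComplex.singleMapHomologicalComplex F (.up ℤ) 0).app (ModuleCat.of P P)).symm ≪≫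
        @asIso _ _ _ _ (DerivedCategory.Q.map β) this⟩

variable [IsNoetherianRing P] [∀ n, Injective (I.X n)]

include hα in
/-- A bounded complex of finite projective modules representing `Hom(M, I)`. -/
theorem exists_rep : ∀ (d : ℕ) (M : Type u) [AddCommGroup M] [Module P M] [Module.Finite P M],
    PD.PDle P M d → ∃ E : DRing.Cx P, Rep I (ModuleCat.of P M) d E := by
  intro d
  induction d with
  | zero =>
    intro M _ _ _ hd
    have := PD.pdle_zero_iff.1 hd
    exact ⟨_, exists_rep_projective α M⟩
  | succ d ih =>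
    intro M _ _ _ hd
    obtain ⟨k, f, hf⟩ := PD.exists_free_cover (R := P) M
    obtain ⟨EK, hEK⟩ := ih (LinearMap.ker f) ((PD.pdle_succ_iff hf d).1 hd)
    let F := Biduality.F (ModuleCat.of P (Fin k → P))
    let EF : DRing.Cx P := (CochainComplex.singleFunctor (ModuleCat.{u} P) 0).obj (F.obj (ModuleCat.of P P))
    have hEF : Rep I (ModuleCat.of P (Fin k → P)) 0 EF := exists_rep_projective α (Fin k → P)
    obtain ⟨a⟩ := hEF.iso
    obtain ⟨b⟩ := hEK.iso
    obtain ⟨δ, hT⟩ := Biduality.exists_triangle (I := I) (LinearMap.shortExact_shortComplexKer hf)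
    have : ∀ n, Projective (EF.X n) := fun n =>
      (IsProjective.iff_projective (R := P) (EF.X n)).1 (hEF.proj n)
    have : EF.IsStrictlyLE 0 :=
      (CochainComplex.isStrictlyLE_iff _ _).2 fun i hi => hEF.zero i (Or.inr (by simpa using hi))
    have : EF.IsKProjective := CochainComplex.isKProjective_of_projective EF 0
    obtain ⟨g, hg⟩ := exists_Q_map_eq (a.hom ≫
      DerivedCategory.Q.map (Biduality.DCmap I f.shortComplexKer.f) ≫ b.inv)
    let C := CochainComplex.mappingCone g
    refine ⟨C⟦(-1 : ℤ)⟧, ?_⟩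
    have hCX : ∀ i : ℤ, Nonempty ((C⟦(-1 : ℤ)⟧).X i ≅ (EF.X i ⊞ EK.X (i - 1))) := fun i =>
      ⟨C.shiftFunctorObjXIso (-1) i (i - 1) (by ring) ≪≫
        HomologicalComplex.homotopyCofiber.XIsoBiprod g (i - 1) i (by simp)⟩
    have hfp : ∀ i, Module.Finite P ((C⟦(-1 : ℤ)⟧).X i) ∧ Module.Projective P ((C⟦(-1 : ℤ)⟧).X i) := fun i => by
      obtain ⟨e⟩ := hCX i
      let e' := (e ≪≫ ModuleCat.biprodIsoProd (EF.X i) (EK.X (i - 1))).toLinearEquiv.symm
      have := hEF.finite i
      have := hEF.proj i
      have := hEK.finite (i - 1)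
      have := hEK.proj (i - 1)
      exact ⟨Module.Finite.equiv e', Module.Projective.of_equiv e'⟩
    refine ⟨fun i hi => ?_, fun i => (hfp i).1, fun i => (hfp i).2, ?_⟩
    · obtain ⟨e⟩ := hCX i
      refine IsZero.of_iso ?_ e
      rw [Limits.IsZero.iff_id_eq_zero]
      exact biprod.hom_ext' _ _ ((hEF.zero i (by push_cast at hi ⊢; omega)).eq_of_src _ _)
        ((hEK.zero (i - 1) (by push_cast at hi ⊢; omega)).eq_of_src _ _)
    · let T := Triangle.mk (DerivedCategory.Q.map (Biduality.DCmap I f.shortComplexKer.g))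
        (DerivedCategory.Q.map (Biduality.DCmap I f.shortComplexKer.f)) δ
      have hT1 : T.rotate ∈ distTriang (Dual.D P) := rot_of_distTriang _ hT
      have hT2 := DerivedCategory.mappingCone_triangle_distinguished g
      let e := isoTriangleOfIso₁₂ _ _ hT2 hT1 a b (by
        show DerivedCategory.Q.map g ≫ b.hom = a.hom ≫ DerivedCategory.Q.map (Biduality.DCmap I f.shortComplexKer.f)
        rw [hg, Category.assoc, Category.assoc, Iso.inv_hom_id, Category.comp_id])
      let e₃ : DerivedCategory.Q.obj C ≅ (Biduality.D I (ModuleCat.of P M))⟦(1 : ℤ)⟧ := Triangle.π₃.mapIso e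
      exact ⟨((DerivedCategory.Q (C := ModuleCat.{u} P)).commShiftIso (-1 : ℤ)).app C ≪≫
        (shiftFunctor (Dual.D P) (-1 : ℤ)).mapIso e₃ ≪≫
        (shiftFunctorCompIsoId (Dual.D P) (1 : ℤ) (-1) (by ring)).app _⟩

end Groth.Agent.Lib.DMod.DualComplex
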