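import Groth.Agent.Lib.DMod.RepPoly
import Mathlib.CategoryTheory.Monad.Adjunction

/-!
Flat epimorphisms of rings on derived categories.
-/

set_option linter.style.haveILetI false

universe u

open CategoryTheory CategoryTheory.Limits Pretriangulated TensorProduct
open Groth.Agent.Lib.DR
open Groth.Agent.Lib.DMod.Basic Groth.Agent.Lib.DMod.FlatHom Groth.Agent.Lib.DMod.Rep

attribute [local instance] HasDerivedCategory.standard

namespace Groth.Agent.Lib.DMod.EpiLoc

variable {P P' : Type u} [CommRing P] [CommRing P'] [Algebra P P']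

/-- Moving scalars across the tensor product. -/
theorem tmul_smul_of_mul (hmul : ∀ x y : P', x ⊗ₜ[P] y = (x * y) ⊗ₜ (1 : P'))
    {N : Type u} [AddCommGroup N] [Module P N] [Module P' N] [IsScalarTower P P' N]
    (b : P') (x : N) : b ⊗ₜ[P] x = (1 : P') ⊗ₜ (b • x) := by
  let act : P' →ₗ[P] N := ((LinearMap.id (R := P') (M := P')).smulRight x).restrictScalars P
  have h := congrArg (act.lTensor P') ((hmul 1 b).trans (by rw [one_mul]))
  rw [LinearMap.lTensor_tmul, LinearMap.lTensor_tmul] at h
  have h1 : act b = b • x := rfl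
  have h2 : act 1 = x := one_smul P' x
  rw [h1, h2] at h
  exact h.symm

theorem bijective_counit (hmul : ∀ x y : P', x ⊗ₜ[P] y = (x * y) ⊗ₜ (1 : P')) (N : ModuleCat.{u} P') :
    Function.Bijective ((ModuleCat.extendRestrictScalarsAdj.{u} (algebraMap P P')).counit.app N).hom := by
  let μ := ((ModuleCat.extendRestrictScalarsAdj.{u} (algebraMap P P')).counit.app N).hom
  let M : ModuleCat.{u} P := (ModuleCat.restrictScalars.{u} (algebraMap P P')).obj N
  letI : Module P' M := inferInstanceAs (Module P' N)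
  haveI : IsScalarTower P P' M := IsScalarTower.of_algebraMap_smul fun _ _ => rfl
  let e := FlatBC.extEquiv P P' M
  have hone : ∀ x : N, μ (e.symm ((1 : P') ⊗ₜ[P] (show M from x))) = x :=
    fun x => ModuleCat.extendRestrictScalarsAdj_counit_app_apply_one_tmul (algebraMap P P') N x
  refine ⟨?_, fun x => ⟨_, hone x⟩⟩
  have hgen : ∀ z : P' ⊗[P] M, ∃ x : M, z = (1 : P') ⊗ₜ x := fun z => by
    induction z using TensorProduct.induction_on with
    | zero => exact ⟨0, (TensorProduct.tmul_zero _ _).symm⟩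
    | tmul b x => exact ⟨b • x, tmul_smul_of_mul hmul b x⟩
    | add u v hu hv =>
      obtain ⟨x, rfl⟩ := hu
      obtain ⟨y, rfl⟩ := hv
      exact ⟨x + y, (TensorProduct.tmul_add _ _ _).symm⟩
  intro a b hab
  obtain ⟨z, rfl⟩ := e.symm.surjective a
  obtain ⟨w, rfl⟩ := e.symm.surjective b
  obtain ⟨x, rfl⟩ := hgen z
  obtain ⟨y, rfl⟩ := hgen w
  have h1 : μ (e.symm ((1 : P') ⊗ₜ[P] x)) = μ (e.symm ((1 : P') ⊗ₜ[P] y)) := hab
  have hxy : x = y := (hone x).symm.trans (h1.trans (hone y))
  rw [hxy]

variable [Module.Flat P P']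

/-- Base change of a restriction is the identity. -/
theorem nonempty_resL_iso (hmul : ∀ x y : P', x ⊗ₜ[P] y = (x * y) ⊗ₜ (1 : P')) :
    Nonempty (DRing.restrictD (algebraMap P P') ⋙ L P P' ≅ 𝟭 (Dual.D P')) := by
  let G := ModuleCat.restrictScalars.{u} (algebraMap P P')
  have : ∀ N, IsIso ((ModuleCat.extendRestrictScalarsAdj.{u} (algebraMap P P')).counit.app N) :=
    fun N => (ConcreteCategory.isIso_iff_bijective _).2 (bijective_counit hmul N)
  have : IsIso (ModuleCat.extendRestrictScalarsAdj.{u} (algebraMap P P')).counit :=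
    NatIso.isIso_of_isIso_app _
  let c : G ⋙ E P P' ≅ 𝟭 (ModuleCat.{u} P') :=
    asIso (ModuleCat.extendRestrictScalarsAdj.{u} (algebraMap P P')).counit
  let Wq := HomologicalComplex.quasiIso (ModuleCat.{u} P') (ComplexShape.up ℤ)
  letI h₁ : Localization.Lifting (DerivedCategory.Q (C := ModuleCat.{u} P')) Wq
      (G.mapHomologicalComplex (.up ℤ) ⋙ (E P P').mapHomologicalComplex (.up ℤ) ⋙ DerivedCategory.Q)
      (DRing.restrictD (algebraMap P P') ⋙ L P P') :=
    ⟨(Functor.associator _ _ _).symm ≪≫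
      Functor.isoWhiskerRight G.mapDerivedCategoryFactors _ ≪≫
        Functor.associator _ _ _ ≪≫
          Functor.isoWhiskerLeft _ (E P P').mapDerivedCategoryFactors⟩
  letI h₂ : Localization.Lifting (DerivedCategory.Q (C := ModuleCat.{u} P')) Wq
      DerivedCategory.Q (𝟭 (Dual.D P')) := ⟨Functor.rightUnitor _⟩
  exact ⟨Localization.liftNatIso (DerivedCategory.Q (C := ModuleCat.{u} P')) Wq
    (G.mapHomologicalComplex (.up ℤ) ⋙ (E P P').mapHomologicalComplex (.up ℤ) ⋙ DerivedCategory.Q)
    DerivedCategory.Q _ _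
    (NatIso.ofComponents (fun K => DerivedCategory.Q.mapIso
      (HomologicalComplex.Hom.isoOfComponents (fun i => c.app (K.X i))
        (fun i j _ => (c.hom.naturality (K.d i j)).symm)))
      (fun {K K'} g => by
        refine (DerivedCategory.Q.map_comp _ _).symm.trans
          ((congrArg DerivedCategory.Q.map ?_).trans (DerivedCategory.Q.map_comp _ _))
        exact HomologicalComplex.hom_ext _ _ fun i => c.hom.naturality (g.f i)))⟩

/-- A criterion for representing along a composite with a flat epimorphism. -/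
theorem represents (hmul : ∀ x y : P', x ⊗ₜ[P] y = (x * y) ⊗ₜ (1 : P'))
    {A : Type u} [CommRing A] (σ : P' →+* A) (u : P) (hu : σ (algebraMap P P' u) = 0)
    {W : Dual.D A} {S : Dual.D P} {S' : Dual.D P'} (e : (L P P').obj S ≅ S')
    (hW : Represents σ W S')
    (hiso : ∀ (i : ℤ) (M : Dual.D P), IsZero ((L P P').obj M) →
      Function.Bijective fun x : Dual.HD P M i => u • x) :
    Represents (σ.comp (algebraMap P P')) W S := by
  obtain ⟨ε, hε⟩ := hW.of_iso_right e.symm
  obtain ⟨j⟩ := nonempty_resL_iso (P := P) (P' := P') hmul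
  let adj := FlatHom.adj P P'
  let ff := adj.fullyFaithfulROfCompIsoId j
  let res := DRing.restrictD (algebraMap P P')
  have : res.Full := ff.full
  have : res.Faithful := ff.faithful
  let η := adj.unit.app S
  obtain ⟨C, g, h, hT⟩ := distinguished_cocone_triangle η
  -- the cone is killed by base change
  have hLη : IsIso ((L P P').map η) := by
    have : IsIso adj.counit := adj.isIso_counit_of_iso j
    exact isIso_of_comp_hom_eq_id _ (adj.left_triangle_components S)
  have hC : IsZero ((L P P').obj C) :=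
    (Triangle.isZero₃_iff_isIso₁ _ ((L P P').map_distinguished _ hT)).2 hLη
  have huC : IsIso (u • 𝟙 C) := by
    rw [DerivedCategory.isIso_iff]
    intro i
    rw [Functor.map_smul, CategoryTheory.Functor.map_id]
    refine (ConcreteCategory.isIso_iff_bijective _).2 ?_
    exact hiso i C hC
  let c := resCompIso (algebraMap P P') σ
  have hvan : ∀ (X : Dual.D A) (k : ℤ) (v : (res.obj ((DRing.restrictD σ).obj X)) ⟶ C⟦k⟧), v = 0 := by
    intro X k v
    have hX : u • 𝟙 (res.obj ((DRing.restrictD σ).obj X)) = 0 := by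
      rw [← FiniteRing.res_smul_id, ← FiniteRing.res_smul_id, hu, zero_smul, Functor.map_zero,
        Functor.map_zero]
    have h1 : v ≫ (u • 𝟙 C)⟦k⟧' = 0 := by
      rw [Functor.map_smul, CategoryTheory.Functor.map_id, Linear.comp_smul, Category.comp_id,
        ← Category.id_comp v, ← Linear.smul_comp, hX, zero_comp]
    exact (cancel_mono ((u • 𝟙 C)⟦k⟧')).1 (h1.trans zero_comp.symm)
  have hη : ∀ X : Dual.D A, Function.Bijective
      fun v : res.obj ((DRing.restrictD σ).obj X) ⟶ S => v ≫ η := by
    intro X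
    refine ⟨fun v v' hv => ?_, fun w => ?_⟩
    · refine sub_eq_zero.1 ?_
      obtain ⟨t, ht⟩ := Triangle.coyoneda_exact₂ _ (inv_rot_of_distTriang _ hT) (v - v')
        (show (v - v') ≫ η = 0 by rw [Preadditive.sub_comp]; exact sub_eq_zero.2 hv)
      exact ht.trans ((congrArg (· ≫ _) (hvan X (-1) t)).trans zero_comp)
    · have : w ≫ g = 0 := by
        rw [← cancel_mono ((shiftFunctorZero (Dual.D P) ℤ).inv.app C), zero_comp]
        exact hvan X 0 _
      obtain ⟨v, hv⟩ := Triangle.coyoneda_exact₂ _ hT w this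
      exact ⟨v, hv.symm⟩
  obtain ⟨ε', hε'⟩ := (hη W).2 (res.map ε)
  dsimp at hε'
  refine ⟨c.hom.app W ≫ ε', fun X => ?_⟩
  have hkey : Function.Bijective fun x : X ⟶ W => res.map ((DRing.restrictD σ).map x) ≫ ε' := by
    refine (Function.Bijective.of_comp_iff' (hη X) _).1 ?_
    convert (ff.map_bijective _ _).comp (hε X) using 1
    funext x
    show (res.map ((DRing.restrictD σ).map x) ≫ ε') ≫ η = res.map ((DRing.restrictD σ).map x ≫ ε)
    rw [Category.assoc, hε', Functor.map_comp]
  have h2 := (Iso.homCongr (c.app X).symm (Iso.refl S)).bijective.comp hkey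
  convert h2 using 1
  funext x
  have := c.hom.naturality x
  dsimp at this
  rw [reassoc_of% this]
  simp [Iso.homCongr]
  rfl

end Groth.Agent.Lib.DMod.EpiLoc
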