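import Groth.Agent.Lib.DR.BcRHom
import Groth.Agent.Lib.DR.EvalTen

/-!
Invariance of the evaluation map of complexes under quasi-isomorphisms.
-/

universe u

open CategoryTheory CategoryTheory.Limits MonoidalCategory
open Groth.Agent.Lib.DR

attribute [local instance] HasDerivedCategory.standard

set_option backward.isDefEq.respectTransparency false

namespace Groth.Agent.Lib.DMod.EvalQis

variable {A : Type u} [CommRing A]

theorem quasiIso_homCx_map (P : DRing.Cx A) [P.IsKProjective] {L L' : DRing.Cx A} (g : L ⟶ L') [hg : QuasiIso g] :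
    QuasiIso ((DRing.homCxFunctor P).map g) :=
  (DerivedCategory.isIso_Q_map_iff_quasiIso _ _).1 (RHom.inverts_homCxQ P g hg)

theorem evalTenCx_naturality_right (E P : DRing.Cx A) {L L' : DRing.Cx A} (g : L ⟶ L') :
    E ◁ ((DRing.homCxFunctor P).map g : DRing.homCx P L ⟶ DRing.homCx P L') ≫ HomCxFinite.evalTenCx E P L' =
      HomCxFinite.evalTenCx E P L ≫ ((DRing.homCxFunctor P).map (E ◁ g) :
        DRing.homCx P (E ⊗ L) ⟶ DRing.homCx P (E ⊗ L')) := by
  let m : DRing.homCx P L ⟶ DRing.homCx P L' := (DRing.homCxFunctor P).map g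
  have hev : m ▷ P ≫ HomCxFinite.ev P L' = HomCxFinite.ev P L ≫ g := by
    apply HomCx.homEquiv.injective
    refine (HomCx.homEquiv_naturality_left m _).trans (Eq.trans ?_ (HomCx.homEquiv_naturality_right _ g).symm)
    show m ≫ HomCx.homEquiv (HomCx.homEquiv.symm (𝟙 _)) = HomCx.homEquiv (HomCx.homEquiv.symm (𝟙 _)) ≫ m
    rw [Equiv.apply_symm_apply, Equiv.apply_symm_apply, Category.comp_id, Category.id_comp]
  refine (HomCx.homEquiv_naturality_left (E ◁ m) _).symm.trans (Eq.trans ?_ (HomCx.homEquiv_naturality_right _ (E ◁ g)))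
  refine congrArg _ ?_
  rw [associator_naturality_middle_assoc, ← MonoidalCategory.whiskerLeft_comp, hev, MonoidalCategory.whiskerLeft_comp,
    Category.assoc]

theorem evalTenCx_naturality_left {E E' : DRing.Cx A} (f : E ⟶ E') (P L : DRing.Cx A) :
    f ▷ DRing.homCx P L ≫ HomCxFinite.evalTenCx E' P L =
      HomCxFinite.evalTenCx E P L ≫ ((DRing.homCxFunctor P).map (f ▷ L) :
        DRing.homCx P (E ⊗ L) ⟶ DRing.homCx P (E' ⊗ L)) := by
  refine (HomCx.homEquiv_naturality_left (f ▷ DRing.homCx P L) _).symm.trans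
    (Eq.trans ?_ (HomCx.homEquiv_naturality_right _ (f ▷ L)))
  refine congrArg _ ?_
  rw [associator_naturality_left_assoc, ← whisker_exchange, Category.assoc]

/-- Tensoring a quasi-isomorphism of K-flat complexes with any complex. -/
theorem quasiIso_whiskerRight {E E' : DRing.Cx A} (f : E ⟶ E') [QuasiIso f] (hE : DRing.IsKFlat A E)
    (hE' : DRing.IsKFlat A E') (X : DRing.Cx A) : QuasiIso (f ▷ X) := by
  let a : (KProjRes.res A).obj X ⟶ X := (KProjRes.aug A).app X
  have : QuasiIso a := KProjRes.quasiIso_aug A X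
  have h1 : QuasiIso (f ▷ (KProjRes.res A).obj X) := KFlat.quasiIso_tensor_of_isKFlat (KFlat.isKFlat_res X) f
  have h2 : QuasiIso (E' ◁ a) := LTensorCx.quasiIso_tensor_left hE' _
  have h3 : QuasiIso (E ◁ a) := LTensorCx.quasiIso_tensor_left hE _
  have h4 : QuasiIso (E ◁ a ≫ f ▷ X) := by
    rw [whisker_exchange]
    infer_instance
  exact (quasiIso_iff_comp_left (E ◁ a) (f ▷ X)).1 h4

variable (P : DRing.Cx A) [P.IsKProjective]

/-- Changing the last complex. -/
theorem quasiIso_iff_right {E : DRing.Cx A} (hE : DRing.IsKFlat A E) {L L' : DRing.Cx A} (g : L ⟶ L')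
    [QuasiIso g] :
    QuasiIso (HomCxFinite.evalTenCx E P L) ↔ QuasiIso (HomCxFinite.evalTenCx E P L') := by
  have := quasiIso_homCx_map P g
  have h1 : QuasiIso (E ◁ (DRing.homCxFunctor P).map g) := LTensorCx.quasiIso_tensor_left hE _
  have h2 : QuasiIso (E ◁ g) := LTensorCx.quasiIso_tensor_left hE _
  have := quasiIso_homCx_map P (E ◁ g)
  rw [← quasiIso_iff_comp_left (E ◁ (DRing.homCxFunctor P).map g) (HomCxFinite.evalTenCx E P L'),
    evalTenCx_naturality_right]
  exact (quasiIso_iff_comp_right _ _).symm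

/-- Changing the first complex. -/
theorem quasiIso_iff_left {E E' : DRing.Cx A} (f : E ⟶ E') [QuasiIso f] (hE : DRing.IsKFlat A E)
    (hE' : DRing.IsKFlat A E') (L : DRing.Cx A) :
    QuasiIso (HomCxFinite.evalTenCx E P L) ↔ QuasiIso (HomCxFinite.evalTenCx E' P L) := by
  have h1 : QuasiIso (f ▷ DRing.homCx P L) := quasiIso_whiskerRight f hE hE' _
  have h2 : QuasiIso (f ▷ L) := quasiIso_whiskerRight f hE hE' _
  have := quasiIso_homCx_map P (f ▷ L)
  rw [← quasiIso_iff_comp_left (f ▷ DRing.homCx P L) (HomCxFinite.evalTenCx E' P L), evalTenCx_naturality_left]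
  exact (quasiIso_iff_comp_right _ _).symm

variable [DTen.HasLTen A] [DTen.HasLTen₃ A] [DTen.IsSymMonoidal A] [DTen.HasRHom A]

/-- The derived evaluation map on representatives. -/
theorem isIso_evalTen_iff (E : DRing.Cx A) [E.IsKProjective] (L : DRing.Cx A) :
    IsIso (DTen.evalTen (DerivedCategory.Q.obj E) (DerivedCategory.Q.obj L) (DerivedCategory.Q.obj P)) ↔
      QuasiIso (HomCxFinite.evalTenCx E P L) := by
  have := RHom.isIso_θ P L
  have := RHom.isIso_θ P (E ⊗ L)
  have := EvalTen.isIso_T (𝟙 (DerivedCategory.Q.obj E)) (RHom.θ P L)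
  rw [← DerivedCategory.isIso_Q_map_iff_quasiIso,
    ← isIso_comp_right_iff (DTen.evalTen (DerivedCategory.Q.obj E) (DerivedCategory.Q.obj L) (DerivedCategory.Q.obj P))
      ((DTen.RHomR A (DerivedCategory.Q.obj P)).map ((DTen.ε A).app (E, L))),
    ← isIso_comp_left_iff ((DTen.LTen₂ A).map (Prod.mkHom (𝟙 (DerivedCategory.Q.obj E)) (RHom.θ P L))),
    EvalTen.evalTen_fac_Q, isIso_comp_left_iff, isIso_comp_right_iff]

end Groth.Agent.Lib.DMod.EvalQis
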