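import Groth.Agent.Lib.DMod.FibreRed
import Groth.Agent.Lib.Regular.PD

/-!
`Ext(M, C)` and its base change to the closed fibre, for `M` flat over the base.
-/

universe u

open IsLocalRing CategoryTheory
open Groth.Agent.Lib.DMod.FibreRed Groth.Agent.Lib.LCFin Groth.Agent.Lib.Regular

namespace Groth.Agent.Lib.DMod.ExtFibre

variable (R C : Type u) [CommRing R] [CommRing C] [IsLocalRing R] [Algebra R C]

/-- `Ext^i_C(M, C)`. -/
abbrev EC (M : Type u) [AddCommGroup M] [Module C M] (i : ℕ) : Type u :=
  Abelian.Ext.{u} (ModuleCat.of C M) (ModuleCat.of C C) i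

/-- `Ext^i` on the closed fibre. -/
abbrev EF (M : Type u) [AddCommGroup M] [Module C M] (i : ℕ) : Type u :=
  EC (C ⧸ fa R C) (Bar R C M) i

variable {R C}

/-- Flatness transported along a linear equivalence. -/
theorem flat_restrict {Y X : Type u} [AddCommGroup Y] [Module C Y] [Module R Y] [IsScalarTower R C Y]
    [Module.Flat R Y] [AddCommGroup X] [Module C X] (e : Y ≃ₗ[C] X) :
    Module.Flat R (RestrictScalars R C X) := by
  let e' : RestrictScalars R C X ≃ₗ[R] Y :=
    { toFun := fun x => e.symm ((RestrictScalars.addEquiv R C X) x)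
      invFun := fun y => (RestrictScalars.addEquiv R C X).symm (e y)
      left_inv := fun x => by
        show (RestrictScalars.addEquiv R C X).symm
          (e (e.symm ((RestrictScalars.addEquiv R C X) x))) = x
        rw [e.apply_symm_apply, AddEquiv.symm_apply_apply]
      right_inv := fun y => by
        show e.symm ((RestrictScalars.addEquiv R C X)
          ((RestrictScalars.addEquiv R C X).symm (e y))) = y
        rw [AddEquiv.apply_symm_apply, e.symm_apply_apply]
      map_add' := fun a b => by rw [map_add, map_add]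
      map_smul' := fun r x => by
        rw [RestrictScalars.addEquiv_map_smul, _root_.map_smul, algebraMap_smul]
        rfl }
  exact Module.Flat.of_linearEquiv e'

theorem flat_of_restrict {X X' : Type u} [AddCommGroup X] [Module C X] [AddCommGroup X'] [Module C X']
    (e : X ≃ₗ[C] X') (h : Module.Flat R (RestrictScalars R C X)) :
    Module.Flat R (RestrictScalars R C X') := by
  let e' : RestrictScalars R C X' ≃ₗ[R] RestrictScalars R C X :=
    { toFun := fun y => (RestrictScalars.addEquiv R C X).symm
        (e.symm (RestrictScalars.addEquiv R C X' y))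
      invFun := fun x => (RestrictScalars.addEquiv R C X').symm
        (e (RestrictScalars.addEquiv R C X x))
      left_inv := fun y => by simp
      right_inv := fun x => by simp
      map_add' := fun a b => by simp
      map_smul' := fun r y => by
        apply (RestrictScalars.addEquiv R C X).injective
        rw [AddEquiv.apply_symm_apply, RingHom.id_apply, RestrictScalars.addEquiv_map_smul,
          RestrictScalars.addEquiv_map_smul, _root_.map_smul, AddEquiv.apply_symm_apply] }
  exact Module.Flat.of_linearEquiv e'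

theorem flat_restrict_iff {X : Type u} [AddCommGroup X] [Module C X] [Module R X] [IsScalarTower R C X] :
    Module.Flat R (RestrictScalars R C X) → Module.Flat R X := by
  intro h
  let e : X ≃ₗ[R] RestrictScalars R C X :=
    { toFun := fun x => (RestrictScalars.addEquiv R C X).symm x
      invFun := fun y => RestrictScalars.addEquiv R C X y
      left_inv := fun x => AddEquiv.apply_symm_apply _ x
      right_inv := fun y => AddEquiv.symm_apply_apply _ y
      map_add' := fun a b => map_add _ a b
      map_smul' := fun r x => by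
        apply (RestrictScalars.addEquiv R C X).injective
        rw [AddEquiv.apply_symm_apply, RingHom.id_apply, RestrictScalars.addEquiv_map_smul,
          AddEquiv.apply_symm_apply, algebraMap_smul] }
  exact Module.Flat.of_linearEquiv e

theorem subsingleton_flat {X : Type u} [AddCommGroup X] [Module C X] [Subsingleton X] :
    Module.Flat R (RestrictScalars R C X) := by
  have : Subsingleton (RestrictScalars R C X) := ‹Subsingleton X›
  infer_instance

/-- The reduction between trivial modules. -/
theorem hasBC_subsingleton {I : Ideal C} {X X' : Type*} [AddCommGroup X] [Module C X]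
    [AddCommGroup X'] [Module (C ⧸ I) X'] [Subsingleton X] [Subsingleton X'] : HasBC I X X' :=
  ⟨0, ⟨fun y => ⟨0, Subsingleton.elim _ _⟩, fun _ _ => Subsingleton.elim _ _, fun x _ => by
    rw [Subsingleton.elim x 0]; exact zero_mem _⟩⟩

theorem flat_of_exactC {X Y Z : Type u} [AddCommGroup X] [Module C X] [Module R X] [IsScalarTower R C X]
    [AddCommGroup Y] [Module C Y] [Module R Y] [IsScalarTower R C Y] [Module.Flat R Y]
    [AddCommGroup Z] [Module C Z] [Module R Z] [IsScalarTower R C Z] [Module.Flat R Z]
    (f : X →ₗ[C] Y) (g : Y →ₗ[C] Z) (hf : Function.Injective f) (hg : Function.Surjective g)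
    (h : Function.Exact f g) : Module.Flat R X :=
  FlatCx.Ker.flat_of_exact (f.restrictScalars R) (g.restrictScalars R) hf hg h

theorem flat_range_of {X Y : Type u} [AddCommGroup X] [Module C X] [AddCommGroup Y] [Module C Y]
    [Module R Y] [IsScalarTower R C Y] [Module.Flat R Y] (f : X →ₗ[C] Y)
    [hQ : Module.Flat R (Y ⧸ LinearMap.range f)] : Module.Flat R (LinearMap.range f) :=
  flat_of_exactC (R := R) (C := C) (X := ↥(LinearMap.range f)) (Y := Y) (Z := Y ⧸ LinearMap.range f)
    (LinearMap.range f).subtype (LinearMap.range f).mkQ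
    (Submodule.subtype_injective _) (Submodule.mkQ_surjective _)
    (LinearMap.exact_subtype_mkQ (LinearMap.range f))

theorem mem_fa_range {X Y : Type u} [AddCommGroup X] [Module C X] [AddCommGroup Y] [Module C Y]
    [Module R Y] [IsScalarTower R C Y] (f : X →ₗ[C] Y)
    [hQ : Module.Flat R (Y ⧸ LinearMap.range f)] (y : LinearMap.range f)
    (hy : (y : Y) ∈ fa R C • (⊤ : Submodule C Y)) :
    y ∈ fa R C • (⊤ : Submodule C (LinearMap.range f)) :=
  mem_fa_of_flat (M := ↥(LinearMap.range f)) (N := Y) (P := Y ⧸ LinearMap.range f)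
    (LinearMap.range f).subtype (LinearMap.range f).mkQ (Submodule.subtype_injective _)
    (Submodule.mkQ_surjective _) (LinearMap.exact_subtype_mkQ (LinearMap.range f)) hy

theorem exists_preimage_range {X Y : Type u} [AddCommGroup X] [Module C X] [AddCommGroup Y] [Module C Y]
    [Module R Y] [IsScalarTower R C Y] (f : X →ₗ[C] Y)
    [hQ : Module.Flat R (Y ⧸ LinearMap.range f)] (x : X)
    (hx : f x ∈ fa R C • (⊤ : Submodule C Y)) :
    ∃ z ∈ fa R C • (⊤ : Submodule C X), f.rangeRestrict z = f.rangeRestrict x :=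
  exists_of_mem_smul f.rangeRestrict f.surjective_rangeRestrict (mem_fa_range f (f.rangeRestrict x) hx)

section Conn

variable {S : Type u} [CommRing S] {K F M : Type u} [AddCommGroup K] [Module S K] [AddCommGroup F]
  [Module S F] [AddCommGroup M] [Module S M] {ι : K →ₗ[S] F} {π : F →ₗ[S] M}
  (hι : Function.Injective ι) (hπ : Function.Surjective π) (hex : Function.Exact ι π)

/-- The connecting map on functionals. -/
noncomputable def d0 : (K →ₗ[S] S) →ₗ[S] EC S M 1 :=
  ExtLoc.extConn hι hπ hex S 0 ∘ₗ (ExtLoc.homEquiv K S).symm.toLinearMap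

theorem d0_surjective [Module.Free S F] : Function.Surjective (d0 hι hπ hex) :=
  (ExtLoc.extConn_surjective hι hπ hex S inferInstance 0).comp (LinearEquiv.surjective _)

theorem d0_eq_zero_iff (h : K →ₗ[S] S) : d0 hι hπ hex h = 0 ↔ ∃ g : F →ₗ[S] S, g ∘ₗ ι = h := by
  show ExtLoc.extConn hι hπ hex S 0 ((ExtLoc.homEquiv K S).symm h) = 0 ↔ _
  rw [ExtLoc.extConn_eq_zero_iff]
  constructor
  · rintro ⟨g, hg⟩
    refine ⟨ExtLoc.homEquiv F S g, ?_⟩
    rw [← ExtLoc.homEquiv_precomp, hg, LinearEquiv.apply_symm_apply]
  · rintro ⟨g, hg⟩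
    refine ⟨(ExtLoc.homEquiv F S).symm g, (ExtLoc.homEquiv K S).injective ?_⟩
    rw [ExtLoc.homEquiv_precomp, LinearEquiv.apply_symm_apply, LinearEquiv.apply_symm_apply, hg]

/-- Dimension shifting. -/
noncomputable def shiftEquiv [Module.Free S F] (j : ℕ) : EC S K (j + 1) ≃ₗ[S] EC S M (j + 1 + 1) :=
  LinearEquiv.ofBijective (ExtLoc.extConn hι hπ hex S (j + 1))
    ⟨ExtLoc.extConn_succ_injective hι hπ hex S inferInstance j,
      ExtLoc.extConn_surjective hι hπ hex S inferInstance (j + 1)⟩

end Conn

variable [IsLocalRing C] [IsNoetherianRing C] [IsLocalHom (algebraMap R C)] [Module.Flat R C]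

/-- A cover with its fibre. -/
theorem exists_cover (M : Type u) [AddCommGroup M] [Module C M] [Module R M] [IsScalarTower R C M]
    [Module.Finite C M] [Module.Flat R M] :
    ∃ (n : ℕ) (π : (Fin n → C) →ₗ[C] M), Function.Surjective π ∧
      Module.Flat R (LinearMap.ker π) ∧
      Function.Injective (red (R := R) (LinearMap.ker π).subtype) ∧
      Function.Exact (red (R := R) (LinearMap.ker π).subtype) (red (R := R) π) ∧
      Function.Surjective (red (R := R) π) ∧
      Module.Free (C ⧸ fa R C) (Bar R C (Fin n → C)) ∧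
      ∀ d, PD.PDle (C ⧸ fa R C) (Bar R C M) (d + 1) →
        PD.PDle (C ⧸ fa R C) (Bar R C (LinearMap.ker π)) d := by
  classical
  obtain ⟨n, π, hπ⟩ := Module.Finite.exists_fin' C M
  have hex := LinearMap.exact_subtype_ker_map π
  have : Module.Flat R (Fin n → C) := Module.Flat.trans R C _
  have hflat : Module.Flat R (LinearMap.ker π) :=
    FlatCx.Ker.flat_of_exact ((LinearMap.ker π).subtype.restrictScalars R) (π.restrictScalars R)
      Subtype.val_injective hπ hex
  have hri := red_injective (R := R) (LinearMap.ker π).subtype π Subtype.val_injective hπ hex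
  have hre := red_exact (R := R) (LinearMap.ker π).subtype π hπ hex
  have hrs := red_surjective (R := R) π hπ
  -- the fibre of a free module is free
  have hfree : Module.Free (C ⧸ fa R C) (Bar R C (Fin n → C)) := by
    let φ : Bar R C (Fin n → C) →ₗ[C ⧸ fa R C] (Fin n → C ⧸ fa R C) :=
      (Submodule.liftQ (fa R C • (⊤ : Submodule C (Fin n → C)))
        (LinearMap.pi fun i => (Submodule.mkQ (fa R C)).comp (LinearMap.proj i))
        (Submodule.smul_le.2 fun a ha x _ => by
          rw [LinearMap.mem_ker]
          funext i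
          show Submodule.Quotient.mk (a * x i) = 0
          rw [Submodule.Quotient.mk_eq_zero]
          exact (fa R C).mul_mem_right _ ha)).extendScalarsOfSurjective Ideal.Quotient.mk_surjective
    have hφ : Function.Bijective φ := by
      constructor
      · rw [injective_iff_map_eq_zero]
        intro x hx
        obtain ⟨x, rfl⟩ := Submodule.Quotient.mk_surjective _ x
        rw [Submodule.Quotient.mk_eq_zero]
        have hsum : x = ∑ i, x i • (Pi.single i (1 : C) : Fin n → C) := by
          funext j
          simp [Pi.single_apply]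
        rw [hsum]
        exact Submodule.sum_mem _ fun i _ =>
          Submodule.smul_mem_smul (Ideal.Quotient.eq_zero_iff_mem.1 (congrFun hx i)) trivial
      · intro y
        choose x hx using fun i => Ideal.Quotient.mk_surjective (y i)
        exact ⟨Submodule.Quotient.mk x, funext hx⟩
    exact Module.Free.of_equiv (LinearEquiv.ofBijective φ hφ).symm
  refine ⟨n, π, hπ, hflat, hri, hre, hrs, hfree, fun d hd => ?_⟩
  exact PD.pdle_of_equiv ((LinearEquiv.ofInjective _ hri).trans
    (LinearEquiv.ofEq _ _ (LinearMap.exact_iff.1 hre).symm)).symm ((PD.pdle_succ_iff hrs d).1 hd)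

theorem free_of_pdle_zero (M : Type u) [AddCommGroup M] [Module C M] [Module R M] [IsScalarTower R C M]
    [Module.Finite C M] [Module.Flat R M] (h : PD.PDle (C ⧸ fa R C) (Bar R C M) 0) :
    Module.Free C M := by
  rw [PD.pdle_zero_iff] at h
  have : Nontrivial (C ⧸ fa R C) := Ideal.Quotient.nontrivial_iff.2
    (fun e => (maximalIdeal.isMaximal C).ne_top (top_le_iff.1 (e ▸ fa_le)))
  have : IsLocalRing (C ⧸ fa R C) :=
    IsLocalRing.of_surjective' (Ideal.Quotient.mk _) Ideal.Quotient.mk_surjective
  have : Module.Finite (C ⧸ fa R C) (Bar R C M) := Module.Finite.of_restrictScalars_finite C _ _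
  have : Module.Free (C ⧸ fa R C) (Bar R C M) := Module.free_of_flat_of_isLocalRing
  exact free_of_red_free (R := R) (C := C) (M := M)

theorem subsingleton_free (M : Type u) [AddCommGroup M] [Module C M] [Module.Free C M] (i : ℕ)
    (hi : 0 < i) : Subsingleton (EC C M i) := by
  obtain ⟨i, rfl⟩ := Nat.exists_eq_succ_of_ne_zero hi.ne'
  have : Projective (ModuleCat.of C M) := (IsProjective.iff_projective M).1 inferInstance
  exact subsingleton_of_forall_eq 0 fun x => Abelian.Ext.eq_zero_of_projective x

/-- If the fibre has no higher `Ext`, neither has the module. -/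
theorem vanish_higher : ∀ (d : ℕ) (M : Type u) [AddCommGroup M] [Module C M] [Module R M]
    [IsScalarTower R C M] [Module.Finite C M] [Module.Flat R M],
    PD.PDle (C ⧸ fa R C) (Bar R C M) d → (∀ i, 0 < i → Subsingleton (EF R C M i)) →
      (∀ i, 0 < i → Subsingleton (EC C M i)) ∧ Module.Flat R (M →ₗ[C] C) ∧ Good R C M := by
  intro d
  induction d with
  | zero =>
    intro M _ _ _ _ _ _ hd _
    have := free_of_pdle_zero (R := R) (C := C) M hd
    exact ⟨fun i hi => subsingleton_free (C := C) M i hi, flat_dual_free (R := R) (C := C) (M := M),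
      good_free (R := R) (C := C) (M := M)⟩
  | succ d ih =>
    intro M _ _ _ _ _ _ hd hv
    obtain ⟨n, π, hπ, hflat, hri, hre, hrs, hfree, hpd⟩ := exists_cover (R := R) (C := C) M
    let K := LinearMap.ker π
    let ι := K.subtype
    have hι : Function.Injective ι := Subtype.val_injective
    have hex : Function.Exact ι π := LinearMap.exact_subtype_ker_map π
    obtain ⟨hvK, hflatK, hgK⟩ := ih K (hpd d hd) fun i hi => by
      obtain ⟨j, rfl⟩ := Nat.exists_eq_succ_of_ne_zero hi.ne'
      have := hv (j + 1 + 1) (Nat.succ_pos _)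
      exact (shiftEquiv hri hrs hre j).toEquiv.subsingleton
    have hgF : Good R C (Fin n → C) := good_free (R := R) (C := C) (M := Fin n → C)
    let res : ((Fin n → C) →ₗ[C] C) →ₗ[C] (K →ₗ[C] C) := LinearMap.lcomp C C ι
    have hres : Function.Surjective res := surjective_of_mod (R := R) res fun y => by
      have := hv 1 Nat.one_pos
      obtain ⟨g, hg⟩ := (d0_eq_zero_iff hri hrs hre (ν (R := R) y)).1 (Subsingleton.elim _ _)
      obtain ⟨x, rfl⟩ := hgF.surj g
      refine ⟨x, hgK.mem _ ?_⟩
      rw [map_sub, sub_eq_zero]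
      exact hg.symm.trans (ν_comp x ι).symm
    have hMexact : Function.Exact (LinearMap.lcomp C C π) res := by
      intro g
      constructor
      · intro hg
        refine ⟨(LinearMap.ker π).liftQ g (fun x hx => LinearMap.congr_fun hg ⟨x, hx⟩) ∘ₗ
          (π.quotKerEquivOfSurjective hπ).symm.toLinearMap, LinearMap.ext fun x => ?_⟩
        have key : (π.quotKerEquivOfSurjective hπ).symm (π x) = Submodule.Quotient.mk x :=
          (congrArg _ (LinearMap.quotKerEquivOfSurjective_apply_mk π hπ x).symm).trans
            (LinearEquiv.symm_apply_apply _ _)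
        rw [LinearMap.lcomp_apply, LinearMap.comp_apply, LinearEquiv.coe_coe, key]
        rfl
      · rintro ⟨h, rfl⟩
        exact LinearMap.ext fun x => (congrArg h (hex.apply_apply_eq_zero x)).trans (map_zero h)
    have hMinj : Function.Injective (LinearMap.lcomp C C π) := fun f g h => LinearMap.ext fun y => by
      obtain ⟨x, rfl⟩ := hπ y
      exact LinearMap.congr_fun h x
    have : Module.Flat R ((Fin n → C) →ₗ[C] C) := flat_dual_free (R := R) (C := C) (M := Fin n → C)
    have hflatM : Module.Flat R (M →ₗ[C] C) :=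
      FlatCx.Ker.flat_of_exact ((LinearMap.lcomp C C π).restrictScalars R) (res.restrictScalars R)
        hMinj hres hMexact
    refine ⟨fun i hi => ?_, hflatM, ⟨fun h => ?_, fun c h => ν_smul c h, fun h hh => ?_⟩⟩
    · obtain ⟨j, rfl⟩ := Nat.exists_eq_succ_of_ne_zero hi.ne'
      cases j with
      | zero =>
        refine subsingleton_of_forall_eq 0 fun x => ?_
        obtain ⟨y, rfl⟩ := d0_surjective hι hπ hex x
        obtain ⟨g, hg⟩ := hres y
        exact (d0_eq_zero_iff hι hπ hex y).2 ⟨g, hg⟩
      | succ j =>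
        have := hvK (j + 1) (Nat.succ_pos _)
        exact (shiftEquiv hι hπ hex j).symm.toEquiv.subsingleton
    · obtain ⟨x, hx⟩ := hgF.surj (h ∘ₗ red (R := R) π)
      have h1 : ν (R := R) (res x) = 0 := by
        show ν (R := R) (x ∘ₗ ι) = 0
        rw [ν_comp, hx, LinearMap.comp_assoc]
        refine LinearMap.ext fun z => ?_
        show h (red (R := R) π (red (R := R) ι z)) = 0
        rw [hre.apply_apply_eq_zero, map_zero]
      obtain ⟨z, hz, hzx⟩ := exists_of_mem_smul res hres (hgK.mem _ h1)
      obtain ⟨h', hh'⟩ := (hMexact (x - z)).1 (by rw [map_sub, hzx, sub_self])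
      refine ⟨h', ?_⟩
      refine LinearMap.ext fun w => ?_
      obtain ⟨w, rfl⟩ := hrs w
      have h2 : ν (R := R) (x - z) = h ∘ₗ red (R := R) π := by
        rw [map_sub, hx]
        have : ν (R := R) z = 0 := by
          refine LinearMap.ext fun v => ?_
          obtain ⟨v, rfl⟩ := Submodule.Quotient.mk_surjective _ v
          rw [ν_mk, LinearMap.zero_apply, Ideal.Quotient.eq_zero_iff_mem]
          have := mem_smul_map (LinearMap.applyₗ v : ((Fin n → C) →ₗ[C] C) →ₗ[C] C) hz
          rwa [smul_eq_mul, Ideal.mul_top] at this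
        rw [this, sub_zero]
      rw [← hh'] at h2
      have h3 := LinearMap.congr_fun ((ν_comp h' π).symm.trans h2) w
      exact h3
    · refine mem_fa_of_flat (LinearMap.lcomp C C π) res hMinj hres hMexact (hgF.mem _ ?_)
      show ν (R := R) (h ∘ₗ π) = 0
      rw [ν_comp, hh, LinearMap.zero_comp]

variable (hgl : ∃ d : ℕ, ∀ (N : Type u) [AddCommGroup N] [Module (C ⧸ fa R C) N],
  PD.PDle (C ⧸ fa R C) N d)

include hgl in
/-- Concentration of the fibre `Ext` in degrees `0` and `j + 1`. -/
theorem concentrated : ∀ (j : ℕ) (M : Type u) [AddCommGroup M] [Module C M] [Module R M]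
    [IsScalarTower R C M] [Module.Finite C M] [Module.Flat R M]
    (G : Type u) [AddCommGroup G] [Module C G] [Module R G] [IsScalarTower R C G] [Module.Finite C G]
    (u : G →ₗ[C] M →ₗ[C] C),
    (∀ h, ∃ g, ν (R := R) (u g) = h) →
    (∀ g, ν (R := R) (u g) = 0 → g ∈ fa R C • (⊤ : Submodule C G)) →
    (∀ i, 0 < i → i ≠ j + 1 → Subsingleton (EF R C M i)) →
    Function.Bijective u ∧ (∀ i, 0 < i → i ≠ j + 1 → Subsingleton (EC C M i)) ∧
      Module.Flat R (RestrictScalars R C (EC C M (j + 1))) ∧
      HasBC (fa R C) (EC C M (j + 1)) (EF R C M (j + 1)) := by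
  intro j
  induction j with
  | zero => ?_
  | succ j ih => ?_
  all_goals
    intro M _ _ _ _ _ _ G _ _ _ _ _ u hsurj hker hv
    obtain ⟨n, π, hπ, hflat, hri, hre, hrs, hfree, -⟩ := exists_cover (R := R) (C := C) M
    let K := LinearMap.ker π
    let ι := K.subtype
    have hι : Function.Injective ι := Subtype.val_injective
    have hex : Function.Exact ι π := LinearMap.exact_subtype_ker_map π
    have hgF : Good R C (Fin n → C) := good_free (R := R) (C := C) (M := Fin n → C)
    have hfF : Module.Flat R ((Fin n → C) →ₗ[C] C) := flat_dual_free (R := R) (C := C) (M := Fin n → C)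
    let res : ((Fin n → C) →ₗ[C] C) →ₗ[C] (K →ₗ[C] C) := LinearMap.lcomp C C ι
    let w : G →ₗ[C] ((Fin n → C) →ₗ[C] C) := LinearMap.lcomp C C π ∘ₗ u
    have hwres : ∀ g, res (w g) = 0 := fun g => LinearMap.ext fun x =>
      (congrArg (u g) (hex.apply_apply_eq_zero x)).trans (map_zero _)
    have hwmod : ∀ g, w g ∈ fa R C • (⊤ : Submodule C ((Fin n → C) →ₗ[C] C)) →
        g ∈ fa R C • (⊤ : Submodule C G) := by
      intro g hg
      refine hker g (LinearMap.ext fun z => ?_)
      obtain ⟨z, rfl⟩ := hrs z
      obtain ⟨z, rfl⟩ := Submodule.Quotient.mk_surjective _ z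
      rw [red_mk, ν_mk, LinearMap.zero_apply, Ideal.Quotient.eq_zero_iff_mem]
      have := mem_smul_map (LinearMap.applyₗ z : ((Fin n → C) →ₗ[C] C) →ₗ[C] C) hg
      rwa [smul_eq_mul, Ideal.mul_top] at this
    obtain ⟨hwinj, hflatG'⟩ := injective_flat_coker w hwmod
    let u' : (((Fin n → C) →ₗ[C] C) ⧸ LinearMap.range w) →ₗ[C] (K →ₗ[C] C) :=
      Submodule.liftQ _ res (by rintro _ ⟨g, rfl⟩; exact hwres g)
    have hker' : ∀ z, ν (R := R) (u' z) = 0 →
        z ∈ fa R C • (⊤ : Submodule C (((Fin n → C) →ₗ[C] C) ⧸ LinearMap.range w)) := by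
      intro z hz
      obtain ⟨x, rfl⟩ := Submodule.Quotient.mk_surjective _ z
      replace hz : ν (R := R) (x ∘ₗ ι) = 0 := hz
      rw [ν_comp] at hz
      -- descends to the fibre of `M`
      let h : Bar R C M →ₗ[C ⧸ fa R C] C ⧸ fa R C :=
        (LinearMap.ker (red (R := R) π)).liftQ (ν (R := R) x) (fun y hy => by
          obtain ⟨v, rfl⟩ := (hre y).1 hy
          exact LinearMap.congr_fun hz v) ∘ₗ
            ((red (R := R) π).quotKerEquivOfSurjective hrs).symm.toLinearMap
      have hh : h ∘ₗ red (R := R) π = ν (R := R) x := LinearMap.ext fun y => by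
        have key : ((red (R := R) π).quotKerEquivOfSurjective hrs).symm (red (R := R) π y) =
            Submodule.Quotient.mk y :=
          (congrArg _ (LinearMap.quotKerEquivOfSurjective_apply_mk _ hrs y).symm).trans
            (LinearEquiv.symm_apply_apply _ _)
        simp only [h, LinearMap.comp_apply, LinearEquiv.coe_coe, key]
        rfl
      obtain ⟨g, hg⟩ := hsurj h
      have h1 : x - w g ∈ fa R C • (⊤ : Submodule C ((Fin n → C) →ₗ[C] C)) := by
        refine hgF.mem _ ?_
        rw [map_sub, sub_eq_zero, ← hh, ← hg]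
        exact (ν_comp (u g) π).symm
      have h2 := mem_smul_map (LinearMap.range w).mkQ h1
      rw [map_sub, Submodule.mkQ_apply, Submodule.mkQ_apply,
        (Submodule.Quotient.mk_eq_zero (LinearMap.range w)).2 (LinearMap.mem_range_self w g), sub_zero] at h2
      exact h2
  · -- the last syzygy
    obtain ⟨d, hd⟩ := hgl
    obtain ⟨hvK, hflatK, hgK⟩ := vanish_higher (R := R) d K (hd _) fun i hi => by
      obtain ⟨j, rfl⟩ := Nat.exists_eq_succ_of_ne_zero hi.ne'
      have := hv (j + 1 + 1) (Nat.succ_pos _) (by omega)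
      exact (shiftEquiv hri hrs hre j).toEquiv.subsingleton
    obtain ⟨hu'inj, hflatE⟩ := injective_flat_coker u' fun z hz => hker' z (by
      refine LinearMap.ext fun v => ?_
      obtain ⟨v, rfl⟩ := Submodule.Quotient.mk_surjective _ v
      rw [ν_mk, LinearMap.zero_apply, Ideal.Quotient.eq_zero_iff_mem]
      have := mem_smul_map (LinearMap.applyₗ v : (K →ₗ[C] C) →ₗ[C] C) hz
      rwa [smul_eq_mul, Ideal.mul_top] at this)
    refine ⟨⟨fun a b hab => hwinj (congrArg (LinearMap.lcomp C C π) hab), fun h => ?_⟩,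
      fun i hi hi1 => ?_, ?_, ?_⟩
    · have h1 : u' (Submodule.Quotient.mk (h ∘ₗ π)) = 0 := LinearMap.ext fun x =>
        (congrArg h (hex.apply_apply_eq_zero x)).trans (map_zero _)
      obtain ⟨g, hg⟩ := (Submodule.Quotient.mk_eq_zero _).1 ((map_eq_zero_iff u' hu'inj).1 h1)
      refine ⟨g, LinearMap.ext fun y => ?_⟩
      obtain ⟨x, rfl⟩ := hπ y
      exact LinearMap.congr_fun hg x
    · obtain ⟨k, rfl⟩ : ∃ k, i = k + 1 + 1 := ⟨i - 2, by omega⟩
      have := hvK (k + 1) (Nat.succ_pos _)
      exact (shiftEquiv hι hπ hex k).symm.toEquiv.subsingleton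
    · refine flat_restrict (Y := (K →ₗ[C] C) ⧸ LinearMap.range u')
        ((Submodule.quotEquivOfEq (LinearMap.range u') (LinearMap.ker (d0 hι hπ hex)) ?_).trans
        ((d0 hι hπ hex).quotKerEquivOfSurjective (d0_surjective hι hπ hex)))
      ext y
      rw [LinearMap.mem_ker, d0_eq_zero_iff]
      exact ⟨fun ⟨z, hz⟩ => by
          obtain ⟨x, rfl⟩ := Submodule.Quotient.mk_surjective _ z
          exact ⟨x, hz⟩,
        fun ⟨x, hx⟩ => ⟨Submodule.Quotient.mk x, hx⟩⟩
    · exact hasBC_coker res (d0 hι hπ hex) (d0_surjective hι hπ hex) (d0_eq_zero_iff hι hπ hex)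
        (LinearMap.lcomp (C ⧸ fa R C) (C ⧸ fa R C) (red (R := R) ι)) (d0 hri hrs hre)
        (d0_surjective hri hrs hre) (d0_eq_zero_iff hri hrs hre) hgF.surj hgK
        fun x => (ν_comp x ι).symm
  · -- earlier syzygies
    have := hv 1 Nat.one_pos (by omega)
    obtain ⟨hu', hvK, hflatE, hbcE⟩ := ih K _ u' (fun h => by
        obtain ⟨g, hg⟩ := (d0_eq_zero_iff hri hrs hre h).1 (Subsingleton.elim _ _)
        obtain ⟨x, rfl⟩ := hgF.surj g
        exact ⟨Submodule.Quotient.mk x, (ν_comp x ι).trans hg⟩) hker' fun i hi hi1 => by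
      obtain ⟨k, rfl⟩ := Nat.exists_eq_succ_of_ne_zero hi.ne'
      have := hv (k + 1 + 1) (Nat.succ_pos _) (by omega)
      exact (shiftEquiv hri hrs hre k).toEquiv.subsingleton
    refine ⟨⟨fun a b hab => hwinj (congrArg (LinearMap.lcomp C C π) hab), fun h => ?_⟩,
      fun i hi hi1 => ?_, ?_, ?_⟩
    · have h1 : u' (Submodule.Quotient.mk (h ∘ₗ π)) = 0 := LinearMap.ext fun x =>
        (congrArg h (hex.apply_apply_eq_zero x)).trans (map_zero _)
      obtain ⟨g, hg⟩ := (Submodule.Quotient.mk_eq_zero _).1 ((map_eq_zero_iff u' hu'.1).1 h1)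
      refine ⟨g, LinearMap.ext fun y => ?_⟩
      obtain ⟨x, rfl⟩ := hπ y
      exact LinearMap.congr_fun hg x
    · obtain ⟨k, rfl⟩ := Nat.exists_eq_succ_of_ne_zero hi.ne'
      cases k with
      | zero =>
        refine subsingleton_of_forall_eq 0 fun x => ?_
        obtain ⟨y, rfl⟩ := d0_surjective hι hπ hex x
        obtain ⟨z, hz⟩ := hu'.2 y
        obtain ⟨g, rfl⟩ := Submodule.Quotient.mk_surjective _ z
        exact (d0_eq_zero_iff hι hπ hex y).2 ⟨g, hz⟩
      | succ k =>
        have := hvK (k + 1) (Nat.succ_pos _) (by omega)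
        exact (shiftEquiv hι hπ hex k).symm.toEquiv.subsingleton
    · exact flat_of_restrict (shiftEquiv hι hπ hex j) hflatE
    · exact hbcE.of_equiv (shiftEquiv hι hπ hex j).symm (shiftEquiv hri hrs hre j)

variable {M : Type u} [AddCommGroup M] [Module C M] [Module R M] [IsScalarTower R C M]
  [Module.Finite C M] [Module.Flat R M]

include hgl in
/-- Concentration of `Ext` on the fibre lifts. -/
theorem main (c : ℕ) (hv : ∀ i, i ≠ c → Subsingleton (EF R C M i)) :
    (∀ i, i ≠ c → Subsingleton (EC C M i)) ∧ Module.Flat R (RestrictScalars R C (EC C M c)) ∧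
      HasBC (fa R C) (EC C M c) (EF R C M c) := by
  cases c with
  | zero =>
    obtain ⟨d, hd⟩ := hgl
    obtain ⟨h1, h2, h3⟩ := vanish_higher (R := R) d M (hd _) fun i hi => hv i hi.ne'
    refine ⟨fun i hi => h1 i (Nat.pos_of_ne_zero hi), flat_restrict (ExtLoc.homEquiv M C).symm, ?_⟩
    exact HasBC.of_equiv (X := M →ₗ[C] C) (X' := Bar R C M →ₗ[C ⧸ fa R C] C ⧸ fa R C)
      (ExtLoc.homEquiv M C) (ExtLoc.homEquiv (Bar R C M) (C ⧸ fa R C)).symm ⟨_, h3⟩
  | succ j =>
    let G : Submodule C (M →ₗ[C] C) := ⊥
    have h0 := hv 0 (Nat.succ_ne_zero j).symm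
    have hsub : Subsingleton (Bar R C M →ₗ[C ⧸ fa R C] C ⧸ fa R C) :=
      (ExtLoc.homEquiv (Bar R C M) (C ⧸ fa R C)).symm.toEquiv.subsingleton
    obtain ⟨hb, hvan, hflat, hbc⟩ := concentrated hgl j M G G.subtype
      (fun h => ⟨0, Subsingleton.elim _ _⟩)
      (fun g _ => by rw [show g = 0 from Subtype.ext g.2]; exact zero_mem _)
      fun i hi hi1 => hv i hi1
    refine ⟨fun i hi => ?_, hflat, hbc⟩
    rcases Nat.eq_zero_or_pos i with rfl | hpos
    · have : Subsingleton (M →ₗ[C] C) := subsingleton_of_forall_eq 0 fun h => by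
        obtain ⟨g, hg⟩ := hb.2 h
        rw [← hg]
        exact g.2
      exact (ExtLoc.homEquiv M C).toEquiv.subsingleton
    · exact hvan i hpos hi

set_option maxHeartbeats 1000000 in
/-- If all higher `Ext` are flat, they commute with passing to the fibre. -/
theorem baseChange_of_flat : ∀ (d : ℕ) (M : Type u) [AddCommGroup M] [Module C M] [Module R M]
    [IsScalarTower R C M] [Module.Finite C M] [Module.Flat R M],
    PD.PDle (C ⧸ fa R C) (Bar R C M) d →
    (∀ i, 0 < i → Module.Flat R (RestrictScalars R C (EC C M i))) →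
      Module.Flat R (M →ₗ[C] C) ∧ Good R C M ∧
        ∀ i, 0 < i → HasBC (fa R C) (EC C M i) (EF R C M i) := by
  intro d
  induction d with
  | zero =>
    intro M _ _ _ _ _ _ hd _
    have := free_of_pdle_zero (R := R) (C := C) M hd
    refine ⟨flat_dual_free (R := R) (C := C) (M := M), good_free (R := R) (C := C) (M := M), fun i hi => ?_⟩
    have := subsingleton_free (C := C) M i hi
    have : Module.Free (C ⧸ fa R C) (Bar R C M) := by
      have : Nontrivial (C ⧸ fa R C) := Ideal.Quotient.nontrivial_iff.2
        (fun e => (maximalIdeal.isMaximal C).ne_top (top_le_iff.1 (e ▸ fa_le)))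
      have : IsLocalRing (C ⧸ fa R C) :=
        IsLocalRing.of_surjective' (Ideal.Quotient.mk _) Ideal.Quotient.mk_surjective
      have := (PD.pdle_zero_iff).1 hd
      have : Module.Finite (C ⧸ fa R C) (Bar R C M) := Module.Finite.of_restrictScalars_finite C _ _
      exact Module.free_of_flat_of_isLocalRing
    have : Subsingleton (EF R C M i) := by
      obtain ⟨i, rfl⟩ := Nat.exists_eq_succ_of_ne_zero hi.ne'
      have : Projective (ModuleCat.of (C ⧸ fa R C) (Bar R C M)) :=
        (IsProjective.iff_projective _).1 inferInstance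
      exact subsingleton_of_forall_eq 0 fun x => Abelian.Ext.eq_zero_of_projective x
    exact hasBC_subsingleton
  | succ d ih =>
    intro M _ _ _ _ _ _ hd hflat
    obtain ⟨n, π, hπ, -, hri, hre, hrs, hfree, hpd⟩ := exists_cover (R := R) (C := C) M
    let K := LinearMap.ker π
    let ι := K.subtype
    have hι : Function.Injective ι := Subtype.val_injective
    have hex : Function.Exact ι π := LinearMap.exact_subtype_ker_map π
    have : Module.Flat R (Fin n → C) := Module.Flat.trans R C _
    have : Module.Flat R K :=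
      FlatCx.Ker.flat_of_exact (ι.restrictScalars R) (π.restrictScalars R) hι hπ hex
    obtain ⟨hflatK, hgK, hbcK⟩ := ih K (hpd d hd) fun i hi => by
      obtain ⟨j, rfl⟩ := Nat.exists_eq_succ_of_ne_zero hi.ne'
      exact flat_of_restrict (shiftEquiv hι hπ hex j).symm (hflat _ (Nat.succ_pos _))
    have hgF : Good R C (Fin n → C) := good_free (R := R) (C := C) (M := Fin n → C)
    let res : ((Fin n → C) →ₗ[C] C) →ₗ[C] (K →ₗ[C] C) := LinearMap.lcomp C C ι
    have hflatQ : Module.Flat R ((K →ₗ[C] C) ⧸ LinearMap.range res) := by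
      let e : EC C M 1 ≃ₗ[C] ((K →ₗ[C] C) ⧸ LinearMap.range res) :=
        (((d0 hι hπ hex).quotKerEquivOfSurjective (d0_surjective hι hπ hex)).symm.trans
          (Submodule.quotEquivOfEq _ _ (by
            ext y
            rw [LinearMap.mem_ker, d0_eq_zero_iff]
            exact Iff.rfl)))
      exact flat_restrict_iff (flat_of_restrict e (hflat 1 Nat.one_pos))
    have hflatI : Module.Flat R (LinearMap.range res) := flat_range_of res
    have hMexact : Function.Exact (LinearMap.lcomp C C π) res.rangeRestrict := by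
      intro g
      constructor
      · intro hg
        refine ⟨(LinearMap.ker π).liftQ g
          (fun x hx => LinearMap.congr_fun (congrArg Subtype.val hg) ⟨x, hx⟩) ∘ₗ
            (π.quotKerEquivOfSurjective hπ).symm.toLinearMap, LinearMap.ext fun x => ?_⟩
        have key : (π.quotKerEquivOfSurjective hπ).symm (π x) = Submodule.Quotient.mk x :=
          (congrArg _ (LinearMap.quotKerEquivOfSurjective_apply_mk π hπ x).symm).trans
            (LinearEquiv.symm_apply_apply _ _)
        rw [LinearMap.lcomp_apply, LinearMap.comp_apply, LinearEquiv.coe_coe, key]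
        rfl
      · rintro ⟨h, rfl⟩
        exact Subtype.ext (LinearMap.ext fun x =>
          (congrArg h (hex.apply_apply_eq_zero x)).trans (map_zero h))
    have hMinj : Function.Injective (LinearMap.lcomp C C π) := fun f g h => LinearMap.ext fun y => by
      obtain ⟨x, rfl⟩ := hπ y
      exact LinearMap.congr_fun h x
    have : Module.Flat R ((Fin n → C) →ₗ[C] C) := flat_dual_free (R := R) (C := C) (M := Fin n → C)
    have hflatM : Module.Flat R (M →ₗ[C] C) :=
      flat_of_exactC (R := R) (C := C) (X := M →ₗ[C] C) (Y := (Fin n → C) →ₗ[C] C)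
        (Z := ↥(LinearMap.range res)) (LinearMap.lcomp C C π) res.rangeRestrict hMinj
        res.surjective_rangeRestrict hMexact
    refine ⟨hflatM, ⟨fun h => ?_, fun c h => ν_smul c h, fun h hh => ?_⟩, fun i hi => ?_⟩
    · obtain ⟨x, hx⟩ := hgF.surj (h ∘ₗ red (R := R) π)
      have h1 : ν (R := R) (res x) = 0 := by
        show ν (R := R) (x ∘ₗ ι) = 0
        rw [ν_comp, hx, LinearMap.comp_assoc]
        refine LinearMap.ext fun z => ?_
        show h (red (R := R) π (red (R := R) ι z)) = 0
        rw [hre.apply_apply_eq_zero, map_zero]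
      obtain ⟨z, hz, hzx⟩ := exists_preimage_range res x (hgK.mem _ h1)
      obtain ⟨h', hh'⟩ := (hMexact (x - z)).1 (by rw [map_sub, hzx, sub_self])
      refine ⟨h', LinearMap.ext fun w => ?_⟩
      obtain ⟨w, rfl⟩ := hrs w
      have h2 : ν (R := R) (x - z) = h ∘ₗ red (R := R) π := by
        rw [map_sub, hx]
        have : ν (R := R) z = 0 := by
          refine LinearMap.ext fun v => ?_
          obtain ⟨v, rfl⟩ := Submodule.Quotient.mk_surjective _ v
          rw [ν_mk, LinearMap.zero_apply, Ideal.Quotient.eq_zero_iff_mem]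
          have := mem_smul_map (LinearMap.applyₗ v : ((Fin n → C) →ₗ[C] C) →ₗ[C] C) hz
          rwa [smul_eq_mul, Ideal.mul_top] at this
        rw [this, sub_zero]
      rw [← hh'] at h2
      exact LinearMap.congr_fun ((ν_comp h' π).symm.trans h2) w
    · refine mem_fa_of_flat (P := ↥(LinearMap.range res)) (LinearMap.lcomp C C π) res.rangeRestrict hMinj
        res.surjective_rangeRestrict hMexact (hgF.mem _ ?_)
      show ν (R := R) (h ∘ₗ π) = 0
      rw [ν_comp, hh, LinearMap.zero_comp]
    · obtain ⟨k, rfl⟩ := Nat.exists_eq_succ_of_ne_zero hi.ne'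
      cases k with
      | zero =>
        exact hasBC_coker res (d0 hι hπ hex) (d0_surjective hι hπ hex) (d0_eq_zero_iff hι hπ hex)
          (LinearMap.lcomp (C ⧸ fa R C) (C ⧸ fa R C) (red (R := R) ι)) (d0 hri hrs hre)
          (d0_surjective hri hrs hre) (d0_eq_zero_iff hri hrs hre) hgF.surj hgK
          fun x => (ν_comp x ι).symm
      | succ k =>
        exact (hbcK (k + 1) (Nat.succ_pos _)).of_equiv (shiftEquiv hι hπ hex k).symm
          (shiftEquiv hri hrs hre k)

end Groth.Agent.Lib.DMod.ExtFibre
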