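import Mathlib.Algebra.Homology.DerivedCategory.Ext.ExactSequences
import Mathlib.Algebra.Homology.DerivedCategory.Ext.Linear
import Mathlib.Algebra.Category.ModuleCat.Ext.HasExt
import Mathlib.RingTheory.Finiteness.Cardinality
import Mathlib.RingTheory.Noetherian.Basic
import Mathlib.Algebra.Homology.ShortComplex.ModuleCat

/-!
A left exact contravariant `Ext^p` on modules killed by `J` is `Hom(-, Ext^p(A/J, -))`.
-/

universe u

open CategoryTheory Abelian

namespace Groth.Agent.Lib.DMod.ExtHomPresent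

variable {A : Type u} [CommRing A]

/-- Pull back of `ξ` along the linear map `u`. -/
noncomputable abbrev pb {X M : Type u} [AddCommGroup X] [Module A X] [AddCommGroup M] [Module A M]
    {Y : ModuleCat.{u} A} {p : ℕ} (f : X →ₗ[A] M) (ξ : Ext (ModuleCat.of A M) Y p) :
    Ext (ModuleCat.of A X) Y p :=
  (Ext.mk₀ (ModuleCat.ofHom f)).comp ξ (zero_add p)

theorem pb_pb {X M N : Type u} [AddCommGroup X] [Module A X] [AddCommGroup M] [Module A M]
    [AddCommGroup N] [Module A N] {Y : ModuleCat.{u} A} {p : ℕ} (f : X →ₗ[A] M) (g : M →ₗ[A] N)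
    (ξ : Ext (ModuleCat.of A N) Y p) : pb f (pb g ξ) = pb (g ∘ₗ f) ξ :=
  Ext.mk₀_comp_mk₀_assoc _ _ _

theorem pb_id {M : Type u} [AddCommGroup M] [Module A M] {Y : ModuleCat.{u} A} {p : ℕ}
    (ξ : Ext (ModuleCat.of A M) Y p) : pb LinearMap.id ξ = ξ :=
  Ext.mk₀_id_comp ξ

theorem pb_zero {X M : Type u} [AddCommGroup X] [Module A X] [AddCommGroup M] [Module A M]
    {Y : ModuleCat.{u} A} {p : ℕ} (ξ : Ext (ModuleCat.of A M) Y p) :
    pb (0 : X →ₗ[A] M) ξ = 0 := by
  simp [pb, ModuleCat.ofHom_zero]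

theorem pb_sum {X M : Type u} [AddCommGroup X] [Module A X] [AddCommGroup M] [Module A M]
    {Y : ModuleCat.{u} A} {p : ℕ} {ι : Type*} (s : Finset ι) (f : ι → (X →ₗ[A] M))
    (ξ : Ext (ModuleCat.of A M) Y p) : pb (∑ i ∈ s, f i) ξ = ∑ i ∈ s, pb (f i) ξ := by
  classical
  induction s using Finset.induction_on with
  | empty => simp [pb_zero]
  | insert i s hi ih =>
    rw [Finset.sum_insert hi, Finset.sum_insert hi, ← ih]
    simp only [pb, ← Ext.add_comp, ← Ext.mk₀_add]
    rfl

theorem pb_smul {X M : Type u} [AddCommGroup X] [Module A X] [AddCommGroup M] [Module A M]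
    {Y : ModuleCat.{u} A} {p : ℕ} (r : A) (f : X →ₗ[A] M) (ξ : Ext (ModuleCat.of A M) Y p) :
    pb (r • f) ξ = r • pb f ξ := by
  simp only [pb, ← Ext.smul_comp, ← Ext.mk₀_smul]
  rfl

theorem id_eq_sum {J : Ideal A} (n : ℕ) : (LinearMap.id : (Fin n → A ⧸ J) →ₗ[A] Fin n → A ⧸ J) =
    ∑ i, LinearMap.single A (fun _ : Fin n => A ⧸ J) i ∘ₗ LinearMap.proj i := by
  refine LinearMap.ext fun x => funext fun j => ?_
  simp [Pi.single_apply]

theorem killed_pi {J : Ideal A} {n : ℕ} {N : Type u} [AddCommGroup N] [Module A N]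
    (i : N →ₗ[A] Fin n → A ⧸ J) (hi : Function.Injective i) :
    J • (⊤ : Submodule A N) = ⊥ := by
  rw [eq_bot_iff]
  refine Submodule.smul_le.mpr fun a ha x _ => ?_
  rw [Submodule.mem_bot]
  refine hi (funext fun j => ?_)
  rw [map_smul, map_zero, Pi.smul_apply, Pi.zero_apply]
  obtain ⟨b, hb⟩ := Submodule.Quotient.mk_surjective _ (i x j)
  rw [← hb, ← Submodule.Quotient.mk_smul, Submodule.Quotient.mk_eq_zero]
  exact J.mul_mem_right b ha

variable (J : Ideal A) (Y : ModuleCat.{u} A) (p : ℕ)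

/-- `Ext^{<p}` vanishes on finite modules killed by `J`. -/
def Vanish : Prop := ∀ (N : Type u) [AddCommGroup N] [Module A N] [Module.Finite A N],
  J • (⊤ : Submodule A N) = ⊥ → ∀ i < p, Subsingleton (Ext (ModuleCat.of A N) Y i)

variable {J Y p} [IsNoetherianRing A] (hv : Vanish J Y p)

theorem exists_cover (M : Type u) [AddCommGroup M] [Module A M] [Module.Finite A M]
    (hM : J • (⊤ : Submodule A M) = ⊥) :
    ∃ (n : ℕ) (π : (Fin n → A ⧸ J) →ₗ[A] M), Function.Surjective π := by
  obtain ⟨n, f, hf⟩ := Module.Finite.exists_fin' A M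
  have hle : ∀ i, J ≤ LinearMap.ker (f ∘ₗ LinearMap.single A (fun _ : Fin n => A) i) := by
    intro i a ha
    rw [LinearMap.mem_ker]
    have : a • f (Pi.single i 1) ∈ J • (⊤ : Submodule A M) := Submodule.smul_mem_smul ha trivial
    rw [hM, Submodule.mem_bot, ← map_smul] at this
    have h2 : a • (Pi.single i 1 : Fin n → A) = Pi.single i a := by
      rw [← Pi.single_smul]; simp
    rw [h2] at this
    exact this
  refine ⟨n, LinearMap.lsum A (fun _ : Fin n => A ⧸ J) A fun i => Submodule.liftQ J _ (hle i),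
    fun m => ?_⟩
  obtain ⟨x, rfl⟩ := hf m
  refine ⟨fun i => Submodule.Quotient.mk (x i), ?_⟩
  simp only [LinearMap.lsum_apply, LinearMap.sum_apply, LinearMap.comp_apply, LinearMap.proj_apply,
    Submodule.liftQ_apply]
  rw [← map_sum]
  congr 1
  exact Finset.univ_sum_single x

include hv in
theorem pb_injective {n : ℕ} (M : Type u) [AddCommGroup M] [Module A M]
    (π : (Fin n → A ⧸ J) →ₗ[A] M) (hπ : Function.Surjective π) :
    Function.Injective (fun ξ : Ext (ModuleCat.of A M) Y p => pb π ξ) := by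
  have hS := LinearMap.shortExact_shortComplexKer hπ
  change Function.Injective ((Ext.mk₀ (ModuleCat.ofHom π)).precomp Y (zero_add p))
  rw [injective_iff_map_eq_zero]
  intro ξ hξ
  cases p with
  | zero =>
    have : Epi (ModuleCat.ofHom π) := by rwa [ModuleCat.epi_iff_surjective]
    exact (injective_iff_map_eq_zero _).mp
      (Ext.precomp_mk₀_injective_of_epi Y (ModuleCat.ofHom π)) ξ hξ
  | succ p =>
    obtain ⟨γ, hγ⟩ := Ext.contravariant_sequence_exact₃ hS Y ξ hξ (n₀ := p) (add_comm 1 p)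
    have := hv (LinearMap.ker π)
      (killed_pi (LinearMap.ker π).subtype Subtype.val_injective) p (Nat.lt_succ_self p)
    rw [← hγ, this.elim γ 0, Ext.comp_zero]

include hv in
theorem bijective (M : Type u) [AddCommGroup M] [Module A M] [Module.Finite A M]
    (hM : J • (⊤ : Submodule A M) = ⊥) :
    Function.Injective (fun ξ : Ext (ModuleCat.of A M) Y p => fun u : (A ⧸ J) →ₗ[A] M => pb u ξ) ∧
      ∀ g : ((A ⧸ J) →ₗ[A] M) →ₗ[A] Ext (ModuleCat.of A (A ⧸ J)) Y p,
        ∃ ξ : Ext (ModuleCat.of A M) Y p, ∀ u : (A ⧸ J) →ₗ[A] M, g u = pb u ξ := by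
  obtain ⟨n, π, hπ⟩ := exists_cover M hM
  have hinj := pb_injective hv M π hπ
  set ι := fun i : Fin n => LinearMap.single A (fun _ : Fin n => A ⧸ J) i
  have hdec : ∀ (η : Ext (ModuleCat.of A (Fin n → A ⧸ J)) Y p),
      η = ∑ i, pb (LinearMap.proj i) (pb (ι i) η) := by
    intro η
    conv_lhs => rw [← pb_id η, id_eq_sum, pb_sum]
    exact Finset.sum_congr rfl fun i _ => (pb_pb _ _ _).symm
  refine ⟨fun ξ ξ' h => hinj ?_, fun g => ?_⟩
  · dsimp only
    rw [hdec (pb π ξ), hdec (pb π ξ')]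
    refine Finset.sum_congr rfl fun i _ => ?_
    rw [pb_pb (ι i) π, pb_pb (ι i) π]
    exact congrArg _ (congrFun h (π ∘ₗ ι i))
  · let η : Ext (ModuleCat.of A (Fin n → A ⧸ J)) Y p :=
      ∑ i, pb (LinearMap.proj i) (g (π ∘ₗ ι i))
    have hηι : ∀ (c : (A ⧸ J) →ₗ[A] Fin n → A ⧸ J), pb c η = g (π ∘ₗ c) := by
      intro c
      change (Ext.mk₀ (ModuleCat.ofHom c)).precomp Y (zero_add p) η = _
      rw [map_sum]
      have h1 : π ∘ₗ c = ∑ i, (π ∘ₗ ι i) ∘ₗ (LinearMap.proj i ∘ₗ c) := by
        refine LinearMap.ext fun x => ?_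
        simp only [LinearMap.comp_apply, LinearMap.sum_apply, LinearMap.proj_apply, ι,
          LinearMap.coe_single]
        rw [← map_sum]
        exact congrArg π (Finset.univ_sum_single (c x)).symm
      rw [h1, map_sum]
      refine Finset.sum_congr rfl fun i _ => ?_
      refine (pb_pb c (LinearMap.proj i) _).trans ?_
      -- every endomorphism of `A/J` is multiplication by a scalar
      obtain ⟨a, ha⟩ := Submodule.Quotient.mk_surjective _
        ((LinearMap.proj i ∘ₗ c) (Submodule.Quotient.mk (1 : A)))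
      have hc : LinearMap.proj i ∘ₗ c = a • (LinearMap.id : (A ⧸ J) →ₗ[A] A ⧸ J) := by
        refine Submodule.linearMap_qext _ (LinearMap.ext_ring ?_)
        simp only [LinearMap.comp_apply, Submodule.mkQ_apply, LinearMap.smul_apply,
          LinearMap.id_apply]
        rw [← Submodule.Quotient.mk_smul, smul_eq_mul, mul_one]
        exact ha.symm
      rw [hc, pb_smul, pb_id, LinearMap.comp_smul, LinearMap.comp_id, map_smul]
    -- `η` dies on the kernel
    let K := LinearMap.ker π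
    obtain ⟨m, σ, hσ⟩ := exists_cover (J := J) K
      (killed_pi K.subtype Subtype.val_injective)
    have hK : pb K.subtype η = 0 := by
      refine pb_injective hv K σ hσ ?_
      change pb σ (pb K.subtype η) = pb σ 0
      rw [show pb σ (0 : Ext (ModuleCat.of A K) Y p) = 0 from Ext.comp_zero _ _ _ _ (zero_add p)]
      rw [pb_pb]
      have hid := congrArg (fun f => pb f (pb (K.subtype ∘ₗ σ) η)) (id_eq_sum (J := J) m)
      simp only [pb_id, pb_sum] at hid
      rw [hid]
      refine Finset.sum_eq_zero fun j _ => ?_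
      rw [← pb_pb, pb_pb (LinearMap.single A (fun _ : Fin m => A ⧸ J) j) (K.subtype ∘ₗ σ), hηι]
      have h0 : π ∘ₗ (K.subtype ∘ₗ σ) ∘ₗ LinearMap.single A (fun _ : Fin m => A ⧸ J) j = 0 :=
        LinearMap.ext fun x => LinearMap.mem_ker.mp (σ _).2
      rw [h0, map_zero]
      exact Ext.comp_zero _ _ _ _ (zero_add p)
    obtain ⟨ξ, hξ⟩ := Ext.contravariant_sequence_exact₂
      (LinearMap.shortExact_shortComplexKer hπ) Y η hK
    refine ⟨ξ, fun u => ?_⟩
    obtain ⟨y, hy⟩ := hπ (u (Submodule.Quotient.mk 1))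
    let c : (A ⧸ J) →ₗ[A] Fin n → A ⧸ J := Submodule.liftQ J (LinearMap.toSpanSingleton A _ y) (by
      intro a ha
      rw [LinearMap.mem_ker, LinearMap.toSpanSingleton_apply]
      have := killed_pi (J := J) (LinearMap.id : (Fin n → A ⧸ J) →ₗ[A] _) Function.injective_id
      have h2 : a • y ∈ J • (⊤ : Submodule A (Fin n → A ⧸ J)) := Submodule.smul_mem_smul ha trivial
      rw [this, Submodule.mem_bot] at h2
      exact h2)
    have hu : u = π ∘ₗ c := by
      refine Submodule.linearMap_qext _ (LinearMap.ext_ring ?_)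
      simpa [c] using hy.symm
    rw [hu, ← hηι, ← pb_pb]
    exact congrArg _ hξ.symm

end Groth.Agent.Lib.DMod.ExtHomPresent
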