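import Mathlib.RingTheory.Regular.RegularSequence
import Mathlib.Algebra.Homology.DerivedCategory.Ext.ExactSequences
import Mathlib.Algebra.Homology.DerivedCategory.Ext.Linear
import Mathlib.Algebra.Homology.DerivedCategory.Ext.EnoughProjectives
import Mathlib.Algebra.Category.ModuleCat.Ext.HasExt
import Mathlib.Algebra.Category.ModuleCat.Projective
import Mathlib.RingTheory.Ideal.Quotient.Operations
import Mathlib.Algebra.Homology.ShortComplex.ModuleCat

/-!
`Ext` out of the quotient of a ring by a weakly regular sequence.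
-/

universe u

open CategoryTheory Abelian RingTheory.Sequence Pointwise

namespace Groth.Agent.Lib.DMod.ExtRegSeq

variable {A : Type u} [CommRing A]

/-- The quotient `A/I` as an object of `ModuleCat A`. -/
abbrev Q (I : Ideal A) : ModuleCat.{u} A := ModuleCat.of A (A ⧸ I)

/-- The quotient map `A/I → A/J`. -/
def fac {I J : Ideal A} (h : I ≤ J) : Q I ⟶ Q J :=
  ModuleCat.ofHom (Submodule.mapQ I J LinearMap.id (fun _ ha => h ha))

/-- `A/I → A/I → A/(I + xA)`, the first map being multiplication by `x`. -/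
noncomputable def sc (I : Ideal A) (x : A) : ShortComplex (ModuleCat.{u} A) :=
  ShortComplex.mk (X₁ := Q I) (X₂ := Q I) (X₃ := Q (I ⊔ Ideal.span {x}))
    (x • 𝟙 _) (fac le_sup_left) (by
      refine ModuleCat.hom_ext (LinearMap.ext fun a => ?_)
      obtain ⟨a, rfl⟩ := Submodule.Quotient.mk_surjective _ a
      change Submodule.Quotient.mk (x • a) = 0
      rw [Submodule.Quotient.mk_eq_zero]
      exact Ideal.mem_sup_right (Ideal.mem_span_singleton'.mpr ⟨a, by rw [smul_eq_mul, mul_comm]⟩))

theorem sc_shortExact {I : Ideal A} {x : A} (hx : IsSMulRegular (A ⧸ I) x) :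
    (sc I x).ShortExact where
  exact := by
    rw [ShortComplex.moduleCat_exact_iff]
    intro a ha
    obtain ⟨a, rfl⟩ := Submodule.Quotient.mk_surjective _ a
    replace ha : Submodule.Quotient.mk (p := I ⊔ Ideal.span {x}) a = 0 := ha
    rw [Submodule.Quotient.mk_eq_zero] at ha
    obtain ⟨i, hi, j, hj, rfl⟩ := Submodule.mem_sup.mp ha
    obtain ⟨c, rfl⟩ := Ideal.mem_span_singleton'.mp hj
    refine ⟨Submodule.Quotient.mk c, ?_⟩
    change x • Submodule.Quotient.mk (p := I) c = Submodule.Quotient.mk (i + c * x)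
    rw [← Submodule.Quotient.mk_smul, Submodule.Quotient.eq]
    convert I.neg_mem hi using 1
    rw [smul_eq_mul]
    ring
  mono_f := by
    rw [ModuleCat.mono_iff_injective]
    exact hx
  epi_g := by
    rw [ModuleCat.epi_iff_surjective]
    intro a
    obtain ⟨a, rfl⟩ := Submodule.Quotient.mk_surjective _ a
    exact ⟨Submodule.Quotient.mk a, rfl⟩

/-- The class of `0 → A/I → A/I → A/(I + xA) → 0`. -/
noncomputable def cls {I : Ideal A} {x : A} (hx : IsSMulRegular (A ⧸ I) x) :
    Ext (Q (I ⊔ Ideal.span {x})) (Q I) 1 := (sc_shortExact hx).extClass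

/-- `A/I → A/(I + xA)`. -/
abbrev gg (I : Ideal A) (x : A) : Q I ⟶ Q (I ⊔ Ideal.span {x}) := fac le_sup_left

variable {I : Ideal A} {x : A} (hx : IsSMulRegular (A ⧸ I) x) {M : ModuleCat.{u} A} {i : ℕ}

theorem mk₀_f_comp (I : Ideal A) (x : A) {M : ModuleCat.{u} A} {i : ℕ} (α : Ext (Q I) M i) :
    (Ext.mk₀ (x • 𝟙 (Q I))).comp α (zero_add i) = x • α := by
  rw [Ext.mk₀_smul, Ext.smul_comp, Ext.mk₀_id_comp]

theorem exact₁ (γ : Ext (Q I) M i) (h : (cls hx).comp γ (add_comm 1 i) = 0) :
    ∃ β : Ext (Q I) M i, x • β = γ := by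
  obtain ⟨β, hβ⟩ := Ext.contravariant_sequence_exact₁ (sc_shortExact hx) M γ (add_comm 1 i) h
  exact ⟨β, (mk₀_f_comp I x β).symm.trans hβ⟩

include hx in
theorem exact₂ (β : Ext (Q I) M i) (h : x • β = 0) :
    ∃ α : Ext (Q (I ⊔ Ideal.span {x})) M i, (Ext.mk₀ (gg I x)).comp α (zero_add i) = β :=
  Ext.contravariant_sequence_exact₂ (sc_shortExact hx) M β ((mk₀_f_comp I x β).trans h)

theorem exact₃ (α : Ext (Q (I ⊔ Ideal.span {x})) M (i + 1))
    (h : (Ext.mk₀ (gg I x)).comp α (zero_add (i + 1)) = 0) :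
    ∃ γ : Ext (Q I) M i, (cls hx).comp γ (add_comm 1 i) = α :=
  Ext.contravariant_sequence_exact₃ (sc_shortExact hx) M α h (n₀ := i) (add_comm 1 i)

theorem cls_comp_smul (γ : Ext (Q I) M i) : (cls hx).comp (x • γ) (add_comm 1 i) = 0 := by
  rw [← mk₀_f_comp I x γ]
  exact (sc_shortExact hx).extClass_comp_assoc γ

theorem gg_comp_cls (γ : Ext (Q I) M i) :
    (Ext.mk₀ (gg I x)).comp ((cls hx).comp γ (add_comm 1 i)) (zero_add (i + 1)) = 0 :=
  (sc_shortExact hx).comp_extClass_assoc γ _

include hx in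
theorem gg_injective :
    Function.Injective ((Ext.mk₀ (gg I x)).precomp M (zero_add 0)) :=
  have : Epi (gg I x) := (sc_shortExact hx).epi_g
  Ext.precomp_mk₀_injective_of_epi M (gg I x)

theorem isWeaklyRegular_concat {ys : List A} {x : A} (h : IsWeaklyRegular A (ys ++ [x])) :
    IsWeaklyRegular A ys ∧ IsSMulRegular (A ⧸ Ideal.ofList ys) x := by
  rw [isWeaklyRegular_append_iff] at h
  refine ⟨h.1, ?_⟩
  have h2 := ((isWeaklyRegular_cons_iff _ _ _).mp h.2).1
  exact (LinearEquiv.isSMulRegular_congr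
    (Submodule.quotEquivOfEq _ _ (by simp)) x).mp h2

theorem ofList_concat (ys : List A) (x : A) :
    Ideal.ofList (ys ++ [x]) = Ideal.ofList ys ⊔ Ideal.span {x} := by
  rw [Ideal.ofList_append, Ideal.ofList_singleton]

theorem projective_Q_nil : CategoryTheory.Projective (Q (Ideal.ofList ([] : List A))) :=
  have : Module.Projective A (A ⧸ Ideal.ofList ([] : List A)) :=
    Module.Projective.of_equiv
      ((Submodule.quotEquivOfEqBot _ Ideal.ofList_nil).symm)
  inferInstance

/-- `Ext^i(A/J, M)` vanishes for `i` above the length of a regular sequence generating `J`. -/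
theorem subsingleton_ext_of_length_lt (M : ModuleCat.{u} A) : ∀ (ys : List A),
    IsWeaklyRegular A ys → ∀ i, ys.length < i → Subsingleton (Ext (Q (Ideal.ofList ys)) M i) := by
  intro ys
  induction ys using List.reverseRecOn with
  | nil =>
    intro _ i hi
    obtain ⟨i, rfl⟩ := Nat.exists_eq_succ_of_ne_zero hi.ne'
    have := projective_Q_nil (A := A)
    exact subsingleton_of_forall_eq 0 fun α => α.eq_zero_of_projective
  | append_singleton ys x ih =>
    intro h i hi
    obtain ⟨hys, hx⟩ := isWeaklyRegular_concat h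
    rw [ofList_concat]
    simp only [List.length_append, List.length_cons, List.length_nil] at hi
    obtain ⟨i, rfl⟩ := Nat.exists_eq_succ_of_ne_zero (show i ≠ 0 by omega)
    refine subsingleton_of_forall_eq 0 fun α => ?_
    have h1 := ih hys i (by omega)
    have h2 := ih hys (i + 1) (by omega)
    obtain ⟨β, rfl⟩ := exact₃ hx α (h2.elim _ _)
    rw [h1.elim β 0, Ext.comp_zero]

/-- The top `Ext` module out of the quotient by a regular sequence. -/
theorem nonempty_top (M : Type u) [AddCommGroup M] [Module A M] : ∀ (ys : List A),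
    IsWeaklyRegular A ys → Nonempty (Ext (Q (Ideal.ofList ys)) (ModuleCat.of A M) ys.length ≃ₗ[A]
      (M ⧸ (Ideal.ofList ys • (⊤ : Submodule A M)))) := by
  intro ys
  induction ys using List.reverseRecOn with
  | nil =>
    intro _
    exact ⟨Ext.linearEquiv₀.trans (ModuleCat.homLinearEquiv.trans
      (((Submodule.quotEquivOfEqBot _ Ideal.ofList_nil).congrLeft M A).trans
        ((LinearMap.ringLmapEquivSelf A A M).trans
          (Submodule.quotEquivOfEqBot _ (by rw [Ideal.ofList_nil, Submodule.bot_smul])).symm)))⟩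
  | append_singleton ys x ih =>
    intro h
    obtain ⟨hys, hx⟩ := isWeaklyRegular_concat h
    obtain ⟨e⟩ := ih hys
    rw [ofList_concat, show (ys ++ [x]).length = ys.length + 1 by simp]
    set I := Ideal.ofList ys with hI
    have h2 : Subsingleton (Ext (Q I) (ModuleCat.of A M) (ys.length + 1)) :=
      subsingleton_ext_of_length_lt _ ys hys _ (Nat.lt_succ_self _)
    let φ : M →ₗ[A] Ext (Q (I ⊔ Ideal.span {x})) (ModuleCat.of A M) (ys.length + 1) :=
      ((cls hx).precompOfLinear A (ModuleCat.of A M) (add_comm 1 ys.length)) ∘ₗ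
        e.symm.toLinearMap ∘ₗ (I • (⊤ : Submodule A M)).mkQ
    have hφ : Function.Surjective φ := by
      intro α
      obtain ⟨β, hβ⟩ := exact₃ hx α (h2.elim _ _)
      obtain ⟨m, hm⟩ := Submodule.mkQ_surjective _ (e β)
      refine ⟨m, ?_⟩
      change (cls hx).comp (e.symm ((I • (⊤ : Submodule A M)).mkQ m)) (add_comm 1 _) = α
      rw [hm, e.symm_apply_apply]
      exact hβ
    have hker : LinearMap.ker φ = (I ⊔ Ideal.span {x}) • (⊤ : Submodule A M) := by
      rw [Submodule.sup_smul, Submodule.ideal_span_singleton_smul]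
      ext m
      rw [LinearMap.mem_ker, Submodule.mem_sup]
      constructor
      · intro hm
        obtain ⟨β, hβ⟩ := exact₁ hx (e.symm ((I • (⊤ : Submodule A M)).mkQ m)) hm
        obtain ⟨n, hn⟩ := Submodule.mkQ_surjective _ (e β)
        refine ⟨m - x • n, ?_, x • n, Submodule.smul_mem_pointwise_smul _ x ⊤ trivial,
          sub_add_cancel _ _⟩
        have h1 := congrArg e hβ
        rw [e.apply_symm_apply, map_smul, ← hn, Submodule.mkQ_apply, Submodule.mkQ_apply,
          ← Submodule.Quotient.mk_smul] at h1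
        exact (Submodule.Quotient.eq _).mp h1.symm
      · rintro ⟨a, ha, b, hb, rfl⟩
        obtain ⟨n, -, rfl⟩ := (Submodule.mem_smul_pointwise_iff_exists _ _ _).mp hb
        change (cls hx).comp (e.symm ((I • (⊤ : Submodule A M)).mkQ (a + x • n)))
          (add_comm 1 _) = 0
        rw [map_add, map_smul, Submodule.mkQ_apply, (Submodule.Quotient.mk_eq_zero _).mpr ha,
          zero_add, map_smul]
        exact cls_comp_smul hx _
    exact ⟨((φ.quotKerEquivOfSurjective hφ).symm).trans (Submodule.quotEquivOfEq _ _ hker)⟩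

section Killed

variable {J : Ideal A} {M : ModuleCat.{u} A}

/-- For `M` killed by `J`, the element `m` as a map `A/J → M`. -/
def pl (hM : ∀ a ∈ J, ∀ m : M, a • m = 0) (m : M) : Q J ⟶ M :=
  ModuleCat.ofHom (Submodule.liftQ J (LinearMap.toSpanSingleton A M m) fun a ha => hM a ha m)

theorem pl_apply (hM : ∀ a ∈ J, ∀ m : M, a • m = 0) (m : M) (a : A) :
    (pl hM m).hom (Submodule.Quotient.mk a) = a • m := rfl

theorem pl_add (hM : ∀ a ∈ J, ∀ m : M, a • m = 0) (m n : M) :
    pl hM (m + n) = pl hM m + pl hM n :=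
  ModuleCat.hom_ext (LinearMap.ext fun a => by
    obtain ⟨a, rfl⟩ := Submodule.Quotient.mk_surjective _ a
    exact smul_add a m n)

theorem pl_smul (hM : ∀ a ∈ J, ∀ m : M, a • m = 0) (r : A) (m : M) :
    pl hM (r • m) = r • pl hM m :=
  ModuleCat.hom_ext (LinearMap.ext fun a => by
    obtain ⟨a, rfl⟩ := Submodule.Quotient.mk_surjective _ a
    exact smul_comm a r m)

/-- `m ↦ α ≫ m`. -/
noncomputable def ev (hM : ∀ a ∈ J, ∀ m : M, a • m = 0) {X : ModuleCat.{u} A} {i : ℕ}
    (α : Ext X (Q J) i) : M →ₗ[A] Ext X M i where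
  toFun m := α.comp (Ext.mk₀ (pl hM m)) (add_zero i)
  map_add' m n := by rw [pl_add, Ext.mk₀_add, Ext.comp_add]
  map_smul' r m := by rw [pl_smul, Ext.mk₀_smul, Ext.comp_smul, RingHom.id_apply]

/-- `(m_j) ↦ ∑ e_j ≫ m_j`. -/
noncomputable def evSum (hM : ∀ a ∈ J, ∀ m : M, a • m = 0) {X : ModuleCat.{u} A} {i : ℕ}
    {ι : Type} [Fintype ι] (e : ι → Ext X (Q J) i) : (ι → M) →ₗ[A] Ext X M i :=
  ∑ j, (ev hM (e j)).comp (LinearMap.proj j)

theorem evSum_apply (hM : ∀ a ∈ J, ∀ m : M, a • m = 0) {X : ModuleCat.{u} A} {i : ℕ}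
    {ι : Type} [Fintype ι] (e : ι → Ext X (Q J) i) (m : ι → M) :
    evSum hM e m = ∑ j, (e j).comp (Ext.mk₀ (pl hM (m j))) (add_zero i) := by
  simp only [evSum, LinearMap.sum_apply, LinearMap.comp_apply, LinearMap.proj_apply]
  rfl

theorem comp_evSum (hM : ∀ a ∈ J, ∀ m : M, a • m = 0) {X Y : ModuleCat.{u} A} {a i c : ℕ}
    (ξ : Ext Y X a) (h : a + i = c)
    {ι : Type} [Fintype ι] (e : ι → Ext X (Q J) i) (m : ι → M) :
    ξ.comp (evSum hM e m) h = evSum hM (fun j => ξ.comp (e j) h) m := by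
  rw [evSum_apply, evSum_apply]
  change (ξ.precompOfLinear A M h) _ = _
  rw [map_sum]
  refine Finset.sum_congr rfl fun j _ => ?_
  exact (Ext.comp_assoc _ _ _ h (add_zero i) (by omega)).symm

theorem evSum_sum (hM : ∀ a ∈ J, ∀ m : M, a • m = 0) {X : ModuleCat.{u} A} {i : ℕ}
    {ι κ : Type} [Fintype ι] [Fintype κ] (e : ι ⊕ κ → Ext X (Q J) i) (m : ι ⊕ κ → M) :
    evSum hM e m = evSum hM (fun j => e (Sum.inl j)) (fun j => m (Sum.inl j)) +
      evSum hM (fun j => e (Sum.inr j)) (fun j => m (Sum.inr j)) := by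
  rw [evSum_apply, evSum_apply, evSum_apply, Fintype.sum_sum_type]

theorem smul_ext_eq_zero (hM : ∀ a ∈ J, ∀ m : M, a • m = 0) {X : ModuleCat.{u} A} {i : ℕ}
    {x : A} (hx : x ∈ J) (α : Ext X M i) : x • α = 0 := by
  have h0 : x • 𝟙 M = (0 : M ⟶ M) :=
    ModuleCat.hom_ext (LinearMap.ext fun m => hM x hx m)
  rw [Ext.smul_eq_comp_mk₀, h0, Ext.mk₀_zero, Ext.comp_zero]

theorem killed_Q (J : Ideal A) : ∀ a ∈ J, ∀ m : Q J, a • m = 0 := by
  intro a ha m
  obtain ⟨m, rfl⟩ := Submodule.Quotient.mk_surjective _ m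
  change a • Submodule.Quotient.mk (p := J) m = 0
  rw [← Submodule.Quotient.mk_smul, Submodule.Quotient.mk_eq_zero]
  exact J.mul_mem_right m ha

end Killed

/-- The classes spanning `Ext^i(A/ofList ys, -)` on modules killed by `J`. -/
theorem exists_basis (J : Ideal A) : ∀ (ys : List A), IsWeaklyRegular A ys →
    Ideal.ofList ys ≤ J → ∀ i : ℕ, ∃ (ι : Type) (_ : Fintype ι)
      (e : ι → Ext (Q (Ideal.ofList ys)) (Q J) i), Fintype.card ι = ys.length.choose i ∧
      ∀ (M : ModuleCat.{u} A) (hM : ∀ a ∈ J, ∀ m : M, a • m = 0),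
        Function.Bijective (evSum hM e) := by
  intro ys
  induction ys using List.reverseRecOn with
  | nil =>
    intro hreg _ i
    cases i with
    | zero =>
      refine ⟨Unit, inferInstance, fun _ => Ext.mk₀ (fac (Ideal.ofList_nil.trans_le bot_le)),
        rfl, fun M hM => ?_⟩
      have hval : ∀ m : Unit → M, evSum hM (fun _ : Unit => Ext.mk₀
          (fac ((Ideal.ofList_nil (R := A)).trans_le (bot_le : ⊥ ≤ J)))) m =
          Ext.mk₀ (fac ((Ideal.ofList_nil (R := A)).trans_le (bot_le : ⊥ ≤ J)) ≫ pl hM (m ())) := by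
        intro m
        rw [evSum_apply, Fintype.sum_unique, Ext.mk₀_comp_mk₀]
      constructor
      · intro m n hmn
        rw [hval, hval] at hmn
        have h1 := congrArg (fun f => f.hom (Submodule.Quotient.mk 1))
          (Ext.homEquiv₀.symm.injective hmn)
        funext z
        have h2 : ∀ k : Unit → M, (fac ((Ideal.ofList_nil (R := A)).trans_le (bot_le : ⊥ ≤ J)) ≫
            pl hM (k ())).hom (Submodule.Quotient.mk 1) = k () := fun k => one_smul A (k ())
        exact ((h2 m).symm.trans h1).trans (h2 n)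
      · intro α
        obtain ⟨f, rfl⟩ := Ext.homEquiv₀.symm.surjective α
        refine ⟨fun _ => f.hom (Submodule.Quotient.mk 1), ?_⟩
        rw [hval]
        change Ext.mk₀ _ = Ext.mk₀ f
        congr 1
        refine ModuleCat.hom_ext (LinearMap.ext fun a => ?_)
        obtain ⟨a, rfl⟩ := Submodule.Quotient.mk_surjective _ a
        change a • f.hom (Submodule.Quotient.mk 1) = f.hom (Submodule.Quotient.mk a)
        rw [← map_smul, ← Submodule.Quotient.mk_smul, smul_eq_mul, mul_one]
    | succ i =>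
      refine ⟨Fin 0, inferInstance, Fin.elim0, by simp, fun M hM => ?_⟩
      have := subsingleton_ext_of_length_lt M [] hreg (i + 1) (by simp)
      exact ⟨fun m n _ => funext fun j => j.elim0, fun α => ⟨0, Subsingleton.elim _ _⟩⟩
  | append_singleton ys x ih =>
    intro h hle i
    obtain ⟨hys, hx⟩ := isWeaklyRegular_concat h
    rw [ofList_concat] at hle
    have hxJ : x ∈ J := hle (Ideal.mem_sup_right (Ideal.mem_span_singleton_self x))
    have hIJ : Ideal.ofList ys ≤ J := le_sup_left.trans hle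
    rw [show (ys ++ [x]).length = ys.length + 1 by simp]
    rw [ofList_concat]
    set I := Ideal.ofList ys with hI
    have hsurj : ∀ (M : ModuleCat.{u} A), (∀ a ∈ J, ∀ m : M, a • m = 0) → ∀ (j : ℕ)
        (α : Ext (Q I) M j), ∃ β : Ext (Q (I ⊔ Ideal.span {x})) M j,
          (Ext.mk₀ (gg I x)).comp β (zero_add j) = α := fun M hM j α =>
      exact₂ hx α (smul_ext_eq_zero hM hxJ α)
    cases i with
    | zero =>
      obtain ⟨ι, hι, e, hcard, he⟩ := ih hys hIJ 0
      choose e' he' using fun j => hsurj (Q J) (killed_Q J) 0 (e j)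
      refine ⟨ι, hι, e', by simpa using hcard, fun M hM => ?_⟩
      have hcomp : ∀ m, (Ext.mk₀ (gg I x)).comp (evSum hM e' m) (zero_add 0) = evSum hM e m :=
        fun m => (comp_evSum hM _ _ e' m).trans (by simp only [he'])
      refine ⟨fun m n hmn => (he M hM).1 ?_, fun α => ?_⟩
      · rw [← hcomp, ← hcomp, hmn]
      · obtain ⟨m, hm⟩ := (he M hM).2 ((Ext.mk₀ (gg I x)).comp α (zero_add 0))
        exact ⟨m, gg_injective hx ((hcomp m).trans hm)⟩
    | succ i =>
      obtain ⟨ι, hι, e, hcard, he⟩ := ih hys hIJ i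
      obtain ⟨κ, hκ, f, hcardκ, hf⟩ := ih hys hIJ (i + 1)
      choose f' hf' using fun j => hsurj (Q J) (killed_Q J) (i + 1) (f j)
      refine ⟨ι ⊕ κ, inferInstance,
        Sum.elim (fun j => (cls hx).comp (e j) (add_comm 1 i)) f', ?_, fun M hM => ?_⟩
      · rw [Fintype.card_sum, hcard, hcardκ, Nat.choose_succ_succ]
      have hδ : ∀ γ : Ext (Q I) M i, (cls hx).comp γ (add_comm 1 i) = 0 → γ = 0 := by
        intro γ hγ
        obtain ⟨β, rfl⟩ := exact₁ hx γ hγ
        exact smul_ext_eq_zero hM hxJ β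
      have hval : ∀ m, evSum hM (Sum.elim (fun j => (cls hx).comp (e j) (add_comm 1 i)) f') m =
          (cls hx).comp (evSum hM e fun j => m (Sum.inl j)) (add_comm 1 i) +
            evSum hM f' (fun j => m (Sum.inr j)) := fun m => by
        rw [evSum_sum, comp_evSum]
        rfl
      have hgf : ∀ m₂, (Ext.mk₀ (gg I x)).comp (evSum hM f' m₂) (zero_add (i + 1)) =
          evSum hM f m₂ := fun m₂ => by
        rw [comp_evSum]
        simp only [hf']
      have hg : ∀ m, (Ext.mk₀ (gg I x)).comp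
          (evSum hM (Sum.elim (fun j => (cls hx).comp (e j) (add_comm 1 i)) f') m)
            (zero_add (i + 1)) = evSum hM f (fun j => m (Sum.inr j)) := fun m => by
        rw [hval, Ext.comp_add, gg_comp_cls, zero_add, hgf]
      constructor
      · rw [injective_iff_map_eq_zero]
        intro m hm
        have h2 : (fun j => m (Sum.inr j)) = 0 := (hf M hM).1 (by
          rw [← hg, hm, Ext.comp_zero, map_zero])
        have h1 : (fun j => m (Sum.inl j)) = 0 := (he M hM).1 (by
          rw [map_zero]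
          refine hδ _ ?_
          have := (hval m).symm.trans hm
          rw [h2, map_zero, add_zero] at this
          exact this)
        funext j
        cases j with
        | inl j => exact congrFun h1 j
        | inr j => exact congrFun h2 j
      · intro α
        obtain ⟨m₂, hm₂⟩ := (hf M hM).2 ((Ext.mk₀ (gg I x)).comp α (zero_add (i + 1)))
        obtain ⟨γ, hγ⟩ := exact₃ hx (α - evSum hM f' m₂) (by
          change (Ext.mk₀ (gg I x)).precomp M (zero_add (i + 1)) (α - evSum hM f' m₂) = 0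
          rw [map_sub, sub_eq_zero]
          exact hm₂.symm.trans (hgf m₂).symm)
        obtain ⟨m₁, rfl⟩ := (he M hM).2 γ
        refine ⟨Sum.elim m₁ m₂, ?_⟩
        rw [hval]
        exact eq_sub_iff_add_eq.mp hγ

end Groth.Agent.Lib.DMod.ExtRegSeq
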