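import Groth.Prelude.Def_DDual2
import Groth.Agent.Lib.DMod.Basic
import Mathlib.Algebra.Homology.DerivedCategory.Ext.ExactSequences
import Mathlib.Algebra.Category.ModuleCat.Projective
import Mathlib.Algebra.Category.ModuleCat.EpiMono

/-!
An object `Y` with `Hom(R[0], Y[i])` concentrated in one degree, free of rank one there, computes
`Ext_R(-, R)` on finite `R`-modules.
-/

universe u

open CategoryTheory CategoryTheory.Limits Pretriangulated
open Groth.Agent.Lib.DMod Groth.Agent.Lib.DMod.Basic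

attribute [local instance] HasDerivedCategory.standard

namespace Groth.Agent.Lib.DMod.ExtShift

section Triangle

variable {C : Type u} [CommRing C] {Y : Dual.D C} {i j : ℤ}

/-- The translate of a map into `Y⟦i⟧`. -/
noncomputable def sh {X : Dual.D C} (h : i + 1 = j) (g : X ⟶ Y⟦i⟧) : X⟦(1 : ℤ)⟧ ⟶ Y⟦j⟧ :=
  g⟦(1 : ℤ)⟧' ≫ (shiftFunctorAdd' (Dual.D C) i 1 j h).inv.app Y

theorem sh_comp {X X' : Dual.D C} (h : i + 1 = j) (f : X' ⟶ X) (g : X ⟶ Y⟦i⟧) :
    sh h (f ≫ g) = f⟦(1 : ℤ)⟧' ≫ sh h g := by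
  simp [sh]

theorem sh_surjective {X : Dual.D C} (h : i + 1 = j) (g : X⟦(1 : ℤ)⟧ ⟶ Y⟦j⟧) :
    ∃ g₀ : X ⟶ Y⟦i⟧, sh h g₀ = g :=
  ⟨(shiftFunctor (Dual.D C) (1 : ℤ)).preimage (g ≫ (shiftFunctorAdd' (Dual.D C) i 1 j h).hom.app Y),
    by simp [sh]⟩

theorem sh_injective {X : Dual.D C} (h : i + 1 = j) :
    Function.Injective (sh h : (X ⟶ Y⟦i⟧) → _) := fun g g' e => by
  apply (shiftFunctor (Dual.D C) (1 : ℤ)).map_injective
  simp only [sh] at e
  exact (cancel_mono _).1 e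

variable {X₁ X₂ X₃ : Dual.D C} {f₁ : X₁ ⟶ X₂} {g₁ : X₂ ⟶ X₃} {δ : X₃ ⟶ X₁⟦(1 : ℤ)⟧}
  (hT : Triangle.mk f₁ g₁ δ ∈ distTriang (Dual.D C))
include hT

theorem exists_lift₃ (h : i + 1 = j) (f : X₃ ⟶ Y⟦j⟧) (hf : g₁ ≫ f = 0) :
    ∃ g : X₁ ⟶ Y⟦i⟧, f = δ ≫ sh h g := by
  obtain ⟨g, hg⟩ := Triangle.yoneda_exact₃ _ hT f hf
  obtain ⟨g₀, rfl⟩ := sh_surjective h g
  exact ⟨g₀, hg⟩

theorem exists_lift₁ (h : i + 1 = j) (g : X₁ ⟶ Y⟦i⟧) (hg : δ ≫ sh h g = 0) :
    ∃ k : X₂ ⟶ Y⟦i⟧, g = f₁ ≫ k := by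
  obtain ⟨g', hg'⟩ := Triangle.yoneda_exact₃ _ (rot_of_distTriang _ hT) (sh h g) hg
  obtain ⟨k, hk⟩ := sh_surjective h (X := X₂) g'
  refine ⟨-k, sh_injective h (hg'.trans ?_)⟩
  rw [← hk]
  show (-f₁⟦(1 : ℤ)⟧') ≫ sh h k = _
  rw [sh_comp]
  simp [sh, Functor.map_neg, Preadditive.neg_comp, Preadditive.comp_neg]

theorem mor₃_sh_eq_zero (h : i + 1 = j) (k : X₂ ⟶ Y⟦i⟧) : δ ≫ sh h (f₁ ≫ k) = 0 := by
  rw [sh_comp, ← Category.assoc]
  exact (congrArg (· ≫ sh h k) (comp_distTriang_mor_zero₃₁ _ hT)).trans zero_comp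

end Triangle

open Abelian

variable {C R : Type u} [CommRing C] [CommRing R] (φ : C →+* R) (Y : Dual.D C)

/-- An `R`-module as an object of `D(C)`. -/
noncomputable abbrev F : ModuleCat.{u} R ⥤ Dual.D C :=
  ModuleCat.restrictScalars.{u} φ ⋙ DerivedCategory.singleFunctor (ModuleCat.{u} C) 0

/-- Evaluation on a class. -/
noncomputable abbrev Ψ {t : ℤ} (u₀ : (F φ).obj (ModuleCat.of R R) ⟶ Y⟦t⟧) (M : ModuleCat.{u} R)
    (f : M ⟶ ModuleCat.of R R) : (F φ).obj M ⟶ Y⟦t⟧ := (F φ).map f ≫ u₀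

variable {φ Y} {t : ℤ} {u₀ : (F φ).obj (ModuleCat.of R R) ⟶ Y⟦t⟧}

/-- The triangle of a short exact sequence. -/
theorem exists_triangle {S : ShortComplex (ModuleCat.{u} R)} (hS : S.ShortExact) :
    ∃ δ : (F φ).obj S.X₃ ⟶ ((F φ).obj S.X₁)⟦(1 : ℤ)⟧,
      Triangle.mk ((F φ).map S.f) ((F φ).map S.g) δ ∈ distTriang (Dual.D C) :=
  ⟨(hS.map_of_exact (ModuleCat.restrictScalars.{u} φ)).singleTriangle.mor₃,
    (hS.map_of_exact (ModuleCat.restrictScalars.{u} φ)).singleTriangle_distinguished⟩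

/-- A presentation of a finite module. -/
theorem exists_presentation [IsNoetherianRing R] (M : ModuleCat.{u} R) [Module.Finite R M] :
    ∃ (n : ℕ) (S : ShortComplex (ModuleCat.{u} R)), S.ShortExact ∧ Module.Finite R S.X₁ ∧
      Nonempty (S.X₂ ≅ ModuleCat.of R (Fin n → R)) ∧ Nonempty (S.X₃ ≅ M) := by
  obtain ⟨n, p, hp⟩ := Module.Finite.exists_fin' R M
  refine ⟨n, ShortComplex.mk (ModuleCat.ofHom (LinearMap.ker p).subtype) (ModuleCat.ofHom p)
    (ModuleCat.hom_ext (LinearMap.ext fun x => x.2)), ?_,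
    (inferInstance : Module.Finite R (LinearMap.ker p)), ⟨Iso.refl _⟩, ⟨Iso.refl _⟩⟩
  exact { exact := (ShortComplex.ShortExact.moduleCat_exact_iff_function_exact _).2
            (LinearMap.exact_subtype_ker_map p)
          mono_f := (ModuleCat.mono_iff_injective _).2 (Submodule.injective_subtype _)
          epi_g := (ModuleCat.epi_iff_surjective _).2 hp }

/-- `Ext` transported along an isomorphism in the first argument. -/
noncomputable def extCongrLeft {M M' : ModuleCat.{u} R} (e : M ≅ M') (N : ModuleCat.{u} R) (j : ℕ) :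
    Ext.{u} M' N j ≃ Ext.{u} M N j where
  toFun x := (Ext.mk₀ e.hom).comp x (zero_add j)
  invFun x := (Ext.mk₀ e.inv).comp x (zero_add j)
  left_inv x := by simp
  right_inv x := by simp

theorem eq_sum_proj {n : ℕ} {i : ℤ} (g : (F φ).obj (ModuleCat.of R (Fin n → R)) ⟶ Y⟦i⟧) :
    g = ∑ k : Fin n, (F φ).map (ModuleCat.ofHom (LinearMap.proj k : (Fin n → R) →ₗ[R] R)) ≫
      ((F φ).map (ModuleCat.ofHom (LinearMap.single R (fun _ : Fin n => R) k)) ≫ g) := by
  have h : 𝟙 (ModuleCat.of R (Fin n → R)) = ∑ k : Fin n,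
      ModuleCat.ofHom (LinearMap.proj k : (Fin n → R) →ₗ[R] R) ≫
        ModuleCat.ofHom (LinearMap.single R (fun _ : Fin n => R) k) := by
    refine ModuleCat.hom_ext (LinearMap.ext fun x => ?_)
    simp [ModuleCat.hom_sum, LinearMap.sum_apply, Finset.univ_sum_single]
  conv_lhs => rw [← Category.id_comp g, ← CategoryTheory.Functor.map_id, h, Functor.map_sum,
    Preadditive.sum_comp]
  simp only [Functor.map_comp, Category.assoc]

theorem subsingleton_free (hne : ∀ i, i ≠ t → Subsingleton ((F φ).obj (ModuleCat.of R R) ⟶ Y⟦i⟧))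
    {M : ModuleCat.{u} R} {n : ℕ} (e : M ≅ ModuleCat.of R (Fin n → R)) (i : ℤ) (hi : i ≠ t) :
    Subsingleton ((F φ).obj M ⟶ Y⟦i⟧) := by
  have := hne i hi
  have : Subsingleton ((F φ).obj (ModuleCat.of R (Fin n → R)) ⟶ Y⟦i⟧) :=
    subsingleton_of_forall_eq 0 fun g => by
      rw [eq_sum_proj g]
      refine Finset.sum_eq_zero fun k _ => ?_
      rw [Subsingleton.elim ((F φ).map (ModuleCat.ofHom (LinearMap.single R (fun _ : Fin n => R) k)) ≫ g) 0,
        comp_zero]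
  exact (Iso.homCongr ((F φ).mapIso e) (Iso.refl _)).subsingleton

variable [IsNoetherianRing R]

theorem vanish_below (c : ℤ) (hY : Y.IsGE c)
    (hne : ∀ i, i ≠ t → Subsingleton ((F φ).obj (ModuleCat.of R R) ⟶ Y⟦i⟧)) :
    ∀ (m : ℕ) (i : ℤ), i < t → i < c + m → ∀ (M : ModuleCat.{u} R) [Module.Finite R M],
      Subsingleton ((F φ).obj M ⟶ Y⟦i⟧) := by
  intro m
  induction m with
  | zero =>
    intro i _ hic M _
    refine subsingleton_of_forall_eq 0 fun f => ?_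
    have : (Y⟦i⟧).IsGE (c - i) := DerivedCategory.TStructure.t.isGE_shift Y c i _ (by lia)
    have : (Y⟦i⟧).IsGE 1 := DerivedCategory.TStructure.t.isGE_of_ge _ 1 (c - i) (by lia)
    have : DerivedCategory.TStructure.t.IsLE ((F φ).obj M) 0 :=
      inferInstanceAs (DerivedCategory.IsLE (Dual.inD C ((ModuleCat.restrictScalars.{u} φ).obj M)) 0)
    exact DerivedCategory.TStructure.t.zero f 0 1
  | succ m ih =>
    intro i hit hic M _
    obtain ⟨n, S, hS, hfin, ⟨e₂⟩, ⟨e₃⟩⟩ := exists_presentation M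
    obtain ⟨δ, hT⟩ := exists_triangle (φ := φ) hS
    have := ih (i - 1) (by lia) (by lia) S.X₁
    have h2 := subsingleton_free hne e₂ i (by lia)
    suffices Subsingleton ((F φ).obj S.X₃ ⟶ Y⟦i⟧) from
      (Iso.homCongr ((F φ).mapIso e₃.symm) (Iso.refl _)).subsingleton
    refine subsingleton_of_forall_eq 0 fun f => ?_
    obtain ⟨g, hg⟩ := exists_lift₃ hT (i := i - 1) (j := i) (by lia) f (h2.elim _ _)
    rw [hg, Subsingleton.elim g 0]
    simp [sh]

theorem Ψ_injective (hu₀ : Function.Bijective (Ψ φ Y u₀ (ModuleCat.of R R)))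
    (M : ModuleCat.{u} R) : Function.Injective (Ψ φ Y u₀ M) := by
  intro f f' h
  refine ModuleCat.hom_ext (LinearMap.ext fun x => ?_)
  let ι : ModuleCat.of R R ⟶ M := ModuleCat.ofHom (LinearMap.toSpanSingleton R M x)
  have : ι ≫ f = ι ≫ f' := hu₀.1 (by
    show (F φ).map (ι ≫ f) ≫ u₀ = (F φ).map (ι ≫ f') ≫ u₀
    rw [Functor.map_comp, Functor.map_comp, Category.assoc, Category.assoc]
    exact congrArg _ h)
  have := congrArg (fun g => g.hom (1 : R)) this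
  simpa [ι] using this

variable (c : ℤ) (hY : Y.IsGE c)
  (hne : ∀ i, i ≠ t → Subsingleton ((F φ).obj (ModuleCat.of R R) ⟶ Y⟦i⟧))
  (hu₀ : Function.Bijective (Ψ φ Y u₀ (ModuleCat.of R R)))
include hY hne hu₀

theorem Ψ_surjective (M : ModuleCat.{u} R) [Module.Finite R M] :
    Function.Surjective (Ψ φ Y u₀ M) := by
  intro g
  obtain ⟨n, S, hS, hfin, ⟨e₂⟩, ⟨e₃⟩⟩ := exists_presentation M
  obtain ⟨δ, hT⟩ := exists_triangle (φ := φ) hS
  suffices ∀ g : (F φ).obj S.X₃ ⟶ Y⟦t⟧, ∃ f, Ψ φ Y u₀ S.X₃ f = g by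
    obtain ⟨f, hf⟩ := this ((F φ).map e₃.hom ≫ g)
    refine ⟨e₃.inv ≫ f, ?_⟩
    show (F φ).map (e₃.inv ≫ f) ≫ u₀ = g
    rw [Functor.map_comp, Category.assoc, show (F φ).map f ≫ u₀ = _ from hf, ← Category.assoc,
      ← Functor.map_comp, e₃.inv_hom_id, CategoryTheory.Functor.map_id, Category.id_comp]
  intro g
  have hfree : Function.Surjective (Ψ φ Y u₀ (ModuleCat.of R (Fin n → R))) := fun g => by
    choose f hf using fun k : Fin n =>
      hu₀.2 ((F φ).map (ModuleCat.ofHom (LinearMap.single R (fun _ : Fin n => R) k)) ≫ g)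
    refine ⟨∑ k, ModuleCat.ofHom (LinearMap.proj k : (Fin n → R) →ₗ[R] R) ≫ f k, ?_⟩
    show (F φ).map (∑ k, _) ≫ u₀ = g
    rw [Functor.map_sum, Preadditive.sum_comp]
    conv_rhs => rw [eq_sum_proj g]
    refine Finset.sum_congr rfl fun k _ => ?_
    rw [Functor.map_comp, Category.assoc]
    exact congrArg _ (hf k)
  obtain ⟨h, hh⟩ := hfree ((F φ).map e₂.inv ≫ (F φ).map S.g ≫ g)
  let h₂ : S.X₂ ⟶ ModuleCat.of R R := e₂.hom ≫ h
  have hh₂ : Ψ φ Y u₀ S.X₂ h₂ = (F φ).map S.g ≫ g := by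
    show (F φ).map (e₂.hom ≫ h) ≫ u₀ = _
    rw [Functor.map_comp, Category.assoc, show (F φ).map h ≫ u₀ = _ from hh, ← Category.assoc,
      ← Functor.map_comp, e₂.hom_inv_id, CategoryTheory.Functor.map_id, Category.id_comp]
  have hk : S.f ≫ h₂ = 0 := Ψ_injective hu₀ S.X₁ (by
    show (F φ).map (S.f ≫ h₂) ≫ u₀ = (F φ).map 0 ≫ u₀
    rw [Functor.map_comp, Category.assoc, show (F φ).map h₂ ≫ u₀ = _ from hh₂, ← Category.assoc,
      ← Functor.map_comp, S.zero]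
    simp)
  have := hS.epi_g
  refine ⟨hS.exact.desc h₂ hk, sub_eq_zero.1 ?_⟩
  have h0 : (F φ).map S.g ≫ (Ψ φ Y u₀ S.X₃ (hS.exact.desc h₂ hk) - g) = 0 := by
    rw [Preadditive.comp_sub, ← Category.assoc, ← Functor.map_comp, hS.exact.g_desc,
      show (F φ).map h₂ ≫ u₀ = _ from hh₂, sub_self]
  obtain ⟨w, hw⟩ := exists_lift₃ hT (i := t - 1) (j := t) (by lia) _ h0
  have := vanish_below c hY hne (t - c).toNat (t - 1) (by lia) (by lia) S.X₁
  rw [hw, Subsingleton.elim w 0]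
  simp [sh]

/-- Comparison with `Ext(-, R)`. -/
theorem subsingleton_iff_ext : ∀ (j : ℕ) (M : ModuleCat.{u} R) [Module.Finite R M],
    Subsingleton ((F φ).obj M ⟶ Y⟦t + (j + 1 : ℕ)⟧) ↔
      Subsingleton (Ext.{u} M (ModuleCat.of R R) (j + 1)) := by
  intro j
  induction j with
  | zero =>
    intro M _
    obtain ⟨n, S, hS, hfin, ⟨e₂⟩, ⟨e₃⟩⟩ := exists_presentation M
    have : Module.Finite R S.X₃ := Module.Finite.equiv e₃.toLinearEquiv.symm
    have : Module.Finite R S.X₂ := Module.Finite.equiv e₂.toLinearEquiv.symm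
    obtain ⟨δ, hT⟩ := exists_triangle (φ := φ) hS
    have : Projective S.X₂ := by
      have : Projective (ModuleCat.of R (Fin n → R)) :=
        ModuleCat.projective_of_free (Pi.basisFun R (Fin n))
      exact Projective.of_iso e₂.symm inferInstance
    have h2 := subsingleton_free hne e₂ (t + (0 + 1 : ℕ)) (by lia)
    suffices Subsingleton ((F φ).obj S.X₃ ⟶ Y⟦t + (0 + 1 : ℕ)⟧) ↔
        Subsingleton (Ext.{u} S.X₃ (ModuleCat.of R R) (0 + 1)) by
      refine ((Iso.homCongr ((F φ).mapIso e₃.symm) (Iso.refl _)).subsingleton_congr).trans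
        (this.trans ?_)
      exact ((extCongrLeft e₃ _ _).symm).subsingleton_congr
    constructor
    · intro h
      refine subsingleton_of_forall_eq 0 fun x => ?_
      obtain ⟨x₁, hx₁⟩ := Ext.contravariant_sequence_exact₃ hS _ x (Ext.eq_zero_of_projective _)
        (n₀ := 0) (by rfl)
      obtain ⟨k, rfl⟩ := Ext.mk₀_bijective _ _ |>.2 x₁
      obtain ⟨q, hq⟩ := exists_lift₁ hT (i := t) (j := t + (0 + 1 : ℕ)) (by lia) (Ψ φ Y u₀ S.X₁ k)
        (h.elim _ _)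
      obtain ⟨f, rfl⟩ := Ψ_surjective c hY hne hu₀ S.X₂ q
      have hk : k = S.f ≫ f := Ψ_injective hu₀ S.X₁ (by
        show _ = (F φ).map (S.f ≫ f) ≫ u₀
        rw [Functor.map_comp, Category.assoc]
        exact hq)
      rw [← hx₁, hk, ← Ext.mk₀_comp_mk₀, hS.extClass_comp_assoc]
      all_goals simp
    · intro h
      refine subsingleton_of_forall_eq 0 fun f => ?_
      obtain ⟨g, hg⟩ := exists_lift₃ hT (i := t) (j := t + (0 + 1 : ℕ)) (by lia) f (h2.elim _ _)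
      obtain ⟨k, rfl⟩ := Ψ_surjective c hY hne hu₀ S.X₁ g
      obtain ⟨x₂, hx₂⟩ := Ext.contravariant_sequence_exact₁ hS (ModuleCat.of R R) (Ext.mk₀ k)
        (n₁ := 0 + 1) (by rfl) (h.elim _ _)
      obtain ⟨k₂, rfl⟩ := Ext.mk₀_bijective _ _ |>.2 x₂
      rw [Ext.mk₀_comp_mk₀] at hx₂
      have hk : k = S.f ≫ k₂ := (Ext.mk₀_bijective _ _).1 hx₂.symm
      rw [hg, hk]
      show δ ≫ sh _ ((F φ).map (S.f ≫ k₂) ≫ u₀) = 0
      rw [Functor.map_comp, Category.assoc]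
      exact mor₃_sh_eq_zero hT _ _
  | succ j ih =>
    intro M _
    obtain ⟨n, S, hS, hfin, ⟨e₂⟩, ⟨e₃⟩⟩ := exists_presentation M
    obtain ⟨δ, hT⟩ := exists_triangle (φ := φ) hS
    have : Projective S.X₂ := by
      have : Projective (ModuleCat.of R (Fin n → R)) :=
        ModuleCat.projective_of_free (Pi.basisFun R (Fin n))
      exact Projective.of_iso e₂.symm inferInstance
    have h2 := subsingleton_free hne e₂ (t + (j + 1 + 1 : ℕ)) (by lia)
    have h2' := subsingleton_free hne e₂ (t + (j + 1 : ℕ)) (by lia)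
    suffices Subsingleton ((F φ).obj S.X₃ ⟶ Y⟦t + (j + 1 + 1 : ℕ)⟧) ↔
        Subsingleton (Ext.{u} S.X₃ (ModuleCat.of R R) (j + 1 + 1)) by
      refine ((Iso.homCongr ((F φ).mapIso e₃.symm) (Iso.refl _)).subsingleton_congr).trans
        (this.trans ?_)
      exact ((extCongrLeft e₃ _ _).symm).subsingleton_congr
    constructor
    · intro h
      have h1 : Subsingleton ((F φ).obj S.X₁ ⟶ Y⟦t + (j + 1 : ℕ)⟧) :=
        subsingleton_of_forall_eq 0 fun g => by
          obtain ⟨q, hq⟩ := exists_lift₁ hT (i := t + (j + 1 : ℕ)) (j := t + (j + 1 + 1 : ℕ))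
            (by lia) g (h.elim _ _)
          rw [hq, h2'.elim q 0, comp_zero]
      have := (ih S.X₁).1 h1
      refine subsingleton_of_forall_eq 0 fun x => ?_
      obtain ⟨x₁, hx₁⟩ := Ext.contravariant_sequence_exact₃ hS _ x (Ext.eq_zero_of_projective _)
        (n₀ := j + 1) (by lia)
      rw [← hx₁, Subsingleton.elim x₁ 0, Ext.comp_zero]
    · intro h
      have h1 : Subsingleton (Ext.{u} S.X₁ (ModuleCat.of R R) (j + 1)) :=
        subsingleton_of_forall_eq 0 fun x => by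
          obtain ⟨x₂, hx₂⟩ := Ext.contravariant_sequence_exact₁ hS (ModuleCat.of R R) x
            (n₁ := j + 1 + 1) (by lia) (h.elim _ _)
          rw [← hx₂, Ext.eq_zero_of_projective x₂, Ext.comp_zero]
      have := (ih S.X₁).2 h1
      refine subsingleton_of_forall_eq 0 fun f => ?_
      obtain ⟨g, hg⟩ := exists_lift₃ hT (i := t + (j + 1 : ℕ)) (j := t + (j + 1 + 1 : ℕ)) (by lia) f
        (h2.elim _ _)
      rw [hg, Subsingleton.elim g 0]
      simp [sh]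

end Groth.Agent.Lib.DMod.ExtShift
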