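import Groth.Agent.Lib.DMod.ExtRegSeq
import Groth.Agent.Lib.DMod.ExtHomPresent
import Groth.Agent.Lib.Depth.Vanish

/-!
Change of rings for `Ext` along the quotient by a weakly regular sequence.
-/

universe u

open CategoryTheory Abelian RingTheory.Sequence
open Groth.Agent.Lib.DMod.ExtHomPresent

namespace Groth.Agent.Lib.DMod.ExtTransfer

variable {T P : Type u} [CommRing T] [CommRing P] [Algebra T P]

/-- Transfer of an additive equivalence along compatible surjections. -/
theorem exists_equiv_of_ker {E E' F F' : Type*} [AddCommGroup E] [AddCommGroup E'] [AddCommGroup F]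
    [AddCommGroup F'] [Module P E] [Module P E'] [Module T F] [Module T F']
    (δ : E →ₗ[P] E') (hδ : Function.Surjective δ) (δ' : F →ₗ[T] F') (hδ' : Function.Surjective δ')
    (e : E ≃+ F) (he : ∀ (t : T) y, e (algebraMap T P t • y) = t • e y)
    (hker : ∀ y, δ y = 0 ↔ δ' (e y) = 0) :
    ∃ e' : E' ≃+ F', ∀ (t : T) y, e' (algebraMap T P t • y) = t • e' y := by
  let φ : E →+ F' := δ'.toAddMonoidHom.comp e.toAddMonoidHom
  have hval : ∀ {y z}, δ y = δ z → φ y = φ z := fun {y z} h => by
    rw [← sub_eq_zero, ← map_sub]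
    exact (hker _).1 (by rw [map_sub, h, sub_self])
  choose σ hσ using hδ
  let f : E' →+ F' :=
    { toFun := fun y => φ (σ y)
      map_zero' := (hval (z := 0) (by rw [hσ, map_zero])).trans (map_zero φ)
      map_add' := fun a b => (hval (z := σ a + σ b) (by rw [map_add, hσ, hσ, hσ])).trans (map_add φ _ _) }
  have hf : ∀ y, f (δ y) = δ' (e y) := fun y => hval (hσ _)
  refine ⟨AddEquiv.ofBijective f ⟨?_, ?_⟩, fun t y => ?_⟩
  · rw [injective_iff_map_eq_zero]
    intro y hy
    rw [← hσ y] at hy ⊢
    rw [hf] at hy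
    exact (hker _).2 hy
  · intro z
    obtain ⟨w, rfl⟩ := hδ' z
    exact ⟨δ (e.symm w), (hf _).trans (by rw [AddEquiv.apply_symm_apply])⟩
  · rw [← hσ y, ← map_smul]
    show f _ = t • f _
    rw [hf, hf, he, map_smul]

variable [IsNoetherianRing T] (hsurj : Function.Surjective (algebraMap T P)) {ws : List T}
  (hreg : IsWeaklyRegular T ws) (hker : RingHom.ker (algebraMap T P) = Ideal.ofList ws)

include hreg in
theorem vanish : Vanish (Ideal.ofList ws) (ModuleCat.of T T) ws.length := by
  intro N _ _ _ hN i hi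
  refine Depth.Vanish.subsingleton_ext_of_isWeaklyRegular (N := ModuleCat.of T N)
    (M := ModuleCat.of T T) (I := Ideal.ofList ws) (k := 1) ?_ hreg
    (fun r hr => Ideal.subset_span hr) hi
  intro a ha
  refine Module.mem_annihilator.mpr fun x => ?_
  rw [pow_one] at ha
  have : a • (x : N) ∈ Ideal.ofList ws • (⊤ : Submodule T N) := Submodule.smul_mem_smul ha trivial
  rwa [hN, Submodule.mem_bot] at this

include hker in
theorem killed (N : Type u) [AddCommGroup N] [Module P N] [Module T N] [IsScalarTower T P N] :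
    Ideal.ofList ws • (⊤ : Submodule T N) = ⊥ := by
  rw [eq_bot_iff]
  refine Submodule.smul_le.mpr fun a ha x _ => ?_
  rw [← hker, RingHom.mem_ker] at ha
  rw [Submodule.mem_bot, ← IsScalarTower.algebraMap_smul P a x, ha, zero_smul]

include hsurj hreg hker in
/-- The class in `Ext^d_T(P, T)` and its universal property in degree zero. -/
theorem exists_class : ∃ ε : Ext (ModuleCat.of T P) (ModuleCat.of T T) ws.length,
    ∀ (X : Type u) [AddCommGroup X] [Module P X] [Module T X] [IsScalarTower T P X]
      [Module.Finite T X],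
      Function.Bijective (fun h : X →ₗ[P] P => pb (h.restrictScalars T) ε) := by
  obtain ⟨e⟩ := ExtRegSeq.nonempty_top T ws hreg
  set J := Ideal.ofList ws with hJ
  let q : (T ⧸ (J • (⊤ : Submodule T T))) ≃ₗ[T] T ⧸ J :=
    Submodule.quotEquivOfEq _ _ (by rw [smul_eq_mul, Ideal.mul_top])
  let ρ : (T ⧸ J) ≃ₗ[T] P := (Submodule.quotEquivOfEq _ _ (by
    ext a; rw [← hker, LinearMap.mem_ker, RingHom.mem_ker]; rfl :
      J = LinearMap.ker (Algebra.linearMap T P))).trans
    ((Algebra.linearMap T P).quotKerEquivOfSurjective hsurj)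
  have hρ : ∀ a : T, ρ (Submodule.Quotient.mk a) = algebraMap T P a := fun a => rfl
  let c : Ext (ModuleCat.of T (T ⧸ J)) (ModuleCat.of T T) ws.length :=
    (e.trans q).symm (Submodule.Quotient.mk 1)
  have hc : ∀ a : T, a • c = (e.trans q).symm (Submodule.Quotient.mk a) := fun a =>
    ((e.trans q).symm.map_smul a (Submodule.Quotient.mk 1)).symm.trans (congrArg (e.trans q).symm
      ((Submodule.Quotient.mk_smul J a (1 : T)).symm.trans (by rw [smul_eq_mul, mul_one])))
  refine ⟨pb ρ.symm.toLinearMap c, fun X _ _ _ _ _ => ?_⟩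
  obtain ⟨hinj, -⟩ := ExtHomPresent.bijective (vanish hreg) X (killed hker X)
  have hkX : ∀ a ∈ J, ∀ x : X, a • x = 0 := fun a ha x => by
    have : a • x ∈ J • (⊤ : Submodule T X) := Submodule.smul_mem_smul ha trivial
    rwa [killed hker X, Submodule.mem_bot] at this
  let pl : X →ₗ[T] (T ⧸ J) →ₗ[T] X :=
    { toFun := fun x => Submodule.liftQ J (LinearMap.toSpanSingleton T X x) fun a ha => hkX a ha x
      map_add' := fun x y => Submodule.linearMap_qext _ (LinearMap.ext_ring (smul_add (1 : T) x y))
      map_smul' := fun r x => Submodule.linearMap_qext _ (LinearMap.ext_ring (smul_comm (1 : T) r x)) }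
  have hpl : ∀ x, pl x (Submodule.Quotient.mk 1) = x := fun x => one_smul T x
  -- endomorphisms of `T/J`
  have hend : ∀ (φ : (T ⧸ J) →ₗ[T] T ⧸ J),
      (e.trans q) (pb φ c) = φ (Submodule.Quotient.mk 1) := fun φ => by
    obtain ⟨a, ha⟩ := Submodule.Quotient.mk_surjective _ (φ (Submodule.Quotient.mk (1 : T)))
    have hφ : φ = a • (LinearMap.id : (T ⧸ J) →ₗ[T] T ⧸ J) := by
      refine Submodule.linearMap_qext _ (LinearMap.ext_ring ?_)
      simp only [LinearMap.comp_apply, Submodule.mkQ_apply, LinearMap.smul_apply, LinearMap.id_apply]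
      rw [← Submodule.Quotient.mk_smul, smul_eq_mul, mul_one]
      exact ha.symm
    rw [hφ, pb_smul, pb_id, hc, LinearEquiv.apply_symm_apply]
    change Submodule.Quotient.mk (p := J) a = a • Submodule.Quotient.mk (p := J) (1 : T)
    rw [← Submodule.Quotient.mk_smul, smul_eq_mul, mul_one]
  have hval : ∀ (h : X →ₗ[P] P) (x : X),
      (e.trans q) (pb (pl x) (pb (h.restrictScalars T) (pb ρ.symm.toLinearMap c))) = ρ.symm (h x) := by
    intro h x
    rw [pb_pb, pb_pb, hend]
    simp only [LinearMap.comp_apply, LinearMap.restrictScalars_apply, hpl]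
    rfl
  constructor
  · intro h h' hh
    refine LinearMap.ext fun x => ρ.symm.injective ?_
    rw [← hval h, ← hval h']
    exact congrArg (fun ξ => (e.trans q) (pb (pl x) ξ)) hh
  · intro ξ
    let f : X →ₗ[T] P :=
      { toFun := fun x => ρ ((e.trans q) (pb (pl x) ξ))
        map_add' := fun x y => by
          rw [map_add pl, show pb (pl x + pl y) ξ = pb (pl x) ξ + pb (pl y) ξ by
              rw [← Ext.add_comp, ← Ext.mk₀_add]; rfl, map_add, map_add]
        map_smul' := fun r x => by
          rw [map_smul, pb_smul, map_smul, map_smul]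
          rfl }
    refine ⟨LinearMap.extendScalarsOfSurjective hsurj f, hinj (funext fun u => ?_)⟩
    have hu : u = pl (u (Submodule.Quotient.mk 1)) :=
      Submodule.linearMap_qext _ (LinearMap.ext_ring (one_smul T _).symm)
    rw [hu]
    apply (e.trans q).injective
    rw [hval]
    exact ρ.symm_apply_apply _

include hsurj hreg hker in
theorem subsingleton_free (n j : ℕ) (hj : ws.length < j) :
    Subsingleton (Ext (ModuleCat.of T (Fin n → P)) (ModuleCat.of T T) j) := by
  have h1 : Subsingleton (Ext (ModuleCat.of T P) (ModuleCat.of T T) j) := by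
    let ρ : (T ⧸ Ideal.ofList ws) ≃ₗ[T] P := (Submodule.quotEquivOfEq _ _ (by
      ext a; rw [← hker, LinearMap.mem_ker, RingHom.mem_ker]; rfl :
        Ideal.ofList ws = LinearMap.ker (Algebra.linearMap T P))).trans
      ((Algebra.linearMap T P).quotKerEquivOfSurjective hsurj)
    have := ExtRegSeq.subsingleton_ext_of_length_lt (ModuleCat.of T T) ws hreg j hj
    refine subsingleton_of_forall_eq 0 fun ξ => ?_
    have h2 : pb ρ.toLinearMap ξ = 0 := Subsingleton.elim _ _
    calc ξ = pb ρ.symm.toLinearMap (pb ρ.toLinearMap ξ) := by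
          rw [pb_pb, show ρ.toLinearMap ∘ₗ ρ.symm.toLinearMap = LinearMap.id from
            LinearMap.ext ρ.apply_symm_apply, pb_id]
      _ = 0 := by rw [h2]; exact Ext.comp_zero _ _ _ _ (zero_add j)
  refine subsingleton_of_forall_eq 0 fun ξ => ?_
  have hid : (LinearMap.id : (Fin n → P) →ₗ[T] Fin n → P) =
      ∑ i, LinearMap.single T (fun _ : Fin n => P) i ∘ₗ LinearMap.proj i := by
    refine LinearMap.ext fun x => funext fun j => ?_
    simp [Pi.single_apply]
  rw [← pb_id ξ, hid, pb_sum]
  refine Finset.sum_eq_zero fun i _ => ?_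
  rw [← pb_pb, h1.elim (pb _ ξ) 0]
  exact Ext.comp_zero _ _ _ _ (zero_add j)

variable [IsNoetherianRing P]

include hsurj hreg hker in
/-- `Ext^i_P(X, P) = Ext^{i+d}_T(X, T)`. -/
theorem exists_equiv : ∀ (i : ℕ) (X : Type u) [AddCommGroup X] [Module P X] [Module T X]
    [IsScalarTower T P X] [Module.Finite P X],
    ∃ e : Ext (ModuleCat.of P X) (ModuleCat.of P P) i ≃+
        Ext (ModuleCat.of T X) (ModuleCat.of T T) (i + ws.length),
      ∀ (t : T) y, e (algebraMap T P t • y) = t • e y := by
  obtain ⟨ε, hε⟩ := exists_class hsurj hreg hker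
  have hfinP : Module.Finite T P :=
    Module.Finite.of_surjective (Algebra.linearMap T P) hsurj
  -- degree zero, naturally
  have zero : ∀ (X : Type u) [AddCommGroup X] [Module P X] [Module T X] [IsScalarTower T P X]
      [Module.Finite P X],
      ∃ e : Ext (ModuleCat.of P X) (ModuleCat.of P P) 0 ≃+
          Ext (ModuleCat.of T X) (ModuleCat.of T T) (0 + ws.length),
        (∀ (t : T) y, e (algebraMap T P t • y) = t • e y) ∧
        ∀ h : X →ₗ[P] P, e (Ext.mk₀ (ModuleCat.ofHom h)) =
          (Ext.mk₀ (ModuleCat.ofHom (h.restrictScalars T))).comp ε (by omega) := by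
    intro X _ _ _ _ _
    have : Module.Finite T X := Module.Finite.trans P X
    let h0 : Ext (ModuleCat.of P X) (ModuleCat.of P P) 0 ≃ₗ[P] (X →ₗ[P] P) :=
      Ext.linearEquiv₀.trans ModuleCat.homLinearEquiv
    let φ : (X →ₗ[P] P) →+ Ext (ModuleCat.of T X) (ModuleCat.of T T) (0 + ws.length) :=
      { toFun := fun h => (Ext.mk₀ (ModuleCat.ofHom (h.restrictScalars T))).comp ε rfl
        map_zero' := by
          rw [show ModuleCat.ofHom ((0 : X →ₗ[P] P).restrictScalars T) = 0 from rfl,
            Ext.mk₀_zero, Ext.zero_comp]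
        map_add' := fun h h' => by
          rw [← Ext.add_comp, ← Ext.mk₀_add]
          rfl }
    have hφ : Function.Bijective φ := by
      have key : ∀ n (hn : 0 + ws.length = n), Function.Bijective (fun h : X →ₗ[P] P =>
          (Ext.mk₀ (ModuleCat.ofHom (h.restrictScalars T))).comp ε hn) := by
        intro n hn
        rw [zero_add] at hn
        subst hn
        exact hε X
      exact key _ rfl
    refine ⟨h0.toAddEquiv.trans (AddEquiv.ofBijective φ hφ), fun t y => ?_, fun h => ?_⟩
    · change φ (h0 (algebraMap T P t • y)) = t • φ (h0 y)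
      rw [map_smul]
      change (Ext.mk₀ (ModuleCat.ofHom ((algebraMap T P t • h0 y).restrictScalars T))).comp ε rfl =
        t • (Ext.mk₀ (ModuleCat.ofHom ((h0 y).restrictScalars T))).comp ε rfl
      rw [← Ext.smul_comp, ← Ext.mk₀_smul]
      congr 2
      refine ModuleCat.hom_ext (LinearMap.ext fun x => ?_)
      exact IsScalarTower.algebraMap_smul P t (h0 y x)
    · change φ (h0 (Ext.mk₀ (ModuleCat.ofHom h))) = φ h
      congr 1
      change ModuleCat.homLinearEquiv (S := P)
        (Ext.linearEquiv₀ (R := P) ((Ext.linearEquiv₀ (R := P)).symm (ModuleCat.ofHom h))) = h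
      rw [LinearEquiv.apply_symm_apply]
      rfl
  intro i
  induction i with
  | zero => intro X _ _ _ _ _; obtain ⟨e, he, -⟩ := zero X; exact ⟨e, he⟩
  | succ i ih =>
    intro X _ _ _ _ _
    obtain ⟨n, π, hπ⟩ := Module.Finite.exists_fin' P X
    let πT : (Fin n → P) →ₗ[T] X := π.restrictScalars T
    have hSP := LinearMap.shortExact_shortComplexKer hπ
    let K := LinearMap.ker π
    let ιT : K →ₗ[T] Fin n → P := K.subtype.restrictScalars T
    have hST : (ShortComplex.mk (ModuleCat.ofHom ιT) (ModuleCat.ofHom πT)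
        (ModuleCat.hom_ext (LinearMap.ext fun x => LinearMap.mem_ker.mp x.2))).ShortExact :=
      { exact := (ShortComplex.ShortExact.moduleCat_exact_iff_function_exact _).mpr
          (fun y => by simpa [ιT, πT, K] using (LinearMap.exact_subtype_ker_map π) y)
        mono_f := (ModuleCat.mono_iff_injective _).mpr Subtype.val_injective
        epi_g := (ModuleCat.epi_iff_surjective _).mpr hπ }
    let δP : Ext (ModuleCat.of P K) (ModuleCat.of P P) i →ₗ[P]
        Ext (ModuleCat.of P X) (ModuleCat.of P P) (i + 1) :=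
      hSP.extClass.precompOfLinear P _ (add_comm 1 i)
    let δT : Ext (ModuleCat.of T K) (ModuleCat.of T T) (i + ws.length) →ₗ[T]
        Ext (ModuleCat.of T X) (ModuleCat.of T T) (i + 1 + ws.length) :=
      hST.extClass.precompOfLinear T _ (by omega)
    have hprojF : Projective (ModuleCat.of P (Fin n → P)) := inferInstance
    have hδP : Function.Surjective δP := fun y => by
      obtain ⟨z, hz⟩ := Ext.contravariant_sequence_exact₃ hSP _ y
        (Ext.eq_zero_of_projective _) (n₀ := i) (add_comm 1 i)
      exact ⟨z, hz⟩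
    have hδT : Function.Surjective δT := fun y => by
      obtain ⟨z, hz⟩ := Ext.contravariant_sequence_exact₃ hST _ y
        ((subsingleton_free hsurj hreg hker n (i + 1 + ws.length) (by omega)).elim _ _)
        (n₀ := i + ws.length) (by omega)
      exact ⟨z, hz⟩
    cases i with
    | zero =>
      obtain ⟨eK, heK, hK⟩ := zero K
      obtain ⟨eF, heF, hF⟩ := zero (Fin n → P)
      refine exists_equiv_of_ker δP hδP δT hδT eK heK fun y => ?_
      -- compatibility with restriction to the kernel
      have hnat : ∀ g : Ext (ModuleCat.of P (Fin n → P)) (ModuleCat.of P P) 0,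
          eK ((Ext.mk₀ (ModuleCat.ofHom K.subtype)).comp g (zero_add 0)) =
            (Ext.mk₀ (ModuleCat.ofHom ιT)).comp (eF g) (zero_add _) := by
        intro g
        obtain ⟨f, rfl⟩ := (Ext.homEquiv₀).symm.surjective g
        obtain ⟨f, rfl⟩ : ∃ f' : (Fin n → P) →ₗ[P] P, ModuleCat.ofHom f' = f := ⟨f.hom, rfl⟩
        change eK ((Ext.mk₀ (ModuleCat.ofHom K.subtype)).comp (Ext.mk₀ (ModuleCat.ofHom f)) (zero_add 0)) =
          (Ext.mk₀ (ModuleCat.ofHom ιT)).comp (eF (Ext.mk₀ (ModuleCat.ofHom f))) (zero_add _)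
        rw [Ext.mk₀_comp_mk₀, ← ModuleCat.ofHom_comp, hK, hF,
          ← Ext.comp_assoc _ _ _ (zero_add 0) rfl (by omega), Ext.mk₀_comp_mk₀]
        rfl
      constructor
      · intro hy
        obtain ⟨g, hg⟩ := Ext.contravariant_sequence_exact₁ hSP _ y (add_comm 1 0) hy
        rw [← hg]
        refine (congrArg δT (hnat g)).trans ?_
        exact hST.extClass_comp_assoc (eF g) (h := show 1 + (0 + ws.length) = 0 + 1 + ws.length by omega)
      · intro hy
        obtain ⟨g, hg⟩ := Ext.contravariant_sequence_exact₁ hST _ (eK y) (by omega) hy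
        obtain ⟨g, rfl⟩ := eF.surjective g
        have : (Ext.mk₀ (ModuleCat.ofHom K.subtype)).comp g (zero_add 0) = y :=
          eK.injective ((hnat g).trans hg)
        rw [← this]
        exact hSP.extClass_comp_assoc g (h := add_comm 1 0)
    | succ i =>
      obtain ⟨eK, heK⟩ := ih K
      refine exists_equiv_of_ker δP hδP δT hδT eK heK fun y => ?_
      constructor
      · intro hy
        obtain ⟨g, hg⟩ := Ext.contravariant_sequence_exact₁ hSP _ y (add_comm 1 (i + 1)) hy
        rw [← hg, Ext.eq_zero_of_projective g, Ext.comp_zero, map_zero, map_zero]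
      · intro hy
        obtain ⟨g, hg⟩ := Ext.contravariant_sequence_exact₁ hST _ (eK y) (by omega) hy
        rw [(subsingleton_free hsurj hreg hker n (i + 1 + ws.length) (by omega)).elim g 0,
          Ext.comp_zero] at hg
        rw [eK.map_eq_zero_iff.1 hg.symm, map_zero]

end Groth.Agent.Lib.DMod.ExtTransfer
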