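import Groth.Agent.Lib.LocalFlat.InjMod
import Groth.Agent.Lib.FlatCx.Ker
import Groth.Agent.Lib.LCFin.ExtLoc
import Mathlib.LinearAlgebra.TensorProduct.Quotient
import Mathlib.RingTheory.Nakayama
import Mathlib.RingTheory.LocalRing.Quotient
import Mathlib.RingTheory.Flat.Stability

/-!
Reduction of modules and their duals to the closed fibre.
-/

universe u

open IsLocalRing TensorProduct

namespace Groth.Agent.Lib.DMod.FibreRed

/-- The extension of the maximal ideal of the base. -/
abbrev fa (R C : Type u) [CommRing R] [CommRing C] [IsLocalRing R] [Algebra R C] : Ideal C :=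
  (maximalIdeal R).map (algebraMap R C)

/-- A reduction map. -/
structure IsRed {C : Type u} [CommRing C] (I : Ideal C) {X X' : Type*} [AddCommGroup X] [Module C X]
    [AddCommGroup X'] [Module (C ⧸ I) X'] (π : X →+ X') : Prop where
  surj : Function.Surjective π
  map_smul : ∀ (c : C) (x : X), π (c • x) = Ideal.Quotient.mk I c • π x
  mem : ∀ x : X, π x = 0 → x ∈ I • (⊤ : Submodule C X)

/-- A reduction map exists. -/
def HasBC {C : Type u} [CommRing C] (I : Ideal C) (X X' : Type*) [AddCommGroup X] [Module C X]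
    [AddCommGroup X'] [Module (C ⧸ I) X'] : Prop := ∃ π : X →+ X', IsRed I π

theorem HasBC.of_equiv {C : Type u} [CommRing C] {I : Ideal C} {X X' Y Y' : Type*} [AddCommGroup X]
    [Module C X] [AddCommGroup X'] [Module (C ⧸ I) X'] [AddCommGroup Y] [Module C Y] [AddCommGroup Y']
    [Module (C ⧸ I) Y'] (e : Y ≃ₗ[C] X) (e' : X' ≃ₗ[C ⧸ I] Y') (h : HasBC I X X') : HasBC I Y Y' := by
  obtain ⟨π, hs, hm, hk⟩ := h
  refine ⟨e'.toAddMonoidHom.comp (π.comp e.toAddMonoidHom), e'.surjective.comp (hs.comp e.surjective),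
    fun c x => ?_, fun x hx => ?_⟩
  · show e' (π (e (c • x))) = Ideal.Quotient.mk I c • e' (π (e x))
    rw [_root_.map_smul, hm, _root_.map_smul]
  · have h1 : e x ∈ I • (⊤ : Submodule C X) := hk _ (e'.map_eq_zero_iff.1 hx)
    have h2 := Submodule.mem_map_of_mem (f := e.symm.toLinearMap) h1
    rw [Submodule.map_smul''] at h2
    simp only [LinearEquiv.coe_coe, e.symm_apply_apply] at h2
    exact Submodule.smul_mono le_rfl le_top h2

section Ker

variable {C : Type u} [CommRing C] {I : Ideal C}

theorem mem_smul_map {X Y : Type*} [AddCommGroup X] [Module C X] [AddCommGroup Y] [Module C Y]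
    (f : X →ₗ[C] Y) {x : X} (hx : x ∈ I • (⊤ : Submodule C X)) : f x ∈ I • (⊤ : Submodule C Y) := by
  have := Submodule.mem_map_of_mem (f := f) hx
  rw [Submodule.map_smul''] at this
  exact Submodule.smul_mono le_rfl le_top this

theorem exists_of_mem_smul {X Y : Type*} [AddCommGroup X] [Module C X] [AddCommGroup Y] [Module C Y]
    (f : X →ₗ[C] Y) (hf : Function.Surjective f) {y : Y} (hy : y ∈ I • (⊤ : Submodule C Y)) :
    ∃ x ∈ I • (⊤ : Submodule C X), f x = y := by
  rw [← LinearMap.range_eq_top.2 hf, ← Submodule.map_top, ← Submodule.map_smul''] at hy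
  exact hy

/-- Reductions of cokernels. -/
theorem hasBC_coker {X Y E X' Y' E' : Type*} [AddCommGroup X] [Module C X] [AddCommGroup Y]
    [Module C Y] [AddCommGroup E] [Module C E] [AddCommGroup X'] [Module (C ⧸ I) X']
    [AddCommGroup Y'] [Module (C ⧸ I) Y'] [AddCommGroup E'] [Module (C ⧸ I) E']
    (u : X →ₗ[C] Y) (δ : Y →ₗ[C] E) (hδ : Function.Surjective δ)
    (hk : ∀ y, δ y = 0 ↔ ∃ x, u x = y) (u' : X' →ₗ[C ⧸ I] Y') (δ' : Y' →ₗ[C ⧸ I] E')
    (hδ' : Function.Surjective δ') (hk' : ∀ y, δ' y = 0 ↔ ∃ x, u' x = y)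
    {πX : X →+ X'} (hπX : Function.Surjective πX) {πY : Y →+ Y'} (hπY : IsRed I πY)
    (hcomm : ∀ x, u' (πX x) = πY (u x)) : HasBC I E E' := by
  let φ : Y →+ E' := δ'.toAddMonoidHom.comp πY
  have hval : ∀ {y z}, δ y = δ z → φ y = φ z := fun {y z} h => by
    rw [← sub_eq_zero, ← map_sub]
    obtain ⟨x, hx⟩ := (hk _).1 (show δ (y - z) = 0 by rw [map_sub, h, sub_self])
    exact (hk' _).2 ⟨πX x, by rw [hcomm, hx]⟩
  choose σ hσ using hδ
  let f : E →+ E' :=
    { toFun := fun e => φ (σ e)
      map_zero' := (hval (z := 0) (by rw [hσ, map_zero])).trans (map_zero φ)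
      map_add' := fun a b =>
        (hval (z := σ a + σ b) (by rw [map_add, hσ, hσ, hσ])).trans (map_add φ _ _) }
  have hf : ∀ y, f (δ y) = δ' (πY y) := fun y => hval (hσ _)
  refine ⟨f, fun z => ?_, fun c e => ?_, fun e he => ?_⟩
  · obtain ⟨w, rfl⟩ := hδ' z
    obtain ⟨y, rfl⟩ := hπY.surj w
    exact ⟨δ y, hf y⟩
  · rw [← hσ e, ← _root_.map_smul, hf, hf, hπY.map_smul, _root_.map_smul]
  · rw [← hσ e] at he ⊢
    rw [hf] at he
    obtain ⟨x', hx'⟩ := (hk' _).1 he
    obtain ⟨x, rfl⟩ := hπX x'
    have h1 : σ e - u x ∈ I • (⊤ : Submodule C Y) :=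
      hπY.mem _ (by rw [map_sub, ← hx', hcomm, sub_self])
    have h2 : δ (σ e - u x) = δ (σ e) := by rw [map_sub, (hk (u x)).2 ⟨x, rfl⟩, sub_zero]
    rw [← h2]
    exact mem_smul_map δ h1

end Ker

variable {R C : Type u} [CommRing R] [CommRing C] [IsLocalRing R] [Algebra R C]
  {M : Type u} [AddCommGroup M] [Module C M] [Module R M] [IsScalarTower R C M]
  {N : Type u} [AddCommGroup N] [Module C N] [Module R N] [IsScalarTower R C N]

theorem mem_fa_iff (x : M) : x ∈ fa R C • (⊤ : Submodule C M) ↔
    ((1 : R ⧸ maximalIdeal R) ⊗ₜ[R] x) = 0 := by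
  have h : x ∈ fa R C • (⊤ : Submodule C M) ↔ x ∈ maximalIdeal R • (⊤ : Submodule R M) := by
    rw [← Submodule.restrictScalars_mem R, Ideal.smul_restrictScalars,
      Submodule.restrictScalars_top]
  rw [h, ← (TensorProduct.quotTensorEquivQuotSMul M (maximalIdeal R)).map_eq_zero_iff]
  rw [show (TensorProduct.quotTensorEquivQuotSMul M (maximalIdeal R))
      ((1 : R ⧸ maximalIdeal R) ⊗ₜ[R] x) = Submodule.Quotient.mk x by
    rw [show (1 : R ⧸ maximalIdeal R) = Ideal.Quotient.mk _ 1 from rfl,
      TensorProduct.quotTensorEquivQuotSMul_mk_tmul, one_smul]]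
  exact (Submodule.Quotient.mk_eq_zero _).symm

theorem exists_one_tmul (z : (R ⧸ maximalIdeal R) ⊗[R] M) : ∃ x : M, z = 1 ⊗ₜ x := by
  induction z using TensorProduct.induction_on with
  | zero => exact ⟨0, (TensorProduct.tmul_zero _ _).symm⟩
  | tmul a x =>
    obtain ⟨r, rfl⟩ := Ideal.Quotient.mk_surjective a
    refine ⟨r • x, ?_⟩
    rw [← TensorProduct.smul_tmul, Algebra.smul_def, mul_one]
    rfl
  | add a b ha hb =>
    obtain ⟨x, rfl⟩ := ha
    obtain ⟨y, rfl⟩ := hb
    exact ⟨x + y, (TensorProduct.tmul_add _ _ _).symm⟩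

/-- A map with flat cokernel is injective on the closed fibre. -/
theorem mem_fa_of_flat {P : Type u} [AddCommGroup P] [Module C P] [Module R P] [IsScalarTower R C P]
    [Module.Flat R P] (u : M →ₗ[C] N) (v : N →ₗ[C] P) (hu : Function.Injective u)
    (hv : Function.Surjective v) (hex : Function.Exact u v) {x : M}
    (hx : u x ∈ fa R C • (⊤ : Submodule C N)) : x ∈ fa R C • (⊤ : Submodule C M) := by
  rw [mem_fa_iff] at hx ⊢
  refine LinearMap.lTensor_injective_of_exact_of_flat (v.restrictScalars R) hv (u.restrictScalars R)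
    hu hex (R ⧸ maximalIdeal R) ?_
  rw [map_zero]
  exact hx

/-- A map injective on the closed fibre into a flat module. -/
theorem injective_flat_coker [IsLocalRing C] [IsNoetherianRing C] [IsLocalHom (algebraMap R C)]
    [Module.Flat R N] [Module.Finite C M] (u : M →ₗ[C] N)
    (h : ∀ x, u x ∈ fa R C • (⊤ : Submodule C N) → x ∈ fa R C • (⊤ : Submodule C M)) :
    Function.Injective u ∧ Module.Flat R (N ⧸ LinearMap.range u) := by
  have hk : Function.Injective ((u.restrictScalars R).lTensor (ResidueField R)) := by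
    show Function.Injective ((u.restrictScalars R).lTensor (R ⧸ maximalIdeal R))
    rw [injective_iff_map_eq_zero]
    intro z hz
    obtain ⟨x, rfl⟩ := exists_one_tmul z
    rw [← mem_fa_iff (C := C)]
    refine h x ?_
    rw [mem_fa_iff]
    exact hz
  refine ⟨LocalFlat.InjMod.injective_of_injective_mod (u.restrictScalars R) hk C, ?_⟩
  have := LocalFlat.InjMod.flat_coker (u.restrictScalars R) hk C
  exact Module.Flat.of_linearEquiv ((Submodule.Quotient.restrictScalarsEquiv R (LinearMap.range u)).symm.trans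
    (Submodule.quotEquivOfEq _ (LinearMap.range (u.restrictScalars R)) (by ext x; rfl)))

theorem fa_le [IsLocalRing C] [IsLocalHom (algebraMap R C)] : fa R C ≤ maximalIdeal C :=
  Ideal.map_le_iff_le_comap.2 fun r hr => by
    rw [Ideal.mem_comap, IsLocalRing.mem_maximalIdeal] at *
    exact map_nonunit _ r hr

/-- Nakayama on the closed fibre. -/
theorem surjective_of_mod [IsLocalRing C] [IsLocalHom (algebraMap R C)] [Module.Finite C N]
    (u : M →ₗ[C] N) (h : ∀ y, ∃ x, y - u x ∈ fa R C • (⊤ : Submodule C N)) : Function.Surjective u := by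
  rw [← LinearMap.range_eq_top, eq_top_iff]
  refine Submodule.le_of_le_smul_of_le_jacobson_bot Module.Finite.fg_top
    ((fa_le (R := R) (C := C)).trans (IsLocalRing.maximalIdeal_le_jacobson _)) fun y _ => ?_
  obtain ⟨x, hx⟩ := h y
  exact Submodule.mem_sup.2 ⟨u x, ⟨x, rfl⟩, _, hx, add_sub_cancel _ _⟩

variable (R C M) in
/-- The closed fibre of a module. -/
abbrev Bar : Type u := M ⧸ fa R C • (⊤ : Submodule C M)

/-- The fibre of a linear map. -/
noncomputable def red (f : M →ₗ[C] N) : Bar R C M →ₗ[C ⧸ fa R C] Bar R C N :=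
  (Submodule.mapQ _ _ f fun _ hx => mem_smul_map f hx).extendScalarsOfSurjective
    Ideal.Quotient.mk_surjective

theorem red_mk (f : M →ₗ[C] N) (x : M) :
    red (R := R) f (Submodule.Quotient.mk x) = Submodule.Quotient.mk (f x) := rfl

theorem red_surjective (f : M →ₗ[C] N) (hf : Function.Surjective f) :
    Function.Surjective (red (R := R) f) := fun y => by
  obtain ⟨y, rfl⟩ := Submodule.Quotient.mk_surjective _ y
  obtain ⟨x, rfl⟩ := hf y
  exact ⟨Submodule.Quotient.mk x, rfl⟩

section Ses

variable {P : Type u} [AddCommGroup P] [Module C P] [Module R P] [IsScalarTower R C P]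
  (u : M →ₗ[C] N) (v : N →ₗ[C] P)

theorem red_injective [Module.Flat R P] (hu : Function.Injective u)
    (hv : Function.Surjective v) (hex : Function.Exact u v) : Function.Injective (red (R := R) u) := by
  rw [injective_iff_map_eq_zero]
  intro x hx
  obtain ⟨x, rfl⟩ := Submodule.Quotient.mk_surjective _ x
  rw [red_mk, Submodule.Quotient.mk_eq_zero] at hx
  rw [Submodule.Quotient.mk_eq_zero]
  exact mem_fa_of_flat u v hu hv hex hx

theorem red_exact (hv : Function.Surjective v) (hex : Function.Exact u v) :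
    Function.Exact (red (R := R) u) (red (R := R) v) := by
  intro y
  obtain ⟨y, rfl⟩ := Submodule.Quotient.mk_surjective _ y
  constructor
  · intro hy
    rw [red_mk, Submodule.Quotient.mk_eq_zero] at hy
    obtain ⟨z, hz, hvz⟩ := exists_of_mem_smul v hv hy
    obtain ⟨x, hx⟩ := (hex (y - z)).1 (by rw [map_sub, hvz, sub_self])
    refine ⟨Submodule.Quotient.mk x, ?_⟩
    rw [red_mk, hx, Submodule.Quotient.mk_sub, (Submodule.Quotient.mk_eq_zero _).2 hz, sub_zero]
  · rintro ⟨x, hx⟩
    obtain ⟨x, rfl⟩ := Submodule.Quotient.mk_surjective _ x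
    rw [← hx, red_mk, red_mk, hex.apply_apply_eq_zero, Submodule.Quotient.mk_zero]

end Ses

/-- The fibre of a functional. -/
noncomputable def ν : (M →ₗ[C] C) →+ (Bar R C M →ₗ[C ⧸ fa R C] C ⧸ fa R C) where
  toFun h := (Submodule.liftQ (fa R C • (⊤ : Submodule C M))
    ((Submodule.mkQ (fa R C)).comp h) (Submodule.smul_le.2 fun a ha x _ => by
      rw [LinearMap.mem_ker, LinearMap.comp_apply, _root_.map_smul, Submodule.mkQ_apply,
        Submodule.Quotient.mk_eq_zero]
      exact (fa R C).mul_mem_right _ ha)).extendScalarsOfSurjective Ideal.Quotient.mk_surjective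
  map_zero' := LinearMap.ext fun x => by
    obtain ⟨x, rfl⟩ := Submodule.Quotient.mk_surjective _ x
    rfl
  map_add' f g := LinearMap.ext fun x => by
    obtain ⟨x, rfl⟩ := Submodule.Quotient.mk_surjective _ x
    rfl

theorem ν_mk (h : M →ₗ[C] C) (x : M) :
    ν (R := R) h (Submodule.Quotient.mk x) = Ideal.Quotient.mk (fa R C) (h x) := rfl

theorem ν_smul (c : C) (h : M →ₗ[C] C) :
    ν (R := R) (c • h) = Ideal.Quotient.mk (fa R C) c • ν (R := R) h := LinearMap.ext fun x => by
  obtain ⟨x, rfl⟩ := Submodule.Quotient.mk_surjective _ x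
  exact map_mul (Ideal.Quotient.mk (fa R C)) c (h x)

theorem ν_comp (h : N →ₗ[C] C) (f : M →ₗ[C] N) :
    ν (R := R) (h ∘ₗ f) = ν (R := R) h ∘ₗ red (R := R) f := LinearMap.ext fun x => by
  obtain ⟨x, rfl⟩ := Submodule.Quotient.mk_surjective _ x
  rfl

variable (R C M) in
/-- Duality commutes with passing to the fibre. -/
def Good : Prop := IsRed (fa R C) (ν (R := R) (C := C) (M := M))

theorem good_free [Module.Free C M] [Module.Finite C M] : Good R C M := by
  classical
  let b := Module.Free.chooseBasis C M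
  refine ⟨fun g => ?_, fun c h => ν_smul c h, fun h hh => ?_⟩
  · choose a ha using fun i => Ideal.Quotient.mk_surjective (g (Submodule.Quotient.mk (b i)))
    refine ⟨b.constr C a, LinearMap.ext fun x => ?_⟩
    obtain ⟨x, rfl⟩ := Submodule.Quotient.mk_surjective _ x
    have key : (Submodule.mkQ (fa R C)).comp (b.constr C a) =
        (g.restrictScalars C).comp (Submodule.mkQ (fa R C • (⊤ : Submodule C M))) :=
      b.ext fun i => by
        rw [LinearMap.comp_apply, b.constr_basis]
        exact ha i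
    exact LinearMap.congr_fun key x
  · have hsum : h = ∑ i, h (b i) • b.coord i := b.ext fun j => by
      simp [Finsupp.single_apply]
    rw [hsum]
    refine Submodule.sum_mem _ fun i _ => Submodule.smul_mem_smul ?_ trivial
    have := LinearMap.congr_fun hh (Submodule.Quotient.mk (b i))
    rw [ν_mk, LinearMap.zero_apply, Ideal.Quotient.eq_zero_iff_mem] at this
    exact this

theorem flat_dual_free [Module.Flat R C] [Module.Free C M] [Module.Finite C M] :
    Module.Flat R (M →ₗ[C] C) :=
  have : Module.Free C (M →ₗ[C] C) :=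
    Module.Free.of_equiv ((Module.Free.chooseBasis C M).constr C)
  Module.Flat.trans R C _

/-- A flat module with free fibre is free. -/
theorem free_of_red_free [IsLocalRing C] [IsNoetherianRing C] [IsLocalHom (algebraMap R C)]
    [Module.Flat R M] [Module.Finite C M] [Module.Free (C ⧸ fa R C) (Bar R C M)] :
    Module.Free C M := by
  classical
  have : Module.Finite (C ⧸ fa R C) (Bar R C M) := Module.Finite.of_restrictScalars_finite C _ _
  have : Nontrivial (C ⧸ fa R C) := Ideal.Quotient.nontrivial_iff.2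
    (fun h => (maximalIdeal.isMaximal C).ne_top (top_le_iff.1 (h ▸ fa_le)))
  let b := Module.Free.chooseBasis (C ⧸ fa R C) (Bar R C M)
  choose m hm using fun i => Submodule.Quotient.mk_surjective _ (b i)
  let φ := Fintype.linearCombination C m
  have hφmk : ∀ x, (Submodule.Quotient.mk (φ x) : Bar R C M) =
      ∑ i, Ideal.Quotient.mk (fa R C) (x i) • b i := fun x => by
    rw [← Submodule.mkQ_apply, Fintype.linearCombination_apply, map_sum]
    refine Finset.sum_congr rfl fun i _ => ?_
    rw [_root_.map_smul, Submodule.mkQ_apply, hm]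
    rfl
  have hsurj : Function.Surjective φ := surjective_of_mod φ fun y => by
    choose x hx using fun i => Ideal.Quotient.mk_surjective
      (b.repr (Submodule.Quotient.mk y : Bar R C M) i)
    refine ⟨x, (Submodule.Quotient.eq _).1 ?_⟩
    rw [hφmk, ← b.sum_repr (Submodule.Quotient.mk y : Bar R C M)]
    simp only [hx]
  have hmem : ∀ x, φ x ∈ fa R C • (⊤ : Submodule C M) →
      x ∈ fa R C • (⊤ : Submodule C (Module.Free.ChooseBasisIndex (C ⧸ fa R C) (Bar R C M) → C)) := by
    intro x hx
    rw [← Submodule.Quotient.mk_eq_zero, hφmk] at hx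
    have hx0 := Fintype.linearIndependent_iff.1 b.linearIndependent _ hx
    have hsum : x = ∑ i, x i • (Pi.single i (1 : C) : _ → C) := by
      funext j
      simp [Pi.single_apply]
    rw [hsum]
    exact Submodule.sum_mem _ fun i _ =>
      Submodule.smul_mem_smul (Ideal.Quotient.eq_zero_iff_mem.1 (hx0 i)) trivial
  obtain ⟨hinj, -⟩ := injective_flat_coker φ hmem
  exact Module.Free.of_equiv (LinearEquiv.ofBijective φ ⟨hinj, hsurj⟩)

end Groth.Agent.Lib.DMod.FibreRed
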