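import Groth.Agent.Lib.DMod.Pointwise
import Groth.Agent.Lib.DMod.DepthDegree
import Mathlib.RingTheory.Ideal.MinimalPrime.Noetherian

/-!
Degrees and depths under a flat base change preserving the dualizing complex.
-/

universe u

open CategoryTheory CategoryTheory.Limits Pretriangulated TensorProduct

attribute [local instance] HasDerivedCategory.standard

namespace Groth.Agent.Lib.DMod.FlatDegree

open Groth.Agent.Lib.DMod Groth.Agent.Lib.DMod.FlatHom

variable {A B : Type u} [CommRing A] [CommRing B] [Algebra A B] [Module.Flat A B]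

/-- Supports of flat base changes. -/
theorem mem_support_baseChange {M : Type*} [AddCommGroup M] [Module A M] (P : PrimeSpectrum B)
    (h : PrimeSpectrum.comap (algebraMap A B) P ∈ Module.support A M) :
    P ∈ Module.support B (B ⊗[A] M) := by
  obtain ⟨m, hm⟩ := Module.mem_support_iff'.1 h
  refine Module.mem_support_iff'.2 ⟨1 ⊗ₜ m, fun r hr h0 => ?_⟩
  let I : Ideal A := LinearMap.ker (LinearMap.toSpanSingleton A M m)
  let ι : (A ⧸ I) →ₗ[A] M := I.liftQ (LinearMap.toSpanSingleton A M m) le_rfl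
  have hι : Function.Injective ι := LinearMap.ker_eq_bot.1 (Submodule.ker_liftQ_eq_bot _ _ _ le_rfl)
  have hinj := Module.Flat.lTensor_preserves_injective_linearMap (M := B) ι hι
  have h1 : r ⊗ₜ[A] (Ideal.Quotient.mk I 1) = (0 : B ⊗[A] (A ⧸ I)) := by
    apply hinj
    rw [map_zero, LinearMap.lTensor_tmul,
      show ι (Ideal.Quotient.mk I 1) = m from one_smul A m]
    rw [TensorProduct.smul_tmul', smul_eq_mul, mul_one] at h0
    exact h0
  have h2 : Ideal.Quotient.mk (I.map (algebraMap A B)) r = 0 := by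
    apply (Algebra.TensorProduct.quotIdealMapEquivTensorQuot B I).injective
    rw [map_zero]
    exact h1
  refine hr ?_
  refine Ideal.map_le_iff_le_comap.2 (fun a ha => ?_) (Ideal.Quotient.eq_zero_iff_mem.1 h2)
  by_contra hc
  exact hm a hc (LinearMap.mem_ker.1 ha)

theorem mem_support_baseChange_iff {M : Type (u + 1)} [AddCommGroup M] [Module A M]
    (P : PrimeSpectrum B) :
    P ∈ Module.support B (B ⊗[A] M) ↔
      PrimeSpectrum.comap (algebraMap A B) P ∈ Module.support A M :=
  ⟨Pointwise.mem_support_of_baseChange P, mem_support_baseChange P⟩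

variable [IsNoetherianRing A] [IsNoetherianRing B] {ω : Dual.D A} (hω : Dual.IsDualizing A ω)
  (hω' : Dual.IsDualizing B ((L A B).obj ω))

include hω

theorem mem_support_hom_iff (P : PrimeSpectrum B) (M : Type u) [AddCommGroup M] [Module A M]
    [Module.Finite A M] (i : ℤ) :
    P ∈ Module.support B (Dual.inD B (B ⊗[A] M) ⟶ ((L A B).obj ω)⟦i⟧) ↔
      PrimeSpectrum.comap (algebraMap A B) P ∈ Module.support A (Dual.inD A M ⟶ ω⟦i⟧) := by
  obtain ⟨c, hc⟩ := FlatDualizing.exists_isGE (FlatDualizing.bddFin_of_dualizing hω)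
  let e : B ⊗[A] (Dual.inD A M ⟶ ω⟦i⟧) ≃ₗ[B]
      (Dual.inD B (B ⊗[A] M) ⟶ ((L A B).obj ω)⟦i⟧) :=
    (LinearEquiv.ofBijective (Φ B (Dual.inD A M) (ω⟦i⟧))
      (bij_inD M (FlatHom.isGE_shift_neg hc i))).trans
      (Linear.homCongr B DR.FlatBC.mapInD (((L A B).commShiftIso i).app ω))
  rw [← e.support_eq, mem_support_baseChange_iff]

include hω'

/-- The degree does not go down. -/
theorem deg_comap_le (P : PrimeSpectrum B) :
    Degree.deg hω (PrimeSpectrum.comap (algebraMap A B) P) ≤ Degree.deg hω' P := by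
  let p := PrimeSpectrum.comap (algebraMap A B) P
  obtain ⟨Q, hQ, hQP⟩ := Ideal.exists_minimalPrimes_le (I := p.asIdeal.map (algebraMap A B))
    (J := P.asIdeal) (Ideal.map_le_iff_le_comap.2 le_rfl)
  let Q' : PrimeSpectrum B := ⟨Q, hQ.1.1⟩
  have hQp : PrimeSpectrum.comap (algebraMap A B) Q' = p :=
    PrimeSpectrum.ext (le_antisymm (Ideal.comap_mono hQP) (Ideal.map_le_iff_le_comap.1 hQ.1.2))
  have h := (mem_support_hom_iff hω Q' (A ⧸ p.asIdeal) (Degree.deg hω p)).2
    (hQp ▸ Degree.mem_support_deg hω p)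
  refine le_trans ?_ (Degree.deg_le hω' (show Q' ≤ P from hQP))
  by_contra hc
  exact Degree.notMem_support_hom_of_outside hω' Q' (B ⊗[A] (A ⧸ p.asIdeal)) _
    (Or.inl (not_le.1 hc)) h

/-- The degree at a prime extended from below. -/
theorem deg_eq_of_map_eq (Q : PrimeSpectrum B)
    (hQ : (PrimeSpectrum.comap (algebraMap A B) Q).asIdeal.map (algebraMap A B) = Q.asIdeal) :
    Degree.deg hω' Q = Degree.deg hω (PrimeSpectrum.comap (algebraMap A B) Q) := by
  let q := PrimeSpectrum.comap (algebraMap A B) Q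
  let e : (B ⊗[A] (A ⧸ q.asIdeal)) ≃ₗ[B] (B ⧸ Q.asIdeal) :=
    (Algebra.TensorProduct.quotIdealMapEquivTensorQuot B q.asIdeal).symm.toLinearEquiv.trans
      (Submodule.quotEquivOfEq _ _ hQ)
  have h := (mem_support_hom_iff hω Q (A ⧸ q.asIdeal) (Degree.deg hω q)).2
    (Degree.mem_support_deg hω q)
  have h' := HomSupp.mem_support_equiv (Linear.homCongr B
    ((DerivedCategory.singleFunctor (ModuleCat.{u} B) 0).mapIso e.toModuleIso) (Iso.refl _)) h
  exact ((Degree.mem_support_iff_eq_deg hω' Q _).1 h').symm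

/-- The degree at a generic point of a fibre. -/
theorem deg_eq_of_minimal (Q : PrimeSpectrum B)
    (hQ : Q.asIdeal ∈
      ((PrimeSpectrum.comap (algebraMap A B) Q).asIdeal.map (algebraMap A B)).minimalPrimes) :
    Degree.deg hω' Q = Degree.deg hω (PrimeSpectrum.comap (algebraMap A B) Q) := by
  refine le_antisymm ?_ (deg_comap_le hω hω' Q)
  let q := PrimeSpectrum.comap (algebraMap A B) Q
  have h := (mem_support_hom_iff hω Q (A ⧸ q.asIdeal) (Degree.deg hω q)).2
    (Degree.mem_support_deg hω q)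
  by_contra hc
  refine Degree.notMem_support_hom_of_outside hω' Q (B ⊗[A] (A ⧸ q.asIdeal)) _
    (Or.inr fun r hr hrM => ?_) h
  have h1 : q ≤ PrimeSpectrum.comap (algebraMap A B) r := by
    by_contra hc'
    obtain ⟨v, hv, hv'⟩ := SetLike.not_le_iff_exists.1 (show ¬ q.asIdeal ≤ (PrimeSpectrum.comap (algebraMap A B) r).asIdeal from hc')
    obtain ⟨z, hz⟩ := Module.mem_support_iff'.1 hrM
    refine hz (algebraMap A B v) hv' ?_
    rw [algebraMap_smul]
    clear hz
    induction z using TensorProduct.induction_on with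
    | zero => exact smul_zero _
    | tmul b m =>
      obtain ⟨m, rfl⟩ := Submodule.Quotient.mk_surjective _ m
      rw [← TensorProduct.tmul_smul, ← Submodule.Quotient.mk_smul,
        (Submodule.Quotient.mk_eq_zero _).2 (show v • m ∈ q.asIdeal from Ideal.mul_mem_right m q.asIdeal hv),
        TensorProduct.tmul_zero]
    | add x y hx hy => rw [smul_add, hx, hy, add_zero]
  have h2 : r = Q := PrimeSpectrum.ext (le_antisymm hr
    (hQ.2 ⟨r.isPrime, Ideal.map_le_iff_le_comap.2 h1⟩ hr))
  subst h2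
  exact not_le.1 hc

/-- Depths before and after the base change. -/
theorem depth_eq (P : PrimeSpectrum B) (M : Type u) [AddCommGroup M] [Module A M] [Module.Finite A M]
    (hM : PrimeSpectrum.comap (algebraMap A B) P ∈ Module.support A M) :
    ∃ n m : ℕ,
      LocCoh.depth (Localization.AtPrime (PrimeSpectrum.comap (algebraMap A B) P).asIdeal)
        (LocalizedModule (PrimeSpectrum.comap (algebraMap A B) P).asIdeal.primeCompl M) = n ∧
      LocCoh.depth (Localization.AtPrime P.asIdeal)
        (LocalizedModule P.asIdeal.primeCompl (B ⊗[A] M)) = m ∧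
      (m : ℤ) - n =
        Degree.deg hω' P - Degree.deg hω (PrimeSpectrum.comap (algebraMap A B) P) := by
  obtain ⟨n, hn, hnmem, hnmax⟩ := DepthDegree.depth_eq hω _ M hM
  obtain ⟨m, hm, hmmem, hmmax⟩ := DepthDegree.depth_eq hω' P (B ⊗[A] M) (mem_support_baseChange P hM)
  refine ⟨n, m, hn, hm, ?_⟩
  have h1 : ¬ Degree.deg hω' P - (m : ℤ) <
      Degree.deg hω (PrimeSpectrum.comap (algebraMap A B) P) - n := fun h =>
    hmmax _ h ((mem_support_hom_iff hω P M _).2 hnmem)
  have h2 : ¬ Degree.deg hω (PrimeSpectrum.comap (algebraMap A B) P) - (n : ℤ) <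
      Degree.deg hω' P - m := fun h => hnmax _ h ((mem_support_hom_iff hω P M _).1 hmmem)
  lia

end Groth.Agent.Lib.DMod.FlatDegree
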