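import Groth.Prelude.Def_DDual2
import Groth.Agent.Lib.DMod.Basic
import Groth.Agent.Lib.DMod.Devissage
import Groth.Agent.Lib.DR.FlatBC
import Groth.Agent.Lib.DR.BaseChangeU
import Mathlib.Algebra.FiveLemma
import Mathlib.CategoryTheory.Functor.Derived.PointwiseLeftDerived
import Mathlib.RingTheory.Flat.Basic

/-!
Flat base change on derived categories of modules and on morphisms:
`B ⊗_A Hom(X, Y) = Hom(B ⊗ X, B ⊗ Y)` for `X` bounded with finite cohomology and `Y` bounded below.
-/

universe u

open CategoryTheory CategoryTheory.Limits Pretriangulated TensorProduct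
open Groth.Agent.Lib.DR
open Groth.Agent.Lib.DMod.Basic Groth.Agent.Lib.DMod.Devissage

attribute [local instance] HasDerivedCategory.standard

namespace Groth.Agent.Lib.DMod.FlatHom

section

variable (A B : Type u) [CommRing A] [CommRing B] [Algebra A B] [Module.Flat A B]

/-- Extension of scalars. -/
noncomputable abbrev E : ModuleCat.{u} A ⥤ ModuleCat.{u} B :=
  ModuleCat.extendScalars.{u, u, u} (algebraMap A B)

/-- Flat base change on derived categories. -/
noncomputable abbrev L : Dual.D A ⥤ Dual.D B := (E A B).mapDerivedCategory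

/-- Flat base change is the total left derived functor of extension of scalars. -/
noncomputable def isoLBaseChange [DRing.HasLBaseChange (algebraMap A B)] :
    DRing.LBaseChange (algebraMap A B) ≅ L A B :=
  have h : (L A B).IsLeftDerivedFunctor (E A B).mapDerivedCategoryFactors.hom
      (HomologicalComplex.quasiIso (ModuleCat.{u} A) (.up ℤ)) :=
    Functor.isLeftDerivedFunctor_of_inverts _ (L A B) (E A B).mapDerivedCategoryFactors
  Functor.leftDerivedUnique _ _ (Derived.α (E A B)) (E A B).mapDerivedCategoryFactors.hom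
    (HomologicalComplex.quasiIso (ModuleCat.{u} A) (.up ℤ))

/-- Flat base change is left adjoint to restriction of scalars. -/
noncomputable def adj : L A B ⊣ DRing.restrictD (algebraMap A B) :=
  haveI : DRing.HasLBaseChange (algebraMap A B) := BaseChangeU.hasLBaseChange (algebraMap A B)
  (Derived.derivedAdj (ModuleCat.extendRestrictScalarsAdj.{u} (algebraMap A B))).ofNatIsoLeft
    (isoLBaseChange A B)

variable {A B}

omit [Module.Flat A B] in
theorem extendScalars_map_smul_id (M : ModuleCat.{u} A) (a : A) :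
    (E A B).map (a • 𝟙 M) = algebraMap A B a • 𝟙 ((E A B).obj M) := by
  refine ModuleCat.ExtendScalars.hom_ext fun m => ?_
  refine (ModuleCat.ExtendScalars.map_tmul (algebraMap A B) (a • 𝟙 M) 1 m).trans ?_
  refine Eq.trans ?_ (ModuleCat.ExtendScalars.smul_tmul (algebraMap A B) (algebraMap A B a) 1 m).symm
  refine (TensorProduct.tmul_smul (R := A)
    (M := (ModuleCat.restrictScalars (algebraMap A B)).obj (ModuleCat.of B B)) a (1 : B) m).trans ?_
  rfl

theorem map_smul_id (X : Dual.D A) (a : A) :
    (L A B).map (a • 𝟙 X) = algebraMap A B a • 𝟙 ((L A B).obj X) := by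
  obtain ⟨K, ⟨e⟩⟩ : ∃ K : CochainComplex (ModuleCat.{u} A) ℤ,
      Nonempty (DerivedCategory.Q.obj K ≅ X) :=
    ⟨_, ⟨DerivedCategory.Q.objObjPreimageIso X⟩⟩
  have h1 : a • 𝟙 X = e.inv ≫ (a • 𝟙 (DerivedCategory.Q.obj K)) ≫ e.hom := by simp
  have h2 : a • 𝟙 (DerivedCategory.Q.obj K) = DerivedCategory.Q.map (a • 𝟙 K) := by
    rw [Functor.map_smul, CategoryTheory.Functor.map_id]
  have h3 : ((E A B).mapHomologicalComplex (.up ℤ)).map (a • 𝟙 K) =
      algebraMap A B a • 𝟙 (((E A B).mapHomologicalComplex (.up ℤ)).obj K) := by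
    ext i : 1
    exact extendScalars_map_smul_id (K.X i) a
  have h4 := (E A B).mapDerivedCategoryFactors_hom_naturality (a • 𝟙 K)
  have h5 : DerivedCategory.Q.map
      (algebraMap A B a • 𝟙 (((E A B).mapHomologicalComplex (.up ℤ)).obj K)) =
      algebraMap A B a • 𝟙 (DerivedCategory.Q.obj (((E A B).mapHomologicalComplex (.up ℤ)).obj K)) :=
    (DerivedCategory.Q.map_smul _ _).trans (congrArg _ (DerivedCategory.Q.map_id _))
  have h6 : (L A B).map (DerivedCategory.Q.map (a • 𝟙 K)) =
      algebraMap A B a • 𝟙 ((L A B).obj (DerivedCategory.Q.obj K)) := by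
    refine (cancel_mono ((E A B).mapDerivedCategoryFactors.hom.app K)).1 ?_
    refine h4.trans ?_
    rw [h3]
    exact (congrArg (fun t => _ ≫ t) h5).trans
      ((Linear.comp_smul _ _ _ _ _ _).trans ((congrArg _ (Category.comp_id _)).trans
        ((congrArg _ (Category.id_comp _)).symm.trans (Linear.smul_comp _ _ _ _ _ _).symm)))
  rw [h1, h2, Functor.map_comp, Functor.map_comp, h6, Linear.smul_comp, Linear.comp_smul,
    Category.id_comp, ← Functor.map_comp, e.inv_hom_id, CategoryTheory.Functor.map_id]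

theorem L_map_smul {X Y : Dual.D A} (f : X ⟶ Y) (a : A) :
    (L A B).map (a • f) = algebraMap A B a • (L A B).map f := by
  have : a • f = (a • 𝟙 X) ≫ f := by simp
  rw [this, Functor.map_comp, map_smul_id, Linear.smul_comp, Category.id_comp]

variable (B)

/-- The action of flat base change on morphisms, as an `A`-bilinear map. -/
noncomputable def homBilin (X Y : Dual.D A) :
    letI : Module A ((L A B).obj X ⟶ (L A B).obj Y) := Module.compHom _ (algebraMap A B)
    B →ₗ[A] (X ⟶ Y) →ₗ[A] ((L A B).obj X ⟶ (L A B).obj Y) :=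
  letI : Module A ((L A B).obj X ⟶ (L A B).obj Y) := Module.compHom _ (algebraMap A B)
  LinearMap.mk₂ A (fun b f => b • (L A B).map f) (fun _ _ _ => add_smul _ _ _)
    (fun a b f => by
      show (a • b) • (L A B).map f = algebraMap A B a • (b • (L A B).map f)
      rw [Algebra.smul_def, mul_smul])
    (fun b f g => by rw [Functor.map_add, smul_add])
    (fun a b f => by
      show b • (L A B).map (a • f) = algebraMap A B a • (b • (L A B).map f)
      rw [L_map_smul, smul_comm])

/-- The base change map on morphisms. -/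
noncomputable def Φ (X Y : Dual.D A) :
    B ⊗[A] (X ⟶ Y) →ₗ[B] ((L A B).obj X ⟶ (L A B).obj Y) :=
  letI : Module A ((L A B).obj X ⟶ (L A B).obj Y) := Module.compHom _ (algebraMap A B)
  { toFun := TensorProduct.lift (homBilin B X Y)
    map_add' := map_add _
    map_smul' := fun b x => by
      induction x using TensorProduct.induction_on with
      | zero => simp
      | tmul c f =>
        show (b * c) • (L A B).map f = b • (c • (L A B).map f)
        rw [mul_smul]
      | add x y hx hy => simp [smul_add, map_add, hx, hy] }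

variable {B}

@[simp]
theorem Φ_tmul (X Y : Dual.D A) (b : B) (f : X ⟶ Y) :
    Φ B X Y (b ⊗ₜ[A] f) = b • (L A B).map f := rfl

/-- Bijectivity of the base change map. -/
def Bij (B : Type u) [CommRing B] [Algebra A B] [Module.Flat A B] (X Y : Dual.D A) : Prop :=
  Function.Bijective (Φ B X Y)

theorem Φ_leftComp {X X' : Dual.D A} (Y : Dual.D A) (g : X' ⟶ X) :
    (Linear.leftComp B ((L A B).obj Y) ((L A B).map g)).comp (Φ B X Y) =
      (Φ B X' Y).comp ((Linear.leftComp A Y g).baseChange B) := by
  refine LinearMap.ext fun z => ?_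
  induction z using TensorProduct.induction_on with
  | zero => simp
  | tmul b f => simp
  | add x y hx hy => simp_all [map_add]

/-- Cohomology commutes with flat base change. -/
noncomputable def homologyIso (n : ℤ) :
    L A B ⋙ DerivedCategory.homologyFunctor (ModuleCat.{u} B) n ≅
      DerivedCategory.homologyFunctor (ModuleCat.{u} A) n ⋙ E A B :=
  let e : (E A B).mapHomologicalComplex (.up ℤ) ⋙
      HomologicalComplex.homologyFunctor (ModuleCat.{u} B) (.up ℤ) n ≅
      HomologicalComplex.homologyFunctor (ModuleCat.{u} A) (.up ℤ) n ⋙ E A B :=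
    NatIso.ofComponents (fun K => (K.sc n).mapHomologyIso (E A B))
      (fun f => ShortComplex.mapHomologyIso_hom_naturality
        ((HomologicalComplex.shortComplexFunctor (ModuleCat.{u} A) (.up ℤ) n).map f) (E A B))
  letI : Localization.Lifting (DerivedCategory.Q (C := ModuleCat.{u} A))
      (HomologicalComplex.quasiIso (ModuleCat.{u} A) (.up ℤ))
      ((E A B).mapHomologicalComplex (.up ℤ) ⋙
        HomologicalComplex.homologyFunctor (ModuleCat.{u} B) (.up ℤ) n)
      (L A B ⋙ DerivedCategory.homologyFunctor (ModuleCat.{u} B) n) :=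
    ⟨(Functor.associator _ _ _).symm ≪≫
      Functor.isoWhiskerRight (E A B).mapDerivedCategoryFactors _ ≪≫
      Functor.associator _ _ _ ≪≫
      Functor.isoWhiskerLeft _ (DerivedCategory.homologyFunctorFactors (ModuleCat.{u} B) n)⟩
  letI : Localization.Lifting (DerivedCategory.Q (C := ModuleCat.{u} A))
      (HomologicalComplex.quasiIso (ModuleCat.{u} A) (.up ℤ))
      (HomologicalComplex.homologyFunctor (ModuleCat.{u} A) (.up ℤ) n ⋙ E A B)
      (DerivedCategory.homologyFunctor (ModuleCat.{u} A) n ⋙ E A B) :=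
    ⟨(Functor.associator _ _ _).symm ≪≫
      Functor.isoWhiskerRight (DerivedCategory.homologyFunctorFactors (ModuleCat.{u} A) n) _⟩
  Localization.liftNatIso DerivedCategory.Q
    (HomologicalComplex.quasiIso (ModuleCat.{u} A) (.up ℤ)) _ _ _ _ e

variable (B)

/-- `H^n(B ⊗ K) = B ⊗ H^n(K)`. -/
noncomputable def HDL (K : Dual.D A) (n : ℤ) :
    B ⊗[A] Dual.HD A K n ≃ₗ[B] Dual.HD B ((L A B).obj K) n :=
  (FlatBC.extEquiv A B (Dual.HD A K n)).symm.trans
    ((homologyIso (B := B) n).app K).symm.toLinearEquiv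

variable {B}

theorem HDL_naturality {K K' : Dual.D A} (f : K ⟶ K') (n : ℤ) (b : B) (x : Dual.HD A K n) :
    mapHD ((L A B).map f) n (HDL B K n (b ⊗ₜ x)) = HDL B K' n (b ⊗ₜ mapHD f n x) :=
  (ConcreteCategory.congr_hom ((homologyIso (A := A) (B := B) n).inv.naturality f)
    ((FlatBC.extEquiv A B (Dual.HD A K n)).symm (b ⊗ₜ x))).symm

theorem mapHD_smul {K K' : Dual.D B} (b : B) (f : K ⟶ K') (n : ℤ) (x : Dual.HD B K n) :
    mapHD (b • f) n x = b • mapHD f n x := by
  simp only [mapHD]
  rw [Functor.map_smul]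
  rfl

theorem bij_unit (Y : Dual.D A) : Bij B (Dual.inD A A) Y := by
  let e₀ : Dual.HD A (Dual.inD A A) 0 := (HDinD (A := A) A).symm 1
  let v : Dual.HD B ((L A B).obj (Dual.inD A A)) 0 := HDL B _ 0 (1 ⊗ₜ e₀)
  let e : Dual.inD B B ≅ (L A B).obj (Dual.inD A A) :=
    (DerivedCategory.singleFunctor (ModuleCat.{u} B) 0).mapIso
      (Algebra.TensorProduct.rid A B B).symm.toLinearEquiv.toModuleIso ≪≫
        (FlatBC.mapInD (A := A) (B := B) (M := A)).symm
  let v' : Dual.HD B ((L A B).obj (Dual.inD A A)) 0 := mapHD e.hom 0 ((HDinD (A := B) B).symm 1)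
  let k : B := HDinD (A := B) B ((HDCongr e 0).symm v)
  let ev : ((L A B).obj (Dual.inD A A) ⟶ (L A B).obj Y) →ₗ[B] Dual.HD B ((L A B).obj Y) 0 :=
    { toFun := fun g => mapHD g 0 v
      map_add' := fun f g => by
        simp only [mapHD]
        erw [Functor.map_add]
        rfl
      map_smul' := fun r f => mapHD_smul r f 0 v }
  have hgen : ∀ x : Dual.HD B ((L A B).obj (Dual.inD A A)) 0, ∃ c : B, x = c • v := fun x => by
    obtain ⟨z, rfl⟩ := (HDL B (Dual.inD A A) 0).surjective x
    induction z using TensorProduct.induction_on with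
    | zero => exact ⟨0, by simp⟩
    | tmul b y =>
      refine ⟨b * algebraMap A B (HDinD (A := A) A y), ?_⟩
      have hy : y = (HDinD (A := A) A y) • e₀ := (HDinD (A := A) A).injective (by simp [e₀])
      conv_lhs => rw [hy, TensorProduct.tmul_smul]
      show _ = _ • HDL B _ 0 (1 ⊗ₜ e₀)
      rw [← map_smul]
      congr 1
      simp [TensorProduct.smul_tmul', Algebra.smul_def, mul_comm]
    | add p q hp hq =>
      obtain ⟨c, hc⟩ := hp
      obtain ⟨d, hd⟩ := hq
      exact ⟨c + d, by rw [map_add, hc, hd, add_smul]⟩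
  have hk : v = k • v' := by
    apply (HDCongr e 0).symm.injective
    apply (HDinD (A := B) B).injective
    have : (HDCongr e 0).symm v' = (HDinD (A := B) B).symm 1 :=
      (HDCongr e 0).symm_apply_apply _
    rw [map_smul, this, map_smul, LinearEquiv.apply_symm_apply, smul_eq_mul, mul_one]
  obtain ⟨c, hc⟩ := hgen v'
  have hck : c * k = 1 := by
    have h := congrArg (fun x => HDinD (A := B) B ((HDCongr e 0).symm x)) hc
    have h' : (HDCongr e 0).symm v' = (HDinD (A := B) B).symm 1 :=
      (HDCongr e 0).symm_apply_apply _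
    simp only [map_smul, smul_eq_mul, h', LinearEquiv.apply_symm_apply] at h
    exact h.symm
  have hev : Function.Bijective ev := by
    have hu : IsUnit k := isUnit_iff_exists_inv.2 ⟨c, by rw [mul_comm, hck]⟩
    have h1 : Function.Bijective fun g : (L A B).obj (Dual.inD A A) ⟶ (L A B).obj Y =>
        mapHD g 0 v' := by
      have h3 := (homUnitEquiv (A := B) ((L A B).obj Y)).bijective.comp
        (Iso.homCongr e.symm (Iso.refl ((L A B).obj Y))).bijective
      convert h3 using 1
      funext g
      show mapHD g 0 v' = mapHD (e.hom ≫ g ≫ 𝟙 _) 0 _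
      rw [Category.comp_id]
      exact (ConcreteCategory.congr_hom
        ((DerivedCategory.homologyFunctor (ModuleCat.{u} B) 0).map_comp e.hom g) _).symm
    have h2 : (ev : _ → _) = (fun x => k • x) ∘ fun g => mapHD g 0 v' := by
      funext g
      show mapHD g 0 v = k • mapHD g 0 v'
      rw [hk, map_smul]
    rw [h2]
    exact (IsUnit.smul_bijective hu).comp h1
  have hcomp : ev.comp (Φ B (Dual.inD A A) Y) = (HDL B Y 0).toLinearMap.comp
      ((homUnitEquiv Y).toLinearMap.baseChange B) := by
    refine LinearMap.ext fun z => ?_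
    induction z using TensorProduct.induction_on with
    | zero => simp
    | tmul b f =>
      show mapHD (b • (L A B).map f) 0 v = HDL B Y 0 (b ⊗ₜ homUnitEquiv Y f)
      rw [mapHD_smul, show mapHD ((L A B).map f) 0 v = HDL B Y 0 (1 ⊗ₜ mapHD f 0 e₀) from
        HDL_naturality f 0 1 e₀, ← map_smul, TensorProduct.smul_tmul', smul_eq_mul, mul_one]
      rfl
    | add x y hx hy => rw [map_add, map_add, hx, hy]
  have hb : Function.Bijective (ev.comp (Φ B (Dual.inD A A) Y)) := by
    rw [hcomp]
    exact (HDL B Y 0).bijective.comp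
      (LinearEquiv.baseChange A B _ _ (homUnitEquiv Y)).bijective
  exact (Function.Bijective.of_comp_iff' hev _).1 hb

end

section

variable {A : Type u} [CommRing A] {B : Type u} [CommRing B] [Algebra A B] [Module.Flat A B]

theorem bij_congr {α β : Sort*} {f g : α → β} (h : Function.Bijective f) (e : ∀ x, f x = g x) :
    Function.Bijective g := funext e ▸ h

theorem Φ_rightComp (X : Dual.D A) {Y Y' : Dual.D A} (g : Y ⟶ Y') :
    (Linear.rightComp B ((L A B).obj X) ((L A B).map g)).comp (Φ B X Y) =
      (Φ B X Y').comp ((Linear.rightComp A X g).baseChange B) := by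
  refine LinearMap.ext fun z => ?_
  induction z using TensorProduct.induction_on with
  | zero => simp
  | tmul b f => simp
  | add x y hx hy => simp_all [map_add]

theorem Bij.of_iso_left {X X' Y : Dual.D A} (e : X ≅ X') (h : Bij B X Y) : Bij B X' Y := by
  have h1 : Function.Bijective (Linear.leftComp B ((L A B).obj Y) ((L A B).map e.inv)) :=
    bij_congr (Linear.homCongr B ((L A B).mapIso e) (Iso.refl _)).bijective fun f => by
      simp [Linear.homCongr_apply]
  have h2 : Function.Bijective ((Linear.leftComp A Y e.inv).baseChange B) :=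
    bij_congr (LinearEquiv.baseChange A B _ _ (Linear.homCongr A e (Iso.refl Y))).bijective fun z => by
      induction z using TensorProduct.induction_on with
      | zero => simp
      | tmul b f => simp [Linear.homCongr_apply]
      | add x y hx hy => simp_all [map_add]
  have h3 : Function.Bijective
      (((Linear.leftComp B ((L A B).obj Y) ((L A B).map e.inv))).comp (Φ B X Y)) := h1.comp h
  rw [Φ_leftComp, LinearMap.coe_comp] at h3
  exact (Function.Bijective.of_comp_iff _ h2).1 h3

theorem Bij.of_iso_right {X Y Y' : Dual.D A} (e : Y ≅ Y') (h : Bij B X Y) : Bij B X Y' := by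
  have h1 : Function.Bijective (Linear.rightComp B ((L A B).obj X) ((L A B).map e.hom)) :=
    bij_congr (Linear.homCongr B (Iso.refl _) ((L A B).mapIso e)).bijective fun f => by
      simp [Linear.homCongr_apply]
  have h2 : Function.Bijective ((Linear.rightComp A X e.hom).baseChange B) :=
    bij_congr (LinearEquiv.baseChange A B _ _ (Linear.homCongr A (Iso.refl X) e)).bijective fun z => by
      induction z using TensorProduct.induction_on with
      | zero => simp
      | tmul b f => simp [Linear.homCongr_apply]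
      | add x y hx hy => simp_all [map_add]
  have h3 : Function.Bijective
      (((Linear.rightComp B ((L A B).obj X) ((L A B).map e.hom))).comp (Φ B X Y)) := h1.comp h
  rw [Φ_rightComp, LinearMap.coe_comp] at h3
  exact (Function.Bijective.of_comp_iff _ h2).1 h3

theorem Bij.shift {X Y : Dual.D A} (h : Bij B X Y) (n : ℤ) : Bij B (X⟦n⟧) (Y⟦n⟧) := by
  let σA := homShiftEquiv X Y n
  let σB := (homShiftEquiv ((L A B).obj X) ((L A B).obj Y) n).trans
    (Linear.homCongr B (((L A B).commShiftIso n).app X).symm (((L A B).commShiftIso n).app Y).symm)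
  have key : ∀ f : X ⟶ Y, σB ((L A B).map f) = (L A B).map (σA f) := fun f => by
    show (((L A B).commShiftIso n).hom.app X ≫ ((L A B).map f)⟦n⟧') ≫
      ((L A B).commShiftIso n).inv.app Y = (L A B).map (f⟦n⟧')
    refine (congrArg (fun t => t ≫ ((L A B).commShiftIso n).inv.app Y)
      (((L A B).commShiftIso n).hom.naturality f).symm).trans ?_
    exact (Category.assoc _ _ _).trans ((congrArg (fun t => _ ≫ t)
      (Iso.hom_inv_id_app ((L A B).commShiftIso n) Y)).trans (Category.comp_id _))
  have hcomp : σB.toLinearMap.comp (Φ B X Y) =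
      (Φ B (X⟦n⟧) (Y⟦n⟧)).comp (σA.toLinearMap.baseChange B) := by
    refine LinearMap.ext fun z => ?_
    induction z using TensorProduct.induction_on with
    | zero => simp
    | tmul b f => simp [key]
    | add x y hx hy => simp_all [map_add]
  have h3 : Function.Bijective (σB.toLinearMap.comp (Φ B X Y)) := σB.bijective.comp h
  rw [hcomp, LinearMap.coe_comp] at h3
  exact (Function.Bijective.of_comp_iff _ (LinearEquiv.baseChange A B _ _ σA).bijective).1 h3

theorem Bij.shift_left {X Y : Dual.D A} (n : ℤ) (h : Bij B X (Y⟦-n⟧)) : Bij B (X⟦n⟧) Y :=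
  (h.shift n).of_iso_right
    ((shiftFunctorCompIsoId (Dual.D A) (-n) n (by simp)).app Y)

theorem exact_baseChange {M N P : Type (u + 1)} [AddCommGroup M] [AddCommGroup N] [AddCommGroup P]
    [Module A M] [Module A N] [Module A P] {f : M →ₗ[A] N} {g : N →ₗ[A] P}
    (h : Function.Exact f g) : Function.Exact (f.baseChange B) (g.baseChange B) :=
  Module.Flat.lTensor_exact B h

/-- First four lemma for the base change map. -/
theorem injective₃ (T : Triangle (Dual.D A)) (hT : T ∈ distTriang (Dual.D A)) (Y : Dual.D A)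
    (h₂' : Function.Surjective (Φ B (T.obj₂⟦(1 : ℤ)⟧) Y))
    (h₁' : Function.Injective (Φ B (T.obj₁⟦(1 : ℤ)⟧) Y))
    (h₂ : Function.Injective (Φ B T.obj₂ Y)) : Function.Injective (Φ B T.obj₃ Y) := by
  have hL : ∀ S : Triangle (Dual.D A), S ∈ distTriang (Dual.D A) →
      Function.Exact (Linear.leftComp B ((L A B).obj Y) ((L A B).map S.mor₂))
        (Linear.leftComp B ((L A B).obj Y) ((L A B).map S.mor₁)) := fun S hS =>
    exact_leftComp ((L A B).map_distinguished S hS) _
  exact LinearMap.injective_of_surjective_of_injective_of_injective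
    ((Linear.leftComp A Y T.rotate.rotate.mor₂).baseChange B)
    ((Linear.leftComp A Y T.mor₃).baseChange B)
    ((Linear.leftComp A Y T.mor₂).baseChange B)
    (Linear.leftComp B ((L A B).obj Y) ((L A B).map T.rotate.rotate.mor₂))
    (Linear.leftComp B ((L A B).obj Y) ((L A B).map T.mor₃))
    (Linear.leftComp B ((L A B).obj Y) ((L A B).map T.mor₂))
    (Φ B (T.obj₂⟦(1 : ℤ)⟧) Y) (Φ B (T.obj₁⟦(1 : ℤ)⟧) Y) (Φ B T.obj₃ Y) (Φ B T.obj₂ Y)
    (Φ_leftComp Y _) (Φ_leftComp Y _) (Φ_leftComp Y _)
    (exact_baseChange (exact_leftComp (rot_of_distTriang _ (rot_of_distTriang T hT)) Y))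
    (exact_baseChange (exact_leftComp (rot_of_distTriang T hT) Y))
    (hL _ (rot_of_distTriang _ (rot_of_distTriang T hT))) h₂' h₁' h₂

/-- Second four lemma for the base change map. -/
theorem surjective₃ (T : Triangle (Dual.D A)) (hT : T ∈ distTriang (Dual.D A)) (Y : Dual.D A)
    (h₁' : Function.Surjective (Φ B (T.obj₁⟦(1 : ℤ)⟧) Y))
    (h₂ : Function.Surjective (Φ B T.obj₂ Y))
    (h₁ : Function.Injective (Φ B T.obj₁ Y)) : Function.Surjective (Φ B T.obj₃ Y) := by
  have hL : ∀ S : Triangle (Dual.D A), S ∈ distTriang (Dual.D A) →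
      Function.Exact (Linear.leftComp B ((L A B).obj Y) ((L A B).map S.mor₂))
        (Linear.leftComp B ((L A B).obj Y) ((L A B).map S.mor₁)) := fun S hS =>
    exact_leftComp ((L A B).map_distinguished S hS) _
  exact LinearMap.surjective_of_surjective_of_surjective_of_injective
    ((Linear.leftComp A Y T.mor₃).baseChange B)
    ((Linear.leftComp A Y T.mor₂).baseChange B)
    ((Linear.leftComp A Y T.mor₁).baseChange B)
    (Linear.leftComp B ((L A B).obj Y) ((L A B).map T.mor₃))
    (Linear.leftComp B ((L A B).obj Y) ((L A B).map T.mor₂))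
    (Linear.leftComp B ((L A B).obj Y) ((L A B).map T.mor₁))
    (Φ B (T.obj₁⟦(1 : ℤ)⟧) Y) (Φ B T.obj₃ Y) (Φ B T.obj₂ Y) (Φ B T.obj₁ Y)
    (Φ_leftComp Y _) (Φ_leftComp Y _) (Φ_leftComp Y _)
    (exact_baseChange (exact_leftComp hT Y))
    (hL _ (rot_of_distTriang T hT)) (hL _ hT) h₁' h₂ h₁

theorem bij₃ (T : Triangle (Dual.D A)) (hT : T ∈ distTriang (Dual.D A)) (Y : Dual.D A)
    (h₂' : Bij B (T.obj₂⟦(1 : ℤ)⟧) Y) (h₁' : Bij B (T.obj₁⟦(1 : ℤ)⟧) Y)
    (h₂ : Bij B T.obj₂ Y) (h₁ : Bij B T.obj₁ Y) : Bij B T.obj₃ Y :=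
  ⟨injective₃ T hT Y h₂'.2 h₁'.1 h₂.1, surjective₃ T hT Y h₁'.2 h₂.2 h₁.1⟩

theorem bij_of_isZero {X : Dual.D A} (h : IsZero X) (Y : Dual.D A) : Bij B X Y := by
  have hh : IsZero ((L A B).obj X) := Functor.map_isZero _ h
  have : Subsingleton (X ⟶ Y) := ⟨fun f g => h.eq_of_src f g⟩
  have : Subsingleton ((L A B).obj X ⟶ (L A B).obj Y) := ⟨fun f g => hh.eq_of_src f g⟩
  have : Subsingleton (B ⊗[A] (X ⟶ Y)) := by
    refine subsingleton_of_forall_eq 0 fun z => ?_
    induction z using TensorProduct.induction_on with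
    | zero => rfl
    | tmul b f => rw [Subsingleton.elim f 0, TensorProduct.tmul_zero]
    | add x y hx hy => rw [hx, hy, add_zero]
  exact ⟨Function.injective_of_subsingleton _, fun y => ⟨0, Subsingleton.elim _ _⟩⟩

theorem isGE_shift_neg {Y : Dual.D A} {c : ℤ} (h : Y.IsGE c) (n : ℤ) : (Y⟦n⟧).IsGE (c - n) :=
  DerivedCategory.TStructure.t.isGE_shift Y c n (c - n) (by lia)

theorem bij_free (F : ModuleCat.{u} A) [Module.Free A F] [Module.Finite A F] (Y : Dual.D A) :
    Bij B ((DerivedCategory.singleFunctor (ModuleCat.{u} A) 0).obj F) Y := by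
  suffices h : ∀ (n : ℕ) (Y : Dual.D A), Bij B (Dual.inD A (Fin n → A)) Y by
    obtain ⟨n, b⟩ : ∃ n, Nonempty (Module.Basis (Fin n) A F) :=
      ⟨_, ⟨(Module.Free.chooseBasis A F).reindex (Fintype.equivFin _)⟩⟩
    exact (h n Y).of_iso_left
      ((DerivedCategory.singleFunctor (ModuleCat.{u} A) 0).mapIso b.some.equivFun.symm.toModuleIso)
  intro n
  induction n with
  | zero => exact fun Y => bij_of_isZero (Functor.map_isZero _ (ModuleCat.isZero_of_subsingleton _)) Y
  | succ n ih =>
    intro Y
    let f : ModuleCat.of A (Fin n → A) ⟶ ModuleCat.of A (Fin (n + 1) → A) :=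
      ModuleCat.ofHom (LinearMap.pi (Fin.cons (0 : (Fin n → A) →ₗ[A] A) LinearMap.proj))
    let g : ModuleCat.of A (Fin (n + 1) → A) ⟶ ModuleCat.of A A :=
      ModuleCat.ofHom (LinearMap.proj 0)
    let S := ShortComplex.mk f g (ModuleCat.hom_ext (LinearMap.ext fun x => by simp [f, g]))
    have hS : S.ShortExact :=
      { exact := (ShortComplex.ShortExact.moduleCat_exact_iff_function_exact S).2 fun x => by
          constructor
          · intro hx
            refine ⟨Fin.tail x, funext fun i => ?_⟩
            refine Fin.cases ?_ (fun j => ?_) i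
            · exact (show x 0 = 0 from hx).symm
            · rfl
          · rintro ⟨y, rfl⟩
            rfl
        mono_f := (ModuleCat.mono_iff_injective _).2 fun x y hxy => funext fun j =>
          congr_fun hxy j.succ
        epi_g := (ModuleCat.epi_iff_surjective _).2 fun a => ⟨Fin.cons a 0, rfl⟩ }
    have hT := hS.singleTriangle_distinguished
    have hA : ∀ (k : ℤ) (Y : Dual.D A), Bij B ((Dual.inD A A)⟦k⟧) Y := fun k Y =>
      Bij.shift_left k (bij_unit _)
    refine (bij₃ hS.singleTriangle.invRotate (inv_rot_of_distTriang _ hT) Y ?_ ?_ ?_ ?_)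
    · exact Bij.shift_left 1 (ih _)
    · exact ((hA 0 Y).of_iso_left ((shiftFunctorZero (Dual.D A) ℤ).app _)).of_iso_left
        ((shiftFunctorCompIsoId (Dual.D A) (-1 : ℤ) 1 (by simp)).app _).symm
    · exact ih Y
    · exact hA (-1) Y

theorem bij_module [IsNoetherianRing A] : ∀ (k : ℕ) (Y : Dual.D A), Y.IsGE (1 - (k : ℤ)) →
    ∀ (M : Type u) [AddCommGroup M] [Module A M] [Module.Finite A M], Bij B (Dual.inD A M) Y := by
  intro k
  induction k with
  | zero =>
    intro Y hY M _ _ _
    have : (Dual.inD A M).IsLE 0 := inferInstance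
    have h0 : Subsingleton (Dual.inD A M ⟶ Y) :=
      subsingleton_of_forall_eq 0 fun f =>
        DerivedCategory.TStructure.t.zero f 0 (1 - ((0 : ℕ) : ℤ))
    have : ((L A B).obj Y).IsGE (1 - ((0 : ℕ) : ℤ)) := ExactPush.isGE_map (E A B) hY
    have : ((L A B).obj (Dual.inD A M)).IsLE 0 := ExactPush.isLE_map (E A B) inferInstance
    have h1 : Subsingleton ((L A B).obj (Dual.inD A M) ⟶ (L A B).obj Y) :=
      subsingleton_of_forall_eq 0 fun f =>
        DerivedCategory.TStructure.t.zero f 0 (1 - ((0 : ℕ) : ℤ))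
    refine ⟨fun x y _ => ?_, fun y => ⟨0, Subsingleton.elim _ _⟩⟩
    suffices ∀ z : B ⊗[A] (Dual.inD A M ⟶ Y), z = 0 by rw [this x, this y]
    intro z
    induction z using TensorProduct.induction_on with
    | zero => rfl
    | tmul b f => rw [Subsingleton.elim f 0, TensorProduct.tmul_zero]
    | add x y hx hy => rw [hx, hy, add_zero]
  | succ k ih =>
    intro Y hY
    have hY' : (Y⟦(-1 : ℤ)⟧).IsGE (1 - (k : ℤ)) :=
      DerivedCategory.TStructure.t.isGE_shift Y (1 - ((k + 1 : ℕ) : ℤ)) (-1) _ (by push_cast; lia)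
    have aux : ∀ (M : Type u) [AddCommGroup M] [Module A M] [Module.Finite A M],
        ∃ (S : ShortComplex (ModuleCat.{u} A)) (hS : S.ShortExact),
          Module.Finite A S.X₁ ∧ Module.Free A S.X₂ ∧ Module.Finite A S.X₂ ∧
            Nonempty (S.X₃ ≅ ModuleCat.of A M) := fun M _ _ _ => by
      obtain ⟨n, g, hg⟩ := Module.Finite.exists_fin' A M
      let S := ShortComplex.mk (ModuleCat.ofHom (LinearMap.ker g).subtype) (ModuleCat.ofHom g)
        (ModuleCat.hom_ext (LinearMap.ext fun x => x.2))
      refine ⟨S, { exact := (ShortComplex.ShortExact.moduleCat_exact_iff_function_exact S).2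
                     (LinearMap.exact_subtype_ker_map g)
                   mono_f := (ModuleCat.mono_iff_injective _).2 (Submodule.injective_subtype _)
                   epi_g := (ModuleCat.epi_iff_surjective _).2 hg }, ?_, ?_, ?_, ⟨Iso.refl _⟩⟩
      · exact Module.Finite.iff_fg.2 (IsNoetherian.noetherian _)
      · exact inferInstanceAs (Module.Free A (Fin n → A))
      · exact inferInstanceAs (Module.Finite A (Fin n → A))
    have inj : ∀ (M : Type u) [AddCommGroup M] [Module A M] [Module.Finite A M],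
        Function.Injective (Φ B (Dual.inD A M) Y) ∧
        ((∀ (N : Type u) [AddCommGroup N] [Module A N] [Module.Finite A N],
            Function.Injective (Φ B (Dual.inD A N) Y)) → Bij B (Dual.inD A M) Y) := by
      intro M _ _ _
      obtain ⟨S, hS, h₁, h₂, h₂f, ⟨e⟩⟩ := aux M
      have hF := bij_free (B := B) S.X₂
      have hi : Function.Injective (Φ B (Dual.inD A S.X₃) Y) :=
        injective₃ hS.singleTriangle hS.singleTriangle_distinguished Y
          (Bij.shift_left 1 (hF _)).2 (Bij.shift_left 1 (ih _ hY' S.X₁)).1 (hF Y).1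
      have e' : Dual.inD A S.X₃ ≅ Dual.inD A M :=
        (DerivedCategory.singleFunctor (ModuleCat.{u} A) 0).mapIso e
      refine ⟨?_, fun hN => ?_⟩
      · intro x y hxy
        have hc : ∀ z, Φ B (Dual.inD A S.X₃) Y ((Linear.leftComp A Y e'.hom).baseChange B z) =
            Linear.leftComp B ((L A B).obj Y) ((L A B).map e'.hom) (Φ B (Dual.inD A M) Y z) :=
          fun z => (LinearMap.congr_fun (Φ_leftComp Y e'.hom) z).symm
        have h := hi (((hc x).trans (congrArg _ hxy)).trans (hc y).symm)
        have hinv : ∀ z, (Linear.leftComp A Y e'.inv).baseChange B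
            ((Linear.leftComp A Y e'.hom).baseChange B z) = z := fun z => by
          induction z using TensorProduct.induction_on with
          | zero => simp
          | tmul b f => simp
          | add x y hx hy => simp_all [map_add]
        rw [← hinv x, ← hinv y, h]
      · refine Bij.of_iso_left e' ⟨hi, ?_⟩
        exact surjective₃ hS.singleTriangle hS.singleTriangle_distinguished Y
          (Bij.shift_left 1 (ih _ hY' S.X₁)).2 (hF Y).2 (hN S.X₁)
    intro M _ _ _
    exact (inj M).2 fun N _ _ _ => (inj N).1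

theorem bij_inD [IsNoetherianRing A] (M : Type u) [AddCommGroup M] [Module A M] [Module.Finite A M]
    {Y : Dual.D A} {c : ℤ} (hY : Y.IsGE c) : Bij B (Dual.inD A M) Y :=
  bij_module (1 - c).toNat Y
    (DerivedCategory.TStructure.t.isGE_of_ge Y (1 - ((1 - c).toNat : ℤ)) c (by lia)) M

/-- Flat base change of `Hom`. -/
theorem bij_of_bounded [IsNoetherianRing A] {X : Dual.D A} {a b : ℤ}
    (hab : ∀ i, i < a ∨ b < i → Subsingleton (Dual.HD A X i))
    (hfin : ∀ i, Module.Finite A (Dual.HD A X i)) {Y : Dual.D A} {c : ℤ} (hY : Y.IsGE c) :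
    Bij B X Y := by
  have h := bounded_induction (fun M [AddCommGroup M] [Module A M] => Module.Finite A M)
    (fun _ _ _ _ _ _ e h => Module.Finite.equiv e) (fun _ _ _ _ => inferInstance)
    (fun X => ∀ (Y : Dual.D A) (c : ℤ), Y.IsGE c → Bij B X Y)
    (fun _ _ e h Y c hY => (h Y c hY).of_iso_left e)
    (fun T hT h₁ h₃ Y c hY => ?_)
    (fun M _ _ n hM Y c hY => Bij.shift_left n (bij_inD M (isGE_shift_neg hY (-n))))
    X a b hab hfin
  · exact h Y c hY
  · refine bij₃ T.invRotate (inv_rot_of_distTriang T hT) Y ?_ ?_ ?_ ?_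
    · exact Bij.shift_left 1 (h₁ _ _ (isGE_shift_neg hY (-1)))
    · exact (h₃ Y c hY).of_iso_left
        ((shiftFunctorCompIsoId (Dual.D A) (-1 : ℤ) 1 (by simp)).app _).symm
    · exact h₁ Y c hY
    · exact Bij.shift_left (-1) (h₃ _ _ (isGE_shift_neg hY _))

end

end Groth.Agent.Lib.DMod.FlatHom
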