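import Groth.Agent.Lib.DMod.RepPoly
import Mathlib.LinearAlgebra.Contraction
import Mathlib.RingTheory.AdjoinRoot
import Mathlib.LinearAlgebra.Matrix.Block
import Mathlib.RingTheory.TensorProduct.Free

/-!
Finite projective algebras with a nondegenerate form: base change is right adjoint to restriction.
-/

set_option linter.style.haveILetI false

universe u

open CategoryTheory CategoryTheory.Limits Pretriangulated TensorProduct
open Groth.Agent.Lib.DR
open Groth.Agent.Lib.DMod.Basic Groth.Agent.Lib.DMod.FlatHom Groth.Agent.Lib.DMod.Rep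

attribute [local instance] HasDerivedCategory.standard

namespace Groth.Agent.Lib.DMod.Frob

/-- A nondegenerate form. -/
def IsForm {R Q : Type u} [CommRing R] [CommRing Q] [Algebra R Q] (τ : Q →ₗ[R] R) : Prop :=
  Function.Bijective fun q : Q => τ ∘ₗ LinearMap.mulLeft R q

variable {R Q : Type u} [CommRing R] [CommRing Q] [Algebra R Q] (τ : Q →ₗ[R] R)

/-- `q ↦ τ (q * -)`. -/
noncomputable def θ : Q →ₗ[R] Module.Dual R Q := (LinearMap.mul R Q).compr₂ τ

theorem θ_bijective (h : IsForm τ) : Function.Bijective (θ τ) := by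
  have e : ⇑(θ τ) = fun q : Q => τ ∘ₗ LinearMap.mulLeft R q := rfl
  rw [e]
  exact h

/-- `q ⊗ m ↦ (x ↦ τ (q x) • m)`. -/
noncomputable def Φ (M : Type u) [AddCommGroup M] [Module R M] : Q ⊗[R] M →ₗ[R] (Q →ₗ[R] M) :=
  dualTensorHom R Q M ∘ₗ (θ τ).rTensor M

theorem Φ_tmul {M : Type u} [AddCommGroup M] [Module R M] (q : Q) (m : M) (x : Q) :
    Φ τ M (q ⊗ₜ m) x = τ (q * x) • m := by
  simp [Φ, θ]

theorem Φ_smul {M : Type u} [AddCommGroup M] [Module R M] (b : Q) (z : Q ⊗[R] M) (x : Q) :
    Φ τ M (b • z) x = Φ τ M z (x * b) := by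
  induction z using TensorProduct.induction_on with
  | zero => simp
  | tmul q m =>
    rw [TensorProduct.smul_tmul', smul_eq_mul, Φ_tmul, Φ_tmul]
    congr 2
    ring
  | add u v hu hv => simp only [smul_add, map_add, LinearMap.add_apply, hu, hv]

theorem Φ_bijective [Module.Finite R Q] [Module.Projective R Q] (h : IsForm τ) (M : Type u)
    [AddCommGroup M] [Module R M] : Function.Bijective (Φ τ M) := by
  have h1 : Function.Bijective (dualTensorHom R Q M) :=
    (dualTensorHomEquiv (R := R) (M := Q) (N := M)).bijective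
  exact h1.comp (LinearEquiv.rTensor M (LinearEquiv.ofBijective (θ τ) (θ_bijective τ h))).bijective

section Derived

variable [Module.Finite R Q] [Module.Projective R Q] (hτ : IsForm τ)

/-- `Q ⊗ M = Hom(Q, M)`, as coextension of scalars. -/
noncomputable def extCoextHom (M : ModuleCat.{u} R) :
    ModuleCat.of Q (Q ⊗[R] M) ⟶ (ModuleCat.coextendScalars.{u, u, u} (algebraMap R Q)).obj M :=
  ModuleCat.ofHom (X := Q ⊗[R] M) (Y := (ModuleCat.coextendScalars.{u, u, u} (algebraMap R Q)).obj M)
    { toFun := fun z => (ModuleCat.CoextendScalars.equiv (algebraMap R Q) M).symm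
        { toFun := fun x => Φ τ M z (show Q from x)
          map_add' := fun x y => map_add (Φ τ M z) (show Q from x) (show Q from y)
          map_smul' := fun r x => by
            show Φ τ M z (algebraMap R Q r * (show Q from x)) = r • Φ τ M z (show Q from x)
            rw [← Algebra.smul_def, map_smul] }
      map_add' := fun z w => by
        refine (ModuleCat.CoextendScalars.equiv (algebraMap R Q) M).injective
          (LinearMap.ext fun x => ?_)
        show Φ τ M (z + w) (show Q from x) = Φ τ M z (show Q from x) + Φ τ M w (show Q from x)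
        rw [map_add]
        rfl
      map_smul' := fun b z => by
        refine (ModuleCat.CoextendScalars.equiv (algebraMap R Q) M).injective
          (LinearMap.ext fun x => ?_)
        exact Φ_smul τ b z (show Q from x) }

include hτ in
theorem isIso_extCoextHom (M : ModuleCat.{u} R) : IsIso (extCoextHom τ M) := by
  refine (ConcreteCategory.isIso_iff_bijective _).2 ⟨fun z w h => ?_, fun g => ?_⟩
  · refine (Φ_bijective τ hτ M).1 (LinearMap.ext fun x => ?_)
    exact LinearMap.congr_fun
      (congrArg (ModuleCat.CoextendScalars.equiv (algebraMap R Q) M) h) x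
  · let g' : Q →ₗ[R] M :=
      { toFun := fun x => ModuleCat.CoextendScalars.equiv (algebraMap R Q) M g x
        map_add' := fun x y => map_add (ModuleCat.CoextendScalars.equiv (algebraMap R Q) M g) x y
        map_smul' := fun r x => by
          have := map_smul (ModuleCat.CoextendScalars.equiv (algebraMap R Q) M g) r
            (show (ModuleCat.restrictScalars.{u} (algebraMap R Q)).obj (ModuleCat.of Q Q) from x)
          refine Eq.trans ?_ this
          exact congrArg _ (Algebra.smul_def r x) }
    obtain ⟨z, hz⟩ := (Φ_bijective τ hτ M).2 g'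
    refine ⟨z, (ModuleCat.CoextendScalars.equiv (algebraMap R Q) M).injective
      (LinearMap.ext fun x => ?_)⟩
    exact LinearMap.congr_fun hz x

include hτ in
/-- Base change represents `Hom(res -, K)`. -/
theorem represents (K : Dual.D R) :
    haveI : Module.Flat R Q := inferInstance
    Represents (algebraMap R Q) ((L R Q).obj K) K := by
  obtain ⟨I, f, hI, hf⟩ :=
    Groth.Agent.Lib.DerCat.KInjExists.hasKInjRes (DerivedCategory.Q.objPreimage K)
  have : IsIso (DerivedCategory.Q.map f) := (DerivedCategory.isIso_Q_map_iff_quasiIso _ f).2 hf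
  let e : DerivedCategory.Q.obj I ≅ K :=
    (asIso (DerivedCategory.Q.map f)).symm ≪≫ DerivedCategory.Q.objObjPreimageIso K
  let c : ((E R Q).mapHomologicalComplex (.up ℤ)).obj I ≅ FiniteRing.coI (algebraMap R Q) I :=
    HomologicalComplex.Hom.isoOfComponents
      (fun i => (FlatBC.extEquiv R Q (I.X i)).toModuleIso ≪≫ @asIso _ _ _ _ (extCoextHom τ (I.X i)) (isIso_extCoextHom τ hτ (I.X i)))
      (fun i j _ => by
        refine ModuleCat.ExtendScalars.hom_ext fun m => ?_
        refine (ModuleCat.CoextendScalars.equiv (algebraMap R Q) (I.X j)).injective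
          (LinearMap.ext fun x => ?_)
        show (I.d i j).hom (Φ τ (I.X i) (((1 : Q)) ⊗ₜ m) (show Q from x)) =
          Φ τ (I.X j) ((1 : Q) ⊗ₜ (I.d i j).hom m) (show Q from x)
        rw [Φ_tmul, Φ_tmul, map_smul])
  have h : Represents (algebraMap R Q) (DerivedCategory.Q.obj (FiniteRing.coI (algebraMap R Q) I))
      (DerivedCategory.Q.obj I) := ⟨_, Rep.isRep_eps _ I⟩
  exact (h.of_iso_left ((L R Q).mapIso e.symm ≪≫ (E R Q).mapDerivedCategoryFactors.app I ≪≫
    DerivedCategory.Q.mapIso c)).of_iso_right e

end Derived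

section BaseChange

attribute [local instance] Algebra.TensorProduct.rightAlgebra

variable (P : Type u) [CommRing P] [Algebra R P]

/-- A form on a base change. -/
noncomputable def formBC : Q ⊗[R] P →ₗ[P] P :=
  { TensorProduct.lift ((LinearMap.lsmul R P) ∘ₗ τ) with
    map_smul' := fun p z => by
      induction z using TensorProduct.induction_on with
      | zero => simp
      | tmul q p' =>
        show TensorProduct.lift ((LinearMap.lsmul R P) ∘ₗ τ) (((1 : Q) ⊗ₜ p) * (q ⊗ₜ p')) = p * _
        rw [Algebra.TensorProduct.tmul_mul_tmul, one_mul]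
        show τ q • (p * p') = p * (τ q • p')
        rw [mul_smul_comm]
      | add u v hu hv =>
        have : p • (u + v) = p • u + p • v := smul_add p u v
        simp only [this]
        show TensorProduct.lift _ (p • u + p • v) = p • TensorProduct.lift _ (u + v)
        rw [map_add, map_add, smul_add]
        exact congrArg₂ (· + ·) hu hv }

theorem formBC_tmul (q : Q) (p : P) : formBC τ P (q ⊗ₜ p) = τ q • p := rfl

theorem isForm_formBC [Module.Finite R Q] [Module.Projective R Q] (h : IsForm τ) :
    IsForm (formBC τ P) := by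
  -- restrict along `q ↦ q ⊗ 1`
  have key : ∀ (z : Q ⊗[R] P) (x : Q), formBC τ P (z * (x ⊗ₜ 1)) = Φ τ P z x := fun z x => by
    induction z using TensorProduct.induction_on with
    | zero => simp
    | tmul q p => rw [Algebra.TensorProduct.tmul_mul_tmul, mul_one, formBC_tmul, Φ_tmul]
    | add u v hu hv => rw [add_mul, map_add, hu, hv, map_add, LinearMap.add_apply]
  have hsm : ∀ (x : Q) (p : P), x ⊗ₜ[R] p = p • (x ⊗ₜ[R] (1 : P)) := fun x p => by
    show _ = ((1 : Q) ⊗ₜ[R] p) * (x ⊗ₜ 1)
    rw [Algebra.TensorProduct.tmul_mul_tmul, one_mul, mul_one]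
  refine ⟨fun z w hzw => (Φ_bijective τ h P).1 (LinearMap.ext fun x => ?_), fun g => ?_⟩
  · rw [← key, ← key]
    exact LinearMap.congr_fun hzw _
  · let g' : Q →ₗ[R] P :=
      { toFun := fun x => g (x ⊗ₜ 1)
        map_add' := fun x y => by rw [TensorProduct.add_tmul, map_add]
        map_smul' := fun r x => by
          rw [TensorProduct.smul_tmul, hsm x (r • (1 : P)), map_smul, smul_eq_mul, smul_mul_assoc, one_mul]
          rfl }
    obtain ⟨z, hz⟩ := (Φ_bijective τ h P).2 g'
    refine ⟨z, LinearMap.ext fun w => ?_⟩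
    show formBC τ P (z * w) = g w
    induction w using TensorProduct.induction_on with
    | zero => simp
    | tmul x p =>
      rw [hsm x p, mul_smul_comm, map_smul, map_smul, key]
      exact congrArg (p • ·) (LinearMap.congr_fun hz x)
    | add u v hu hv => rw [mul_add, map_add, map_add, hu, hv]

theorem finite_projective_bc [Module.Finite R Q] [Module.Projective R Q] :
    Module.Finite P (Q ⊗[R] P) ∧ Module.Projective P (Q ⊗[R] P) := by
  let e : P ⊗[R] Q ≃ₗ[P] Q ⊗[R] P :=
    { (TensorProduct.comm R P Q) with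
      map_smul' := fun p z => by
        induction z using TensorProduct.induction_on with
        | zero => simp
        | tmul p' q =>
          show TensorProduct.comm R P Q ((p * p') ⊗ₜ q) = ((1 : Q) ⊗ₜ[R] p) * (q ⊗ₜ p')
          rw [Algebra.TensorProduct.tmul_mul_tmul, one_mul, TensorProduct.comm_tmul]
        | add u v hu hv =>
          show TensorProduct.comm R P Q (p • (u + v)) = p • TensorProduct.comm R P Q (u + v)
          rw [smul_add, map_add, map_add]
          exact (congrArg₂ (· + ·) hu hv).trans (smul_add p _ _).symm }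
  exact ⟨Module.Finite.equiv e, Module.Projective.of_equiv e⟩

end BaseChange

section Cover

/-- Forms compose. -/
theorem isForm_comp {S : Type u} [CommRing S] [Algebra R S] [Algebra Q S] [IsScalarTower R Q S]
    {ρ : S →ₗ[Q] Q} (hρ : IsForm ρ) (h : IsForm τ) : IsForm (τ ∘ₗ ρ.restrictScalars R) := by
  refine ⟨fun a b hab => hρ.1 (LinearMap.ext fun x => h.1 (LinearMap.ext fun q => ?_)), fun g => ?_⟩
  · show τ (ρ (a * x) * q) = τ (ρ (b * x) * q)
    have h2 : τ (ρ (a * (q • x))) = τ (ρ (b * (q • x))) := LinearMap.congr_fun hab (q • x)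
    rw [mul_smul_comm, mul_smul_comm, ρ.map_smul, ρ.map_smul, smul_eq_mul, smul_eq_mul, mul_comm q,
      mul_comm q] at h2
    exact h2
  · -- the `Q`-linear map underlying `g`
    let gx : S → Module.Dual R Q := fun x => g ∘ₗ ((LinearMap.id (R := Q) (M := Q)).smulRight x).restrictScalars R
    let E := LinearEquiv.ofBijective (θ τ) (θ_bijective τ h)
    let φ : S →ₗ[Q] Q :=
      { toFun := fun x => E.symm (gx x)
        map_add' := fun x y => by
          rw [← map_add]
          exact congrArg E.symm (LinearMap.ext fun q => by simp [gx, smul_add])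
        map_smul' := fun q x => E.injective (by
          rw [LinearEquiv.apply_symm_apply]
          refine LinearMap.ext fun q' => ?_
          show gx (q • x) q' = τ ((q * E.symm (gx x)) * q')
          rw [mul_comm q, mul_assoc]
          show _ = E (E.symm (gx x)) (q * q')
          rw [LinearEquiv.apply_symm_apply]
          simp [gx, smul_smul, mul_comm]) }
    obtain ⟨s, hs⟩ := hρ.2 φ
    refine ⟨s, LinearMap.ext fun x => ?_⟩
    show τ (ρ (s * x)) = g x
    rw [show ρ (s * x) = φ x from LinearMap.congr_fun hs x, ← mul_one (φ x)]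
    show E (E.symm (gx x)) 1 = g x
    rw [LinearEquiv.apply_symm_apply]
    simp [gx]

open Polynomial in
/-- The residue form. -/
theorem exists_isForm_adjoinRoot {D : Type u} [CommRing D] {f : Polynomial D} (hf : f.Monic) :
    ∃ ρ : AdjoinRoot f →ₗ[D] D, IsForm ρ := by
  classical
  rcases subsingleton_or_nontrivial D with hD | hD
  · have : Subsingleton (AdjoinRoot f) := Module.subsingleton D _
    exact ⟨0, fun a b _ => Subsingleton.elim a b, fun g => ⟨0, Subsingleton.elim _ _⟩⟩
  let pb := AdjoinRoot.powerBasis' hf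
  rcases Nat.eq_zero_or_pos pb.dim with h0 | hpos
  · have : IsEmpty (Fin pb.dim) := by rw [h0]; infer_instance
    have : Subsingleton (AdjoinRoot f) := pb.basis.repr.toEquiv.subsingleton
    exact ⟨0, fun a b _ => Subsingleton.elim a b, fun g => ⟨0, LinearMap.ext fun x => by
      rw [Subsingleton.elim x 0, map_zero, map_zero]⟩⟩
  let last : Fin pb.dim := ⟨pb.dim - 1, by omega⟩
  let ρ : AdjoinRoot f →ₗ[D] D := pb.basis.coord last
  refine ⟨ρ, ?_⟩
  have hpow : ∀ k : ℕ, k < pb.dim → ρ (pb.gen ^ k) = if k = pb.dim - 1 then 1 else 0 := fun k hk => by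
    have : pb.gen ^ k = pb.basis ⟨k, hk⟩ := (pb.basis_eq_pow ⟨k, hk⟩).symm
    rw [this]
    simp only [ρ, Module.Basis.coord_apply, Module.Basis.repr_self, Finsupp.single_apply, last, Fin.ext_iff]
  let M : Matrix (Fin pb.dim) (Fin pb.dim) D := fun i j => ρ (pb.gen ^ ((i : ℕ) + (Fin.rev j : ℕ)))
  have hM : IsUnit M.det := by
    have htri : M.IsLowerTriangular := fun i j hij => by
      have hij' : (i : ℕ) < (j : ℕ) := hij
      show ρ _ = 0
      rw [hpow _ (by rw [Fin.val_rev]; omega), if_neg (by rw [Fin.val_rev]; omega)]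
    rw [Matrix.det_of_isLowerTriangular M htri, Finset.prod_eq_one fun i _ => ?_]
    · exact isUnit_one
    · show ρ _ = 1
      rw [hpow _ (by rw [Fin.val_rev]; omega), if_pos (by rw [Fin.val_rev]; omega)]
  let c : (AdjoinRoot f →ₗ[D] D) →ₗ[D] (Fin pb.dim → D) :=
    { toFun := fun g j => g (pb.gen ^ (Fin.rev j : ℕ))
      map_add' := fun _ _ => rfl
      map_smul' := fun _ _ => rfl }
  have hc : Function.Bijective c := by
    refine ⟨fun g g' h => pb.basis.ext fun j => ?_, fun v => ⟨pb.basis.constr D fun j => v (Fin.rev j), ?_⟩⟩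
    · have h2 : g (pb.gen ^ (Fin.rev (Fin.rev j) : ℕ)) = g' (pb.gen ^ (Fin.rev (Fin.rev j) : ℕ)) :=
        congrFun h (Fin.rev j)
      rw [Fin.rev_rev, ← pb.basis_eq_pow] at h2
      exact h2
    · funext j
      show pb.basis.constr D _ (pb.gen ^ (Fin.rev j : ℕ)) = v j
      rw [← pb.basis_eq_pow (Fin.rev j), Module.Basis.constr_basis, Fin.rev_rev]
  have hcomp : c ∘ₗ θ ρ = (Matrix.toLin' M.transpose) ∘ₗ pb.basis.equivFun.toLinearMap := by
    refine pb.basis.ext fun i => funext fun j => ?_
    show ρ (pb.basis i * pb.gen ^ (Fin.rev j : ℕ)) = Matrix.toLin' M.transpose (pb.basis.equivFun (pb.basis i)) j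
    rw [Matrix.toLin'_apply, Module.Basis.equivFun_apply, Module.Basis.repr_self, Finsupp.single_eq_pi_single,
      Matrix.mulVec_single_one, pb.basis_eq_pow i, ← pow_add]
    rfl
  have hbij : Function.Bijective (c ∘ₗ θ ρ) := by
    rw [hcomp]
    exact ((Module.End.isUnit_iff _).1 (Matrix.isUnit_toLin'_iff.2 ((Matrix.isUnit_iff_isUnit_det _).2
      (by rw [Matrix.det_transpose]; exact hM)))).comp pb.basis.equivFun.bijective
  exact (Function.Bijective.of_comp_iff' hc _).1 hbij

/-- A finite algebra is a quotient of one with a form. -/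
theorem exists_cover {A : Type u} [CommRing A] [Algebra R A] [Module.Finite R A] (s : Finset A) :
    ∃ (Q : Type u) (_ : CommRing Q) (_ : Algebra R Q) (_ : Module.Finite R Q) (_ : Module.Free R Q)
      (χ : Q →ₐ[R] A) (τ : Q →ₗ[R] R), IsForm τ ∧ ∀ a ∈ s, a ∈ χ.range := by
  classical
  induction s using Finset.induction_on with
  | empty =>
    refine ⟨R, inferInstance, Algebra.id R, inferInstance, inferInstance, Algebra.ofId R A, LinearMap.id,
      ⟨fun a b h => by simpa using LinearMap.congr_fun h 1, fun g => ⟨g 1, LinearMap.ext_ring (by simp)⟩⟩,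
      by simp⟩
  | insert a s _ ih =>
    obtain ⟨Q, _, _, _, _, χ, τ, hτ, hs⟩ := ih
    obtain ⟨f, hf, hfa⟩ := IsIntegral.of_finite R a
    let F : Polynomial Q := f.map (algebraMap R Q)
    have hF : F.Monic := hf.map _
    let S := AdjoinRoot F
    haveI : Module.Finite Q S := Module.Finite.of_basis (AdjoinRoot.powerBasis' hF).basis
    haveI : Module.Free Q S := Module.Free.of_basis (AdjoinRoot.powerBasis' hF).basis
    haveI : Module.Finite R S := Module.Finite.trans Q S
    haveI : Module.Free R S := Module.Free.trans (S := Q)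
    obtain ⟨ρ, hρ⟩ := exists_isForm_adjoinRoot hF
    have hroot : F.eval₂ χ.toRingHom a = 0 := by
      rw [Polynomial.eval₂_map, show χ.toRingHom.comp (algebraMap R Q) = algebraMap R A from χ.comp_algebraMap]
      exact hfa
    let χ' : S →ₐ[R] A :=
      { AdjoinRoot.lift χ.toRingHom a hroot with
        commutes' := fun r => by
          show AdjoinRoot.lift χ.toRingHom a hroot (algebraMap R S r) = algebraMap R A r
          rw [IsScalarTower.algebraMap_apply R Q S]
          exact (AdjoinRoot.lift_of hroot).trans (χ.commutes r) }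
    refine ⟨S, inferInstance, inferInstance, inferInstance, inferInstance, χ', τ ∘ₗ ρ.restrictScalars R,
      isForm_comp τ hρ hτ, fun b hb => ?_⟩
    rcases Finset.mem_insert.1 hb with rfl | hb
    · exact ⟨AdjoinRoot.root F, AdjoinRoot.lift_root hroot⟩
    · obtain ⟨q, rfl⟩ := hs b hb
      exact ⟨AdjoinRoot.of F q, AdjoinRoot.lift_of hroot⟩

end Cover

end Groth.Agent.Lib.DMod.Frob
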