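import Groth.Agent.Lib.DMod.LocalDuality
import Groth.Agent.Lib.RGamma.Amplitude
import Groth.Agent.Lib.RGamma.LocalKill
import Groth.Agent.Lib.DMod.Biduality
import Groth.Agent.Lib.DMod.FlatDualizing
import Groth.Agent.Lib.DR.Basic
import Groth.Agent.Lib.DR.EvalHom
import Mathlib.Algebra.Homology.DerivedCategory.HomologySequence

/-!
The local duality pairing for unbounded objects with finite cohomology.
-/

universe u

open CategoryTheory Category Limits Pretriangulated Opposite

attribute [local instance] HasDerivedCategory.standard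

namespace Groth.Agent.Lib.DMod.GoodUnbounded

open Groth.Agent.Lib.DMod Groth.Agent.Lib.DMod.Basic Groth.Agent.Lib.DMod.Sys Groth.Agent.Lib.DMod.Pairing

variable {A : Type u} [CommRing A] [IsLocalRing A] [IsNoetherianRing A]

local notation "𝔪" => IsLocalRing.maximalIdeal A

variable {ω : Dual.D A} {E : Type u} [AddCommGroup E] [Module A E] (t : Trace ω E)

theorem surj_of_subsingleton (X : Dual.D A) (h : Subsingleton (X ⟶ ω)) : Surj t X := fun φ =>
  ⟨0, 0, fun k => by rw [Subsingleton.elim k 0, comp_zero, map_zero, map_zero]⟩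

theorem inj_of_hdi (K : Dual.D A) (i : ℤ) (h : Subsingleton (Dual2.HDI A 𝔪 K i)) : Inj t (K⟦i⟧) := fun n g _ => by
  obtain ⟨k', f, hk⟩ := RGamma.LocalKill.exists_of_ι_eq_zero K i (op (op n)) g (h.elim _ _)
  exact ⟨k'.unop.unop, leOfHom f.unop.unop, hk⟩

variable (hω : Dual.IsDualizing A ω) (hn : Dual.IsNormalized A ω)
  {f : IsLocalRing.ResidueField A →ₗ[A] E} (hf : InjHull.IsInjectiveHull f)
include hω hn hf

/-- Bounded above objects with finite cohomology are good. -/
theorem good_of_isLE (X : Dual.D A) (hfin : ∀ j, Module.Finite A (Dual.HD A X j)) (b : ℤ) (hb : X.IsLE b) :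
    Good t X := by
  obtain ⟨I, a₀, b₀, hI, -, ⟨eI⟩⟩ := Biduality.exists_complex hω
  haveI : ω.IsGE a₀ := by
    haveI : I.IsStrictlyGE a₀ := (CochainComplex.isStrictlyGE_iff _ _).2 fun q hq => hI q (Or.inl hq)
    haveI : (DerivedCategory.Q.obj I).IsGE a₀ := inferInstance
    exact DR.Basic.isGE_of_iso' eI inferInstance
  obtain ⟨c, hc⟩ := RGamma.subsingleton_HDI 𝔪
  intro i
  let N := min (i - c - 1) (a₀ + i - 2)
  obtain ⟨P, R, p, q, k, hd, hP, hR⟩ := DR.Basic.exists_trunc X N (N + 1) rfl
  let T := Triangle.mk p q k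
  have hRfin : ∀ j, Module.Finite A (Dual.HD A R j) := fun j => by
    by_cases hj : j < N + 1
    · haveI := ModuleCat.subsingleton_of_isZero (DerivedCategory.isZero_of_isGE R (N + 1) j hj)
      exact Module.Finite.of_finite
    · haveI : Module.Finite A ((DerivedCategory.homologyFunctor (ModuleCat.{u} A) j).obj T.obj₂) := hfin j
      have hz : IsZero ((DerivedCategory.homologyFunctor (ModuleCat.{u} A) (j + 1)).obj T.obj₁) :=
        DerivedCategory.isZero_of_isLE P N (j + 1) (by lia)
      have := (DerivedCategory.HomologySequence.epi_homologyMap_mor₂_iff T hd j (j + 1) rfl).2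
        (hz.eq_of_tgt _ _)
      exact Module.Finite.of_surjective ((DerivedCategory.homologyFunctor (ModuleCat.{u} A) j).map T.mor₂).hom
        ((ModuleCat.epi_iff_surjective _).1 this)
  have hgR : Good t R := good_of_bounded t hω hn hf R hRfin (N + 1) (max b (N + 1)) fun j hj => by
    rcases hj with hj | hj
    · exact ModuleCat.subsingleton_of_isZero (DerivedCategory.isZero_of_isGE R (N + 1) j hj)
    · have hz : IsZero ((DerivedCategory.homologyFunctor (ModuleCat.{u} A) (j + 1)).obj T.obj₁) :=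
        DerivedCategory.isZero_of_isLE P N (j + 1) (by lia)
      exact ModuleCat.subsingleton_of_isZero
        ((DerivedCategory.HomologySequence.exact₃ T hd j (j + 1) rfl).isZero_X₂
          ((DerivedCategory.isZero_of_isLE X b j (by lia)).eq_of_src _ _) (hz.eq_of_tgt _ _))
  have hinj : ∀ m, i ≤ m → m ≤ i + 1 → Inj t (P⟦m⟧) := fun m h1 h2 =>
    inj_of_hdi t P m (hc P N hP m (by lia))
  have hsurj : Surj t (P⟦i⟧) := surj_of_subsingleton t _ (subsingleton_of_forall_eq 0 fun g => by
    haveI := hP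
    have : (P⟦i⟧).IsLE (N - i) := DerivedCategory.TStructure.t.isLE_shift P N i _ (by lia)
    have : ω.IsGE (N - i + 1) := DerivedCategory.TStructure.t.isGE_of_ge _ _ a₀ (by lia)
    exact DerivedCategory.TStructure.t.zero g (N - i) (N - i + 1))
  let S := (Triangle.shiftFunctor (Dual.D A) i).obj T
  have hS : S ∈ distTriang (Dual.D A) := Triangle.shift_distinguished _ hd i
  have e3 : (R⟦i + (-1)⟧) ≅ (R⟦i⟧)⟦(-1 : ℤ)⟧ := (shiftFunctorAdd (Dual.D A) i (-1 : ℤ)).app _
  have e1 : (P⟦i + 1⟧) ≅ (P⟦i⟧)⟦(1 : ℤ)⟧ := (shiftFunctorAdd _ i 1).app _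
  have hE : Module.Baer A E := Module.Baer.of_injective hf.isInjective
  exact ⟨inj_mid t hE (epair_of_distTriang (inv_rot_of_distTriang _ hS)) (epair_of_distTriang hS)
      (surj_of_iso t e3 (hgR (i + (-1))).2) (hinj i le_rfl (by lia)) (hgR i).1,
    surj_mid t hE (epair_of_distTriang hS) (epair_of_distTriang (rot_of_distTriang _ hS))
      hsurj (hgR i).2 (inj_of_iso t e1 (hinj (i + 1) (by lia) le_rfl))⟩

/-- Objects with finite cohomology are good. -/
theorem good (X : Dual.D A) (hfin : ∀ j, Module.Finite A (Dual.HD A X j)) : Good t X := by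
  obtain ⟨I, a₀, b₀, hI, hinjI, ⟨eI⟩⟩ := Biduality.exists_complex hω
  haveI := hinjI
  haveI : I.IsStrictlyGE a₀ := (CochainComplex.isStrictlyGE_iff _ _).2 fun q hq => hI q (Or.inl hq)
  haveI : I.IsKInjective := CochainComplex.isKInjective_of_injective I a₀
  intro i
  let M := max i (b₀ + i) + 2
  obtain ⟨P, R, p, q, k, hd, hP, hR⟩ := DR.Basic.exists_trunc X (M - 1) M (by lia)
  let T := Triangle.mk p q k
  have hPfin : ∀ j, Module.Finite A (Dual.HD A P j) := fun j => by
    by_cases hj : M - 1 < j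
    · haveI := ModuleCat.subsingleton_of_isZero (DerivedCategory.isZero_of_isLE P (M - 1) j hj)
      exact Module.Finite.of_finite
    · haveI : IsNoetherian A ((DerivedCategory.homologyFunctor (ModuleCat.{u} A) j).obj T.obj₂) :=
        haveI : Module.Finite A ((DerivedCategory.homologyFunctor (ModuleCat.{u} A) j).obj T.obj₂) := hfin j
        isNoetherian_of_isNoetherianRing_of_finite A _
      have hz : IsZero ((DerivedCategory.homologyFunctor (ModuleCat.{u} A) (j - 1)).obj T.obj₃) :=
        DerivedCategory.isZero_of_isGE R M (j - 1) (by lia)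
      have := (DerivedCategory.HomologySequence.mono_homologyMap_mor₁_iff T hd (j - 1) j (by lia)).2
        (hz.eq_of_src _ _)
      exact Module.Finite.of_injective ((DerivedCategory.homologyFunctor (ModuleCat.{u} A) j).map T.mor₁).hom
        ((ModuleCat.mono_iff_injective _).1 this)
  have hgP := good_of_isLE t hω hn hf P hPfin (M - 1) hP
  have hQD : ∀ n m, m ≤ i → Subsingleton (QD A n ⟶ R⟦m⟧) := fun n m hm => subsingleton_of_forall_eq 0 fun g => by
    haveI := hR
    have : (R⟦m⟧).IsGE (M - m) := DerivedCategory.TStructure.t.isGE_shift R M m _ (by lia)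
    have : (R⟦m⟧).IsGE 1 := DerivedCategory.TStructure.t.isGE_of_ge _ 1 (M - m) (by lia)
    exact DerivedCategory.TStructure.t.zero g 0 1
  have hinj : Inj t (R⟦i⟧) := fun n g _ => ⟨n, le_rfl, (hQD n i le_rfl).elim _ _⟩
  have hsurj : ∀ m, m ≤ i → Surj t (R⟦m⟧) := fun m hm => surj_of_subsingleton t _ (subsingleton_of_forall_eq 0 fun g => by
    haveI := hR
    have : (R⟦m⟧).IsGE (M - m) := DerivedCategory.TStructure.t.isGE_shift R M m _ (by lia)
    obtain ⟨K, hK, ⟨eK⟩⟩ := (R⟦m⟧).exists_iso_Q_obj_of_isGE (M - m)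
    obtain ⟨γ, hγ⟩ := DR.EvalHom.exists_Q_map_eq_injective (E := K) (K := I) (eK.inv ≫ g ≫ eI.inv)
    have h0 : γ = 0 := by
      ext j : 1
      by_cases hj : j < M - m
      · exact (K.isZero_of_isStrictlyGE (M - m) j hj).eq_of_src _ _
      · exact (hI j (Or.inr (by lia))).eq_of_tgt _ _
    have h : eK.inv ≫ g ≫ eI.inv = 0 := by rw [← hγ, h0, Functor.map_zero]
    exact (cancel_epi eK.inv).1 ((cancel_mono eI.inv).1
      (((Category.assoc _ _ _).trans h).trans (by rw [comp_zero, zero_comp]))))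
  let S := (Triangle.shiftFunctor (Dual.D A) i).obj T
  have hS : S ∈ distTriang (Dual.D A) := Triangle.shift_distinguished _ hd i
  have e3 : (R⟦i + (-1)⟧) ≅ (R⟦i⟧)⟦(-1 : ℤ)⟧ := (shiftFunctorAdd (Dual.D A) i (-1 : ℤ)).app _
  have e1 : (P⟦i + 1⟧) ≅ (P⟦i⟧)⟦(1 : ℤ)⟧ := (shiftFunctorAdd _ i 1).app _
  have hE : Module.Baer A E := Module.Baer.of_injective hf.isInjective
  exact ⟨inj_mid t hE (epair_of_distTriang (inv_rot_of_distTriang _ hS)) (epair_of_distTriang hS)
      (surj_of_iso t e3 (hsurj (i + (-1)) (by lia))) (hgP i).1 hinj,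
    surj_mid t hE (epair_of_distTriang hS) (epair_of_distTriang (rot_of_distTriang _ hS))
      (hgP i).2 (hsurj i le_rfl) (inj_of_iso t e1 (hgP (i + 1)).1)⟩

omit hn hf in
/-- Maps from an object with finite cohomology into a dualizing complex form a finite module. -/
theorem finite_hom (X : Dual.D A) (hfin : ∀ j, Module.Finite A (Dual.HD A X j)) : Module.Finite A (X ⟶ ω) := by
  obtain ⟨I, a₀, b₀, hI, hinjI, ⟨eI⟩⟩ := Biduality.exists_complex hω
  haveI := hinjI
  haveI : I.IsStrictlyGE a₀ := (CochainComplex.isStrictlyGE_iff _ _).2 fun q hq => hI q (Or.inl hq)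
  haveI : I.IsKInjective := CochainComplex.isKInjective_of_injective I a₀
  let M := b₀ + 1
  obtain ⟨P, R, p, q, k, hd, hP, hR⟩ := DR.Basic.exists_trunc X (M - 1) M (by lia)
  let T := Triangle.mk p q k
  have hPfin : ∀ j, Module.Finite A (Dual.HD A P j) := fun j => by
    by_cases hj : M - 1 < j
    · haveI := ModuleCat.subsingleton_of_isZero (DerivedCategory.isZero_of_isLE P (M - 1) j hj)
      exact Module.Finite.of_finite
    · haveI : IsNoetherian A ((DerivedCategory.homologyFunctor (ModuleCat.{u} A) j).obj T.obj₂) :=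
        haveI : Module.Finite A ((DerivedCategory.homologyFunctor (ModuleCat.{u} A) j).obj T.obj₂) := hfin j
        isNoetherian_of_isNoetherianRing_of_finite A _
      have hz : IsZero ((DerivedCategory.homologyFunctor (ModuleCat.{u} A) (j - 1)).obj T.obj₃) :=
        DerivedCategory.isZero_of_isGE R M (j - 1) (by lia)
      have := (DerivedCategory.HomologySequence.mono_homologyMap_mor₁_iff T hd (j - 1) j (by lia)).2
        (hz.eq_of_src _ _)
      exact Module.Finite.of_injective ((DerivedCategory.homologyFunctor (ModuleCat.{u} A) j).map T.mor₁).hom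
        ((ModuleCat.mono_iff_injective _).1 this)
  have hsurj : Subsingleton (R ⟶ ω) := subsingleton_of_forall_eq 0 fun g => by
    haveI := hR
    obtain ⟨K, hK, ⟨eK⟩⟩ := R.exists_iso_Q_obj_of_isGE M
    obtain ⟨γ, hγ⟩ := DR.EvalHom.exists_Q_map_eq_injective (E := K) (K := I) (eK.inv ≫ g ≫ eI.inv)
    have h0 : γ = 0 := by
      ext j : 1
      by_cases hj : j < M
      · exact (K.isZero_of_isStrictlyGE M j hj).eq_of_src _ _
      · exact (hI j (Or.inr (by lia))).eq_of_tgt _ _
    have h : eK.inv ≫ g ≫ eI.inv = 0 := by rw [← hγ, h0, Functor.map_zero]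
    exact (cancel_epi eK.inv).1 ((cancel_mono eI.inv).1
      (((Category.assoc _ _ _).trans h).trans (by rw [comp_zero, zero_comp])))
  have hω' := FlatDualizing.bddFin_of_dualizing hω
  obtain ⟨hωf, c, d, hωb⟩ := hω'
  exact finite_hom_from_obj₂ hd (X := ω)
    (Devissage.finite_hom_of_isLE P ω (M - 1) c d
      (fun j hj => ModuleCat.subsingleton_of_isZero (DerivedCategory.isZero_of_isLE P (M - 1) j hj)) hPfin hωb hωf)
    (haveI : Subsingleton ((Triangle.mk p q k).obj₃ ⟶ ω) := hsurj; Module.Finite.of_finite)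

end Groth.Agent.Lib.DMod.GoodUnbounded
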