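import Groth.Agent.Lib.DMod.LBC
import Groth.Agent.Lib.DMod.Gorenstein
import Mathlib.RingTheory.Spectrum.Prime.FreeLocus
import Mathlib.RingTheory.Spectrum.Prime.Module

/-!
The Gorenstein locus of a ring with a dualizing complex.
-/

universe u

open CategoryTheory CategoryTheory.Limits Pretriangulated TensorProduct
open Groth.Agent.Lib.DMod Groth.Agent.Lib.DMod.Basic Groth.Agent.Lib.DMod.Conservative
open Groth.Agent.Lib.DMod.FlatHom Groth.Agent.Lib.DMod.FlatDualizing

attribute [local instance] HasDerivedCategory.standard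

namespace Groth.Agent.Lib.DMod.GorLocus

variable {A : Type u} [CommRing A]

theorem isDualizing_atPrime [IsNoetherianRing A] {ω : Dual.D A} (hω : Dual.IsDualizing A ω)
    (p : Ideal A) [p.IsPrime] :
    Dual.IsDualizing (Localization.AtPrime p) ((L A (Localization.AtPrime p)).obj ω) := by
  have := IsLocalization.flat (Localization.AtPrime p) p.primeCompl
  exact isDualizing_L _ hω (fid_L_of_extended _ (bddFin_of_dualizing hω)
    hω.finite_injective_dimension (LBC.extended_localization p.primeCompl))

/-- The cohomology of a dualizing complex of a Gorenstein local ring. -/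
theorem concentrated_of_gorenstein [LocCoh.IsGorensteinLocalRing A] {ω : Dual.D A}
    (hω : Dual.IsDualizing A ω) :
    ∃ c : ℤ, (∀ i, i ≠ c → Subsingleton (Dual.HD A ω i)) ∧ Nonempty (Dual.HD A ω c ≃ₗ[A] A) := by
  obtain ⟨n, hn⟩ := LocCoh.IsGorensteinLocalRing.exists_hasInjectiveDimensionLT (A := A)
  have hA := Gorenstein.isDualizing_self hn
  obtain ⟨m, hm⟩ := Conservative.exists_normalized_shift hω
  obtain ⟨m', hm'⟩ := Conservative.exists_normalized_shift hA
  obtain ⟨e⟩ := Conservative.nonempty_iso (Gorenstein.isDualizing_shift hω m) hm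
    (Gorenstein.isDualizing_shift hA m') hm'
  refine ⟨m - m', fun i hi => ?_, ⟨?_⟩⟩
  · have := subsingleton_HD_inD (A := A) A (i := m' + (i - m)) (by lia)
    exact (((HDShift ω m (i - m) i (by lia)).symm.trans (HDCongr e (i - m))).trans
      (HDShift (Dual.inD A A) m' (i - m) _ rfl)).toEquiv.subsingleton
  · exact (((HDShift ω m (-m') (m - m') (by lia)).symm.trans (HDCongr e (-m'))).trans
      (HDShift (Dual.inD A A) m' (-m') 0 (by lia))).trans (HDinD A)

/-- A local ring with a dualizing complex concentrated in one degree and free of rank one there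
is Gorenstein. -/
theorem gorenstein_of_concentrated [IsNoetherianRing A] [IsLocalRing A] {ω : Dual.D A}
    (hω : Dual.IsDualizing A ω) (c : ℤ) (hc : ∀ i, i ≠ c → Subsingleton (Dual.HD A ω i))
    (e : Dual.HD A ω c ≃ₗ[A] A) : LocCoh.IsGorensteinLocalRing A := by
  have : ω.IsGE c := (isGE_iff ω c).2 fun i hi => hc i (by lia)
  have : ω.IsLE c := (isLE_iff ω c).2 fun i hi => hc i (by lia)
  obtain ⟨e₁⟩ := Devissage.exists_iso_inD_shift ω c
  let e₂ : ω⟦c⟧ ≅ Dual.inD A A := (shiftFunctor _ c).mapIso e₁ ≪≫
    (shiftFunctorCompIsoId (Dual.D A) (-c) c (by simp)).app _ ≪≫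
      (DerivedCategory.singleFunctor (ModuleCat.{u} A) 0).mapIso e.toModuleIso
  have hA := LBC.isDualizing_of_iso e₂ (Gorenstein.isDualizing_shift hω c)
  obtain ⟨a, b, hab⟩ := hA.finite_injective_dimension
  refine { exists_hasInjectiveDimensionLT := ⟨b.toNat + 1, ?_⟩ }
  rw [hasInjectiveDimensionLT_iff]
  intro i hi Y e
  have := hab Y i (Or.inr (by lia))
  apply (extEquiv Y A i).injective
  exact Subsingleton.elim _ _

theorem mem_iff [IsNoetherianRing A] {ω : Dual.D A} (hω : Dual.IsDualizing A ω)
    (p : PrimeSpectrum A) :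
    LocCoh.IsGorensteinLocalRing (Localization.AtPrime p.asIdeal) ↔
      ∃ c : ℤ, (∀ i, i ≠ c → p ∉ Module.support A (Dual.HD A ω i)) ∧
        p ∈ Module.freeLocus A (Dual.HD A ω c) ∧ Module.rankAtStalk (Dual.HD A ω c) p = 1 := by
  let R := Localization.AtPrime p.asIdeal
  have := IsLocalization.flat R p.asIdeal.primeCompl
  have hd := isDualizing_atPrime hω p.asIdeal
  have hsupp : ∀ i, p ∉ Module.support A (Dual.HD A ω i) ↔
      Subsingleton (Dual.HD R ((L A R).obj ω) i) := fun i => by
    rw [Module.notMem_support_iff]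
    exact ((LocalizedModule.equivTensorProduct p.asIdeal.primeCompl (Dual.HD A ω i)).toEquiv.trans
      (HDL R ω i).toEquiv).subsingleton_congr
  constructor
  · intro hG
    obtain ⟨c, hc, ⟨e⟩⟩ := concentrated_of_gorenstein hd
    refine ⟨c, fun i hi => (hsupp i).2 (hc i hi), ?_, ?_⟩
    · rw [Module.mem_freeLocus_iff_tensor p R]
      exact Module.Free.of_equiv ((HDL R ω c).trans e).symm
    · rw [Module.rankAtStalk_eq_finrank_tensorProduct, ((HDL R ω c).trans e).finrank_eq,
        Module.finrank_self]
  · rintro ⟨c, hc, hfree, hrk⟩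
    rw [Module.mem_freeLocus_iff_tensor p R] at hfree
    rw [Module.rankAtStalk_eq_finrank_tensorProduct] at hrk
    have := hω.finite_cohomology c
    let b := Module.basisUnique (Fin 1) hrk
    exact gorenstein_of_concentrated hd c (fun i hi => (hsupp i).1 (hc i hi))
      (((HDL R ω c).symm.trans b.equivFun).trans (LinearEquiv.funUnique (Fin 1) R R))

/-- The Gorenstein locus is open. -/
theorem isOpen_gorenstein [IsNoetherianRing A] {ω : Dual.D A} (hω : Dual.IsDualizing A ω) :
    IsOpen {p : PrimeSpectrum A | LocCoh.IsGorensteinLocalRing (Localization.AtPrime p.asIdeal)} := by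
  obtain ⟨hfin, a, b, hab⟩ := bddFin_of_dualizing hω
  have key : {p : PrimeSpectrum A | LocCoh.IsGorensteinLocalRing (Localization.AtPrime p.asIdeal)} =
      ⋃ c : ℤ, (⋂ i ∈ (Finset.Icc a b).erase c, (Module.support A (Dual.HD A ω i))ᶜ) ∩
        {p | p ∈ Module.freeLocus A (Dual.HD A ω c) ∧ Module.rankAtStalk (Dual.HD A ω c) p = 1} := by
    ext p
    simp only [Set.mem_setOf_eq, mem_iff hω p, Set.mem_iUnion, Set.mem_inter_iff, Set.mem_iInter,
      Set.mem_compl_iff, Finset.mem_erase, Finset.mem_Icc]
    refine exists_congr fun c => and_congr_left' ⟨fun h i hi => h i hi.1, fun h i hi => ?_⟩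
    by_cases hr : a ≤ i ∧ i ≤ b
    · exact h i ⟨hi, hr⟩
    · have := hab i (by lia)
      simp [Module.support_eq_empty]
  rw [key]
  refine isOpen_iUnion fun c => IsOpen.inter (isOpen_biInter_finset fun i _ => ?_) ?_
  · have := hfin i
    exact (Module.isClosed_support).isOpen_compl
  · have := hfin c
    have : Module.FinitePresentation A (Dual.HD A ω c) := Module.finitePresentation_of_finite A _
    have ho : IsOpen (Module.freeLocus A (Dual.HD A ω c)) := Module.isOpen_freeLocus
    have h1 := (Module.isLocallyConstant_rankAtStalk_freeLocus (R := A)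
      (M := Dual.HD A ω c)).isOpen_fiber 1
    have h2 := ho.isOpenMap_subtype_val _ h1
    convert h2 using 1
    ext p
    simp [and_comm]

end Groth.Agent.Lib.DMod.GorLocus
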