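import Groth.Agent.Lib.DMod.FiniteRing
import Groth.Agent.Lib.DMod.GorLocus
import Groth.Agent.Lib.ModelFibre.GorensteinQuot

/-!
A quotient of a regular local ring is Gorenstein iff its `Ext` into the ring is concentrated in one
degree and cyclic faithful there.
-/

universe u

open CategoryTheory CategoryTheory.Limits Pretriangulated
open Groth.Agent.Lib.DMod Groth.Agent.Lib.DMod.Basic Groth.Agent.Lib.DMod.Conservative

attribute [local instance] HasDerivedCategory.standard

namespace Groth.Agent.Lib.DMod.GorCriterion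

variable {S : Type u} [CommRing S] [IsRegularLocalRing S] (J : Ideal S)

/-- A dualizing complex of `S ⧸ J` computed by `Ext` over `S`. -/
theorem exists_dualizing_ext :
    ∃ Y : Dual.D (S ⧸ J), Dual.IsDualizing (S ⧸ J) Y ∧
      (∀ i : ℤ, i < 0 → Subsingleton (Dual.HD (S ⧸ J) Y i)) ∧
      ∀ i : ℕ, ∃ e : Dual.HD (S ⧸ J) Y (i : ℤ) ≃+
          Abelian.Ext.{u} (ModuleCat.of S (S ⧸ J)) (ModuleCat.of S S) i,
        ∀ (s : S) x, e (Ideal.Quotient.mk J s • x) = s • e x := by
  have := ModelFibre.GorensteinQuot.isGorenstein_of_isRegular S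
  obtain ⟨n, hn⟩ := LocCoh.IsGorensteinLocalRing.exists_hasInjectiveDimensionLT (A := S)
  have hω := Gorenstein.isDualizing_self hn
  obtain ⟨I, a, b, hI, hinj, ⟨e⟩⟩ := Biduality.exists_complex hω
  let φ : S →+* S ⧸ J := Ideal.Quotient.mk J
  have hφ : φ.Finite := RingHom.Finite.of_surjective φ Ideal.Quotient.mk_surjective
  have hd := FiniteRing.isDualizing_coI φ hφ hI (LBC.isDualizing_of_iso e.symm hω)
  have hrep : FiniteRing.IsRep (FiniteRing.eps φ I) := fun X => FiniteRing.θ_bijective φ hI X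
  let m : (ModuleCat.restrictScalars.{u} φ).obj (ModuleCat.of (S ⧸ J) (S ⧸ J)) ≅
      ModuleCat.of S (S ⧸ J) :=
    LinearEquiv.toModuleIso
      { AddEquiv.refl _ with
        map_smul' := fun s x => by
          obtain ⟨x, rfl⟩ := Ideal.Quotient.mk_surjective x
          rfl }
  let ι : (DRing.restrictD φ).obj (Dual.inD (S ⧸ J) (S ⧸ J)) ≅ Dual.inD S (S ⧸ J) :=
    FiniteRing.resSingle (ModuleCat.of (S ⧸ J) (S ⧸ J)) ≪≫
      (DerivedCategory.singleFunctor (ModuleCat.{u} S) 0).mapIso m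
  let T : ∀ i : ℤ, Dual.HD (S ⧸ J) (DerivedCategory.Q.obj (FiniteRing.coI φ I)) i ≃+
      (Dual.inD S (S ⧸ J) ⟶ (Dual.inD S S)⟦i⟧) := fun i =>
    (homUnitShiftEquiv (DerivedCategory.Q.obj (FiniteRing.coI φ I)) i).symm.toAddEquiv.trans
      ((FiniteRing.adjEquiv hrep (Dual.inD (S ⧸ J) (S ⧸ J)) i).trans
        (Linear.homCongr S ι ((shiftFunctor _ i).mapIso e)).toAddEquiv)
  refine ⟨_, hd, fun i hi => ?_, fun i => ?_⟩
  · have := subsingleton_hom_inD_neg (A := S) (S ⧸ J) S hi
    exact (T i).toEquiv.subsingleton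
  · refine ⟨(T i).trans (extEquiv (A := S) (S ⧸ J) S i).symm.toAddEquiv, fun s x => ?_⟩
    show (extEquiv (A := S) (S ⧸ J) S i).symm (Linear.homCongr S _ _
      (FiniteRing.adjEquiv hrep _ _ ((homUnitShiftEquiv _ _).symm (φ s • x)))) = _
    rw [map_smul, FiniteRing.adjEquiv_smul, map_smul, map_smul]
    rfl

/-- The criterion. -/
theorem isGorenstein_quotient_iff (hJ : J ≠ ⊤) :
    LocCoh.IsGorensteinLocalRing (S ⧸ J) ↔ ∃ c : ℕ,
      (∀ i, i ≠ c → Subsingleton (Abelian.Ext.{u} (ModuleCat.of S (S ⧸ J)) (ModuleCat.of S S) i)) ∧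
        Nonempty (Abelian.Ext.{u} (ModuleCat.of S (S ⧸ J)) (ModuleCat.of S S) c ≃ₗ[S] (S ⧸ J)) := by
  have : Nontrivial (S ⧸ J) := Ideal.Quotient.nontrivial_iff.2 hJ
  have : IsLocalRing (S ⧸ J) :=
    IsLocalRing.of_surjective' (Ideal.Quotient.mk J) Ideal.Quotient.mk_surjective
  obtain ⟨Y, hY, hneg, he⟩ := exists_dualizing_ext J
  choose E hE using he
  constructor
  · intro hG
    obtain ⟨c, hc, ⟨f⟩⟩ := GorLocus.concentrated_of_gorenstein hY
    rcases lt_or_ge c 0 with h | h
    · have := hneg c h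
      have := f.toEquiv.symm.subsingleton
      exact (not_subsingleton (S ⧸ J) this).elim
    obtain ⟨c, rfl⟩ := Int.eq_ofNat_of_zero_le h
    refine ⟨c, fun i hi => ?_, ⟨?_⟩⟩
    · have := hc i (by exact_mod_cast hi)
      exact (E i).toEquiv.symm.subsingleton
    · refine { ((E c).symm.trans f.toAddEquiv) with map_smul' := fun s x => ?_ }
      show f ((E c).symm (s • x)) = s • f ((E c).symm x)
      have h1 : (E c).symm (s • x) = Ideal.Quotient.mk J s • (E c).symm x := by
        rw [AddEquiv.symm_apply_eq, hE, AddEquiv.apply_symm_apply]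
      rw [h1, map_smul, smul_eq_mul, Algebra.smul_def, Ideal.Quotient.algebraMap_eq]
  · rintro ⟨c, hc, ⟨f⟩⟩
    refine GorLocus.gorenstein_of_concentrated hY c (fun i hi => ?_) ?_
    · rcases lt_or_ge i 0 with h | h
      · exact hneg i h
      obtain ⟨i, rfl⟩ := Int.eq_ofNat_of_zero_le h
      have := hc i (by exact_mod_cast hi)
      exact (E i).toEquiv.subsingleton
    · refine { ((E c).trans f.toAddEquiv) with map_smul' := fun b x => ?_ }
      obtain ⟨s, rfl⟩ := Ideal.Quotient.mk_surjective b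
      show f (E c (Ideal.Quotient.mk J s • x)) = Ideal.Quotient.mk J s • f (E c x)
      rw [hE, map_smul, smul_eq_mul, Algebra.smul_def, Ideal.Quotient.algebraMap_eq]

end Groth.Agent.Lib.DMod.GorCriterion
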