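import Groth.Agent.Lib.DMod.LBC
import Groth.Agent.Lib.DMod.FiniteRing
import Mathlib.RingTheory.Polynomial.Quotient
import Mathlib.RingTheory.Polynomial.Basic
import Mathlib.RingTheory.EssentialFiniteness
import Mathlib.RingTheory.FiniteType

/-!
Dualizing complexes of polynomial algebras and of algebras essentially of finite type.
-/

universe u

open CategoryTheory CategoryTheory.Limits Pretriangulated
open Groth.Agent.Lib.DMod Groth.Agent.Lib.DMod.Basic Groth.Agent.Lib.DMod.Conservative
open Groth.Agent.Lib.DMod.FlatHom Groth.Agent.Lib.DMod.FlatDualizing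

attribute [local instance] HasDerivedCategory.standard

namespace Groth.Agent.Lib.DMod.PolyExist

section Almost

variable {B : Type u} [CommRing B]

/-- Passing from `B/J` to `B/P` when `P/J` is killed by an element outside the maximal ideal `P`. -/
theorem vanish_of_almost {J P : Ideal B} [P.IsMaximal] (hle : J ≤ P) {s : B} (hs : s ∉ P)
    (hsP : ∀ g ∈ P, s * g ∈ J) (Y : Dual.D B) (h : Subsingleton (Dual.inD B (B ⧸ J) ⟶ Y)) :
    Subsingleton (Dual.inD B (B ⧸ P) ⟶ Y) := by
  let g : (B ⧸ J) →ₗ[B] (B ⧸ P) := Submodule.factor hle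
  have hg : Function.Surjective g := Submodule.factor_surjective hle
  let S : ShortComplex (ModuleCat.{u} B) :=
    ShortComplex.mk (ModuleCat.ofHom (LinearMap.ker g).subtype) (ModuleCat.ofHom g)
      (ModuleCat.hom_ext (LinearMap.ext fun x => x.2))
  have hS : S.ShortExact :=
    { exact := (ShortComplex.ShortExact.moduleCat_exact_iff_function_exact S).2
        (LinearMap.exact_subtype_ker_map g)
      mono_f := (ModuleCat.mono_iff_injective _).2 (Submodule.injective_subtype _)
      epi_g := (ModuleCat.epi_iff_surjective _).2 hg }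
  have hK : ∀ x : LinearMap.ker g, s • x = 0 := by
    rintro ⟨x, hx⟩
    obtain ⟨x, rfl⟩ := Submodule.Quotient.mk_surjective _ x
    rw [LinearMap.mem_ker] at hx
    change (Submodule.Quotient.mk x : B ⧸ P) = 0 at hx
    rw [Submodule.Quotient.mk_eq_zero] at hx
    refine Subtype.ext ?_
    show s • (Submodule.Quotient.mk x : B ⧸ J) = 0
    rw [← Submodule.Quotient.mk_smul, Submodule.Quotient.mk_eq_zero]
    exact hsP x hx
  refine subsingleton_of_forall_eq 0 fun u => ?_
  obtain ⟨w, hw⟩ := Triangle.yoneda_exact₂ _ (rot_of_distTriang _ hS.singleTriangle_distinguished) u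
    (h.elim _ _)
  have h1 : s • w = 0 :=
    HomSupp.smul_hom_eq_zero_left (HomSupp.smul_id_shift (HomSupp.smul_id_inD hK) 1) w
  have h2 : s • u = 0 := by
    rw [hw]
    exact (Linear.comp_smul _ _ _ _ s _).symm.trans ((congrArg _ h1).trans comp_zero)
  obtain ⟨r, x, hx, hrx⟩ := (inferInstance : P.IsMaximal).exists_inv hs
  have h3 : x • u = 0 := HomSupp.smul_hom_eq_zero_left (HomSupp.smul_id_inD fun y => by
    obtain ⟨y, rfl⟩ := Submodule.Quotient.mk_surjective _ y
    rw [← Submodule.Quotient.mk_smul, Submodule.Quotient.mk_eq_zero]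
    exact Ideal.mul_mem_right y _ hx) u
  rw [← one_smul B u, ← hrx, add_smul, mul_smul, h2, h3, smul_zero, add_zero]

/-- Dividing by a non-zero-divisor modulo a prime raises the bound by one. -/
theorem vanish_add_span (J : Ideal B) [J.IsPrime] {f : B} (hf : f ∉ J) (Y : Dual.D B) (i : ℤ)
    (h₀ : Subsingleton (Dual.inD B (B ⧸ J) ⟶ Y⟦i⟧))
    (h₁ : Subsingleton (Dual.inD B (B ⧸ J) ⟶ Y⟦i - 1⟧)) :
    Subsingleton (Dual.inD B (B ⧸ (J ⊔ Ideal.span {f})) ⟶ Y⟦i⟧) := by
  let l : (B ⧸ J) →ₗ[B] (B ⧸ J) := f • LinearMap.id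
  let g : (B ⧸ J) →ₗ[B] (B ⧸ (J ⊔ Ideal.span {f})) := Submodule.factor le_sup_left
  have hl : Function.Injective l := by
    rw [injective_iff_map_eq_zero]
    intro y hy
    obtain ⟨y, rfl⟩ := Submodule.Quotient.mk_surjective _ y
    change f • (Submodule.Quotient.mk y : B ⧸ J) = 0 at hy
    rw [← Submodule.Quotient.mk_smul, Submodule.Quotient.mk_eq_zero] at hy
    exact (Submodule.Quotient.mk_eq_zero _).2
      (((inferInstance : J.IsPrime).mem_or_mem hy).resolve_left hf)
  have hlg : Function.Exact l g := fun y => by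
    obtain ⟨y, rfl⟩ := Submodule.Quotient.mk_surjective _ y
    constructor
    · intro hy
      change (Submodule.Quotient.mk y : B ⧸ (J ⊔ Ideal.span {f})) = 0 at hy
      rw [Submodule.Quotient.mk_eq_zero] at hy
      obtain ⟨j, hj, c, hc, rfl⟩ := Submodule.mem_sup.1 hy
      obtain ⟨d, rfl⟩ := Ideal.mem_span_singleton'.1 hc
      refine ⟨Submodule.Quotient.mk d, ?_⟩
      show f • (Submodule.Quotient.mk d : B ⧸ J) = _
      rw [← Submodule.Quotient.mk_smul, Submodule.Quotient.eq, smul_eq_mul,
        show f * d - (j + d * f) = -j by ring]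
      exact neg_mem hj
    · rintro ⟨z, hz⟩
      obtain ⟨z, rfl⟩ := Submodule.Quotient.mk_surjective _ z
      rw [← hz]
      change Submodule.factor le_sup_left (f • (Submodule.Quotient.mk z : B ⧸ J)) = 0
      rw [← Submodule.Quotient.mk_smul]
      change (Submodule.Quotient.mk (f • z) : B ⧸ (J ⊔ Ideal.span {f})) = 0
      rw [Submodule.Quotient.mk_eq_zero]
      exact Ideal.mem_sup_right (Ideal.mul_mem_right z _ (Ideal.mem_span_singleton_self f))
  let S : ShortComplex (ModuleCat.{u} B) :=
    ShortComplex.mk (ModuleCat.ofHom l) (ModuleCat.ofHom g)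
      (ModuleCat.hom_ext hlg.linearMap_comp_eq_zero)
  have hS : S.ShortExact :=
    { exact := (ShortComplex.ShortExact.moduleCat_exact_iff_function_exact S).2 hlg
      mono_f := (ModuleCat.mono_iff_injective _).2 hl
      epi_g := (ModuleCat.epi_iff_surjective _).2 (Submodule.factor_surjective (le_sup_left : J ≤ J ⊔ Ideal.span {f})) }
  refine subsingleton_hom_from_obj₂ (rot_of_distTriang _ hS.singleTriangle_distinguished) _ h₀ ?_
  exact (homShiftAdj (Dual.inD B (B ⧸ J)) Y 1 i (i - 1) (by lia)).toEquiv.subsingleton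

end Almost

open scoped Polynomial

variable {A : Type u} [CommRing A]

/-- A maximal ideal of `A[X]` is principal over its contraction up to an element outside it. -/
theorem exists_principal_mod [IsNoetherianRing A] (P : Ideal A[X]) [P.IsMaximal] :
    ∃ f s : A[X], f ∈ P ∧ f ∉ (P.comap Polynomial.C).map Polynomial.C ∧ s ∉ P ∧
      ∀ g ∈ P, s * g ∈ (P.comap Polynomial.C).map Polynomial.C ⊔ Ideal.span {f} := by
  classical
  set p := P.comap Polynomial.C with hp
  set J := p.map Polynomial.C with hJ
  let π : A[X] →+* (A ⧸ p)[X] := Polynomial.mapRingHom (Ideal.Quotient.mk p)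
  have hπ : ∀ g, π g = 0 ↔ g ∈ J := fun g => by
    rw [hJ, Ideal.mem_map_C_iff]
    simp [π, Polynomial.ext_iff, Ideal.Quotient.eq_zero_iff_mem]
  have hJP : J ≤ P := Ideal.map_comap_le
  have hne : ∃ g ∈ P, π g ≠ 0 := by
    by_contra hc
    push_neg at hc
    have hPJ : P = J := le_antisymm (fun g hg => (hπ g).1 (hc g hg)) hJP
    have hX : (Polynomial.X : A[X]) ∉ P := fun hXm => by
      have := (hπ _).2 (hPJ ▸ hXm)
      simp [π] at this
    obtain ⟨r, x, hx, hrx⟩ := (inferInstance : P.IsMaximal).exists_inv hX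
    have h0 : π x = 0 := (hπ x).2 (hPJ ▸ hx)
    have := congrArg (fun z => Polynomial.coeff (π z) 0) hrx
    simp only [map_add, map_mul, h0, add_zero] at this
    simp [π] at this
  let S : Set ℕ := {n | ∃ g ∈ P, π g ≠ 0 ∧ (π g).natDegree = n}
  have hSne : S.Nonempty := by
    obtain ⟨g, hg, hg'⟩ := hne
    exact ⟨_, g, hg, hg', rfl⟩
  obtain ⟨f, hfP, hf0, hfdeg⟩ := Nat.sInf_mem hSne
  set d := sInf S
  obtain ⟨c, hc⟩ := Ideal.Quotient.mk_surjective (π f).leadingCoeff
  have hcP : Polynomial.C c ∉ P := fun h => by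
    have : Ideal.Quotient.mk p c = 0 := Ideal.Quotient.eq_zero_iff_mem.2 h
    exact hf0 (Polynomial.leadingCoeff_eq_zero.1 (hc ▸ this))
  -- pseudo-division
  have key : ∀ n : ℕ, ∀ g ∈ P, (π g).natDegree ≤ n →
      ∃ m : ℕ, Polynomial.C c ^ m * g ∈ J ⊔ Ideal.span {f} := by
    intro n
    induction n using Nat.strong_induction_on with
    | _ n ih =>
      intro g hg hgn
      by_cases hg0 : π g = 0
      · exact ⟨0, by simpa using Ideal.mem_sup_left ((hπ g).1 hg0)⟩
      have hdn : d ≤ (π g).natDegree := Nat.sInf_le ⟨g, hg, hg0, rfl⟩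
      obtain ⟨e, he⟩ := Ideal.Quotient.mk_surjective (π g).leadingCoeff
      set t := Polynomial.C e * Polynomial.X ^ ((π g).natDegree - d) with ht
      set g' := Polynomial.C c * g - t * f with hg'
      have hg'P : g' ∈ P := sub_mem (Ideal.mul_mem_left _ _ hg) (Ideal.mul_mem_left _ _ hfP)
      have hcoef : π g' = Polynomial.C (π f).leadingCoeff * π g -
          Polynomial.C (π g).leadingCoeff * Polynomial.X ^ ((π g).natDegree - d) * π f := by
        simp only [hg', ht, map_sub, map_mul, map_pow]
        simp [π] at hc he ⊢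
        rw [← hc, ← he]
      by_cases hg'0 : π g' = 0
      · refine ⟨1, ?_⟩
        have : Polynomial.C c ^ 1 * g = g' + t * f := by rw [hg', pow_one]; ring
        rw [this]
        exact add_mem (Ideal.mem_sup_left ((hπ g').1 hg'0))
          (Ideal.mem_sup_right (Ideal.mul_mem_left _ _ (Ideal.mem_span_singleton_self f)))
      have hlt : (π g').natDegree < (π g).natDegree := by
        have hdle : (π g').natDegree ≤ (π g).natDegree := by
          rw [hcoef]
          refine (Polynomial.natDegree_sub_le _ _).trans (max_le (Polynomial.natDegree_C_mul_le _ _) ?_)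
          refine Polynomial.natDegree_mul_le.trans ?_
          have := Polynomial.natDegree_C_mul_X_pow_le (π g).leadingCoeff ((π g).natDegree - d)
          omega
        refine lt_of_le_of_ne hdle fun heq => hg'0 (Polynomial.leadingCoeff_eq_zero.1 ?_)
        rw [Polynomial.leadingCoeff, heq, hcoef, Polynomial.coeff_sub, Polynomial.coeff_C_mul,
          mul_assoc, Polynomial.coeff_C_mul, Polynomial.coeff_X_pow_mul',
          if_pos (Nat.sub_le _ _), Nat.sub_sub_self hdn, ← hfdeg, Polynomial.coeff_natDegree,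
          Polynomial.coeff_natDegree, mul_comm, sub_self]
      obtain ⟨m, hm⟩ := ih _ (lt_of_lt_of_le hlt hgn) g' hg'P le_rfl
      refine ⟨m + 1, ?_⟩
      have : Polynomial.C c ^ (m + 1) * g = Polynomial.C c ^ m * g' +
          Polynomial.C c ^ m * t * f := by rw [hg']; ring
      rw [this]
      exact add_mem hm (Ideal.mem_sup_right (Ideal.mul_mem_left _ _ (Ideal.mem_span_singleton_self f)))
  obtain ⟨G, hG⟩ : P.FG := IsNoetherian.noetherian P
  choose m hm using fun g : {x // x ∈ G} => key _ g.1 (hG ▸ Ideal.subset_span g.2) le_rfl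
  let N := G.attach.sup m
  refine ⟨f, Polynomial.C c ^ N, hfP, fun h => hf0 ((hπ f).2 h),
    fun h => hcP ((inferInstance : P.IsMaximal).isPrime.mem_of_pow_mem _ h), fun g hg => ?_⟩
  rw [← hG] at hg
  induction hg using Submodule.span_induction with
  | mem x hx =>
    have hle : m ⟨x, hx⟩ ≤ N := Finset.le_sup (f := m) (Finset.mem_attach _ ⟨x, hx⟩)
    rw [← Nat.sub_add_cancel hle, pow_add, mul_assoc]
    exact Ideal.mul_mem_left _ _ (hm ⟨x, hx⟩)
  | zero => simp
  | add x y _ _ hx hy => rw [mul_add]; exact add_mem hx hy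
  | smul r x _ hx => rw [smul_eq_mul, mul_left_comm]; exact Ideal.mul_mem_left _ _ hx

/-- The flat base change of a dualizing complex to `A[X]` is dualizing. -/
theorem isDualizing_polynomial [IsNoetherianRing A] {ω : Dual.D A} (hω : Dual.IsDualizing A ω) :
    Dual.IsDualizing A[X] ((L A A[X]).obj ω) := by
  obtain ⟨a, b, hab⟩ := hω.finite_injective_dimension
  have hb := bddFin_of_dualizing hω
  refine isDualizing_L A[X] hω (exists_fid_of_maximal (bddFin_L A[X] hb) (b + 1) fun P hP i hi => ?_)
  obtain ⟨f, s, hfP, hfJ, hs, hsP⟩ := exists_principal_mod P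
  have : (P.comap Polynomial.C).IsPrime := Ideal.IsPrime.comap _
  set J := (P.comap Polynomial.C).map Polynomial.C with hJ
  have : J.IsPrime := Ideal.isPrime_map_C_of_isPrime
  have hJi : ∀ j, b < j → Subsingleton (Dual.inD A[X] (A[X] ⧸ J) ⟶ ((L A A[X]).obj ω)⟦j⟧) :=
    fun j hj => by
      have := vanish_quot A[X] hb (P.comap Polynomial.C) j (hab _ j (Or.inr hj))
      rwa [Polynomial.algebraMap_eq] at this
  exact vanish_of_almost (sup_le Ideal.map_comap_le ((Ideal.span_singleton_le_iff_mem _).2 hfP))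
    hs hsP _ (vanish_add_span J hfJ _ i (hJi i (by lia)) (hJi (i - 1) (by lia)))

/-- Having a dualizing complex passes to polynomial rings in finitely many variables. -/
theorem exists_mvPolynomial [IsNoetherianRing A] {ω : Dual.D A} (hω : Dual.IsDualizing A ω) :
    ∀ n : ℕ, ∃ ω' : Dual.D (MvPolynomial (Fin n) A), Dual.IsDualizing (MvPolynomial (Fin n) A) ω' := by
  intro n
  induction n with
  | zero =>
    let e := (MvPolynomial.isEmptyRingEquiv A (Fin 0)).symm
    exact FiniteRing.exists_isDualizing (e : A →+* MvPolynomial (Fin 0) A)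
      (RingHom.Finite.of_surjective _ e.surjective) hω
  | succ n ih =>
    obtain ⟨ω', hω'⟩ := ih
    let e := (MvPolynomial.finSuccEquiv A n).symm.toRingEquiv
    exact FiniteRing.exists_isDualizing
      (e : Polynomial (MvPolynomial (Fin n) A) →+* MvPolynomial (Fin (n + 1)) A)
      (RingHom.Finite.of_surjective _ e.surjective) (isDualizing_polynomial hω')

/-- Having a dualizing complex passes to algebras of finite type. -/
theorem exists_finiteType [IsNoetherianRing A] {ω : Dual.D A} (hω : Dual.IsDualizing A ω)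
    (B : Type u) [CommRing B] [Algebra A B] [Algebra.FiniteType A B] :
    IsNoetherianRing B ∧ ∃ ω' : Dual.D B, Dual.IsDualizing B ω' := by
  have hN : IsNoetherianRing B := Algebra.FiniteType.isNoetherianRing A B
  obtain ⟨n, f, hf⟩ := Algebra.FiniteType.iff_quotient_mvPolynomial''.1 ‹Algebra.FiniteType A B›
  obtain ⟨ω', hω'⟩ := exists_mvPolynomial hω n
  exact ⟨hN, FiniteRing.exists_isDualizing f.toRingHom (RingHom.Finite.of_surjective _ hf) hω'⟩

/-- Having a dualizing complex passes to algebras essentially of finite type. -/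
theorem exists_essFiniteType [IsNoetherianRing A] {ω : Dual.D A} (hω : Dual.IsDualizing A ω)
    (B : Type u) [CommRing B] [Algebra A B] [Algebra.EssFiniteType A B] :
    ∃ ω' : Dual.D B, Dual.IsDualizing B ω' := by
  obtain ⟨s, hs⟩ := (inferInstance : Algebra.EssFiniteType A B).cond
  let C := Algebra.adjoin A (s : Set B)
  have : Algebra.FiniteType A C := ⟨(Subalgebra.fg_top _).2 ⟨s, rfl⟩⟩
  obtain ⟨_, ω', hω'⟩ := exists_finiteType hω C
  have := IsLocalization.flat B ((IsUnit.submonoid B).comap (algebraMap C B))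
  have := IsLocalization.isNoetherianRing ((IsUnit.submonoid B).comap (algebraMap C B)) B inferInstance
  exact ⟨_, isDualizing_L B hω' (fid_L_of_extended B (bddFin_of_dualizing hω')
    hω'.finite_injective_dimension
    fun J => ⟨J.comap (algebraMap C B), IsLocalization.map_comap
      ((IsUnit.submonoid B).comap (algebraMap C B)) B J⟩)⟩

end Groth.Agent.Lib.DMod.PolyExist
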