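import Groth.Agent.Lib.DMod.ExtShift
import Groth.Agent.Lib.DMod.Degree
import Groth.Agent.Lib.DMod.LBC
import Groth.Agent.Lib.DMod.PolyExist
import Groth.Agent.Lib.DMod.Pointwise
import Groth.Agent.Lib.DR.BaseChangeU
import Groth.Agent.Lib.Goren.Rings

/-!
Flat base change of a dualizing complex is dualizing iff the fibres are Gorenstein.
-/

universe u

open CategoryTheory CategoryTheory.Limits Pretriangulated TensorProduct
open Groth.Agent.Lib.DMod Groth.Agent.Lib.DMod.Basic Groth.Agent.Lib.DMod.Conservative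
open Groth.Agent.Lib.DMod.FlatHom Groth.Agent.Lib.DMod.FlatDualizing

attribute [local instance] HasDerivedCategory.standard

namespace Groth.Agent.Lib.DMod.GorFibre

variable {A : Type u} [CommRing A] [IsNoetherianRing A] {C : Type u} [CommRing C] [Algebra A C]
  [IsLocalRing C] [IsNoetherianRing C] [Module.Flat A C] {ω : Dual.D A} (hω : Dual.IsDualizing A ω)

variable (A C) in
/-- The image of the closed point. -/
abbrev pt : PrimeSpectrum A := PrimeSpectrum.comap (algebraMap A C) (IsLocalRing.closedPoint C)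

omit [IsNoetherianRing A] [IsNoetherianRing C] [Module.Flat A C] in
theorem subsingleton_tensor_of_notMem {M : Type (u + 1)} [AddCommGroup M] [Module A M]
    (h : pt A C ∉ Module.support A M) : Subsingleton (C ⊗[A] M) := by
  rw [Module.notMem_support_iff'] at h
  refine subsingleton_of_forall_eq 0 fun z => ?_
  induction z using TensorProduct.induction_on with
  | zero => rfl
  | tmul b m =>
    obtain ⟨s, hs, hsm⟩ := h m
    have hu : IsUnit (algebraMap A C s) := IsLocalRing.notMem_maximalIdeal.1 hs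
    refine (IsUnit.smul_eq_zero hu).1 ?_
    rw [algebraMap_smul, ← TensorProduct.tmul_smul, hsm, TensorProduct.tmul_zero]
  | add x y hx hy => rw [hx, hy, add_zero]

include hω

theorem vanish_fibre {i : ℤ} (hi : i ≠ Degree.deg hω (pt A C)) :
    Subsingleton (Dual.inD C (C ⧸ (pt A C).asIdeal.map (algebraMap A C)) ⟶ ((L A C).obj ω)⟦i⟧) :=
  haveI := subsingleton_tensor_of_notMem (C := C) (Degree.notMem_support_of_ne_deg hω (pt A C) hi)
  (quotEquivShift C _ (bddFin_of_dualizing hω) i).symm.toEquiv.subsingleton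

theorem exists_generator_fibre :
    Nonempty ((C ⧸ (pt A C).asIdeal.map (algebraMap A C)) ≃ₗ[C]
      (Dual.inD C (C ⧸ (pt A C).asIdeal.map (algebraMap A C)) ⟶
        ((L A C).obj ω)⟦Degree.deg hω (pt A C)⟧)) := by
  set p := pt A C with hp
  obtain ⟨φ, hφ⟩ := Degree.exists_generator_deg hω p
  let N := Dual.inD A (A ⧸ p.asIdeal) ⟶ ω⟦Degree.deg hω p⟧
  have hmem := Degree.mem_support_deg hω p
  have hpN : ∀ (x : A), x ∈ p.asIdeal → ∀ n : N, x • n = 0 := fun x hx n =>
    HomSupp.smul_hom_eq_zero_left (HomSupp.smul_id_inD fun y => by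
      obtain ⟨y, rfl⟩ := Submodule.Quotient.mk_surjective _ y
      rw [← Submodule.Quotient.mk_smul, Submodule.Quotient.mk_eq_zero]
      exact Ideal.mul_mem_right y _ hx) n
  let f : (A ⧸ p.asIdeal) →ₗ[A] N := Submodule.liftQ _ φ fun x hx => by
    rw [LinearMap.mem_ker, show x = x • (1 : A) by rw [smul_eq_mul, mul_one], map_smul]
    exact hpN x hx _
  have hrange : LinearMap.range f = LinearMap.range φ := Submodule.range_liftQ _ _ _
  have hfinj : Function.Injective f := by
    rw [injective_iff_map_eq_zero]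
    intro y hy
    obtain ⟨a, rfl⟩ := Submodule.Quotient.mk_surjective _ y
    rw [Submodule.Quotient.mk_eq_zero]
    by_contra ha
    have h1 : φ a = 0 := hy
    refine hmem |> (Module.notMem_support_iff'.2 fun n => ?_)
    obtain ⟨s, hs, hsn⟩ := (Module.notMem_support_iff'.1 hφ) (Submodule.Quotient.mk n)
    rw [← Submodule.Quotient.mk_smul, Submodule.Quotient.mk_eq_zero] at hsn
    obtain ⟨b, hb⟩ := hsn
    refine ⟨a * s, fun h => (p.isPrime.mem_or_mem h).elim ha hs, ?_⟩
    rw [mul_smul, ← hb, ← map_smul, smul_eq_mul, mul_comm, ← smul_eq_mul, map_smul, h1, smul_zero]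
  have hC : Function.Bijective (f.baseChange C) := by
    refine ⟨Module.Flat.lTensor_preserves_injective_linearMap (M := C) f hfinj, fun z => ?_⟩
    have : Subsingleton (C ⊗[A] (N ⧸ LinearMap.range f)) :=
      subsingleton_tensor_of_notMem (hrange ▸ hφ)
    exact (lTensor_exact C (LinearMap.exact_map_mkQ_range f) (Submodule.mkQ_surjective _) z).1
      (Subsingleton.elim _ _)
  exact ⟨((Algebra.TensorProduct.quotIdealMapEquivTensorQuot C p.asIdeal).toLinearEquiv.trans
    (LinearEquiv.ofBijective _ hC)).trans (quotEquivShift C _ (bddFin_of_dualizing hω) _)⟩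

/-- The local criterion. -/
theorem isDualizing_iff :
    Dual.IsDualizing C ((L A C).obj ω) ↔
      LocCoh.IsGorensteinLocalRing (C ⧸ (pt A C).asIdeal.map (algebraMap A C)) := by
  let I := (pt A C).asIdeal.map (algebraMap A C)
  let R := C ⧸ I
  have hIle : I ≤ IsLocalRing.maximalIdeal C :=
    Ideal.map_le_iff_le_comap.2 (le_refl (pt A C).asIdeal)
  have : Nontrivial R := Ideal.Quotient.nontrivial_iff.mpr fun h =>
    (IsLocalRing.maximalIdeal.isMaximal C).ne_top (top_le_iff.1 (h ▸ hIle))
  have : IsLocalRing R := IsLocalRing.of_surjective' _ Ideal.Quotient.mk_surjective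
  let φ : C →+* R := Ideal.Quotient.mk I
  let Y := (L A C).obj ω
  set t := Degree.deg hω (pt A C) with ht
  have hb := bddFin_L C (bddFin_of_dualizing hω)
  obtain ⟨c, hY⟩ := exists_isGE hb
  let o : (ModuleCat.restrictScalars.{u} φ).obj (ModuleCat.of R R) ≅ ModuleCat.of C R :=
    LinearEquiv.toModuleIso
      { AddEquiv.refl R with map_smul' := fun r x => (Algebra.smul_def r x).symm }
  let O : (ExtShift.F φ).obj (ModuleCat.of R R) ≅ Dual.inD C R :=
    (DerivedCategory.singleFunctor (ModuleCat.{u} C) 0).mapIso o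
  have hne : ∀ i, i ≠ t → Subsingleton ((ExtShift.F φ).obj (ModuleCat.of R R) ⟶ Y⟦i⟧) := fun i hi =>
    have := vanish_fibre hω (C := C) hi
    (Iso.homCongr O (Iso.refl _)).subsingleton
  obtain ⟨e⟩ := exists_generator_fibre hω (C := C)
  let u₀ : (ExtShift.F φ).obj (ModuleCat.of R R) ⟶ Y⟦t⟧ := O.hom ≫ e (1 : R)
  have hu₀ : Function.Bijective (ExtShift.Ψ φ Y u₀ (ModuleCat.of R R)) := by
    have h1 : ∀ r : C, (ExtShift.F φ).map (ModuleCat.ofHom (φ r • (LinearMap.id : R →ₗ[R] R))) =
        r • 𝟙 ((ExtShift.F φ).obj (ModuleCat.of R R)) := fun r => by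
      have hm : (ModuleCat.restrictScalars.{u} φ).map
          (ModuleCat.ofHom (φ r • (LinearMap.id : R →ₗ[R] R))) =
            r • 𝟙 ((ModuleCat.restrictScalars.{u} φ).obj (ModuleCat.of R R)) := by
        ext x
        rfl
      exact (congrArg (DerivedCategory.singleFunctor (ModuleCat.{u} C) 0).map hm).trans
        (((DerivedCategory.singleFunctor (ModuleCat.{u} C) 0).map_smul _ _).trans
          (congrArg _ (CategoryTheory.Functor.map_id _ _)))
    have h2 : ∀ r : C, ExtShift.Ψ φ Y u₀ (ModuleCat.of R R)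
        (ModuleCat.ofHom (φ r • (LinearMap.id : R →ₗ[R] R))) = O.hom ≫ e (r • (1 : R)) := fun r => by
      show (ExtShift.F φ).map _ ≫ u₀ = _
      rw [h1, Linear.smul_comp, Category.id_comp, map_smul, Linear.comp_smul]
    have hsurj : ∀ f : ModuleCat.of R R ⟶ ModuleCat.of R R,
        ∃ r : C, f = ModuleCat.ofHom (φ r • (LinearMap.id : R →ₗ[R] R)) := fun f => by
      obtain ⟨r, hr⟩ := Ideal.Quotient.mk_surjective (f.hom (1 : R))
      refine ⟨r, ModuleCat.hom_ext (LinearMap.ext_ring ?_)⟩
      show f.hom (1 : R) = φ r • (1 : R)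
      rw [smul_eq_mul, mul_one]
      exact hr.symm
    refine ⟨?_, fun g => ?_⟩
    · suffices ∀ f, ExtShift.Ψ φ Y u₀ (ModuleCat.of R R) f = 0 → f = 0 from fun f f' h =>
        sub_eq_zero.1 (this _ (by
          show (ExtShift.F φ).map (f - f') ≫ u₀ = 0
          rw [Functor.map_sub, Preadditive.sub_comp]
          exact sub_eq_zero.2 h))
      intro f hf
      obtain ⟨r, rfl⟩ := hsurj f
      have h3 : e (r • (1 : R)) = 0 := (cancel_epi O.hom).1 (((h2 r).symm.trans hf).trans comp_zero.symm)
      have h4 : φ r = 0 := by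
        have := (LinearEquiv.map_eq_zero_iff e).1 h3
        rwa [Algebra.smul_def, mul_one] at this
      rw [h4, zero_smul]
      rfl
    · obtain ⟨r, hr⟩ := Ideal.Quotient.mk_surjective (e.symm (O.inv ≫ g))
      refine ⟨_, (h2 r).trans ?_⟩
      rw [show r • (1 : R) = e.symm (O.inv ≫ g) by rw [Algebra.smul_def, mul_one]; exact hr,
        LinearEquiv.apply_symm_apply, Iso.hom_inv_id_assoc]
  let κ := IsLocalRing.ResidueField R
  let g : C →ₗ[C] ((ModuleCat.restrictScalars.{u} φ).obj (ModuleCat.of R κ)) :=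
    LinearMap.toSpanSingleton C _ (1 : κ)
  have hg : Function.Surjective g := fun x => by
    obtain ⟨y, hy⟩ := IsLocalRing.residue_surjective (R := R) x
    obtain ⟨z, rfl⟩ := Ideal.Quotient.mk_surjective y
    refine ⟨z, Eq.trans ?_ hy⟩
    show φ z • (1 : κ) = _
    rw [Algebra.smul_def, mul_one]
    rfl
  have hker : LinearMap.ker g = IsLocalRing.maximalIdeal C := by
    refine (IsLocalRing.maximalIdeal.isMaximal C).eq_of_le ?_ ?_ |>.symm
    · intro h
      have h1 : (1 : C) ∈ LinearMap.ker g := by rw [h]; trivial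
      rw [LinearMap.mem_ker] at h1
      have h2 : φ 1 • (1 : κ) = 0 := h1
      rw [map_one, one_smul] at h2
      exact one_ne_zero h2
    · intro x hx
      show φ x • (1 : κ) = 0
      rw [Algebra.smul_def, mul_one, IsLocalRing.ResidueField.algebraMap_eq,
        IsLocalRing.residue_eq_zero_iff]
      exact fun hu => hx (by
        obtain ⟨v, hv⟩ := hu.exists_right_inv
        obtain ⟨v, rfl⟩ := Ideal.Quotient.mk_surjective v
        rw [← map_mul] at hv
        have hm := hIle (Ideal.Quotient.eq.1 (hv.trans (map_one φ).symm))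
        by_contra hnu
        exact (IsLocalRing.maximalIdeal.isMaximal C).ne_top ((Ideal.eq_top_iff_one _).2 (by
          have h5 := sub_mem (Ideal.mul_mem_right v _ hnu) hm
          rwa [sub_sub_cancel] at h5)))
  let K : (ExtShift.F φ).obj (ModuleCat.of R κ) ≅ Dual.inD C (C ⧸ IsLocalRing.maximalIdeal C) :=
    (DerivedCategory.singleFunctor (ModuleCat.{u} C) 0).mapIso
      (((Submodule.quotEquivOfEq _ _ hker.symm).trans
        (LinearMap.quotKerEquivOfSurjective g hg)).symm.toModuleIso)
  have : Module.Finite R κ := Module.Finite.of_surjective (Algebra.linearMap R κ)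
    IsLocalRing.residue_surjective
  have key : ∀ j : ℕ, Subsingleton (Dual.inD C (C ⧸ IsLocalRing.maximalIdeal C) ⟶
      Y⟦t + (j + 1 : ℕ)⟧) ↔
      Subsingleton (Abelian.Ext.{u} (ModuleCat.of R κ) (ModuleCat.of R R) (j + 1)) := fun j =>
    ((Iso.homCongr K.symm (Iso.refl _)).subsingleton_congr).trans
      (ExtShift.subsingleton_iff_ext c hY hne hu₀ j (ModuleCat.of R κ))
  rw [Goren.Basic.isGorensteinLocalRing_iff_ext]
  constructor
  · intro hd
    obtain ⟨a, b, hab⟩ := hd.finite_injective_dimension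
    refine ⟨(b - t).toNat + 1, fun i hi => ?_⟩
    obtain ⟨j, rfl⟩ : ∃ j, i = j + 1 := ⟨i - 1, by omega⟩
    exact (key j).1 (hab _ _ (Or.inr (by omega)))
  · rintro ⟨N, hN⟩
    refine isDualizing_L C hω (exists_fid_of_maximal hb (t + N) fun P hP i hi => ?_)
    obtain rfl := IsLocalRing.eq_maximalIdeal hP
    obtain ⟨j, rfl⟩ : ∃ j : ℕ, i = t + (j + 1 : ℕ) := ⟨(i - t - 1).toNat, by omega⟩
    exact (key j).2 (hN _ (by omega))

end Groth.Agent.Lib.DMod.GorFibre
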