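import Groth.Agent.Lib.DMod.GorFibre

/-!
Flat base change of a dualizing complex along a map with Gorenstein fibres.
-/

universe u

open CategoryTheory CategoryTheory.Limits Pretriangulated TensorProduct
open Groth.Agent.Lib.DMod Groth.Agent.Lib.DMod.Basic Groth.Agent.Lib.DMod.Conservative
open Groth.Agent.Lib.DMod.FlatHom Groth.Agent.Lib.DMod.FlatDualizing

attribute [local instance] HasDerivedCategory.standard

namespace Groth.Agent.Lib.DMod.GorFibreGlobal

variable {A : Type u} [CommRing A] {B : Type u} [CommRing B] [Algebra A B] [Module.Flat A B]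

/-- Transitivity of flat base change. -/
theorem nonempty_L_comp (C : Type u) [CommRing C] [Algebra A C] [Algebra B C] [IsScalarTower A B C]
    [Module.Flat B C] [Module.Flat A C] (K : Dual.D A) :
    Nonempty ((L B C).obj ((L A B).obj K) ≅ (L A C).obj K) := by
  have h1 := DR.BaseChangeU.hasLBaseChange (algebraMap A B)
  have h2 := DR.BaseChangeU.hasLBaseChange (algebraMap B C)
  have h3 := DR.BaseChangeU.hasLBaseChange (algebraMap A C)
  obtain ⟨e⟩ : Nonempty ((DRing.LBaseChange (algebraMap B C)).obj
      ((DRing.LBaseChange (algebraMap A B)).obj K) ≅ (DRing.LBaseChange (algebraMap A C)).obj K) := by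
    have key : ∀ (f : A →+* C) (h : DRing.HasLBaseChange f), f = (algebraMap B C).comp (algebraMap A B) →
        Nonempty ((DRing.LBaseChange (algebraMap B C)).obj
          ((DRing.LBaseChange (algebraMap A B)).obj K) ≅ (DRing.LBaseChange f).obj K) := by
      rintro f h rfl
      exact DR.BaseChangeU.nonempty_LBaseChange_comp (algebraMap A B) (algebraMap B C) K
    exact key _ h3 (IsScalarTower.algebraMap_eq A B C)
  exact ⟨((isoLBaseChange B C).app _).symm ≪≫ (DRing.LBaseChange (algebraMap B C)).mapIso
    ((isoLBaseChange A B).app K).symm ≪≫ e ≪≫ (isoLBaseChange A C).app K⟩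

variable [IsNoetherianRing A] [IsNoetherianRing B]

omit [IsNoetherianRing B] [Module.Flat A B] in
/-- The local ring of a fibre. -/
theorem gorenstein_quotient_of_fibre (q : PrimeSpectrum B)
    (hG : LocCoh.IsGorensteinRing ((q.asIdeal.comap (algebraMap A B)).Fiber B)) :
    LocCoh.IsGorensteinLocalRing (Localization.AtPrime q.asIdeal ⧸
      (GorFibre.pt A (Localization.AtPrime q.asIdeal)).asIdeal.map
        (algebraMap A (Localization.AtPrime q.asIdeal))) := by
  obtain ⟨q, hq⟩ := q
  let p := q.comap (algebraMap A B)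
  let e := PrimeSpectrum.preimageEquivFiber A B ⟨p, inferInstance⟩
  obtain ⟨qF, hqF⟩ : ∃ qF, e ⟨⟨q, hq⟩, rfl⟩ = qF := ⟨_, rfl⟩
  have hcomap : qF.asIdeal.comap
      (Algebra.TensorProduct.includeRight : B →ₐ[A] p.Fiber B) = q := by
    rw [← hqF]
    exact congrArg (fun x => (Subtype.val x).asIdeal) (e.symm_apply_apply ⟨⟨q, hq⟩, rfl⟩)
  have hpt : (GorFibre.pt A (Localization.AtPrime q)).asIdeal = p := by
    show (IsLocalRing.maximalIdeal (Localization.AtPrime q)).comap (algebraMap A _) = _
    rw [IsScalarTower.algebraMap_eq A B (Localization.AtPrime q), ← Ideal.comap_comap]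
    exact congrArg (Ideal.comap (algebraMap A B)) Localization.AtPrime.under_maximalIdeal
  have h1 := hG.isGorensteinLocalRing_localization qF.asIdeal
  have key : ∀ (q' : Ideal B) [q'.IsPrime], q' = q →
      LocCoh.IsGorensteinLocalRing (Localization.AtPrime q' ⧸ p.map (algebraMap A (Localization.AtPrime q'))) →
      LocCoh.IsGorensteinLocalRing (Localization.AtPrime q ⧸ p.map (algebraMap A (Localization.AtPrime q))) := by
    intro q' _ h hg
    subst h
    exact hg
  show LocCoh.IsGorensteinLocalRing (Localization.AtPrime q ⧸ _)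
  rw [hpt]
  refine key _ hcomap (@Goren.Flat.isGorensteinLocalRing_ringEquiv _ _ _ _
    ((Ideal.Fiber.algEquivAux₂ p qF.asIdeal).toRingEquiv.trans (Ideal.quotEquivOfEq ?_)) h1)
  rw [Ideal.map_map, ← IsScalarTower.algebraMap_eq]

theorem isDualizing_L_of_fibres (hdim : ringKrullDim B < ⊤)
    (hG : ∀ q : PrimeSpectrum B, LocCoh.IsGorensteinRing ((q.asIdeal.comap (algebraMap A B)).Fiber B))
    {ω : Dual.D A} (hω : Dual.IsDualizing A ω) : Dual.IsDualizing B ((L A B).obj ω) := by
  obtain ⟨hfin, a, b, hab⟩ := bddFin_L B (bddFin_of_dualizing hω)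
  refine Pointwise.isDualizing_of_pointwise hdim _ hfin ⟨a, fun i hi => hab i (Or.inl hi)⟩ fun q => ?_
  let C := Localization.AtPrime q.asIdeal
  have : IsNoetherianRing C := IsLocalization.isNoetherianRing q.asIdeal.primeCompl _ inferInstance
  have : Module.Flat B C := IsLocalization.flat C q.asIdeal.primeCompl
  have : Module.Flat A C := Module.Flat.trans A B C
  obtain ⟨e⟩ := nonempty_L_comp C ω (B := B)
  exact LBC.isDualizing_of_iso e.symm
    ((GorFibre.isDualizing_iff hω).2 (gorenstein_quotient_of_fibre q (hG q)))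

omit [IsNoetherianRing B] in
/-- Descent along a faithfully flat algebra. -/
theorem isDualizing_of_faithfullyFlat [Module.FaithfullyFlat A B]
    [DRing.HasLBaseChange (algebraMap A B)] {K : Dual.D A}
    (h : Dual.IsDualizing B ((DRing.LBaseChange (algebraMap A B)).obj K)) : Dual.IsDualizing A K :=
  LBC.isDualizing_descent_finite (κ := Unit) (C := fun _ => B)
    (fun M _ _ hM => (Module.FaithfullyFlat.subsingleton_tensorProduct_iff_right A B).1 (hM ()))
    (fun M _ _ hM => (Module.FaithfullyFlat.subsingleton_tensorProduct_iff_right A B).1 (hM ()))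
    (fun _ => h)

end Groth.Agent.Lib.DMod.GorFibreGlobal
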