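import Groth.Agent.Lib.DMod.ExtRegSeq
import Groth.Agent.Lib.DMod.ExtHomPresent
import Groth.Agent.Lib.Depth.Vanish
import Groth.Agent.Lib.LCFin.ExtLoc
import Mathlib.RingTheory.TensorProduct.Quotient
import Mathlib.RingTheory.Localization.BaseChange

/-!
`Ext(P/K, P)` at a prime where `K` is generated by a regular sequence.
-/

universe u

open CategoryTheory Abelian RingTheory.Sequence TensorProduct
open Groth.Agent.Lib.DMod.ExtHomPresent Groth.Agent.Lib.LCFin

namespace Groth.Agent.Lib.DMod.LocalExtCI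

variable {P : Type u} [CommRing P] [IsNoetherianRing P]

/-- Pullback along a linear equivalence. -/
noncomputable def pbEquiv {X Y : Type u} [AddCommGroup X] [Module P X] [AddCommGroup Y] [Module P Y]
    (e : X ≃ₗ[P] Y) (Z : ModuleCat.{u} P) (i : ℕ) :
    Ext (ModuleCat.of P Y) Z i ≃ₗ[P] Ext (ModuleCat.of P X) Z i where
  toFun ξ := pb e.toLinearMap ξ
  invFun ξ := pb e.symm.toLinearMap ξ
  left_inv ξ := by
    dsimp only
    rw [pb_pb, show e.toLinearMap ∘ₗ e.symm.toLinearMap = LinearMap.id from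
      LinearMap.ext e.apply_symm_apply, pb_id]
  right_inv ξ := by
    dsimp only
    rw [pb_pb, show e.symm.toLinearMap ∘ₗ e.toLinearMap = LinearMap.id from
      LinearMap.ext e.symm_apply_apply, pb_id]
  map_add' _ _ := Ext.comp_add _ _ _ _
  map_smul' _ _ := Ext.comp_smul ..

/-- Pushforward along a linear equivalence. -/
noncomputable def pfEquiv {X Y : Type u} [AddCommGroup X] [Module P X] [AddCommGroup Y] [Module P Y]
    (e : X ≃ₗ[P] Y) (W : ModuleCat.{u} P) (i : ℕ) :
    Ext W (ModuleCat.of P X) i ≃ₗ[P] Ext W (ModuleCat.of P Y) i where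
  toFun ξ := ξ.comp (Ext.mk₀ (ModuleCat.ofHom e.toLinearMap)) (add_zero i)
  invFun ξ := ξ.comp (Ext.mk₀ (ModuleCat.ofHom e.symm.toLinearMap)) (add_zero i)
  left_inv ξ := by
    simp only [Ext.comp_assoc_of_second_deg_zero, Ext.mk₀_comp_mk₀]
    rw [show ModuleCat.ofHom e.toLinearMap ≫ ModuleCat.ofHom e.symm.toLinearMap = 𝟙 _ from
      ModuleCat.hom_ext (LinearMap.ext e.symm_apply_apply), Ext.comp_mk₀_id]
  right_inv ξ := by
    simp only [Ext.comp_assoc_of_second_deg_zero, Ext.mk₀_comp_mk₀]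
    rw [show ModuleCat.ofHom e.symm.toLinearMap ≫ ModuleCat.ofHom e.toLinearMap = 𝟙 _ from
      ModuleCat.hom_ext (LinearMap.ext e.apply_symm_apply), Ext.comp_mk₀_id]
  map_add' _ _ := Ext.add_comp _ _ _ _
  map_smul' _ _ := Ext.smul_comp ..

/-- The local `Ext` of a quotient by a regular sequence. -/
theorem ext_quotient {C : Type u} [CommRing C] (rs : List C) (hreg : IsWeaklyRegular C rs) (i : ℕ) :
    (i ≠ rs.length → Subsingleton (Ext (ModuleCat.of C (C ⧸ Ideal.ofList rs)) (ModuleCat.of C C) i)) ∧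
    (i = rs.length → Nonempty (Ext (ModuleCat.of C (C ⧸ Ideal.ofList rs)) (ModuleCat.of C C) i ≃ₗ[C]
      (C ⧸ Ideal.ofList rs))) := by
  refine ⟨fun hi => ?_, ?_⟩
  · rcases lt_or_gt_of_ne hi with h | h
    · refine Depth.Vanish.subsingleton_ext_of_isWeaklyRegular (I := Ideal.ofList rs) (k := 1) ?_
        hreg (fun r hr => Ideal.subset_span hr) h
      rw [pow_one]
      exact le_of_eq (Ideal.annihilator_quotient (I := Ideal.ofList rs)).symm
    · exact ExtRegSeq.subsingleton_ext_of_length_lt _ rs hreg i h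
  · rintro rfl
    obtain ⟨e⟩ := ExtRegSeq.nonempty_top C rs hreg
    exact ⟨e.trans (Submodule.quotEquivOfEq _ _ (by rw [smul_eq_mul, Ideal.mul_top]))⟩

omit [IsNoetherianRing P] in
/-- The kernel of multiplication by `m` over a localization. -/
theorem ker_toSpanSingleton (S : Submonoid P) {C : Type u} [CommRing C] [Algebra P C]
    [IsLocalization S C] {M : Type u} [AddCommGroup M] [Module C M] (m : M) (K : Ideal P)
    (h : ∀ a : P, algebraMap P C a • m = 0 ↔ ∃ s ∈ S, s * a ∈ K) :
    LinearMap.ker (LinearMap.toSpanSingleton C M m) = K.map (algebraMap P C) := by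
  ext d
  obtain ⟨a, t, rfl⟩ := IsLocalization.exists_mk'_eq S d
  have hu : IsUnit (algebraMap P C t.1) := IsLocalization.map_units C t
  rw [LinearMap.mem_ker, LinearMap.toSpanSingleton_apply, ← hu.smul_eq_zero, smul_smul,
    IsLocalization.mk'_spec', h, ← Ideal.unit_mul_mem_iff_mem _ hu, IsLocalization.mk'_spec',
    IsLocalization.algebraMap_mem_map_algebraMap_iff S C]

variable {A : Type u} [CommRing A] [Algebra P A] (hsurj : Function.Surjective (algebraMap P A))

/-- The kernel of `P → A` in the local ring. -/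
abbrev locKer (A : Type u) [CommRing A] [Algebra P A] (q : Ideal A) [q.IsPrime] :
    Ideal (Localization.AtPrime (q.comap (algebraMap P A))) :=
  (RingHom.ker (algebraMap P A)).map (algebraMap P _)

/-- `Ext` over the local ring. -/
abbrev LExt (A : Type u) [CommRing A] [Algebra P A] (q : Ideal A) [q.IsPrime] (i : ℕ) : Type u :=
  Ext (ModuleCat.of (Localization.AtPrime (q.comap (algebraMap P A)))
      (Localization.AtPrime (q.comap (algebraMap P A)) ⧸ locKer A q))
    (ModuleCat.of (Localization.AtPrime (q.comap (algebraMap P A)))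
      (Localization.AtPrime (q.comap (algebraMap P A)))) i

include hsurj in
/-- Localization of `Ext(A, P)` at a prime. -/
theorem exists_localizing (q : Ideal A) [q.IsPrime] (i : ℕ) :
    ∃ ψ : Ext (ModuleCat.of P A) (ModuleCat.of P P) i →+ LExt (P := P) A q i,
      ExtLoc.IsLocalizing (q.comap (algebraMap P A)).primeCompl ψ := by
  let S := (q.comap (algebraMap P A)).primeCompl
  let C := Localization.AtPrime (q.comap (algebraMap P A))
  let K := RingHom.ker (algebraMap P A)
  have : Module.Finite P A := Module.Finite.of_surjective (Algebra.linearMap P A) hsurj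
  let eP : LocalizedModule S P ≃ₗ[C] C :=
    (IsLocalizedModule.iso S (Algebra.linearMap P C)).extendScalarsOfIsLocalization S C
  let qA : A ≃ₗ[P] (P ⧸ K) :=
    ((Algebra.linearMap P A).quotKerEquivOfSurjective hsurj).symm.trans
      (Submodule.quotEquivOfEq _ _ rfl)
  let eA : LocalizedModule S A ≃ₗ[C] C ⧸ locKer A q :=
    ((LocalizedModule.equivTensorProduct S A).trans (qA.baseChange P C A (P ⧸ K))).trans
      (Algebra.TensorProduct.quotIdealMapEquivTensorQuot C K).toLinearEquiv.symm
  obtain ⟨ψ, h⟩ := ExtLoc.exists_isLocalizing S P i A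
  let e : Ext (ModuleCat.of C (LocalizedModule S A)) (ModuleCat.of C (LocalizedModule S P)) i ≃ₗ[C]
      Ext (ModuleCat.of C (C ⧸ locKer A q)) (ModuleCat.of C C) i :=
    (pbEquiv (P := C) eA.symm _ i).trans (pfEquiv (P := C) eP _ i)
  refine ⟨e.toAddMonoidHom.comp ψ, ⟨fun r a => ?_, fun b => ?_, fun a ha => ?_⟩⟩
  · exact (congrArg e (h.map_smul r a)).trans (map_smul e _ _)
  · obtain ⟨a, s, hs⟩ := h.surj (e.symm b)
    refine ⟨a, s, ?_⟩
    change _ = e (ψ a)
    rw [← hs]
    exact ((map_smul e _ _).trans (congrArg _ (e.apply_symm_apply b))).symm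
  · exact h.eq_zero a (e.map_eq_zero_iff.mp ha)

include hsurj in
/-- From the local `Ext` to the structure near the prime. -/
theorem structure_of_local (q : Ideal A) [q.IsPrime] (c : ℕ)
    (hv : ∀ i, i ≠ c → Subsingleton (LExt (P := P) A q i))
    (he : Nonempty (LExt (P := P) A q c ≃ₗ[Localization.AtPrime (q.comap (algebraMap P A))]
      Localization.AtPrime (q.comap (algebraMap P A)) ⧸ locKer A q)) :
    (∀ i, i ≠ c → ∀ x : Ext (ModuleCat.of P A) (ModuleCat.of P P) i,
        ∃ s : P, algebraMap P A s ∉ q ∧ s • x = 0) ∧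
      ∃ x : Ext (ModuleCat.of P A) (ModuleCat.of P P) c,
        (∀ y : Ext (ModuleCat.of P A) (ModuleCat.of P P) c,
          ∃ s a : P, algebraMap P A s ∉ q ∧ s • y = a • x) ∧
        ∀ a : P, a • x = 0 → ∃ s : P, algebraMap P A s ∉ q ∧ algebraMap P A (s * a) = 0 := by
  let S := (q.comap (algebraMap P A)).primeCompl
  let C := Localization.AtPrime (q.comap (algebraMap P A))
  have hmem : ∀ s : S, algebraMap P A s.1 ∉ q := fun s => s.2
  refine ⟨fun i hi x => ?_, ?_⟩
  · obtain ⟨ψ, h⟩ := exists_localizing (P := P) hsurj q i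
    have := hv i hi
    obtain ⟨s, hs⟩ := h.eq_zero x (Subsingleton.elim _ _)
    exact ⟨s.1, hmem s, hs⟩
  obtain ⟨ψ, h⟩ := exists_localizing (P := P) hsurj q c
  obtain ⟨e⟩ := he
  obtain ⟨x, s₀, hx⟩ := h.surj (e.symm (Submodule.Quotient.mk 1))
  have hu := IsLocalization.map_units C s₀
  refine ⟨x, fun y => ?_, fun a ha => ?_⟩
  · obtain ⟨d, hd⟩ := Submodule.Quotient.mk_surjective _ (e (ψ y))
    obtain ⟨⟨a, t⟩, hat⟩ := IsLocalization.surj S d
    have h0 : ψ y = d • e.symm (Submodule.Quotient.mk 1) := by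
      rw [← map_smul, ← Submodule.Quotient.mk_smul, smul_eq_mul, mul_one, hd, e.symm_apply_apply]
    have h1 : ψ ((t.1 * s₀.1) • y - a • x) = 0 := by
      rw [map_sub, h.map_smul, h.map_smul, ← hx, h0, smul_smul, smul_smul, sub_eq_zero, map_mul,
        mul_assoc, mul_comm (algebraMap P C s₀.1) d, ← mul_assoc, mul_comm (algebraMap P C t.1) d, hat]
    obtain ⟨t', ht'⟩ := h.eq_zero _ h1
    rw [smul_sub, smul_smul, smul_smul, sub_eq_zero] at ht'
    exact ⟨t'.1 * (t.1 * s₀.1), t'.1 * a, hmem (t' * (t * s₀)), ht'⟩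
  · have h1 : ψ (a • x) = 0 := by rw [ha, map_zero]
    rw [h.map_smul, ← hx, smul_smul] at h1
    have h2 := congrArg e h1
    rw [map_smul, map_zero, LinearEquiv.apply_symm_apply, ← Submodule.Quotient.mk_smul, smul_eq_mul,
      mul_one, Submodule.Quotient.mk_eq_zero] at h2
    have h3 := (Ideal.mul_unit_mem_iff_mem _ hu).mp h2
    rw [locKer, IsLocalization.algebraMap_mem_map_algebraMap_iff S C] at h3
    obtain ⟨s, hs, hsK⟩ := h3
    exact ⟨s, hmem ⟨s, hs⟩, RingHom.mem_ker.mp hsK⟩

include hsurj in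
/-- From the structure near the prime to the local `Ext`. -/
theorem local_of_structure (q : Ideal A) [q.IsPrime] (c : ℕ)
    (hv : ∀ i, i ≠ c → ∀ x : Ext (ModuleCat.of P A) (ModuleCat.of P P) i,
        ∃ s : P, algebraMap P A s ∉ q ∧ s • x = 0)
    (x : Ext (ModuleCat.of P A) (ModuleCat.of P P) c)
    (hgen : ∀ y : Ext (ModuleCat.of P A) (ModuleCat.of P P) c,
          ∃ s a : P, algebraMap P A s ∉ q ∧ s • y = a • x)
    (hann : ∀ a : P, a • x = 0 → ∃ s : P, algebraMap P A s ∉ q ∧ algebraMap P A (s * a) = 0)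
    (hkill : ∀ a : P, algebraMap P A a = 0 → a • x = 0) :
    (∀ i, i ≠ c → Subsingleton (LExt (P := P) A q i)) ∧
      Nonempty (LExt (P := P) A q c ≃ₗ[Localization.AtPrime (q.comap (algebraMap P A))]
        Localization.AtPrime (q.comap (algebraMap P A)) ⧸ locKer A q) := by
  let S := (q.comap (algebraMap P A)).primeCompl
  let C := Localization.AtPrime (q.comap (algebraMap P A))
  refine ⟨fun i hi => ?_, ?_⟩
  · obtain ⟨ψ, h⟩ := exists_localizing (P := P) hsurj q i
    refine subsingleton_of_forall_eq 0 fun z => ?_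
    obtain ⟨y, t, hy⟩ := h.surj z
    obtain ⟨s, hs, hsy⟩ := hv i hi y
    have h1 : algebraMap P C s • ψ y = 0 := by rw [← h.map_smul, hsy, map_zero]
    rw [← hy, smul_smul] at h1
    exact ((IsLocalization.map_units C (⟨s, hs⟩ : S)).mul
      (IsLocalization.map_units C t)).smul_eq_zero.1 h1
  obtain ⟨ψ, h⟩ := exists_localizing (P := P) hsurj q c
  let φ : C →ₗ[C] LExt (P := P) A q c := LinearMap.toSpanSingleton C _ (ψ x)
  have hφ : Function.Surjective φ := by
    intro z
    obtain ⟨y, t, hy⟩ := h.surj z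
    obtain ⟨s, a, hs, hsa⟩ := hgen y
    have hu : IsUnit (algebraMap P C s * algebraMap P C t.1) :=
      (IsLocalization.map_units C (⟨s, hs⟩ : S)).mul (IsLocalization.map_units C t)
    refine ⟨(↑hu.unit⁻¹ : C) * algebraMap P C a, ?_⟩
    rw [LinearMap.toSpanSingleton_apply, mul_smul, ← h.map_smul, ← hsa, h.map_smul, ← hy, smul_smul,
      smul_smul, mul_assoc, IsUnit.val_inv_mul, one_smul]
  have hker : LinearMap.ker φ = locKer A q :=
    ker_toSpanSingleton S (ψ x) (RingHom.ker (algebraMap P A)) fun a => by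
      rw [← h.map_smul]
      constructor
      · intro ha
        obtain ⟨s, hs⟩ := h.eq_zero _ ha
        rw [smul_smul] at hs
        obtain ⟨s', hs', hsa⟩ := hann _ hs
        refine ⟨s' * s.1, (S.mul_mem (show s' ∈ S from hs') s.2), RingHom.mem_ker.2 ?_⟩
        rw [mul_assoc]
        exact hsa
      · rintro ⟨s, hs, hsK⟩
        have h1 := congrArg ψ (hkill _ (RingHom.mem_ker.1 hsK))
        rw [mul_smul, h.map_smul, map_zero] at h1
        exact (IsLocalization.map_units C (⟨s, hs⟩ : S)).smul_eq_zero.1 h1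
  exact ⟨(φ.quotKerEquivOfSurjective hφ).symm.trans (Submodule.quotEquivOfEq _ _ hker)⟩

include hsurj in
/-- Description of `Ext^i_P(A, P)` near a prime. -/
theorem local_structure (q : Ideal A) [q.IsPrime]
    (rs : List (Localization.AtPrime (q.comap (algebraMap P A))))
    (hreg : IsWeaklyRegular (Localization.AtPrime (q.comap (algebraMap P A))) rs)
    (hspan : (RingHom.ker (algebraMap P A)).map
      (algebraMap P (Localization.AtPrime (q.comap (algebraMap P A)))) = Ideal.ofList rs) :
    (∀ i, i ≠ rs.length → ∀ x : Ext (ModuleCat.of P A) (ModuleCat.of P P) i,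
        ∃ s : P, algebraMap P A s ∉ q ∧ s • x = 0) ∧
      ∃ x : Ext (ModuleCat.of P A) (ModuleCat.of P P) rs.length,
        (∀ y : Ext (ModuleCat.of P A) (ModuleCat.of P P) rs.length,
          ∃ s a : P, algebraMap P A s ∉ q ∧ s • y = a • x) ∧
        ∀ a : P, a • x = 0 → ∃ s : P, algebraMap P A s ∉ q ∧ algebraMap P A (s * a) = 0 := by
  let C := Localization.AtPrime (q.comap (algebraMap P A))
  let eq : (C ⧸ Ideal.ofList rs) ≃ₗ[C] C ⧸ locKer A q := Submodule.quotEquivOfEq _ _ hspan.symm
  refine structure_of_local hsurj q rs.length (fun i hi => ?_) ?_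
  · have := (ext_quotient rs hreg i).1 hi
    exact (pbEquiv (P := C) eq (ModuleCat.of C C) i).toEquiv.subsingleton
  · obtain ⟨e⟩ := (ext_quotient rs hreg rs.length).2 rfl
    exact ⟨((pbEquiv (P := C) eq (ModuleCat.of C C) rs.length).trans e).trans eq⟩

end Groth.Agent.Lib.DMod.LocalExtCI
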