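import Groth.Agent.Lib.DMod.ExtFibre
import Groth.Agent.Lib.DMod.GorCriterion
import Groth.Agent.Lib.DMod.LocalExtCI
import Mathlib.Algebra.Category.ModuleCat.Ext.Finite

/-!
For a flat quotient of a smooth local algebra, the closed fibre is Gorenstein iff the `Ext` into
the ambient ring is concentrated and cyclic faithful.
-/

universe u

open IsLocalRing CategoryTheory
open Groth.Agent.Lib.DMod.FibreRed Groth.Agent.Lib.DMod.ExtFibre Groth.Agent.Lib.LCFin

namespace Groth.Agent.Lib.DMod.GorFibreLocal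

variable {R C : Type u} [CommRing R] [CommRing C] [IsLocalRing R] [Algebra R C]

/-- The equation of the fibre in the fibre of the ambient ring. -/
abbrev Jbar (R : Type u) {C : Type u} [CommRing R] [CommRing C] [IsLocalRing R] [Algebra R C]
    (J : Ideal C) : Ideal (C ⧸ fa R C) :=
  J.map (Ideal.Quotient.mk (fa R C))

theorem mkQ_mem_iff {J : Ideal C} (c : C) :
    Submodule.Quotient.mk c ∈ fa R C • (⊤ : Submodule C (C ⧸ J)) ↔
      Ideal.Quotient.mk (fa R C) c ∈ Jbar R J := by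
  have h1 : fa R C • (⊤ : Submodule C (C ⧸ J)) = Submodule.map J.mkQ (fa R C) := by
    rw [← J.range_mkQ, ← Submodule.map_top, ← Submodule.map_smul'', smul_eq_mul, Ideal.mul_top]
  rw [h1, Jbar, ← Ideal.mem_comap, Ideal.comap_map_of_surjective _ Ideal.Quotient.mk_surjective,
    ← RingHom.ker_eq_comap_bot, Ideal.mk_ker, sup_comm]
  show J.mkQ c ∈ Submodule.map J.mkQ (fa R C) ↔ _
  rw [← Submodule.mem_comap, Submodule.comap_map_mkQ, sup_comm]

/-- A reduction of `C ⧸ J` is the quotient of the fibre by the image of `J`. -/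
theorem equiv_of_isRed {J : Ideal C} {X' : Type u} [AddCommGroup X'] [Module (C ⧸ fa R C) X']
    {π : (C ⧸ J) →+ X'} (h : IsRed (fa R C) π) :
    Nonempty (X' ≃ₗ[C ⧸ fa R C] ((C ⧸ fa R C) ⧸ Jbar R J)) := by
  let g : (C ⧸ fa R C) →ₗ[C ⧸ fa R C] X' :=
    LinearMap.toSpanSingleton _ _ (π (Submodule.Quotient.mk 1))
  have hg : ∀ c : C, g (Ideal.Quotient.mk _ c) = π (Submodule.Quotient.mk c) := fun c => by
    rw [LinearMap.toSpanSingleton_apply, ← h.map_smul, ← Submodule.Quotient.mk_smul, smul_eq_mul, mul_one]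
  have hs : Function.Surjective g := fun y => by
    obtain ⟨x, rfl⟩ := h.surj y
    obtain ⟨c, rfl⟩ := Submodule.Quotient.mk_surjective _ x
    exact ⟨_, hg c⟩
  have hk : LinearMap.ker g = Jbar R J := by
    ext y
    obtain ⟨c, rfl⟩ := Ideal.Quotient.mk_surjective y
    rw [LinearMap.mem_ker, hg, ← mkQ_mem_iff]
    refine ⟨h.mem _, fun hc => ?_⟩
    refine Submodule.smul_induction_on hc (p := fun x => π x = 0) (fun a ha x _ => ?_)
      fun x y hx hy => ?_
    · rw [h.map_smul, Ideal.Quotient.eq_zero_iff_mem.2 ha, zero_smul]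
    · rw [map_add, hx, hy, add_zero]
  exact ⟨(g.quotKerEquivOfSurjective hs).symm.trans (Submodule.quotEquivOfEq _ _ hk)⟩

/-- The fibre of `C ⧸ J`. -/
theorem nonempty_bar_equiv (J : Ideal C) :
    Nonempty (Bar R C (C ⧸ J) ≃ₗ[C ⧸ fa R C] ((C ⧸ fa R C) ⧸ Jbar R J)) :=
  equiv_of_isRed (π := (fa R C • (⊤ : Submodule C (C ⧸ J))).mkQ.toAddMonoidHom)
    ⟨Submodule.mkQ_surjective _, fun _ _ => rfl, fun _ hx => (Submodule.Quotient.mk_eq_zero _).1 hx⟩

variable [IsNoetherianRing R] [IsLocalRing C] [IsNoetherianRing C] [IsLocalHom (algebraMap R C)]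
  [Module.Flat R C] (hreg : IsRegularLocalRing (C ⧸ fa R C)) (J : Ideal C) (hJ : J ≠ ⊤)
  [Module.Flat R (C ⧸ J)]

omit [IsNoetherianRing R] [IsLocalRing C] [IsNoetherianRing C] [IsLocalHom (algebraMap R C)]
  [Module.Flat R C] [Module.Flat R (C ⧸ J)] in
include hreg in
theorem pdle_of_dim {d : ℕ} (hd : ringKrullDim (C ⧸ fa R C) = d) (N : Type u) [AddCommGroup N]
    [Module (C ⧸ fa R C) N] : Regular.PD.PDle (C ⧸ fa R C) N d :=
  H22.GlobalDim.hasProjectiveDimensionLT_regular d hd N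

omit [IsNoetherianRing R] [IsNoetherianRing C] [Module.Flat R C] [Module.Flat R (C ⧸ J)] in
include hJ in
theorem jbar_ne_top : Jbar R J ≠ ⊤ := by
  intro h
  have h1 : Ideal.Quotient.mk (fa R C) 1 ∈ Jbar R J := by rw [h]; trivial
  rw [← Ideal.mem_comap, Ideal.comap_map_of_surjective _ Ideal.Quotient.mk_surjective,
    ← RingHom.ker_eq_comap_bot, Ideal.mk_ker] at h1
  exact (maximalIdeal.isMaximal C).ne_top ((Ideal.eq_top_iff_one _).2
    (sup_le (IsLocalRing.le_maximalIdeal hJ) (fa_le (R := R) (C := C)) h1))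

include hreg hJ in
/-- Gorenstein fibre gives concentrated cyclic faithful `Ext`. -/
theorem of_gorenstein {d : ℕ} (hd : ringKrullDim (C ⧸ fa R C) = d)
    (hG : LocCoh.IsGorensteinLocalRing ((C ⧸ fa R C) ⧸ Jbar R J)) :
    ∃ c, c ≤ d ∧ (∀ i, i ≠ c → Subsingleton (EC C (C ⧸ J) i)) ∧
      Nonempty (EC C (C ⧸ J) c ≃ₗ[C] C ⧸ J) := by
  have := hreg
  obtain ⟨c, hc, ⟨f⟩⟩ := (GorCriterion.isGorenstein_quotient_iff _ (jbar_ne_top J hJ)).1 hG
  have hcd : c ≤ d := by
    by_contra hlt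
    have : HasProjectiveDimensionLT (ModuleCat.of (C ⧸ fa R C) ((C ⧸ fa R C) ⧸ Jbar R J)) (d + 1) :=
      pdle_of_dim hreg hd _
    have h1 : Subsingleton (EC (C ⧸ fa R C) ((C ⧸ fa R C) ⧸ Jbar R J) c) :=
      HasProjectiveDimensionLT.subsingleton _ (d + 1) c (by omega) _
    have h2 := f.toEquiv.symm.subsingleton
    have : Nontrivial ((C ⧸ fa R C) ⧸ Jbar R J) := Ideal.Quotient.nontrivial_iff.2 (jbar_ne_top J hJ)
    exact not_subsingleton _ h2
  obtain ⟨β⟩ := nonempty_bar_equiv (R := R) J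
  let pe : ∀ i, EC (C ⧸ fa R C) ((C ⧸ fa R C) ⧸ Jbar R J) i ≃ₗ[C ⧸ fa R C] EF R C (C ⧸ J) i :=
    fun i => LocalExtCI.pbEquiv β _ i
  obtain ⟨hv, hflat, π, hπ⟩ := ExtFibre.main (R := R) (M := C ⧸ J)
    ⟨d, fun N _ _ => pdle_of_dim hreg hd N⟩ c fun i hi => by
      have := hc i hi
      exact (pe i).symm.toEquiv.subsingleton
  refine ⟨c, hcd, hv, ?_⟩
  let e := (pe c).symm.trans f
  obtain ⟨x, hx⟩ := hπ.surj (e.symm 1)
  letI : Module R (EC C (C ⧸ J) c) := Module.compHom _ (algebraMap R C)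
  haveI : IsScalarTower R C (EC C (C ⧸ J) c) := IsScalarTower.of_algebraMap_smul fun _ _ => rfl
  haveI : Module.Flat R (EC C (C ⧸ J) c) := flat_restrict_iff hflat
  have hkill : J ≤ LinearMap.ker (LinearMap.toSpanSingleton C (EC C (C ⧸ J) c) x) := by
    intro a ha
    rw [LinearMap.mem_ker, LinearMap.toSpanSingleton_apply]
    have h1 : a • (LinearMap.id : (C ⧸ J) →ₗ[C] C ⧸ J) = 0 := LinearMap.ext fun y => by
      obtain ⟨y, rfl⟩ := Submodule.Quotient.mk_surjective _ y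
      exact (Submodule.Quotient.mk_eq_zero J).2 (J.mul_mem_right y ha)
    rw [← ExtHomPresent.pb_id x, ← ExtHomPresent.pb_smul, h1, ExtHomPresent.pb_zero]
  let v : (C ⧸ J) →ₗ[C] EC C (C ⧸ J) c := J.liftQ _ hkill
  have hv' : ∀ a : C, e (π (v (Submodule.Quotient.mk a))) =
      Ideal.Quotient.mk (Jbar R J) (Ideal.Quotient.mk (fa R C) a) := fun a => by
    rw [Submodule.liftQ_apply, LinearMap.toSpanSingleton_apply, hπ.map_smul, hx, map_smul,
      LinearEquiv.apply_symm_apply, Algebra.smul_def, mul_one]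
    rfl
  have hinj : Function.Injective v := by
    refine (injective_flat_coker (R := R) v fun z hz => ?_).1
    obtain ⟨a, rfl⟩ := Submodule.Quotient.mk_surjective _ z
    rw [mkQ_mem_iff, ← Ideal.Quotient.eq_zero_iff_mem, ← hv' a]
    have h0 : π (v (Submodule.Quotient.mk a)) = 0 := by
      revert hz
      generalize v (Submodule.Quotient.mk a) = w
      intro hw
      refine Submodule.smul_induction_on hw (p := fun y => π y = 0) (fun r hr y _ => ?_)
        fun y y' hy hy' => ?_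
      · rw [hπ.map_smul, Ideal.Quotient.eq_zero_iff_mem.2 hr, zero_smul]
      · rw [map_add, hy, hy', add_zero]
    rw [h0, map_zero]
  have hsurj : Function.Surjective v := surjective_of_mod (R := R) v fun y => by
    obtain ⟨b, hb⟩ := Ideal.Quotient.mk_surjective (e (π y))
    obtain ⟨a, rfl⟩ := Ideal.Quotient.mk_surjective b
    refine ⟨Submodule.Quotient.mk a, hπ.mem _ (e.injective ?_)⟩
    rw [map_sub, map_sub, hv', hb, sub_self, map_zero]
  exact ⟨(LinearEquiv.ofBijective v ⟨hinj, hsurj⟩).symm⟩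

include hreg hJ in
/-- Concentrated cyclic faithful `Ext` gives a Gorenstein fibre. -/
theorem gorenstein_of_ext {d : ℕ} (hd : ringKrullDim (C ⧸ fa R C) = d) (c : ℕ)
    (hv : ∀ i, i ≠ c → Subsingleton (EC C (C ⧸ J) i)) (e : EC C (C ⧸ J) c ≃ₗ[C] C ⧸ J) :
    LocCoh.IsGorensteinLocalRing ((C ⧸ fa R C) ⧸ Jbar R J) := by
  have := hreg
  have hflat : ∀ i, Module.Flat R (RestrictScalars R C (EC C (C ⧸ J) i)) := fun i => by
    by_cases hi : i = c
    · subst hi
      exact flat_restrict e.symm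
    · have := hv i hi
      exact subsingleton_flat
  obtain ⟨-, hgood, hbc⟩ := ExtFibre.baseChange_of_flat (R := R) d (C ⧸ J) (pdle_of_dim hreg hd _)
    fun i _ => hflat i
  have hbc' : ∀ i, HasBC (fa R C) (EC C (C ⧸ J) i) (EF R C (C ⧸ J) i) := fun i => by
    rcases Nat.eq_zero_or_pos i with rfl | h
    · exact HasBC.of_equiv (X := (C ⧸ J) →ₗ[C] C) (X' := Bar R C (C ⧸ J) →ₗ[C ⧸ fa R C] C ⧸ fa R C)
        (ExtLoc.homEquiv (C ⧸ J) C) (ExtLoc.homEquiv (Bar R C (C ⧸ J)) (C ⧸ fa R C)).symm ⟨_, hgood⟩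
    · exact hbc i h
  obtain ⟨β⟩ := nonempty_bar_equiv (R := R) J
  refine (GorCriterion.isGorenstein_quotient_iff _ (jbar_ne_top J hJ)).2 ⟨c, fun i hi => ?_, ?_⟩
  · have := hv i hi
    obtain ⟨π, hπ⟩ := hbc' i
    have := hπ.surj.subsingleton
    exact (LocalExtCI.pbEquiv β _ i).toEquiv.subsingleton
  · obtain ⟨π, hπ⟩ := (hbc' c).of_equiv e.symm (LinearEquiv.refl _ _)
    obtain ⟨g⟩ := equiv_of_isRed hπ
    exact ⟨(LocalExtCI.pbEquiv β _ c).trans g⟩

end Groth.Agent.Lib.DMod.GorFibreLocal
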