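import Groth.Agent.Lib.DMod.FiniteRing
import Groth.Agent.Lib.DMod.DCHomology
import Groth.Agent.Lib.DMod.FlatDualizing
import Groth.Agent.Lib.DMod.Gorenstein
import Groth.Agent.Lib.InjHull.Matlis

/-!
An object with one `Hom` group from the residue field, of rank one, is dualizing.
-/

universe u

open CategoryTheory CategoryTheory.Limits Pretriangulated
open Groth.Agent.Lib.DMod Groth.Agent.Lib.DMod.Basic Groth.Agent.Lib.DMod.Conservative

attribute [local instance] HasDerivedCategory.standard

namespace Groth.Agent.Lib.DMod.GorensteinDual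

variable {A : Type u} [CommRing A]

/-- Vanishing of `Hom((A/m)[0], K[i])` for all maximal `m` and `i > b` propagates to all ideals. -/
theorem vanish_above_of_maximal [IsNoetherianRing A] {K : Dual.D A} (a₀ : ℤ)
    (hKa : ∀ i : ℤ, i < a₀ → Subsingleton (Dual.HD A K i)) (hKf : ∀ i : ℤ, Module.Finite A (Dual.HD A K i)) (b : ℤ)
    (h : ∀ P : Ideal A, P.IsMaximal → ∀ i : ℤ, b < i → Subsingleton (Dual.inD A (A ⧸ P) ⟶ K⟦i⟧))
    (J : Ideal A) (i : ℤ) (hi : b < i) : Subsingleton (Dual.inD A (A ⧸ J) ⟶ K⟦i⟧) := by
  suffices key : ∀ (I : Ideal A) (M : Type u) [AddCommGroup M] [Module A M] [Module.Finite A M],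
      (∀ a ∈ I, ∀ x : M, a • x = 0) → ∀ i : ℤ, b < i → Subsingleton (Dual.inD A M ⟶ K⟦i⟧) from
    key ⊥ (A ⧸ J) (fun a ha x => by rw [Ideal.mem_bot.1 ha, zero_smul]) i hi
  clear hi i J
  intro I
  induction I using WellFoundedGT.induction with
  | _ I ih =>
    intro M _ _ hfin hI i hi
    revert hI i
    refine IsNoetherianRing.induction_on_isQuotientEquivQuotientPrime A hfin
      (motive := fun N => (∀ a ∈ I, ∀ x : N, a • x = 0) → ∀ i : ℤ, b < i →
        Subsingleton (Dual.inD A N ⟶ K⟦i⟧)) ?_ ?_ ?_
    · intro N _ _ _ _ _ i _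
      exact subsingleton_of_forall_eq 0 fun g =>
        (Functor.map_isZero _ (ModuleCat.isZero_of_subsingleton _)).eq_of_src g 0
    · intro N _ _ _ p e hI' i hi
      suffices hp : Subsingleton (Dual.inD A (A ⧸ p.1) ⟶ K⟦i⟧) from
        (Linear.homCongr A ((DerivedCategory.singleFunctor (ModuleCat.{u} A) 0).mapIso e.toModuleIso)
          (Iso.refl _)).toEquiv.subsingleton
      have hIp : I ≤ p.1 := fun a ha => by
        have := congrArg e (hI' a ha (e.symm (Submodule.Quotient.mk 1)))
        rw [map_smul, LinearEquiv.apply_symm_apply, map_zero, ← Submodule.Quotient.mk_smul,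
          Submodule.Quotient.mk_eq_zero, smul_eq_mul, mul_one] at this
        exact this
      by_cases hmax : p.1.IsMaximal
      · exact h p.1 hmax i hi
      let H := Dual.inD A (A ⧸ p.1) ⟶ K⟦i⟧
      have hHfin : Module.Finite A H := FiniteRing.finite_hom_boundedBelow (A ⧸ p.1) K a₀ hKa hKf i
      suffices hann : (⊤ : Submodule A H).annihilator = ⊤ by
        refine subsingleton_of_forall_eq 0 fun g => ?_
        have h1 : (1 : A) ∈ (⊤ : Submodule A H).annihilator := by rw [hann]; trivial
        simpa using Submodule.mem_annihilator.1 h1 g trivial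
      by_contra hne
      obtain ⟨m, hm, hle⟩ := Ideal.exists_le_maximal _ hne
      have hpann : ∀ a ∈ p.1, a ∈ (⊤ : Submodule A H).annihilator := fun a ha => by
        refine Submodule.mem_annihilator.2 fun g _ => ?_
        refine HomSupp.smul_hom_eq_zero_left (HomSupp.smul_id_inD fun x => ?_) g
        obtain ⟨x, rfl⟩ := Submodule.Quotient.mk_surjective _ x
        rw [← Submodule.Quotient.mk_smul, Submodule.Quotient.mk_eq_zero]
        exact Ideal.mul_mem_right x _ ha
      have hpm : p.1 < m := lt_of_le_of_ne (fun a ha => hle (hpann a ha))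
        fun hc => hmax (hc ▸ hm)
      obtain ⟨x, hxm, hxp⟩ := SetLike.exists_of_lt hpm
      let l : (A ⧸ p.1) →ₗ[A] (A ⧸ p.1) := x • LinearMap.id
      have hl : Function.Injective l := by
        rw [injective_iff_map_eq_zero]
        intro y hy
        obtain ⟨y, rfl⟩ := Submodule.Quotient.mk_surjective _ y
        change x • (Submodule.Quotient.mk y : A ⧸ p.1) = 0 at hy
        rw [← Submodule.Quotient.mk_smul, Submodule.Quotient.mk_eq_zero] at hy
        exact (Submodule.Quotient.mk_eq_zero _).2 ((p.2.mem_or_mem hy).resolve_left hxp)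
      let S : ShortComplex (ModuleCat.{u} A) :=
        ShortComplex.mk (ModuleCat.ofHom l) (ModuleCat.ofHom (LinearMap.range l).mkQ)
          (ModuleCat.hom_ext (LinearMap.exact_map_mkQ_range l).linearMap_comp_eq_zero)
      have hS : S.ShortExact :=
        { exact := (ShortComplex.ShortExact.moduleCat_exact_iff_function_exact S).2
            (LinearMap.exact_map_mkQ_range l)
          mono_f := (ModuleCat.mono_iff_injective _).2 hl
          epi_g := (ModuleCat.epi_iff_surjective _).2 (Submodule.mkQ_surjective _) }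
      have hN : Subsingleton (Dual.inD A ((A ⧸ p.1) ⧸ LinearMap.range l) ⟶ K⟦i + 1⟧) := by
        refine ih (p.1 ⊔ Ideal.span {x}) ?_ _ (fun a ha y => ?_) (i + 1) (by lia)
        · exact lt_of_le_of_lt hIp (lt_of_le_of_ne le_sup_left fun hc => hxp (by
            rw [hc]; exact Ideal.mem_sup_right (Ideal.mem_span_singleton_self x)))
        · obtain ⟨y, rfl⟩ := Submodule.Quotient.mk_surjective _ y
          obtain ⟨b, hb, c, hc, rfl⟩ := Submodule.mem_sup.1 ha
          obtain ⟨d, rfl⟩ := Ideal.mem_span_singleton'.1 hc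
          obtain ⟨y, rfl⟩ := Submodule.Quotient.mk_surjective _ y
          rw [← Submodule.Quotient.mk_smul, Submodule.Quotient.mk_eq_zero]
          refine ⟨d • Submodule.Quotient.mk y, ?_⟩
          simp only [l, LinearMap.smul_apply, LinearMap.id_apply]
          rw [← Submodule.Quotient.mk_smul, ← Submodule.Quotient.mk_smul,
            ← Submodule.Quotient.mk_smul, Submodule.Quotient.eq, smul_eq_mul, smul_eq_mul, smul_eq_mul]
          have : x * (d * y) - (b + d * x) * y = -(b * y) := by ring
          rw [this]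
          exact neg_mem (Ideal.mul_mem_right y _ hb)
      have htop : (⊤ : Submodule A H) ≤ Ideal.span {x} • (⊤ : Submodule A H) := fun g _ => by
        have hs : Subsingleton ((Dual.inD A ((A ⧸ p.1) ⧸ LinearMap.range l))⟦(-1 : ℤ)⟧ ⟶ K⟦i⟧) :=
          (homShiftAdj _ K (-1) i (i + 1) (by lia)).toEquiv.subsingleton
        obtain ⟨g', hg'⟩ := Triangle.yoneda_exact₂ _
          (inv_rot_of_distTriang _ hS.singleTriangle_distinguished) g (hs.elim _ _)
        have h1 : hS.singleTriangle.mor₁ = x • 𝟙 (Dual.inD A (A ⧸ p.1)) := by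
          rw [← CategoryTheory.Functor.map_id, ← CategoryTheory.Functor.map_smul]
          rfl
        have hx : x • g' = g :=
          ((Linear.smul_comp _ _ _ x (𝟙 (Dual.inD A (A ⧸ p.1))) g').trans
            (congrArg (x • ·) (Category.id_comp g'))).symm.trans
            ((congrArg (· ≫ g') h1.symm).trans hg'.symm)
        rw [← hx]
        exact Submodule.smul_mem_smul (Ideal.mem_span_singleton_self x) trivial
      obtain ⟨r, hr1, hr2⟩ := Submodule.exists_sub_one_mem_and_smul_eq_zero_of_fg_of_le_smul
        (Ideal.span {x}) (⊤ : Submodule A H) Module.Finite.fg_top htop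
      have hrm : r ∈ m := hle (Submodule.mem_annihilator.2 hr2)
      obtain ⟨d, hd⟩ := Ideal.mem_span_singleton'.1 hr1
      have h1 : (1 : A) ∈ m := by
        have : (1 : A) = r - d * x := by rw [hd]; ring
        rw [this]
        exact sub_mem hrm (Ideal.mul_mem_left _ d hxm)
      exact hm.ne_top ((Ideal.eq_top_iff_one _).2 h1)
    · intro N₁ _ _ _ N₂ _ _ _ N₃ _ _ _ g₁ g₂ hg₁ hg₂ hex ih₁ ih₃ hI' i hi
      obtain ⟨T, hT, e₁, e₂, e₃⟩ := HomSupp.exists_triangle_of_shortExact g₁ g₂ hg₁ hg₂ hex
      rw [← e₂]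
      refine subsingleton_hom_from_obj₂ hT _ (e₁ ▸ ih₁ (fun a ha y => hg₁ ?_) i hi)
        (e₃ ▸ ih₃ (fun a ha y => ?_) i hi)
      · rw [map_smul, hI' a ha, map_zero]
      · obtain ⟨y, rfl⟩ := hg₂ y
        rw [← map_smul, hI' a ha, map_zero]

section Local

open Groth.Agent.Lib.DMod.Biduality

variable [IsLocalRing A] [IsNoetherianRing A] (I : DRing.Cx A) {a b : ℤ}
  (hI : ∀ i, i < a ∨ b < i → IsZero (I.X i)) [∀ n, Injective (I.X n)] [I.IsKInjective]
  (hR : BddFin (DerivedCategory.Q.obj I))
  (hk : ∀ i : ℤ, i ≠ 0 → Subsingleton (Dual.inD A (IsLocalRing.ResidueField A) ⟶ (DerivedCategory.Q.obj I)⟦i⟧))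
  (hk0 : Nonempty ((Dual.inD A (IsLocalRing.ResidueField A) ⟶ DerivedCategory.Q.obj I) ≃ₗ[A]
    IsLocalRing.ResidueField A))

include hR in
theorem bddFin_D (hI : ∀ i, i < a ∨ b < i → IsZero (I.X i)) (M : Type u) [AddCommGroup M] [Module A M]
    [Module.Finite A M] : BddFin (Biduality.D I (ModuleCat.of A M)) := by
  refine ⟨fun i => ?_, a, b, fun i hi => ?_⟩
  · obtain ⟨e⟩ := DCHomology.nonempty_HD_DC (ModuleCat.of A M) I i
    haveI := Conservative.finite_hom (bddFin_inD (A := A) M) (bddFin_shift hR i)
    exact Module.Finite.equiv e.symm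
  · exact ModuleCat.subsingleton_of_isZero (((HomologicalComplex.exactAt_iff_isZero_homology _ _).1
      (HomologicalComplex.ExactAt.of_isZero (isZero_X_DC I (ModuleCat.of A M) (hI i hi)))).of_iso
        (DR.Basic.homologyQIso (Biduality.DC I (ModuleCat.of A M)) i))

include hk hk0 in
theorem goodModule_residue : GoodModule I (ModuleCat.of A (IsLocalRing.ResidueField A)) := by
  let k := IsLocalRing.ResidueField A
  let K := Biduality.D I (ModuleCat.of A k)
  let R := DerivedCategory.Q.obj I
  obtain ⟨e0⟩ := hk0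
  have hz : ∀ i, i ≠ 0 → Subsingleton (Dual.HD A K i) := fun i hi => by
    have := hk i hi
    exact (DCHomology.nonempty_HD_DC (ModuleCat.of A k) I i).some.toEquiv.subsingleton
  haveI : K.IsGE 0 := (Basic.isGE_iff K 0).2 fun i hi => hz i (by lia)
  haveI : K.IsLE 0 := (Basic.isLE_iff K 0).2 fun i hi => hz i (by lia)
  obtain ⟨Y, ⟨eY⟩⟩ := DerivedCategory.exists_iso_singleFunctor_obj_of_isGE_of_isLE K 0
  let eY' : Y ≅ ModuleCat.of A k :=
    ((DerivedCategory.singleFunctorCompHomologyFunctorIso _ 0).app Y).symm ≪≫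
      (DerivedCategory.homologyFunctor _ 0).mapIso eY.symm ≪≫
      ((DCHomology.nonempty_HD_DC (ModuleCat.of A k) I 0).some.trans ((Linear.homCongr A (Iso.refl _)
        ((shiftFunctorZero (Dual.D A) ℤ).app R)).trans e0)).toModuleIso
  let eK : K ≅ Dual.inD A k := eY ≪≫ (DerivedCategory.singleFunctor _ 0).mapIso eY'
  refine ⟨?_, fun i hi => ?_⟩
  · let φ : k →ₗ[A] (K ⟶ R) := evD I (ModuleCat.of A k)
    let ψ : k →ₗ[A] k := (e0.toLinearMap.comp (Linear.homCongr A eK (Iso.refl R)).toLinearMap).comp φ
    haveI : IsSimpleModule A k := InjHull.Matlis.isSimpleModule_quotient (m := IsLocalRing.maximalIdeal A)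
    rcases LinearMap.bijective_or_eq_zero ψ with h | h
    · have h' : Function.Bijective (e0 ∘ (Linear.homCongr A eK (Iso.refl R)) ∘ φ) := h
      exact (((Linear.homCongr A eK (Iso.refl R)).trans e0).bijective.of_comp_iff' _).1 h'
    · exfalso
      have h1 : φ 1 = 0 := ((Linear.homCongr A eK (Iso.refl R)).trans e0).injective
        ((LinearMap.congr_fun h 1).trans (map_zero _).symm)
      obtain ⟨f, hf⟩ := RGamma.psi_surjective (M := ModuleCat.of A k) (L := I) (e0.symm 1)
      let g₁ : ModuleCat.of A k ⟶ (DC I (ModuleCat.of A k)).X 0 :=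
        ModuleCat.ofHom ((Submodule.liftQ (IsLocalRing.maximalIdeal A)
          (LinearMap.toSpanSingleton A ((DC I (ModuleCat.of A k)).X 0) f.1) fun r hr => by
            refine ModuleCat.hom_ext (LinearMap.ext fun y => ?_)
            show r • f.1.hom y = 0
            rw [← map_smul]
            refine (congrArg f.1.hom ?_).trans (map_zero f.1.hom)
            obtain ⟨y, rfl⟩ := Submodule.Quotient.mk_surjective _ y
            exact (Submodule.Quotient.mk_eq_zero _).2 (Ideal.mul_mem_right y _ hr)) : k →ₗ[A] _)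
      have hg₁ : g₁ ≫ (DC I (ModuleCat.of A k)).d 0 1 = 0 := by
        refine ModuleCat.hom_ext (LinearMap.ext fun y => ?_)
        obtain ⟨y, rfl⟩ := Submodule.Quotient.mk_surjective _ y
        show (y • f.1) ≫ I.d 0 1 = 0
        rw [Linear.smul_comp, show f.1 ≫ I.d 0 1 = 0 from f.2, smul_zero]
      let g := RGamma.toCx (⟨g₁, hg₁⟩ : RGamma.PreHom (ModuleCat.of A k) (DC I (ModuleCat.of A k)))
      have hg : g ≫ ev I (ModuleCat.of A k) (1 : k) = RGamma.toCx f := by
        refine HomologicalComplex.from_single_hom_ext ?_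
        rw [HomologicalComplex.comp_f, RGamma.toCx_f, RGamma.toCx_f, Category.assoc]
        congr 1
        refine ModuleCat.hom_ext (LinearMap.ext fun y => ?_)
        obtain ⟨y, rfl⟩ := Submodule.Quotient.mk_surjective _ y
        show y • f.1.hom (1 : k) = f.1.hom (Submodule.Quotient.mk y)
        rw [← map_smul]
        refine congrArg f.1.hom ?_
        show y • (Submodule.Quotient.mk 1 : A ⧸ IsLocalRing.maximalIdeal A) = _
        rw [← Submodule.Quotient.mk_smul, smul_eq_mul, mul_one]
      have h2 : RGamma.psi (ModuleCat.of A k) I f = 0 := by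
        show DerivedCategory.Q.map (RGamma.toCx f) = 0
        rw [← hg, Functor.map_comp, show DerivedCategory.Q.map (ev I (ModuleCat.of A k) (1 : k)) = 0 from h1,
          comp_zero]
      rw [h2] at hf
      exact one_ne_zero (e0.symm.injective (hf.symm.trans (map_zero _).symm))
  · have := hk i hi
    exact (Iso.homCongr eK (Iso.refl _)).subsingleton

theorem goodModule_of_equiv {M N : Type u} [AddCommGroup M] [Module A M] [AddCommGroup N] [Module A N]
    (e : M ≃ₗ[A] N) (h : GoodModule I (ModuleCat.of A M)) : GoodModule I (ModuleCat.of A N) := by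
  let S : ShortComplex (ModuleCat.{u} A) := ShortComplex.mk (ModuleCat.ofHom e.toLinearMap)
    (0 : ModuleCat.of A N ⟶ ModuleCat.of A PUnit) comp_zero
  have hS : S.ShortExact :=
    { exact := (ShortComplex.ShortExact.moduleCat_exact_iff_function_exact _).2 fun x =>
        ⟨fun _ => ⟨e.symm x, e.apply_symm_apply x⟩, fun _ => Subsingleton.elim _ _⟩
      mono_f := (ModuleCat.mono_iff_injective _).2 e.injective
      epi_g := (ModuleCat.epi_iff_surjective _).2 fun y => ⟨0, Subsingleton.elim _ _⟩ }
  exact goodModule_of_shortExact hS h (goodModule_of_isZero (ModuleCat.isZero_of_subsingleton _))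

/-- Nakayama. -/
theorem eq_top_of_le_sup {T : Type*} [AddCommGroup T] [Module A T] [Module.Finite A T] {x : A}
    (hx : x ∈ IsLocalRing.maximalIdeal A) (N : Submodule A T)
    (h : ∀ t : T, ∃ n ∈ N, ∃ t', t = n + x • t') : N = ⊤ :=
  top_le_iff.1 (Submodule.le_of_le_smul_of_le_jacobson_bot (I := Ideal.span {x}) Module.Finite.fg_top
    ((Ideal.span_singleton_le_iff_mem _).2 (IsLocalRing.maximalIdeal_le_jacobson _ hx)) fun t _ => by
      obtain ⟨n, hn, t', rfl⟩ := h t
      exact Submodule.mem_sup.2 ⟨n, hn, _, Submodule.smul_mem_smul (Ideal.mem_span_singleton_self x) trivial, rfl⟩)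

include hI hR hk hk0 in
theorem goodModule_finite' (M : Type u) [AddCommGroup M] [Module A M] [Module.Finite A M] :
    GoodModule I (ModuleCat.of A M) := by
  suffices key : ∀ (J : Ideal A) (M : Type u) [AddCommGroup M] [Module A M] [Module.Finite A M],
      (∀ a ∈ J, ∀ x : M, a • x = 0) → GoodModule I (ModuleCat.of A M) from
    key ⊥ M fun a ha x => by rw [Ideal.mem_bot.1 ha, zero_smul]
  intro J
  induction J using WellFoundedGT.induction with
  | _ J ih =>
    intro M _ _ hfin hJ
    revert hJ
    refine IsNoetherianRing.induction_on_isQuotientEquivQuotientPrime A hfin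
      (motive := fun N => (∀ a ∈ J, ∀ x : N, a • x = 0) → GoodModule I (ModuleCat.of A N)) ?_ ?_ ?_
    · intro N _ _ _ _ _
      exact goodModule_of_isZero (ModuleCat.isZero_of_subsingleton _)
    · intro N _ _ _ p e hJ'
      refine goodModule_of_equiv I e.symm ?_
      by_cases hp : p.1 = IsLocalRing.maximalIdeal A
      · exact goodModule_of_equiv I (Submodule.quotEquivOfEq _ _ hp.symm) (goodModule_residue I hk hk0)
      have hJp : J ≤ p.1 := fun a ha => by
        have := congrArg e (hJ' a ha (e.symm (Submodule.Quotient.mk 1)))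
        rw [map_smul, LinearEquiv.apply_symm_apply, map_zero, ← Submodule.Quotient.mk_smul,
          Submodule.Quotient.mk_eq_zero, smul_eq_mul, mul_one] at this
        exact this
      obtain ⟨x, hxm, hxp⟩ := SetLike.exists_of_lt
        (lt_of_le_of_ne (IsLocalRing.le_maximalIdeal p.2.ne_top) hp)
      let l : (A ⧸ p.1) →ₗ[A] (A ⧸ p.1) := x • LinearMap.id
      have hl : Function.Injective l := by
        rw [injective_iff_map_eq_zero]
        intro y hy
        obtain ⟨y, rfl⟩ := Submodule.Quotient.mk_surjective _ y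
        change x • (Submodule.Quotient.mk y : A ⧸ p.1) = 0 at hy
        rw [← Submodule.Quotient.mk_smul, Submodule.Quotient.mk_eq_zero] at hy
        exact (Submodule.Quotient.mk_eq_zero _).2 ((p.2.mem_or_mem hy).resolve_left hxp)
      let S : ShortComplex (ModuleCat.{u} A) :=
        ShortComplex.mk (ModuleCat.ofHom l) (ModuleCat.ofHom (LinearMap.range l).mkQ)
          (ModuleCat.hom_ext (LinearMap.exact_map_mkQ_range l).linearMap_comp_eq_zero)
      have hS : S.ShortExact :=
        { exact := (ShortComplex.ShortExact.moduleCat_exact_iff_function_exact S).2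
            (LinearMap.exact_map_mkQ_range l)
          mono_f := (ModuleCat.mono_iff_injective _).2 hl
          epi_g := (ModuleCat.epi_iff_surjective _).2 (Submodule.mkQ_surjective _) }
      have h₃ : GoodModule I S.X₃ := by
        refine ih (p.1 ⊔ Ideal.span {x}) ?_ ((A ⧸ p.1) ⧸ LinearMap.range l) (fun a ha y => ?_)
        · exact lt_of_le_of_lt hJp (lt_of_le_of_ne le_sup_left fun hc => hxp (by
            rw [hc]; exact Ideal.mem_sup_right (Ideal.mem_span_singleton_self x)))
        · obtain ⟨y, rfl⟩ := Submodule.Quotient.mk_surjective _ y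
          obtain ⟨b', hb, c, hc, rfl⟩ := Submodule.mem_sup.1 ha
          obtain ⟨d, rfl⟩ := Ideal.mem_span_singleton'.1 hc
          obtain ⟨y, rfl⟩ := Submodule.Quotient.mk_surjective _ y
          rw [← Submodule.Quotient.mk_smul, Submodule.Quotient.mk_eq_zero]
          refine ⟨d • Submodule.Quotient.mk y, ?_⟩
          simp only [l, LinearMap.smul_apply, LinearMap.id_apply]
          rw [← Submodule.Quotient.mk_smul, ← Submodule.Quotient.mk_smul,
            ← Submodule.Quotient.mk_smul, Submodule.Quotient.eq, smul_eq_mul, smul_eq_mul, smul_eq_mul]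
          have : x * (d * y) - (b' + d * x) * y = -(b' * y) := by ring
          rw [this]
          exact neg_mem (Ideal.mul_mem_right y _ hb)
      obtain ⟨δ, hT⟩ := exists_triangle (I := I) hS
      let P := ModuleCat.of A (A ⧸ p.1)
      let R := DerivedCategory.Q.obj I
      have hfin' : ∀ i : ℤ, Module.Finite A (Biduality.D I P ⟶ R⟦i⟧) := fun i =>
        Conservative.finite_hom (bddFin_D I hR hI (A ⧸ p.1)) (bddFin_shift hR i)
      have hmul : DerivedCategory.Q.map (DCmap I S.f) = x • 𝟙 (Biduality.D I P) := by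
        have h : DCmap I S.f = x • 𝟙 (DC I P) := by
          refine HomologicalComplex.hom_ext _ _ fun m => ModuleCat.hom_ext (LinearMap.ext fun z => ?_)
          show S.f ≫ (show P ⟶ I.X m from z) = x • (show P ⟶ I.X m from z)
          refine ModuleCat.hom_ext (LinearMap.ext fun y => ?_)
          exact map_smul (show P ⟶ I.X m from z).hom x y
        exact (congrArg DerivedCategory.Q.map h).trans
          ((DerivedCategory.Q.map_smul _ _).trans (congrArg _ (DerivedCategory.Q.map_id _)))
      have hq : ∀ {W : Dual.D A} (w : Biduality.D I P ⟶ W), DerivedCategory.Q.map (DCmap I S.f) ≫ w = x • w := by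
        intro W w
        rw [hmul]
        exact (Linear.smul_comp _ _ _ x (𝟙 (Biduality.D I P)) w).trans (congrArg (x • ·) (Category.id_comp w))
      -- vanishing away from degree zero
      have hvan : ∀ i : ℤ, i ≠ 0 → Subsingleton (Biduality.D I P ⟶ R⟦i⟧) := fun i hi => by
        have := hfin' i
        have htop := eq_top_of_le_sup (T := Biduality.D I P ⟶ R⟦i⟧) hxm ⊥ fun w => by
          obtain ⟨w', hw'⟩ := Triangle.yoneda_exact₂ _ hT w ((h₃.vanish i hi).elim _ _)
          exact ⟨0, zero_mem _, w', (hw'.trans (hq w')).trans (zero_add _).symm⟩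
        exact subsingleton_of_forall_eq 0 fun w => (Submodule.mem_bot A).1 (htop ▸ Submodule.mem_top)
      refine ⟨⟨?_, ?_⟩, hvan⟩
      · refine (injective_iff_map_eq_zero (evD I P)).2 ?_
        let Ker := LinearMap.ker (evD I P)
        haveI : Module.Finite A Ker := Module.Finite.iff_fg.2 (IsNoetherian.noetherian _)
        have htop := eq_top_of_le_sup (T := Ker) hxm ⊥ fun y => by
          have h0 : evD I S.X₃ (S.g.hom y.1) = 0 := by
            rw [evD_naturality, show evD I S.X₂ y.1 = 0 from y.2, comp_zero]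
          obtain ⟨z, hz⟩ := (LinearMap.exact_map_mkQ_range l _).1 (h₃.bij.1 (h0.trans (map_zero _).symm))
          have hz' : evD I P z = 0 := by
            have e1 : DerivedCategory.Q.map (DCmap I S.f) ≫ evD I P z = 0 := by
              rw [hq, ← map_smul]
              exact (congrArg (evD I P) hz).trans y.2
            obtain ⟨w, hw⟩ := Triangle.yoneda_exact₂ _ (rot_of_distTriang _ hT) (evD I P z) e1
            exact hw.trans ((congrArg _ (h₃.subsingleton_one.elim w 0)).trans comp_zero)
          exact ⟨0, zero_mem _, ⟨z, hz'⟩, Subtype.ext ((zero_add (x • z)).trans hz).symm⟩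
        intro y hy
        have : (⟨y, hy⟩ : Ker) ∈ (⊥ : Submodule A Ker) := htop ▸ Submodule.mem_top
        exact congrArg Subtype.val ((Submodule.mem_bot A).1 this)
      · have := hfin' 0
        haveI : Module.Finite A (Biduality.D I P ⟶ R) :=
          Module.Finite.equiv (Linear.homCongr A (Iso.refl (Biduality.D I P)) ((shiftFunctorZero (Dual.D A) ℤ).app R))
        refine LinearMap.range_eq_top.1 (eq_top_of_le_sup hxm (LinearMap.range (evD I P)) fun w => ?_)
        obtain ⟨q, hq'⟩ := h₃.bij.2 (DerivedCategory.Q.map (DCmap I S.g) ≫ w)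
        obtain ⟨y, rfl⟩ := (ModuleCat.epi_iff_surjective _).1 hS.epi_g q
        rw [evD_naturality] at hq'
        obtain ⟨w', hw'⟩ := Triangle.yoneda_exact₂ _ hT (w - evD I P y)
          ((Preadditive.comp_sub _ _ _).trans (sub_eq_zero.2 hq'.symm))
        exact ⟨_, LinearMap.mem_range_self _ y, w', (sub_eq_iff_eq_add'.1 (hw'.trans (hq w')))⟩
    · intro N₁ _ _ _ N₂ _ _ _ N₃ _ _ _ g₁ g₂ hg₁ hg₂ hex ih₁ ih₃ hJ'
      let S : ShortComplex (ModuleCat.{u} A) := ShortComplex.mk (ModuleCat.ofHom g₁) (ModuleCat.ofHom g₂)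
        (ModuleCat.hom_ext hex.linearMap_comp_eq_zero)
      have hS : S.ShortExact :=
        { exact := (ShortComplex.ShortExact.moduleCat_exact_iff_function_exact S).2 hex
          mono_f := (ModuleCat.mono_iff_injective _).2 hg₁
          epi_g := (ModuleCat.epi_iff_surjective _).2 hg₂ }
      refine goodModule_of_shortExact hS (ih₁ fun a ha y => hg₁ ?_) (ih₃ fun a ha y => ?_)
      · rw [map_smul, hJ' a ha, map_zero]
      · obtain ⟨y, rfl⟩ := hg₂ y
        rw [← map_smul, hJ' a ha, map_zero]

end Local

end Groth.Agent.Lib.DMod.GorensteinDual
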