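import Groth.Agent.Lib.DR.HomCx
import Groth.Agent.Lib.LCFin.CanonBasic
import Mathlib.RingTheory.Flat.Basic
import Mathlib.Algebra.Module.Injective
import Mathlib.Data.Int.Interval

/-!
Maps from flat modules to injective modules are injective, maps between injective modules are flat
(Noetherian rings), and Hom complexes of bounded complexes of such modules.
-/

set_option linter.style.haveILetI false

universe u

open CategoryTheory CategoryTheory.Limits
open CochainComplex CochainComplex.HomComplex
open Groth.Agent.Lib.DR.HomCx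
open scoped TensorProduct

namespace Groth.Agent.Lib.DMod.HomInjFlat

variable {A : Type u} [CommRing A]

theorem injective_hom_of_flat (F E : Type u) [AddCommGroup F] [Module A F] [AddCommGroup E] [Module A E]
    [Module.Flat A F] (hE : Module.Injective A E) : Module.Injective A (F →ₗ[A] E) :=
  ⟨fun X Y _ _ _ _ f hf g => by
    obtain ⟨h, hh⟩ := hE.out (f.rTensor F) (Module.Flat.rTensor_preserves_injective_linearMap f hf)
      (TensorProduct.lift g)
    exact ⟨TensorProduct.curry h, fun x => LinearMap.ext fun y => hh (x ⊗ₜ y)⟩⟩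

theorem flat_hom_of_injective [IsNoetherianRing A] (K E : Type u) [AddCommGroup K] [Module A K] [AddCommGroup E]
    [Module A E] (hK : Module.Injective A K) (hE : Module.Injective A E) : Module.Flat A (K →ₗ[A] E) := by
  rw [Module.Flat.iff_lTensor_injective']
  intro J
  haveI : Module.Finite A J := Module.Finite.iff_fg.2 (IsNoetherian.noetherian J)
  refine (injective_iff_map_eq_zero _).2 fun t ht => ?_
  refine (Groth.Agent.Lib.LCFin.CanonBasic.ev_bijective K hE J).1 (LinearMap.ext fun h => ?_)
  obtain ⟨g, hg⟩ := hK.out J.subtype Subtype.val_injective h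
  obtain rfl : h = g ∘ₗ J.subtype := LinearMap.ext fun x => (hg x).symm
  rw [← Groth.Agent.Lib.LCFin.CanonBasic.ev_natural, ht, map_zero, map_zero]
  rfl

/-- A degree of a Hom complex with finitely many nonzero components. -/
theorem exists_equiv_pi (F I : DRing.Cx A) (n : ℤ) (S : Finset ℤ)
    (h : ∀ p, p ∉ S → IsZero (F.X p) ∨ IsZero (I.X (p + n))) :
    Nonempty ((DRing.homCx F I).X n ≃ₗ[A] (∀ p : S, F.X p.1 →ₗ[A] I.X (p.1 + n))) := by
  classical
  let L : Cochain F I n →ₗ[A] (∀ p : S, F.X p.1 →ₗ[A] I.X (p.1 + n)) :=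
    LinearMap.pi fun p => lv p.1 (p.1 + n) rfl
  have hL : Function.Bijective L := by
    refine ⟨fun z z' hz => lv_ext fun p q hpq => ?_, fun g => ?_⟩
    · subst hpq
      by_cases hp : p ∈ S
      · exact congr_fun hz ⟨p, hp⟩
      · refine LinearMap.ext fun x => ?_
        rcases h p hp with h | h
        · haveI := ModuleCat.subsingleton_of_isZero h
          rw [Subsingleton.elim x 0, map_zero, map_zero]
        · haveI := ModuleCat.subsingleton_of_isZero h
          exact Subsingleton.elim _ _
    · refine ⟨(Cochain.mk fun p q hpq => if hp : p ∈ S then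
        ModuleCat.ofHom (g ⟨p, hp⟩) ≫ eqToHom (by rw [hpq]) else 0), funext fun ⟨p, hp⟩ => ?_⟩
      show ((Cochain.mk _ : Cochain F I n).v p (p + n) rfl).hom = _
      rw [Cochain.mk_v, dif_pos hp, eqToHom_refl, Category.comp_id]
      rfl
  exact ⟨LinearEquiv.ofBijective L hL⟩

theorem isZero_homCx_X (F I : DRing.Cx A) {a b c d : ℤ} (hF : ∀ p, p < a ∨ b < p → IsZero (F.X p))
    (hI : ∀ q, q < c ∨ d < q → IsZero (I.X q)) (n : ℤ) (hn : n < c - b ∨ d - a < n) :
    IsZero ((DRing.homCx F I).X n) := by
  obtain ⟨e⟩ := exists_equiv_pi F I n ∅ (fun p _ => by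
    by_cases hp : p < a ∨ b < p
    · exact Or.inl (hF p hp)
    · exact Or.inr (hI _ (by lia)))
  haveI := e.toEquiv.subsingleton
  exact ModuleCat.isZero_of_subsingleton _

theorem flat_homCx_X [IsNoetherianRing A] (J I : DRing.Cx A) {a b : ℤ}
    (hJ : ∀ p, p < a ∨ b < p → IsZero (J.X p)) (hJi : ∀ p, Module.Injective A (J.X p))
    (hIi : ∀ q, Module.Injective A (I.X q)) (n : ℤ) : Module.Flat A ((DRing.homCx J I).X n) := by
  classical
  obtain ⟨e⟩ := exists_equiv_pi J I n (Finset.Icc a b) fun p hp => Or.inl (hJ p (by simp at hp; lia))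
  haveI : ∀ p : Finset.Icc a b, Module.Flat A (J.X p.1 →ₗ[A] I.X (p.1 + n)) := fun p =>
    flat_hom_of_injective _ _ (hJi _) (hIi _)
  exact Module.Flat.of_linearEquiv (e.trans DFinsupp.linearEquivFunOnFintype.symm)

theorem injective_homCx_X (F I : DRing.Cx A) {a b : ℤ}
    (hF : ∀ p, p < a ∨ b < p → IsZero (F.X p)) (hFf : ∀ p, Module.Flat A (F.X p))
    (hIi : ∀ q, Module.Injective A (I.X q)) (n : ℤ) : Module.Injective A ((DRing.homCx F I).X n) := by
  obtain ⟨e⟩ := exists_equiv_pi F I n (Finset.Icc a b) fun p hp => Or.inl (hF p (by simp at hp; lia))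
  haveI : ∀ p : Finset.Icc a b, Module.Injective A (F.X p.1 →ₗ[A] I.X (p.1 + n)) := fun p =>
    haveI := hFf p.1
    injective_hom_of_flat _ _ (hIi _)
  exact (Module.Baer.of_equiv e.symm (Module.Baer.of_injective inferInstance)).injective

end Groth.Agent.Lib.DMod.HomInjFlat
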