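import Groth.Agent.Lib.DMod.Devissage
import Mathlib.RingTheory.Support
import Mathlib.RingTheory.QuotSMulTop
import Mathlib.RingTheory.Ideal.AssociatedPrime.Finiteness

/-!
Supports of the `A`-modules of morphisms in `D(A)`: long exact sequences, Nakayama, devissage.
-/

universe u v w

open CategoryTheory Category Limits Pretriangulated

attribute [local instance] HasDerivedCategory.standard

namespace Groth.Agent.Lib.DMod.HomSupp

open Groth.Agent.Lib.DMod.Basic

variable {A : Type u} [CommRing A]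

section Module

theorem notMem_support_of_exact {p : PrimeSpectrum A} {L : Type v} {M : Type w} {N : Type*}
    [AddCommGroup L] [Module A L] [AddCommGroup M] [Module A M] [AddCommGroup N] [Module A N]
    {f : L →ₗ[A] M} {g : M →ₗ[A] N} (h : Function.Exact f g)
    (hL : p ∉ Module.support A L) (hN : p ∉ Module.support A N) : p ∉ Module.support A M := by
  rw [Module.notMem_support_iff'] at *
  intro m
  obtain ⟨s, hs, hsm⟩ := hN (g m)
  obtain ⟨l, hl⟩ := (h (s • m)).1 (by rw [map_smul, hsm])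
  obtain ⟨t, ht, htl⟩ := hL l
  refine ⟨t * s, p.isPrime.mul_notMem ht hs, ?_⟩
  rw [mul_smul, ← hl, ← map_smul, htl, map_zero]

theorem notMem_support_of_injective {p : PrimeSpectrum A} {M : Type v} {N : Type w}
    [AddCommGroup M] [Module A M] [AddCommGroup N] [Module A N]
    {f : M →ₗ[A] N} (hf : Function.Injective f) (hN : p ∉ Module.support A N) :
    p ∉ Module.support A M := by
  rw [Module.notMem_support_iff'] at *
  intro m
  obtain ⟨s, hs, hsm⟩ := hN (f m)
  exact ⟨s, hs, hf (by rw [map_smul, hsm, map_zero])⟩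

theorem notMem_support_of_surjective {p : PrimeSpectrum A} {M : Type v} {N : Type w}
    [AddCommGroup M] [Module A M] [AddCommGroup N] [Module A N]
    {f : M →ₗ[A] N} (hf : Function.Surjective f) (hM : p ∉ Module.support A M) :
    p ∉ Module.support A N := by
  rw [Module.notMem_support_iff'] at *
  intro n
  obtain ⟨m, rfl⟩ := hf n
  obtain ⟨s, hs, hsm⟩ := hM m
  exact ⟨s, hs, by rw [← map_smul, hsm, map_zero]⟩

theorem notMem_support_equiv {p : PrimeSpectrum A} {M : Type v} {N : Type w}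
    [AddCommGroup M] [Module A M] [AddCommGroup N] [Module A N]
    (e : M ≃ₗ[A] N) (hM : p ∉ Module.support A M) : p ∉ Module.support A N :=
  notMem_support_of_surjective (f := e.toLinearMap) e.surjective hM

theorem mem_support_equiv {p : PrimeSpectrum A} {M : Type v} {N : Type w}
    [AddCommGroup M] [Module A M] [AddCommGroup N] [Module A N]
    (e : M ≃ₗ[A] N) (hM : p ∈ Module.support A M) : p ∈ Module.support A N := by
  contrapose! hM
  exact notMem_support_equiv e.symm hM

/-- Nakayama at a prime: if `M --x--> M → C` is exact with `x ∈ p` and `C` vanishes at `p`, then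
the finite module `M` vanishes at `p`. -/
theorem notMem_support_of_smul_exact {p : PrimeSpectrum A} {M : Type v} {C : Type w}
    [AddCommGroup M] [Module A M] [Module.Finite A M] [AddCommGroup C] [Module A C]
    {x : A} (hx : x ∈ p.asIdeal) {g : M →ₗ[A] C}
    (h : ∀ m, g m = 0 → ∃ m', x • m' = m) (hC : p ∉ Module.support A C) :
    p ∉ Module.support A M := by
  intro hp
  have hq : p ∈ Module.support A (QuotSMulTop x M) := by
    rw [Module.support_quotSMulTop]
    exact ⟨hp, by simpa [PrimeSpectrum.mem_zeroLocus] using hx⟩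
  refine hq |> fun hq => (Module.notMem_support_iff'.2 fun y => ?_) hq
  obtain ⟨m, rfl⟩ := Submodule.Quotient.mk_surjective _ y
  obtain ⟨s, hs, hsm⟩ := (Module.notMem_support_iff'.1 hC) (g m)
  obtain ⟨m', hm'⟩ := h (s • m) (by rw [map_smul, hsm])
  refine ⟨s, hs, ?_⟩
  rw [← Submodule.Quotient.mk_smul, Submodule.Quotient.mk_eq_zero, ← hm']
  exact Submodule.smul_mem_pointwise_smul m' x ⊤ trivial

theorem mem_support_quotient_prime (q p : PrimeSpectrum A) :
    p ∈ Module.support A (A ⧸ q.asIdeal) ↔ q ≤ p := by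
  rw [Module.support_eq_zeroLocus, Ideal.annihilator_quotient]
  exact PrimeSpectrum.mem_zeroLocus _ _

theorem exists_notMem_smul_eq_zero {p : PrimeSpectrum A} {M : Type v} [AddCommGroup M] [Module A M]
    [Module.Finite A M] (hp : p ∉ Module.support A M) :
    ∃ s ∉ p.asIdeal, ∀ m : M, s • m = 0 := by
  rw [Module.mem_support_iff_of_finite] at hp
  obtain ⟨s, hs, hsp⟩ := SetLike.not_le_iff_exists.1 hp
  exact ⟨s, hsp, Module.mem_annihilator.1 hs⟩

end Module

section Annihilate

theorem smul_id_inD {M : Type u} [AddCommGroup M] [Module A M] {s : A} (hs : ∀ m : M, s • m = 0) :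
    s • 𝟙 (Dual.inD A M) = 0 := by
  have h : s • 𝟙 (ModuleCat.of A M) = 0 := ModuleCat.hom_ext (LinearMap.ext hs)
  have := congrArg (DerivedCategory.singleFunctor (ModuleCat.{u} A) 0).map h
  rwa [CategoryTheory.Functor.map_smul, CategoryTheory.Functor.map_id, CategoryTheory.Functor.map_zero] at this

theorem smul_id_shift {X : Dual.D A} {s : A} (hs : s • 𝟙 X = 0) (n : ℤ) :
    s • 𝟙 (X⟦n⟧) = 0 := by
  have := congrArg (shiftFunctor (Dual.D A) n).map hs
  rwa [CategoryTheory.Functor.map_smul, CategoryTheory.Functor.map_id, CategoryTheory.Functor.map_zero] at this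

theorem smul_hom_eq_zero_left {X Y : Dual.D A} {s : A} (hs : s • 𝟙 X = 0) (f : X ⟶ Y) :
    s • f = 0 := by
  rw [← Category.id_comp f, ← Linear.smul_comp, hs, zero_comp]

theorem smul_hom_eq_zero_right {X Y : Dual.D A} {s : A} (hs : s • 𝟙 Y = 0) (f : X ⟶ Y) :
    s • f = 0 := by
  rw [← Category.comp_id f, ← Linear.comp_smul, hs, comp_zero]

theorem notMem_support_hom_inD_left {p : PrimeSpectrum A} (M : Type u) [AddCommGroup M] [Module A M]
    [Module.Finite A M] (hp : p ∉ Module.support A M) (n : ℤ) (Y : Dual.D A) :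
    p ∉ Module.support A ((Dual.inD A M)⟦n⟧ ⟶ Y) := by
  obtain ⟨s, hs, hsM⟩ := exists_notMem_smul_eq_zero hp
  exact Module.notMem_support_iff'.2 fun f =>
    ⟨s, hs, smul_hom_eq_zero_left (smul_id_shift (smul_id_inD hsM) n) f⟩

theorem notMem_support_hom_inD_right {p : PrimeSpectrum A} (M : Type u) [AddCommGroup M] [Module A M]
    [Module.Finite A M] (hp : p ∉ Module.support A M) (n : ℤ) (X : Dual.D A) :
    p ∉ Module.support A (X ⟶ (Dual.inD A M)⟦n⟧) := by
  obtain ⟨s, hs, hsM⟩ := exists_notMem_smul_eq_zero hp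
  exact Module.notMem_support_iff'.2 fun f =>
    ⟨s, hs, smul_hom_eq_zero_right (smul_id_shift (smul_id_inD hsM) n) f⟩

end Annihilate

section Sequence

variable {T : Triangle (Dual.D A)} (hT : T ∈ distTriang (Dual.D A))
include hT

theorem notMem_support_hom_from_obj₂ {p : PrimeSpectrum A} (Y : Dual.D A)
    (h₁ : p ∉ Module.support A (T.obj₁ ⟶ Y)) (h₃ : p ∉ Module.support A (T.obj₃ ⟶ Y)) :
    p ∉ Module.support A (T.obj₂ ⟶ Y) :=
  notMem_support_of_exact (exact_leftComp hT Y) h₃ h₁

theorem notMem_support_hom_to_obj₂ {p : PrimeSpectrum A} (X : Dual.D A)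
    (h₁ : p ∉ Module.support A (X ⟶ T.obj₁)) (h₃ : p ∉ Module.support A (X ⟶ T.obj₃)) :
    p ∉ Module.support A (X ⟶ T.obj₂) :=
  notMem_support_of_exact (exact_rightComp hT X) h₁ h₃

end Sequence

section Conn

/-- `(X ⟶ Y[i]) = (X[1] ⟶ Y[i+1])`. -/
noncomputable def shiftOne (X Y : Dual.D A) (i j : ℤ) (h : i + 1 = j) :
    (X ⟶ Y⟦i⟧) ≃ₗ[A] (X⟦(1 : ℤ)⟧ ⟶ Y⟦j⟧) :=
  (homShiftAdj X Y 1 j i (by lia)).symm

/-- The connecting map `Hom(T₁, Y[i]) → Hom(T₃, Y[i+1])`. -/
noncomputable def conn (T : Triangle (Dual.D A)) (Y : Dual.D A) (i j : ℤ) (h : i + 1 = j) :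
    (T.obj₁ ⟶ Y⟦i⟧) →ₗ[A] (T.obj₃ ⟶ Y⟦j⟧) :=
  (Linear.leftComp A (Y⟦j⟧) T.mor₃).comp (shiftOne T.obj₁ Y i j h).toLinearMap

theorem shiftOne_comp {X X' : Dual.D A} (u : X' ⟶ X) (Y : Dual.D A) (i j : ℤ) (h : i + 1 = j)
    (f : X ⟶ Y⟦i⟧) :
    shiftOne X' Y i j h (u ≫ f) = u⟦(1 : ℤ)⟧' ≫ shiftOne X Y i j h f := by
  simp [shiftOne, homShiftAdj, homShiftEquiv, Linear.homCongr, Functor.mapLinearMap]

variable {T : Triangle (Dual.D A)} (hT : T ∈ distTriang (Dual.D A))
include hT

theorem exact_conn_leftComp (Y : Dual.D A) (i j : ℤ) (h : i + 1 = j) :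
    Function.Exact (conn T Y i j h) (Linear.leftComp A (Y⟦j⟧) T.mor₂) := by
  intro f
  refine (exact_leftComp (rot_of_distTriang _ hT) (Y⟦j⟧) f).trans ?_
  constructor
  · rintro ⟨g, rfl⟩
    obtain ⟨g', rfl⟩ := (shiftOne T.obj₁ Y i j h).surjective g
    exact ⟨g', rfl⟩
  · rintro ⟨g, rfl⟩
    exact ⟨shiftOne T.obj₁ Y i j h g, rfl⟩

theorem exact_leftComp_conn (Y : Dual.D A) (i j : ℤ) (h : i + 1 = j) :
    Function.Exact (Linear.leftComp A (Y⟦i⟧) T.mor₁) (conn T Y i j h) := by
  intro f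
  have hR := exact_leftComp (rot_of_distTriang _ (rot_of_distTriang _ hT)) (Y⟦j⟧)
    (shiftOne T.obj₁ Y i j h f)
  constructor
  · intro hf
    obtain ⟨g, hg⟩ := hR.1 hf
    obtain ⟨g', rfl⟩ := (shiftOne T.obj₂ Y i j h).surjective g
    refine ⟨-g', (shiftOne T.obj₁ Y i j h).injective ?_⟩
    change shiftOne T.obj₁ Y i j h (T.mor₁ ≫ (-g')) = _
    rw [shiftOne_comp, ← hg, map_neg]
    simp
    exact (Preadditive.neg_comp _ _).symm
  · rintro ⟨g, rfl⟩
    change T.mor₃ ≫ shiftOne T.obj₁ Y i j h (T.mor₁ ≫ g) = 0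
    rw [shiftOne_comp, comp_distTriang_mor_zero₃₁_assoc _ hT, Limits.zero_comp]

end Conn

section Seq

variable {M₁ M₂ M₃ : Type u} [AddCommGroup M₁] [Module A M₁] [AddCommGroup M₂] [Module A M₂]
  [AddCommGroup M₃] [Module A M₃]

/-- The triangle of a short exact sequence of modules, translated by `n`. -/
theorem exists_triangle_of_shortExact (f : M₁ →ₗ[A] M₂) (g : M₂ →ₗ[A] M₃)
    (hf : Function.Injective f) (hg : Function.Surjective g) (hfg : Function.Exact f g) :
    ∃ T : Triangle (Dual.D A), T ∈ distTriang (Dual.D A) ∧ T.obj₁ = Dual.inD A M₁ ∧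
      T.obj₂ = Dual.inD A M₂ ∧ T.obj₃ = Dual.inD A M₃ := by
  let S : ShortComplex (ModuleCat.{u} A) :=
    ShortComplex.mk (ModuleCat.ofHom f) (ModuleCat.ofHom g)
      (ModuleCat.hom_ext hfg.linearMap_comp_eq_zero)
  have hS : S.ShortExact :=
    { exact := (ShortComplex.ShortExact.moduleCat_exact_iff_function_exact S).2 hfg
      mono_f := (ModuleCat.mono_iff_injective _).2 hf
      epi_g := (ModuleCat.epi_iff_surjective _).2 hg }
  exact ⟨hS.singleTriangle, hS.singleTriangle_distinguished, rfl, rfl, rfl⟩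

end Seq

variable [IsNoetherianRing A]

/-- Devissage: `Hom(M, Y)` vanishes at `p` if `Hom(A/q, Y)` does for all primes `q ≤ p` in the support
of `M`. -/
theorem notMem_support_hom_of_primes (p : PrimeSpectrum A) (Y : Dual.D A) (M : Type u)
    [AddCommGroup M] [Module A M] [Module.Finite A M]
    (h : ∀ q : PrimeSpectrum A, q ≤ p → q ∈ Module.support A M →
      p ∉ Module.support A (Dual.inD A (A ⧸ q.asIdeal) ⟶ Y)) :
    p ∉ Module.support A (Dual.inD A M ⟶ Y) := by
  suffices key : (∀ q : PrimeSpectrum A, q ≤ p → q ∈ Module.support A M →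
      p ∉ Module.support A (Dual.inD A (A ⧸ q.asIdeal) ⟶ Y)) →
      p ∉ Module.support A (Dual.inD A M ⟶ Y) from key h
  refine IsNoetherianRing.induction_on_isQuotientEquivQuotientPrime (A := A) (M := M) inferInstance
    (motive := fun N _ _ _ => (∀ q : PrimeSpectrum A, q ≤ p → q ∈ Module.support A N →
      p ∉ Module.support A (Dual.inD A (A ⧸ q.asIdeal) ⟶ Y)) →
      p ∉ Module.support A (Dual.inD A N ⟶ Y)) ?_ ?_ ?_
  · intro N _ _ _ _ _
    have hN : p ∉ Module.support A N := by simp [Module.support_eq_empty]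
    refine notMem_support_equiv ?_ (notMem_support_hom_inD_left N hN 0 Y)
    exact Linear.homCongr A ((shiftFunctorZero (Dual.D A) ℤ).app _) (Iso.refl Y)
  · intro N _ _ _ q e hq
    by_cases hqp : q ≤ p
    · have hqN : q ∈ Module.support A N := by
        rw [e.support_eq, mem_support_quotient_prime]
      exact notMem_support_equiv (Linear.homCongr A
        ((DerivedCategory.singleFunctor (ModuleCat.{u} A) 0).mapIso e.symm.toModuleIso) (Iso.refl Y))
        (hq q hqp hqN)
    · have hN : p ∉ Module.support A N := by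
        rw [e.support_eq, mem_support_quotient_prime]
        exact hqp
      refine notMem_support_equiv ?_ (notMem_support_hom_inD_left N hN 0 Y)
      exact Linear.homCongr A ((shiftFunctorZero (Dual.D A) ℤ).app _) (Iso.refl Y)
  · intro N₁ _ _ _ N₂ _ _ _ N₃ _ _ _ f g hf hg hfg ih₁ ih₃ hN₂
    obtain ⟨T, hT, e₁, e₂, e₃⟩ := exists_triangle_of_shortExact f g hf hg hfg
    have h₁ := ih₁ fun q hqp hq =>
      hN₂ q hqp (Module.support_subset_of_injective f hf hq)
    have h₃ := ih₃ fun q hqp hq =>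
      hN₂ q hqp (Module.support_subset_of_surjective g hg hq)
    rw [← e₁] at h₁
    rw [← e₃] at h₃
    rw [← e₂]
    exact notMem_support_hom_from_obj₂ hT Y h₁ h₃

end Groth.Agent.Lib.DMod.HomSupp
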