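import Groth.Agent.Lib.DMod.ShriekLCI
import Mathlib.RingTheory.PicardGroup

/-!
Invertible modules are the finite modules that are cyclic faithful near each prime.
-/

universe u

open TensorProduct
open Groth.Agent.Lib.DMod

namespace Groth.Agent.Lib.DMod.InvertibleLocal

variable {A : Type u} [CommRing A] {M : Type u} [AddCommGroup M] [Module A M]

/-- Near `q` the module is cyclic and faithful. -/
def LocCyclic (q : Ideal A) (M : Type u) [AddCommGroup M] [Module A M] : Prop :=
  ∃ x : M, (∀ y : M, ∃ s a : A, s ∉ q ∧ s • y = a • x) ∧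
    ∀ a : A, a • x = 0 → ∃ s : A, s ∉ q ∧ s * a = 0

/-- An invertible module is cyclic faithful near each prime. -/
theorem locCyclic_of_invertible [Module.Invertible A M] (q : Ideal A) [q.IsPrime] :
    LocCyclic q M := by
  let S := q.primeCompl
  have : Module.Invertible (Localization S) (LocalizedModule S M) := inferInstance
  have : IsLocalRing (Localization S) := Localization.AtPrime.isLocalRing q
  have hfree : Module.Free (Localization S) (LocalizedModule S M) := Module.free_of_flat_of_isLocalRing
  obtain ⟨e⟩ := (Module.Invertible.free_iff_linearEquiv (R := Localization S)).1 hfree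
  let f := LocalizedModule.mkLinearMap S M
  obtain ⟨⟨x, s⟩, hxs⟩ := IsLocalizedModule.surj S f (e.symm 1)
  have hxs' : algebraMap A (Localization S) s.1 • e.symm 1 = f x := by
    rw [IsScalarTower.algebraMap_smul]
    exact hxs
  have hx : e (f x) = algebraMap A (Localization S) s.1 := by
    rw [← hxs', map_smul, LinearEquiv.apply_symm_apply, smul_eq_mul, mul_one]
  have he : ∀ (b : A) (z : LocalizedModule S M), e (b • z) = algebraMap A (Localization S) b * e z :=
    fun b z => by rw [← IsScalarTower.algebraMap_smul (Localization S) b z, map_smul, smul_eq_mul]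
  refine ⟨x, fun y => ?_, fun a ha => ?_⟩
  · obtain ⟨⟨a, t⟩, hat⟩ := IsLocalization.surj S (e (f y))
    have h1 : f ((t.1 * s.1) • y) = f (a • x) := by
      refine e.injective ?_
      rw [map_smul f, map_smul f, he, he, hx, map_mul, ← hat]
      ring
    obtain ⟨u, hu⟩ := IsLocalizedModule.exists_of_eq (S := S) h1
    refine ⟨u.1 * (t.1 * s.1), u.1 * a, (u * (t * s)).2, ?_⟩
    simp only [Submonoid.smul_def, smul_smul] at hu
    exact hu
  · have h1 : algebraMap A (Localization S) (a * s.1) = 0 := by
      rw [map_mul, ← hx, ← he, ← map_smul f, ha, map_zero f]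
      exact map_zero e
    obtain ⟨u, hu⟩ := (IsLocalization.map_eq_zero_iff S _ _).1 h1
    exact ⟨u.1 * s.1, (u * s).2, by rw [mul_assoc, mul_comm s.1 a]; exact hu⟩

/-- A finite module cyclic faithful near each maximal ideal is invertible. -/
theorem invertible_of_locCyclic [IsNoetherianRing A] [Module.Finite A M]
    (h : ∀ q : Ideal A, q.IsMaximal → LocCyclic q M) : Module.Invertible A M := by
  classical
  -- the symmetry `φ(m) n = φ(n) m`
  have hsymm : ∀ (φ : Module.Dual A M) (m k : M), φ m • k = φ k • m := by
    intro φ m k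
    rw [← sub_eq_zero]
    by_contra hne
    obtain ⟨q, hq, hle⟩ := Ideal.exists_le_maximal _
      (fun e => hne ((Ideal.torsionOf_eq_top_iff A _).1 e))
    obtain ⟨x, hgen, -⟩ := h q hq
    obtain ⟨s, a, hs, hsa⟩ := hgen m
    obtain ⟨t, b, ht, htb⟩ := hgen k
    have hzero : (s * t) • (φ m • k - φ k • m) = 0 := by
      have h1 : (s * t) • (φ m • k) = (φ (s • m)) • (t • k) := by
        rw [map_smul, smul_smul, smul_smul, smul_eq_mul]
        congr 1
        ring
      have h2 : (s * t) • (φ k • m) = (φ (t • k)) • (s • m) := by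
        rw [map_smul, smul_smul, smul_smul, smul_eq_mul]
        congr 1
        ring
      rw [smul_sub, h1, h2, hsa, htb, map_smul, map_smul, smul_smul, smul_smul, smul_eq_mul,
        smul_eq_mul, sub_eq_zero]
      congr 1
      ring
    exact (hq.isPrime.mem_or_mem (hle ((Ideal.mem_torsionOf_iff _ _).2 hzero))).elim hs ht
  -- the trace ideal is everything
  have hsurj : Function.Surjective (contractLeft A M) := by
    rw [← LinearMap.range_eq_top]
    by_contra hne
    obtain ⟨q, hq, hle⟩ := Ideal.exists_le_maximal (LinearMap.range (contractLeft A M)) hne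
    have := hq.isPrime
    obtain ⟨x, hgen, hann⟩ := h q hq
    obtain ⟨f₁, hf₁, hf₁'⟩ := ShriekLCI.exists_kill q (Submodule.span A {x}) fun y => by
      obtain ⟨s, a, hs, hsa⟩ := hgen y
      exact ⟨s, hs, Submodule.mem_span_singleton.2 ⟨a, hsa.symm⟩⟩
    obtain ⟨f₂, hf₂, hf₂'⟩ := ShriekLCI.exists_kill_ideal q
      (LinearMap.ker (LinearMap.toSpanSingleton A M x)) fun a ha => hann a ha
    choose a ha using fun y => Submodule.mem_span_singleton.1 (hf₁' y)
    have hwd : ∀ b b' : A, b • x = b' • x → f₂ * b = f₂ * b' := fun b b' e => by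
      rw [← sub_eq_zero, ← mul_sub]
      refine hf₂' _ ?_
      rw [LinearMap.mem_ker, LinearMap.toSpanSingleton_apply, sub_smul, e, sub_self]
    let φ : Module.Dual A M :=
      { toFun := fun y => f₂ * a y
        map_add' := fun y z => by
          rw [← mul_add]
          exact hwd _ _ (by rw [add_smul, ha, ha, ha, smul_add])
        map_smul' := fun r y => by
          rw [RingHom.id_apply, smul_eq_mul, mul_left_comm]
          exact hwd _ _ (by rw [mul_smul, ha, ha, smul_comm]) }
    have hφ : φ x = f₂ * f₁ := hwd _ _ (ha x)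
    have hmem : φ x ∈ q := hle ⟨φ ⊗ₜ x, contractLeft_apply φ x⟩
    rw [hφ] at hmem
    exact (hq.isPrime.mem_or_mem hmem).elim hf₂ hf₁
  refine ⟨Function.bijective_iff_has_inverse.2 ?_⟩
  obtain ⟨z, hz⟩ := hsurj 1
  refine ⟨fun r => r • z, fun w => ?_, fun r => by rw [map_smul, hz, smul_eq_mul, mul_one]⟩
  show contractLeft A M w • z = w
  induction w using TensorProduct.induction_on with
  | zero => rw [map_zero, zero_smul]
  | add x y hx hy => rw [map_add, add_smul, hx, hy]
  | tmul φ m =>
    rw [contractLeft_apply]
    suffices h2 : ∀ w : Module.Dual A M ⊗[A] M, φ m • w = contractLeft A M w • (φ ⊗ₜ[A] m) by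
      rw [h2, hz, one_smul]
    intro w
    induction w using TensorProduct.induction_on with
    | zero => rw [map_zero, smul_zero, zero_smul]
    | add x y hx hy => rw [map_add, smul_add, add_smul, hx, hy]
    | tmul ψ k =>
      rw [contractLeft_apply, ← TensorProduct.tmul_smul, hsymm φ m k, TensorProduct.tmul_smul,
        TensorProduct.smul_tmul', TensorProduct.smul_tmul']
      congr 1
      refine LinearMap.ext fun j => ?_
      rw [LinearMap.smul_apply, LinearMap.smul_apply, smul_eq_mul, smul_eq_mul, ← smul_eq_mul,
        ← map_smul, ← hsymm φ j k, map_smul, smul_eq_mul, mul_comm]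

end Groth.Agent.Lib.DMod.InvertibleLocal
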