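import Groth.Agent.Lib.DMod.Bottom
import Groth.Agent.Lib.QDepth.Local
import Groth.Prelude.Def_EGA4b

/-!
A dualizing complex which is a sheaf in degree `0` off a thin closed set is ordinary.
-/

universe u

open CategoryTheory Category Limits Pretriangulated

attribute [local instance] HasDerivedCategory.standard

namespace Groth.Agent.Lib.DMod.OrdinaryOff

open Groth.Agent.Lib.DMod Groth.Agent.Lib.DMod.Basic Groth.Agent.Lib.DMod.Degree

variable {A : Type u} [CommRing A] [IsNoetherianRing A] {ω : Dual.D A} (hω : Dual.IsDualizing A ω)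
include hω

theorem exists_minimal (p : PrimeSpectrum A) :
    ∃ q : PrimeSpectrum A, q ≤ p ∧ q.asIdeal ∈ minimalPrimes A := by
  obtain ⟨q, hq, hqp⟩ := Ideal.exists_minimalPrimes_le (I := (⊥ : Ideal A)) (J := p.asIdeal) bot_le
  exact ⟨⟨q, hq.1.1⟩, hqp, hq⟩

theorem mem_support_self (p : PrimeSpectrum A) : p ∈ Module.support A A := by
  rw [Module.support_eq_zeroLocus]
  exact fun a ha => by
    have h0 : a * 1 = 0 := Module.mem_annihilator.mp ha 1
    simp only [mul_one] at h0
    simp [h0]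

variable (J : Ideal A) (hJ : 1 ≤ J.height)
  (hoff : ∀ p : PrimeSpectrum A, ¬ J ≤ p.asIdeal → ∀ i : ℤ, i ≠ 0 →
    p ∉ Module.support A (Dual.HD A ω i))
include hJ hoff

omit hω hoff in
theorem not_le_of_minimal (q : PrimeSpectrum A) (hq : q.asIdeal ∈ minimalPrimes A) :
    ¬ J ≤ q.asIdeal := by
  intro h
  have h1 := hJ.trans (Ideal.height_mono h)
  rw [Ideal.height_eq_zero_iff.mpr hq] at h1
  simp at h1

theorem deg_minimal (q : PrimeSpectrum A) (hq : q.asIdeal ∈ minimalPrimes A) : deg hω q = 0 := by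
  by_contra hne
  have hm : ∀ r : PrimeSpectrum A, r ≤ q → r ∈ Module.support A A → deg hω q ≤ deg hω r := by
    intro r hr _
    rw [PrimeSpectrum.ext (hq.2 ⟨r.isPrime, bot_le⟩ hr |>.antisymm hr)]
  have h := mem_support_hom_of_minimal_deg hω q q le_rfl A (mem_support_self hω q) hm
  rw [(homUnitShiftEquiv ω _).support_eq] at h
  exact hoff q (not_le_of_minimal J hJ q hq) _ hne h

theorem deg_nonneg (p : PrimeSpectrum A) : 0 ≤ deg hω p := by
  obtain ⟨q, hqp, hq⟩ := exists_minimal hω p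
  exact deg_minimal hω J hJ hoff q hq ▸ deg_le hω hqp

omit hω hJ hoff in
theorem exists_chain_of_two_le_height (p : PrimeSpectrum A) (h : 2 ≤ p.asIdeal.height) :
    ∃ a b : PrimeSpectrum A, a < b ∧ b < p := by
  rw [PrimeSpectrum.height_eq_orderHeight] at h
  obtain ⟨b, hb, hb1⟩ := Order.coe_lt_height_iff (α := PrimeSpectrum A) (n := 1) (x := p)
    (by
      rw [← PrimeSpectrum.height_eq_orderHeight]; exact Ideal.height_lt_top p.isPrime.ne_top)
    |>.mp (lt_of_lt_of_le (by norm_num) h)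
  obtain ⟨a, ha, -⟩ := Order.coe_lt_height_iff (α := PrimeSpectrum A) (n := 0) (x := b)
    (by rw [hb1]; exact ENat.coe_lt_top _) |>.mp (by rw [hb1]; norm_num)
  exact ⟨a, b, ha, hb⟩

theorem two_le_deg (p : PrimeSpectrum A) (h : 2 ≤ p.asIdeal.height) : 2 ≤ deg hω p := by
  obtain ⟨a, b, hab, hbp⟩ := exists_chain_of_two_le_height p h
  have := deg_lt hω hab
  have := deg_lt hω hbp
  have := deg_nonneg hω J hJ hoff a
  lia

theorem deg_closedPoint [IsLocalRing A] (n : ℕ) (hd : ringKrullDim A = n) :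
    deg hω (IsLocalRing.closedPoint A) = n := by
  obtain ⟨q, -, hq, hmin⟩ := DimDegree.exists_min_deg hω (IsLocalRing.closedPoint A) A
    (mem_support_self hω _)
  have hmin' : ∀ r, r ∈ Module.support A A → deg hω q ≤ deg hω r :=
    fun r hr => hmin r hr (IsLocalRing.le_maximalIdeal r.isPrime.ne_top)
  have hq0 : deg hω q = 0 := by
    obtain ⟨r, -, hr⟩ := exists_minimal hω q
    have := hmin' r (mem_support_self hω r)
    have := deg_minimal hω J hJ hoff r hr
    have := deg_nonneg hω J hJ hoff q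
    lia
  have hs := DimDegree.supportDim_local_eq hω q A hq hmin'
  rw [Module.supportDim_self_eq_ringKrullDim, hd, hq0] at hs
  have hs' : n = (deg hω (IsLocalRing.closedPoint A) - 0).toNat := by exact_mod_cast hs
  have := deg_nonneg hω J hJ hoff (IsLocalRing.closedPoint A)
  lia

theorem isEquidim [IsLocalRing A] (n : ℕ) (hd : ringKrullDim A = n) : EGA4.IsEquidim A := by
  intro q hq
  let q' : PrimeSpectrum A := ⟨q, hq.1.1⟩
  rw [DimDegree.ringKrullDim_quotient_eq hω q', hd, deg_closedPoint hω J hJ hoff n hd,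
    deg_minimal hω J hJ hoff q' hq]
  simp

theorem isNormalized [IsLocalRing A] (n : ℕ) (hd : ringKrullDim A = n) :
    Dual.IsNormalized A (ω⟦(n : ℤ)⟧) := by
  intro i hi
  have h : Subsingleton (Dual.inD A (A ⧸ (IsLocalRing.closedPoint A).asIdeal) ⟶ ω⟦(n : ℤ) + i⟧) :=
    LocalCase.subsingleton_residue_of_ne hω _ (IsLocalRing.maximalIdeal.isMaximal A)
      (by rw [deg_closedPoint hω J hJ hoff n hd]; lia)
  exact (Linear.homCongr A (Iso.refl _) ((shiftFunctorAdd' (Dual.D A) (n : ℤ) i _ rfl).app ω).symm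
    ).toEquiv.subsingleton_congr.2 h

theorem hasSk_two : LocCoh.HasSk 2 A (Dual.HD A ω 0) :=
  Bottom.hasSk_two_bottom hω (homUnitShiftEquiv ω 0).symm fun q _ => deg_nonneg hω J hJ hoff q

theorem two_le_idealDepth (hJ2 : 2 ≤ J.height) : 2 ≤ LocCoh.idealDepth J (Dual.HD A ω 0) := by
  have := finite_hom hω A 0
  have : Module.Finite A (Dual.HD A ω 0) := Module.Finite.equiv (homUnitShiftEquiv ω 0)
  rw [show (2 : ℕ∞) = ((2 : ℕ) : ℕ∞) from rfl, QDepth.le_idealDepth_iff_forall]
  intro p hp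
  refine Bottom.le_depth_bottom hω (homUnitShiftEquiv ω 0).symm
    (fun q _ => deg_nonneg hω J hJ hoff q) p 2 le_rfl ?_
  have := two_le_deg hω J hJ hoff p (hJ2.trans (Ideal.height_mono hp))
  push_cast
  lia

end Groth.Agent.Lib.DMod.OrdinaryOff
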