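import Groth.Agent.Lib.DMod.GorFibrePrime
import Groth.Agent.Lib.Regular45.PDLocal

/-!
Projective dimension of a flat finitely presented algebra over a polynomial presentation.
-/

set_option linter.style.haveILetI false

universe u

open IsLocalRing CategoryTheory TensorProduct
open Groth.Agent.Lib.DMod.FibreRed Groth.Agent.Lib.DMod.ExtFibre Groth.Agent.Lib.Regular

namespace Groth.Agent.Lib.DMod.PDFibre

section Local

variable {R C : Type u} [CommRing R] [CommRing C] [IsLocalRing R] [Algebra R C] [IsNoetherianRing R]
  [IsLocalRing C] [IsNoetherianRing C] [IsLocalHom (algebraMap R C)] [Module.Flat R C]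

/-- The projective dimension is bounded by that of the fibre. -/
theorem pdle_of_fibre : ∀ (d : ℕ) (M : Type u) [AddCommGroup M] [Module C M] [Module R M]
    [IsScalarTower R C M] [Module.Finite C M] [Module.Flat R M],
    PD.PDle (C ⧸ fa R C) (Bar R C M) d → PD.PDle C M d := by
  intro d
  induction d with
  | zero =>
    intro M _ _ _ _ _ _ hd
    have := free_of_pdle_zero (R := R) (C := C) M hd
    rw [PD.pdle_zero_iff]
    exact Module.Projective.of_free
  | succ d ih =>
    intro M _ _ _ _ _ _ hd
    obtain ⟨n, π, hπ, hflatK, -, -, -, -, hpd⟩ := exists_cover (R := R) (C := C) M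
    exact (PD.pdle_succ_iff hπ d).2 (ih _ (hpd d hd))

end Local

variable {R : Type u} [CommRing R] [IsNoetherianRing R] {n : ℕ} {A : Type u} [CommRing A]
  [Algebra (MvPolynomial (Fin n) R) A] [Algebra R A] [IsScalarTower R (MvPolynomial (Fin n) R) A]
  (hsurj : Function.Surjective (algebraMap (MvPolynomial (Fin n) R) A)) [Module.Flat R A]

include hsurj in
/-- The presentation has projective dimension at most `n`. -/
theorem pdle_presentation : PD.PDle (MvPolynomial (Fin n) R) A n := by
  let P := MvPolynomial (Fin n) R
  have : Module.Finite P A := Module.Finite.of_surjective (Algebra.linearMap P A) hsurj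
  let K := RingHom.ker (algebraMap P A)
  let qA : A ≃ₗ[P] (P ⧸ K) :=
    ((Algebra.linearMap P A).quotKerEquivOfSurjective hsurj).symm.trans
      (Submodule.quotEquivOfEq _ _ rfl)
  refine Regular45.PDLocal.pdle_of_localization n A fun Q => ?_
  by_cases hle : K ≤ Q.asIdeal
  · have : (Q.asIdeal.map (algebraMap P A)).IsPrime := Ideal.map_isPrime_of_surjective hsurj hle
    have hQ : (Q.asIdeal.map (algebraMap P A)).comap (algebraMap P A) = Q.asIdeal := by
      rw [Ideal.comap_map_of_surjective _ hsurj, ← RingHom.ker_eq_comap_bot, sup_eq_left.2 hle]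
    have key : ∀ (q : Ideal A) [q.IsPrime], PD.PDle (Localization.AtPrime (q.comap (algebraMap P A)))
        (LocalizedModule (q.comap (algebraMap P A)).primeCompl A) n := by
      intro q _
      let Q := q.comap (algebraMap P A)
      let C := Localization.AtPrime Q
      let Rp := Localization.AtPrime (Q.comap (algebraMap R P))
      letI : Algebra Rp C := GorFibrePrime.algLoc Q
      obtain ⟨hloc, htower, hflat, hflatJ, hJ, hreg, -, hdim, -⟩ := GorFibrePrime.setup (n := n) hsurj q
      have := hflatJ inferInstance
      obtain ⟨D, hD, -⟩ := Regular.Quotient.exists_dim_eq (R := C ⧸ fa Rp C)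
      have hDn : D ≤ n := by
        rw [hD] at hdim
        exact_mod_cast hdim
      have h1 := pdle_of_fibre (R := Rp) D (C ⧸ LocalExtCI.locKer (P := P) A q)
        (GorFibreLocal.pdle_of_dim hreg hD _)
      let eA : LocalizedModule Q.primeCompl A ≃ₗ[C] C ⧸ LocalExtCI.locKer (P := P) A q :=
        ((LocalizedModule.equivTensorProduct Q.primeCompl A).trans (qA.baseChange P C A (P ⧸ K))).trans
          (Algebra.TensorProduct.quotIdealMapEquivTensorQuot C K).toLinearEquiv.symm
      exact PD.pdle_mono (PD.pdle_of_equiv eA.symm h1) hDn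
    have key2 : ∀ (Q' : Ideal P) [Q'.IsPrime], Q' = Q.asIdeal →
        PD.PDle (Localization.AtPrime Q') (LocalizedModule Q'.primeCompl A) n →
        PD.PDle (Localization.AtPrime Q.asIdeal) (LocalizedModule Q.asIdeal.primeCompl A) n := by
      intro Q' _ h
      subst h
      exact id
    exact key2 _ hQ (key _)
  · obtain ⟨a, ha, ha'⟩ := SetLike.not_le_iff_exists.1 hle
    have : Subsingleton (LocalizedModule Q.asIdeal.primeCompl A) :=
      LocalizedModule.subsingleton_iff.2 fun x => ⟨a, ha', by
        rw [Algebra.smul_def, RingHom.mem_ker.1 ha, zero_mul]⟩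
    exact PD.pdle_mono ((PD.pdle_zero_iff).2 inferInstance) (Nat.zero_le n)

include hsurj in
/-- `Ext` vanishes above `n`. -/
theorem subsingleton_ext_of_lt (j : ℕ) (hj : n < j) :
    Subsingleton (Abelian.Ext.{u} (ModuleCat.of (MvPolynomial (Fin n) R) A)
      (ModuleCat.of (MvPolynomial (Fin n) R) (MvPolynomial (Fin n) R)) j) :=
  have : HasProjectiveDimensionLT (ModuleCat.of (MvPolynomial (Fin n) R) A) (n + 1) :=
    pdle_presentation hsurj
  HasProjectiveDimensionLT.subsingleton _ (n + 1) j hj _

end Groth.Agent.Lib.DMod.PDFibre
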