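import Groth.Agent.Lib.DMod.Sys
import Groth.Agent.Lib.DMod.Devissage
import Groth.Agent.Lib.LocalCoh.Torsion
import Mathlib.RingTheory.Ideal.AssociatedPrime.Finiteness

/-!
Local duality: for a bounded object `X` with finite cohomology, the pairing
`colim Hom(A/m^n, X) → Hom(Hom(X, ω), E)` is bijective.
-/

universe u

open CategoryTheory Category Limits Pretriangulated

attribute [local instance] HasDerivedCategory.standard

set_option linter.unusedSectionVars false
set_option linter.unusedVariables false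

namespace Groth.Agent.Lib.DMod.Pairing

open Groth.Agent.Lib.DMod Groth.Agent.Lib.DMod.Basic Groth.Agent.Lib.DMod.Sys

variable {A : Type u} [CommRing A]

/-- A composable pair which is exact under `Hom(W, -)` and `Hom(-, W)`. -/
structure EPair {Y₀ Y₁ Y₂ : Dual.D A} (a : Y₀ ⟶ Y₁) (b : Y₁ ⟶ Y₂) : Prop where
  zero : a ≫ b = 0
  lift : ∀ {W : Dual.D A} (g : W ⟶ Y₁), g ≫ b = 0 → ∃ g', g' ≫ a = g
  desc : ∀ {W : Dual.D A} (h : Y₁ ⟶ W), a ≫ h = 0 → ∃ h', b ≫ h' = h

theorem epair_of_distTriang {T : Triangle (Dual.D A)} (hT : T ∈ distTriang (Dual.D A)) :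
    EPair T.mor₁ T.mor₂ where
  zero := comp_distTriang_mor_zero₁₂ _ hT
  lift g hg := by obtain ⟨g', hg'⟩ := Triangle.coyoneda_exact₂ _ hT g hg; exact ⟨g', hg'.symm⟩
  desc h hh := by obtain ⟨h', hh'⟩ := Triangle.yoneda_exact₂ _ hT h hh; exact ⟨h', hh'.symm⟩

variable [IsLocalRing A]

local notation "𝔪" => IsLocalRing.maximalIdeal A

variable {ω : Dual.D A} {E : Type u} [AddCommGroup E] [Module A E]

/-- `g` pairs to zero with everything. -/
def Kill (t : Trace ω E) {n : ℕ} {X : Dual.D A} (g : QD A n ⟶ X) : Prop :=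
  ∀ h : X ⟶ ω, t.τ n (g ≫ h) = 0

/-- `g` dies at a higher level. -/
def Negl {n : ℕ} {X : Dual.D A} (g : QD A n ⟶ X) : Prop :=
  ∃ (N : ℕ) (h : n ≤ N), proj h ≫ g = 0

/-- Injectivity of the pairing. -/
def Inj (t : Trace ω E) (X : Dual.D A) : Prop :=
  ∀ (n : ℕ) (g : QD A n ⟶ X), Kill t g → Negl g

/-- Surjectivity of the pairing. -/
def Surj (t : Trace ω E) (X : Dual.D A) : Prop :=
  ∀ φ : (X ⟶ ω) →ₗ[A] E, ∃ (n : ℕ) (g : QD A n ⟶ X), ∀ h, t.τ n (g ≫ h) = φ h

/-- Bijectivity of the pairing for all translates. -/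
def Good (t : Trace ω E) (X : Dual.D A) : Prop :=
  ∀ i : ℤ, Inj t (X⟦i⟧) ∧ Surj t (X⟦i⟧)

variable (t : Trace ω E)

theorem kill_proj {n N : ℕ} (hN : n ≤ N) {X : Dual.D A} {g : QD A n ⟶ X} (hg : Kill t g) :
    Kill t (proj hN ≫ g) := fun h => by rw [Category.assoc, t.compat, hg h]

theorem negl_of_proj {n N : ℕ} (hN : n ≤ N) {X : Dual.D A} {g : QD A n ⟶ X}
    (hg : Negl (proj hN ≫ g)) : Negl g := by
  obtain ⟨M, hM, h⟩ := hg
  exact ⟨M, hN.trans hM, by rw [← proj_comp hN hM, Category.assoc, h]⟩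

theorem negl_comp {n : ℕ} {X Y : Dual.D A} {g : QD A n ⟶ X} (hg : Negl g) (f : X ⟶ Y) :
    Negl (g ≫ f) := by
  obtain ⟨M, hM, h⟩ := hg
  exact ⟨M, hM, by rw [← Category.assoc, h, zero_comp]⟩

theorem negl_zero {n : ℕ} {X : Dual.D A} : Negl (0 : QD A n ⟶ X) := ⟨n, le_rfl, comp_zero⟩

theorem inj_of_iso {X Y : Dual.D A} (e : X ≅ Y) (h : Inj t X) : Inj t Y := fun n g hg => by
  have h' := negl_comp (h n (g ≫ e.inv) fun k => by rw [Category.assoc]; exact hg _) e.hom
  rwa [Category.assoc, Iso.inv_hom_id, Category.comp_id] at h'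

theorem surj_of_iso {X Y : Dual.D A} (e : X ≅ Y) (h : Surj t X) : Surj t Y := fun φ => by
  obtain ⟨n, g, hg⟩ := h (φ ∘ₗ Linear.leftComp A ω e.inv)
  refine ⟨n, g ≫ e.hom, fun k => ?_⟩
  rw [Category.assoc, hg]
  exact congrArg φ (e.inv_hom_id_assoc k)

theorem good_of_iso {X Y : Dual.D A} (e : X ≅ Y) (h : Good t X) : Good t Y := fun i =>
  ⟨inj_of_iso t ((shiftFunctor _ i).mapIso e) (h i).1, surj_of_iso t ((shiftFunctor _ i).mapIso e) (h i).2⟩

omit [IsLocalRing A] in
theorem exists_factor (hE : Module.Baer A E) {M N : Type (u + 1)} [AddCommGroup M] [Module A M]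
    [AddCommGroup N] [Module A N] (L : M →ₗ[A] N) (ψ : M →ₗ[A] E)
    (hk : ∀ x, L x = 0 → ψ x = 0) : ∃ ψ' : N →ₗ[A] E, ψ' ∘ₗ L = ψ := by
  obtain ⟨ψ', hψ'⟩ := hE.extension_property ((LinearMap.ker L).liftQ L le_rfl)
    (LinearMap.ker_eq_bot.1 (Submodule.ker_liftQ_eq_bot _ _ _ le_rfl))
    ((LinearMap.ker L).liftQ ψ fun x hx => hk x hx)
  exact ⟨ψ', LinearMap.ext fun x => LinearMap.congr_fun hψ' (Submodule.Quotient.mk x)⟩

section Five

variable (hE : Module.Baer A E) {W X Y Z : Dual.D A} {a : W ⟶ X} {b : X ⟶ Y} {c : Y ⟶ Z}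
include hE

theorem inj_mid (h₁ : EPair a b) (h₂ : EPair b c) (hW : Surj t W) (hX : Inj t X) (hZ : Inj t Z) :
    Inj t Y := by
  intro n g hg
  obtain ⟨N, hN, h0⟩ := hZ n (g ≫ c) fun k => by rw [Category.assoc]; exact hg _
  obtain ⟨g₁, hg₁⟩ := h₂.lift (proj hN ≫ g) (by rw [Category.assoc]; exact h0)
  let φ₁ : (X ⟶ ω) →ₗ[A] E := t.τ N ∘ₗ Linear.leftComp A ω g₁
  obtain ⟨φ', hφ'⟩ := exists_factor hE (Linear.leftComp A ω a) φ₁ fun x hx => by
    obtain ⟨y, rfl⟩ := h₁.desc x hx
    show t.τ N (g₁ ≫ b ≫ y) = 0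
    rw [← Category.assoc, hg₁]
    exact kill_proj t hN hg y
  obtain ⟨m, g₀, hg₀⟩ := hW φ'
  let M := max N m
  have hkill : Kill t (proj (le_max_left N m) ≫ g₁ - proj (le_max_right N m) ≫ g₀ ≫ a) := fun k => by
    rw [Preadditive.sub_comp, map_sub, sub_eq_zero, Category.assoc, t.compat, Category.assoc,
      t.compat, Category.assoc, hg₀]
    exact (LinearMap.congr_fun hφ' k).symm
  obtain ⟨M', hM', h1⟩ := hX M _ hkill
  refine ⟨M', hN.trans ((le_max_left N m).trans hM'), ?_⟩
  have h2 := congrArg (· ≫ b) h1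
  simp only [Preadditive.comp_sub, Preadditive.sub_comp, Category.assoc, h₁.zero, comp_zero,
    sub_zero, zero_comp] at h2
  rw [hg₁] at h2
  rw [← proj_comp hN ((le_max_left N m).trans hM'), ← proj_comp (le_max_left N m) hM']
  simpa only [Category.assoc] using h2

theorem surj_mid {W' : Dual.D A} {d : Z ⟶ W'} (h₂ : EPair b c) (h₃ : EPair c d) (hX : Surj t X)
    (hZ : Surj t Z) (hW : Inj t W') : Surj t Y := by
  intro φ
  obtain ⟨n, g₃, hg₃⟩ := hZ (φ ∘ₗ Linear.leftComp A ω c)
  obtain ⟨N, hN, h0⟩ := hW n (g₃ ≫ d) fun k => by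
    rw [Category.assoc, hg₃]
    show φ (c ≫ d ≫ k) = 0
    rw [← Category.assoc, h₃.zero, zero_comp, map_zero]
  obtain ⟨g₂, hg₂⟩ := h₃.lift (proj hN ≫ g₃) (by rw [Category.assoc]; exact h0)
  obtain ⟨φ₁, hφ₁⟩ := exists_factor hE (Linear.leftComp A ω b)
      (φ - t.τ N ∘ₗ Linear.leftComp A ω g₂) fun x hx => by
    obtain ⟨y, rfl⟩ := h₂.desc x hx
    show φ (c ≫ y) - t.τ N (g₂ ≫ c ≫ y) = 0
    rw [← Category.assoc g₂, hg₂, Category.assoc, t.compat, hg₃]
    exact sub_self _
  obtain ⟨m, g₁, hg₁⟩ := hX φ₁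
  refine ⟨max N m, proj (le_max_left N m) ≫ g₂ + proj (le_max_right N m) ≫ g₁ ≫ b, fun k => ?_⟩
  rw [Preadditive.add_comp, map_add, Category.assoc, t.compat, Category.assoc, t.compat,
    Category.assoc, hg₁]
  have := LinearMap.congr_fun hφ₁ k
  simp only [LinearMap.comp_apply, LinearMap.sub_apply, Linear.leftComp_apply] at this
  rw [this]
  abel

end Five

section Mul

variable (hE : Module.Baer A E) {W X N X' : Dual.D A} {x : A} (hx : x ∈ IsLocalRing.maximalIdeal A) {a : W ⟶ X}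
  {b : X ⟶ N} {b' : X' ⟶ W}
include hE hx

theorem surj_mul (h₁ : EPair a (x • 𝟙 X)) (h₂ : EPair (x • 𝟙 X) b) (hW : Surj t W) (hN : Inj t N)
    (htor : ∀ φ : (X ⟶ ω) →ₗ[A] E, ∃ j : ℕ, x ^ j • φ = 0) : Surj t X := by
  have key : ∀ φ : (X ⟶ ω) →ₗ[A] E, (∃ (n : ℕ) (g : QD A n ⟶ X), ∀ h, t.τ n (g ≫ h) = (x • φ) h) →
      ∃ (n : ℕ) (g : QD A n ⟶ X), ∀ h, t.τ n (g ≫ h) = φ h := by
    rintro φ ⟨n, g, hg⟩
    obtain ⟨M, hM, h0⟩ := hN n (g ≫ b) fun k => by
      rw [Category.assoc, hg, LinearMap.smul_apply, ← map_smul, ← Linear.smul_comp]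
      have h00 : x • b = 0 := by
        have h3 := h₂.zero
        rwa [Linear.smul_comp, Category.id_comp] at h3
      rw [h00, zero_comp, map_zero]
    obtain ⟨g₁, hg₁⟩ := h₂.lift (proj hM ≫ g) (by rw [Category.assoc]; exact h0)
    rw [Linear.comp_smul, Category.comp_id] at hg₁
    obtain ⟨φ', hφ'⟩ := exists_factor hE (Linear.leftComp A ω a)
        (φ - t.τ M ∘ₗ Linear.leftComp A ω g₁) fun k hk => by
      obtain ⟨y, rfl⟩ := h₁.desc k hk
      rw [Linear.smul_comp, Category.id_comp, map_smul, LinearMap.sub_apply, LinearMap.comp_apply,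
        Linear.leftComp_apply, smul_sub, ← map_smul, ← map_smul, ← Linear.smul_comp, hg₁,
        Category.assoc, t.compat, hg]
      simp
    obtain ⟨m, g₀, hg₀⟩ := hW φ'
    refine ⟨max M m, proj (le_max_left M m) ≫ g₁ + proj (le_max_right M m) ≫ g₀ ≫ a, fun k => ?_⟩
    rw [Preadditive.add_comp, map_add, Category.assoc, t.compat, Category.assoc, t.compat,
      Category.assoc, hg₀]
    have := LinearMap.congr_fun hφ' k
    simp only [LinearMap.comp_apply, LinearMap.sub_apply, Linear.leftComp_apply] at this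
    rw [this]
    abel
  intro φ
  obtain ⟨j, hj⟩ := htor φ
  induction j generalizing φ with
  | zero =>
    refine ⟨0, 0, fun k => ?_⟩
    rw [pow_zero, one_smul] at hj
    simp [hj]
  | succ j ih => exact key φ (ih (x • φ) (by rw [smul_smul, ← pow_succ]; exact hj))

theorem inj_mul (h₀ : EPair b' a) (h₁ : EPair a (x • 𝟙 X)) (hW : Inj t W) (hX' : Surj t X') :
    Inj t X := by
  have key : ∀ (n : ℕ) (g : QD A n ⟶ X), Kill t g → x • g = 0 → Negl g := by
    intro n g hg h0
    obtain ⟨g₀, hg₀⟩ := h₁.lift g (by rw [Linear.comp_smul, Category.comp_id, h0])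
    obtain ⟨φ', hφ'⟩ := exists_factor hE (Linear.leftComp A ω b')
        (t.τ n ∘ₗ Linear.leftComp A ω g₀) fun k hk => by
      obtain ⟨y, rfl⟩ := h₀.desc k hk
      show t.τ n (g₀ ≫ a ≫ y) = 0
      rw [← Category.assoc, hg₀]
      exact hg y
    obtain ⟨m, g', hg'⟩ := hX' φ'
    have hkill : Kill t (proj (le_max_left n m) ≫ g₀ - proj (le_max_right n m) ≫ g' ≫ b') := fun k => by
      rw [Preadditive.sub_comp, map_sub, sub_eq_zero, Category.assoc, t.compat, Category.assoc,
        t.compat, Category.assoc, hg']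
      exact (LinearMap.congr_fun hφ' k).symm
    obtain ⟨M, hM, h1⟩ := hW _ _ hkill
    refine ⟨M, (le_max_left n m).trans hM, ?_⟩
    have h2 := congrArg (· ≫ a) h1
    simp only [Preadditive.comp_sub, Preadditive.sub_comp, Category.assoc, h₀.zero, comp_zero,
      sub_zero, zero_comp] at h2
    rw [hg₀] at h2
    rw [← proj_comp (le_max_left n m) hM, Category.assoc]
    exact h2
  have key2 : ∀ (j n : ℕ) (g : QD A n ⟶ X), Kill t g → x ^ j • g = 0 → Negl g := by
    intro j
    induction j with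
    | zero => intro n g _ h0; rw [pow_zero, one_smul] at h0; rw [h0]; exact negl_zero
    | succ j ih =>
      intro n g hg h0
      obtain ⟨M, hM, hxg⟩ := ih n (x • g) (fun k => by rw [Linear.smul_comp, map_smul, hg k, smul_zero])
        (by rw [smul_smul, ← pow_succ]; exact h0)
      rw [Linear.comp_smul] at hxg
      exact negl_of_proj hM (key M _ (kill_proj t hM hg) hxg)
  intro n g hg
  exact key2 n n g hg (pow_smul_hom_eq_zero g _ (Ideal.pow_mem_pow hx n))

end Mul

/-- Five lemma: goodness passes to middle terms of triangles. -/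
theorem good_of_triangle (hE : Module.Baer A E) {T : Triangle (Dual.D A)}
    (hT : T ∈ distTriang (Dual.D A)) (h₁ : Good t T.obj₁) (h₃ : Good t T.obj₃) : Good t T.obj₂ := by
  intro i
  let S := (Triangle.shiftFunctor (Dual.D A) i).obj T
  have hS : S ∈ distTriang (Dual.D A) := Triangle.shift_distinguished _ hT i
  have e3 : (T.obj₃⟦i + (-1)⟧) ≅ (T.obj₃⟦i⟧)⟦(-1 : ℤ)⟧ := (shiftFunctorAdd (Dual.D A) i (-1 : ℤ)).app _
  have e1 : (T.obj₁⟦i + 1⟧) ≅ (T.obj₁⟦i⟧)⟦(1 : ℤ)⟧ := (shiftFunctorAdd _ i 1).app _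
  exact ⟨inj_mid t hE (epair_of_distTriang (inv_rot_of_distTriang _ hS)) (epair_of_distTriang hS)
      (surj_of_iso t e3 (h₃ (i + (-1))).2) (h₁ i).1 (h₃ i).1,
    surj_mid t hE (epair_of_distTriang hS) (epair_of_distTriang (rot_of_distTriang _ hS))
      (h₁ i).2 (h₃ i).2 (inj_of_iso t e1 (h₁ (i + 1)).1)⟩

theorem good_of_isZero {X : Dual.D A} (hX : IsZero X) : Good t X := fun i => by
  have hz : IsZero (X⟦i⟧) := Functor.map_isZero _ hX
  refine ⟨fun n g _ => ⟨n, le_rfl, hz.eq_of_tgt _ _⟩, fun φ => ⟨0, 0, fun h => ?_⟩⟩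
  rw [hz.eq_of_src h 0, comp_zero, map_zero, map_zero]

theorem good_shift {X : Dual.D A} (n : ℤ) (h : Good t X) : Good t (X⟦n⟧) := fun i =>
  ⟨inj_of_iso t ((shiftFunctorAdd _ n i).app X) (h (n + i)).1,
    surj_of_iso t ((shiftFunctorAdd _ n i).app X) (h (n + i)).2⟩

variable [IsNoetherianRing A]

/-- `H^{i}_m` of a torsion module vanishes in positive degrees. -/
theorem negl_of_torsion : ∀ (j : ℕ) (M : Type u) [AddCommGroup M] [Module A M],
    LocCoh.IsPowerTorsion 𝔪 M → ∀ (n : ℕ) (g : QD A n ⟶ (Dual.inD A M)⟦((j + 1 : ℕ) : ℤ)⟧), Negl g := by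
  intro j
  induction j using Nat.strong_induction_on with
  | _ j ih =>
    intro M _ _ htor n g
    obtain ⟨I, ι₀, hI, hι₀⟩ := InjHull.Basic.exists_injective_embedding (R := A) M
    have hJ : Module.Injective A (DRing.torsionSub 𝔪 I) := LocalCoh.injective_torsionSub (I := 𝔪) I
    let ι : M →ₗ[A] DRing.torsionSub 𝔪 I := LinearMap.codRestrict _ ι₀ fun m => by
      obtain ⟨k, hk⟩ := htor m
      exact ⟨k, fun a ha => by rw [← map_smul, hk a ha, map_zero]⟩
    have hι : Function.Injective ι := fun a b hab => hι₀ (congrArg Subtype.val hab)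
    let S₀ : ShortComplex (ModuleCat.{u} A) :=
      ShortComplex.mk (ModuleCat.ofHom ι) (ModuleCat.ofHom (LinearMap.range ι).mkQ)
        (ModuleCat.hom_ext (LinearMap.exact_map_mkQ_range ι).linearMap_comp_eq_zero)
    have hS₀ : S₀.ShortExact :=
      { exact := (ShortComplex.ShortExact.moduleCat_exact_iff_function_exact S₀).2
          (LinearMap.exact_map_mkQ_range ι)
        mono_f := (ModuleCat.mono_iff_injective _).2 hι
        epi_g := (ModuleCat.epi_iff_surjective _).2 (Submodule.mkQ_surjective _) }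
    let T := (Triangle.shiftFunctor (Dual.D A) (j : ℤ)).obj hS₀.singleTriangle
    have hT : T ∈ distTriang (Dual.D A) :=
      Triangle.shift_distinguished _ hS₀.singleTriangle_distinguished j
    let e : (Dual.inD A M)⟦((j + 1 : ℕ) : ℤ)⟧ ≅ T.obj₁⟦(1 : ℤ)⟧ :=
      (shiftFunctorAdd' (Dual.D A) (j : ℤ) 1 ((j + 1 : ℕ) : ℤ) (by lia)).app _
    have hs : Subsingleton (QD A n ⟶ T.obj₂⟦(1 : ℤ)⟧) := by
      have : CategoryTheory.Injective (ModuleCat.of A (DRing.torsionSub 𝔪 I)) :=
        (Module.injective_iff_injective_object A _).1 hJ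
      have hE1 : Subsingleton (QD A n ⟶ (Dual.inD A (DRing.torsionSub 𝔪 I))⟦((j + 1 : ℕ) : ℤ)⟧) :=
        (extEquiv (Q A n) (DRing.torsionSub 𝔪 I) (j + 1)).toEquiv.subsingleton_congr.1
          (subsingleton_of_forall_eq 0 fun x => x.eq_zero_of_injective)
      exact (Linear.homCongr A (Iso.refl _)
        ((shiftFunctorAdd' (Dual.D A) (j : ℤ) 1 ((j + 1 : ℕ) : ℤ) (by lia)).app
          (Dual.inD A (DRing.torsionSub 𝔪 I)))).toEquiv.subsingleton_congr.1 hE1
    have h23 := epair_of_distTriang (rot_of_distTriang _ hT)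
    obtain ⟨g', hg'⟩ := (epair_of_distTriang (rot_of_distTriang _ (rot_of_distTriang _ hT))).lift
      (g ≫ e.hom) (hs.elim _ _)
    have hC : LocCoh.IsPowerTorsion 𝔪 ((DRing.torsionSub 𝔪 I) ⧸ LinearMap.range ι) :=
      LocalCoh.isPowerTorsion_of_surjective 𝔪 (LinearMap.range ι).mkQ (Submodule.mkQ_surjective _)
        fun x => by
          obtain ⟨k, hk⟩ := x.2
          exact ⟨k, fun a ha => Subtype.ext (hk a ha)⟩
    suffices h : ∃ (N : ℕ) (h : n ≤ N), (proj h ≫ g') ≫ T.mor₃ = 0 by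
      obtain ⟨N, hN, h0⟩ := h
      refine ⟨N, hN, (cancel_mono e.hom).1 ?_⟩
      rw [zero_comp, Category.assoc]
      exact (congrArg (proj hN ≫ ·) hg'.symm).trans ((Category.assoc _ _ _).symm.trans h0)
    rcases j with _ | j
    · let e₀ : T.obj₃ ≅ Dual.inD A ((DRing.torsionSub 𝔪 I) ⧸ LinearMap.range ι) :=
        (shiftFunctorZero' (Dual.D A) ((0 : ℕ) : ℤ) (by simp)).app _
      let e₂ : T.obj₂ ≅ Dual.inD A (DRing.torsionSub 𝔪 I) :=
        (shiftFunctorZero' (Dual.D A) ((0 : ℕ) : ℤ) (by simp)).app _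
      obtain ⟨γ, hγ⟩ := (DerivedCategory.singleFunctor (ModuleCat.{u} A) 0).map_surjective (g' ≫ e₀.hom)
      obtain ⟨y, hy⟩ := (LinearMap.range ι).mkQ_surjective (γ.hom (Submodule.Quotient.mk 1))
      obtain ⟨k, hk⟩ := y.2
      refine ⟨max n k, le_max_left n k, ?_⟩
      let l : Q A (max n k) →ₗ[A] DRing.torsionSub 𝔪 I :=
        gen (max n k) y fun a ha => Subtype.ext (hk a (Ideal.pow_le_pow_right (le_max_right n k) ha))
      have hl : γ.hom ∘ₗ Submodule.factor (Ideal.pow_le_pow_right (le_max_left n k)) =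
          (LinearMap.range ι).mkQ ∘ₗ l :=
        gen_ext (by rw [LinearMap.comp_apply, LinearMap.comp_apply, gen_mk, one_smul, hy]; rfl)
      have h5 : proj (le_max_left n k) ≫ g' = (inDmap l ≫ e₂.inv) ≫ T.mor₂ := by
        refine (cancel_mono e₀.hom).1 ?_
        have hnat : e₂.inv ≫ T.mor₂ ≫ e₀.hom = inDmap (LinearMap.range ι).mkQ := by
          have h6 : T.mor₂ = (inDmap (LinearMap.range ι).mkQ)⟦((0 : ℕ) : ℤ)⟧' := by
            show ((0 : ℕ) : ℤ).negOnePow • _ = _
            rw [show ((0 : ℕ) : ℤ).negOnePow = 1 from Int.negOnePow_zero]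
            exact one_smul _ _
          rw [h6]
          have h7 : (inDmap (LinearMap.range ι).mkQ)⟦((0 : ℕ) : ℤ)⟧' ≫ e₀.hom =
              e₂.hom ≫ inDmap (LinearMap.range ι).mkQ :=
            (shiftFunctorZero' (Dual.D A) ((0 : ℕ) : ℤ) (by simp)).hom.naturality
              (inDmap (LinearMap.range ι).mkQ)
          exact (congrArg (e₂.inv ≫ ·) h7).trans (e₂.inv_hom_id_assoc _)
        exact (Category.assoc _ _ _).trans <| (congrArg (proj (le_max_left n k) ≫ ·) hγ.symm).trans <|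
          (inDmap_comp _ _).symm.trans <| (congrArg inDmap hl).trans <| (inDmap_comp _ _).trans <|
          (congrArg (inDmap l ≫ ·) hnat.symm).trans <| (Category.assoc _ _ _).symm.trans
            (Category.assoc _ _ _).symm
      exact (congrArg (· ≫ T.mor₃) h5).trans <| (Category.assoc _ _ _).trans <|
        (congrArg ((inDmap l ≫ e₂.inv) ≫ ·) h23.zero).trans comp_zero
    · obtain ⟨N, hN, h0⟩ := ih j (Nat.lt_succ_self j) _ hC n g'
      exact ⟨N, hN, (congrArg (· ≫ T.mor₃) h0).trans zero_comp⟩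

variable (hω : Dual.IsDualizing A ω) (hn : Dual.IsNormalized A ω)
  {f : IsLocalRing.ResidueField A →ₗ[A] E} (hf : InjHull.IsInjectiveHull f)
include hω hn hf

/-- Modules killed by a power of `m` are good. -/
theorem good_of_killed {M : Type u} [AddCommGroup M] [Module A M] [Module.Finite A M] (n₀ : ℕ)
    (h : ∀ a ∈ 𝔪 ^ n₀, ∀ x : M, a • x = 0) : Good t (Dual.inD A M) := by
  intro i
  have hfl : IsFiniteLength A M :=
    InjHull.Complete.isFiniteLength_of_pow_smul 𝔪 n₀ M fun x c hc => h c hc x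
  have hh : ∀ (N : ℕ), n₀ ≤ N → ∀ a ∈ 𝔪 ^ N, ∀ x : M, a • x = 0 := fun N hN a ha =>
    h a (Ideal.pow_le_pow_right hN ha)
  rcases eq_or_ne i 0 with rfl | hi
  · let e := (shiftFunctorZero (Dual.D A) ℤ).app (Dual.inD A M)
    refine ⟨inj_of_iso t e.symm fun n g hg => ?_, surj_of_iso t e.symm fun φ => ?_⟩
    · obtain ⟨γ, rfl⟩ := (DerivedCategory.singleFunctor (ModuleCat.{u} A) 0).map_surjective g
      let N := max (max n n₀) 1
      have hnN : n ≤ N := le_trans (le_max_left _ _) (le_max_left _ _)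
      have hN : ∀ a ∈ 𝔪 ^ N, ∀ x : M, a • x = 0 := hh N (le_trans (le_max_right _ _) (le_max_left _ _))
      obtain ⟨-, hps⟩ := pair_bijective hω hn t N (le_max_right _ _) hN
      have hx : γ.hom (Submodule.Quotient.mk 1) = 0 := by
        refine InjHull.Matlis.eq_zero_of_forall_dual hf fun φ => ?_
        obtain ⟨k, rfl⟩ := hps φ
        rw [pair_apply, ← kill_proj t hnN hg k, proj]
        erw [← inDmap_comp]
        congr 3
        exact gen_ext (by rw [gen_mk, one_smul]; rfl)
      refine ⟨n, le_rfl, ?_⟩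
      rw [proj_refl, Category.id_comp, show γ = 0 from ModuleCat.hom_ext (gen_ext (hx.trans rfl)),
        Functor.map_zero]
    · let N := max n₀ 1
      have hN : ∀ a ∈ 𝔪 ^ N, ∀ x : M, a • x = 0 := hh N (le_max_left _ _)
      let P := LinearEquiv.ofBijective _ (pair_bijective hω hn t N (le_max_right _ _) hN)
      obtain ⟨x, hx⟩ := (InjHull.Matlis.applyₗ_bijective hf hfl).2 (φ ∘ₗ P.symm.toLinearMap)
      refine ⟨N, inDmap (gen N x fun a ha => hN a ha x), fun k => ?_⟩
      have := LinearMap.congr_fun hx (P k)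
      simp only [LinearMap.comp_apply, LinearEquiv.coe_coe, LinearEquiv.symm_apply_apply] at this
      rw [← this]
      rfl
  · refine ⟨fun n g _ => ?_, fun φ => ⟨0, 0, fun k => ?_⟩⟩
    · rcases lt_or_gt_of_ne hi with hi | hi
      · have := subsingleton_hom_inD_neg (A := A) (Q A n) M hi
        exact ⟨n, le_rfl, Subsingleton.elim _ _⟩
      · obtain ⟨j, rfl⟩ : ∃ j : ℕ, i = ((j + 1 : ℕ) : ℤ) := ⟨(i - 1).toNat, by lia⟩
        exact negl_of_torsion j M (fun x => ⟨n₀, fun a ha => h a ha x⟩) n g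
    · have := subsingleton_hom_of_killed' hω hn n₀ h hi
      rw [Subsingleton.elim k 0, comp_zero, map_zero, map_zero]

omit [IsLocalRing A] [IsNoetherianRing A] hω hn hf in
theorem shift_smul_id (X : Dual.D A) (i : ℤ) (x : A) :
    i.negOnePow • (x • 𝟙 X)⟦i⟧' = ((i.negOnePow : ℤ) * x) • 𝟙 (X⟦i⟧) := by
  rw [Functor.map_smul, CategoryTheory.Functor.map_id, mul_smul, Units.smul_def,
    Int.cast_smul_eq_zsmul]

/-- Finite modules are good. -/
theorem good_inD (M : Type u) [AddCommGroup M] [Module A M] [hM : Module.Finite A M] :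
    Good t (Dual.inD A M) := by
  have hE : Module.Baer A E := Module.Baer.of_injective hf.isInjective
  suffices key : ∀ (I : Ideal A) (M : Type u) [AddCommGroup M] [Module A M] [Module.Finite A M],
      (∀ a ∈ I, ∀ x : M, a • x = 0) → Good t (Dual.inD A M) by
    exact key ⊥ M fun a ha x => by rw [Ideal.mem_bot.1 ha, zero_smul]
  intro I
  induction I using WellFoundedGT.induction with
  | _ I ih =>
    intro M _ _ hfin hI
    revert hI
    refine IsNoetherianRing.induction_on_isQuotientEquivQuotientPrime A hfin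
      (motive := fun N => (∀ a ∈ I, ∀ x : N, a • x = 0) → Good t (Dual.inD A N)) ?_ ?_ ?_
    · intro N _ _ _ _ _
      exact good_of_isZero t (Functor.map_isZero _ (ModuleCat.isZero_of_subsingleton _))
    · intro N _ _ _ p e hI'
      refine good_of_iso t ((DerivedCategory.singleFunctor (ModuleCat.{u} A) 0).mapIso e.symm.toModuleIso) ?_
      have hIp : I ≤ p.1 := fun a ha => by
        have := congrArg e (hI' a ha (e.symm (Submodule.Quotient.mk 1)))
        rw [map_smul, LinearEquiv.apply_symm_apply, map_zero, ← Submodule.Quotient.mk_smul,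
          Submodule.Quotient.mk_eq_zero, smul_eq_mul, mul_one] at this
        exact this
      by_cases hmax : p.1 = 𝔪
      · exact good_of_killed t hω hn hf 1 (fun a ha x => by
          obtain ⟨x, rfl⟩ := Submodule.Quotient.mk_surjective _ x
          rw [← Submodule.Quotient.mk_smul, Submodule.Quotient.mk_eq_zero, hmax]
          rw [pow_one] at ha
          exact Ideal.mul_mem_right x _ ha)
      · obtain ⟨x, hxm, hxp⟩ := SetLike.exists_of_lt
          (lt_of_le_of_ne (IsLocalRing.le_maximalIdeal p.2.ne_top) hmax)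
        let l : (A ⧸ p.1) →ₗ[A] (A ⧸ p.1) := x • LinearMap.id
        have hl : Function.Injective l := by
          rw [injective_iff_map_eq_zero]
          intro y hy
          obtain ⟨y, rfl⟩ := Submodule.Quotient.mk_surjective _ y
          change x • (Submodule.Quotient.mk y : A ⧸ p.1) = 0 at hy
          rw [← Submodule.Quotient.mk_smul, Submodule.Quotient.mk_eq_zero] at hy
          exact (Submodule.Quotient.mk_eq_zero _).2 ((p.2.mem_or_mem hy).resolve_left hxp)
        let S₀ : ShortComplex (ModuleCat.{u} A) :=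
          ShortComplex.mk (ModuleCat.ofHom l) (ModuleCat.ofHom (LinearMap.range l).mkQ)
            (ModuleCat.hom_ext (LinearMap.exact_map_mkQ_range l).linearMap_comp_eq_zero)
        have hS₀ : S₀.ShortExact :=
          { exact := (ShortComplex.ShortExact.moduleCat_exact_iff_function_exact S₀).2
              (LinearMap.exact_map_mkQ_range l)
            mono_f := (ModuleCat.mono_iff_injective _).2 hl
            epi_g := (ModuleCat.epi_iff_surjective _).2 (Submodule.mkQ_surjective _) }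
        have hNgood : Good t (Dual.inD A ((A ⧸ p.1) ⧸ LinearMap.range l)) := by
          refine ih (p.1 ⊔ Ideal.span {x}) ?_ _ fun a ha y => ?_
          · exact lt_of_le_of_lt hIp (lt_of_le_of_ne le_sup_left fun hc => hxp (by
              rw [hc]; exact Ideal.mem_sup_right (Ideal.mem_span_singleton_self x)))
          · obtain ⟨y, rfl⟩ := Submodule.Quotient.mk_surjective _ y
            obtain ⟨b, hb, c, hc, rfl⟩ := Submodule.mem_sup.1 ha
            obtain ⟨d, rfl⟩ := Ideal.mem_span_singleton'.1 hc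
            rw [← Submodule.Quotient.mk_smul, Submodule.Quotient.mk_eq_zero]
            obtain ⟨y, rfl⟩ := Submodule.Quotient.mk_surjective _ y
            refine ⟨d • Submodule.Quotient.mk y, ?_⟩
            simp only [l, LinearMap.smul_apply, LinearMap.id_apply]
            rw [← Submodule.Quotient.mk_smul, ← Submodule.Quotient.mk_smul,
              ← Submodule.Quotient.mk_smul, Submodule.Quotient.eq, smul_eq_mul, smul_eq_mul, smul_eq_mul]
            have : x * (d * y) - (b + d * x) * y = -(b * y) := by ring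
            rw [this]
            exact neg_mem (Ideal.mul_mem_right y _ hb)
        -- the triangles
        have hex : ∀ i : ℤ, ∃ (c : A) (_ : c ∈ 𝔪) (N' : Dual.D A) (b : (Dual.inD A (A ⧸ p.1))⟦i⟧ ⟶ N')
            (δ : N' ⟶ (Dual.inD A (A ⧸ p.1))⟦i⟧⟦(1 : ℤ)⟧),
            Triangle.mk (c • 𝟙 _) b δ ∈ distTriang (Dual.D A) ∧
              N' = (Dual.inD A ((A ⧸ p.1) ⧸ LinearMap.range l))⟦i⟧ := by
          intro i
          have hT : (Triangle.shiftFunctor (Dual.D A) i).obj hS₀.singleTriangle ∈ distTriang (Dual.D A) :=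
            Triangle.shift_distinguished _ hS₀.singleTriangle_distinguished i
          refine ⟨(i.negOnePow : ℤ) * x, Ideal.mul_mem_left _ _ hxm, _,
            ((Triangle.shiftFunctor (Dual.D A) i).obj hS₀.singleTriangle).mor₂,
            ((Triangle.shiftFunctor (Dual.D A) i).obj hS₀.singleTriangle).mor₃, ?_, rfl⟩
          convert hT using 1
          have h1 : hS₀.singleTriangle.mor₁ = x • 𝟙 (Dual.inD A (A ⧸ p.1)) := by
            rw [← CategoryTheory.Functor.map_id, ← CategoryTheory.Functor.map_smul]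
            rfl
          have h2 : ((Triangle.shiftFunctor (Dual.D A) i).obj hS₀.singleTriangle).mor₁ =
              ((i.negOnePow : ℤ) * x) • 𝟙 ((Dual.inD A (A ⧸ p.1))⟦i⟧) := by
            show i.negOnePow • hS₀.singleTriangle.mor₁⟦i⟧' = _
            rw [h1]
            exact shift_smul_id _ i x
          let T' := (Triangle.shiftFunctor (Dual.D A) i).obj hS₀.singleTriangle
          exact congrArg (fun m : T'.obj₁ ⟶ T'.obj₂ => Triangle.mk m T'.mor₂ T'.mor₃) h2.symm
        have hsurj : ∀ i : ℤ, Surj t ((Dual.inD A (A ⧸ p.1))⟦i⟧) := by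
          intro i
          obtain ⟨c, hc, N', b, δ, hT, rfl⟩ := hex i
          refine surj_mul t hE hc (epair_of_distTriang (inv_rot_of_distTriang _ hT))
            (epair_of_distTriang hT)
            (surj_of_iso t ((shiftFunctorAdd (Dual.D A) i (-1 : ℤ)).app _) (hNgood _).2) (hNgood i).1 fun φ => ?_
          have : Module.Finite A ((Dual.inD A (A ⧸ p.1))⟦i⟧ ⟶ ω) := by
            have := Degree.finite_hom hω (A ⧸ p.1) (-i)
            exact Module.Finite.equiv ((homShiftAdj _ ω i 0 (-i) (by lia)).symm.trans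
              (Linear.homCongr A (Iso.refl _) ((shiftFunctorZero (Dual.D A) ℤ).app ω)))
          obtain ⟨j, hj⟩ := LocalCoh.exists_pow_smul_eq_zero (I := 𝔪) φ
            (fun y => InjHull.Matlis.isPowerTorsion hf.toIsEssentialInj _)
          exact ⟨j, LinearMap.ext fun y => by
            rw [LinearMap.smul_apply, hj _ (Ideal.pow_mem_pow hc j) y, LinearMap.zero_apply]⟩
        intro i
        obtain ⟨c, hc, N', b, δ, hT, rfl⟩ := hex i
        exact ⟨inj_mul t hE hc
          (epair_of_distTriang (inv_rot_of_distTriang _ (inv_rot_of_distTriang _ hT)))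
          (epair_of_distTriang (inv_rot_of_distTriang _ hT))
          (inj_of_iso t ((shiftFunctorAdd (Dual.D A) i (-1 : ℤ)).app _) (hNgood _).1)
          (surj_of_iso t ((shiftFunctorAdd (Dual.D A) i (-1 : ℤ)).app _) (hsurj _)), hsurj i⟩
    · intro N₁ _ _ _ N₂ _ _ _ N₃ _ _ _ g₁ g₂ hg₁ hg₂ hex ih₁ ih₃ hI'
      obtain ⟨T, hT, e₁, e₂, e₃⟩ := HomSupp.exists_triangle_of_shortExact g₁ g₂ hg₁ hg₂ hex
      rw [← e₂]
      refine good_of_triangle t hE hT (e₁ ▸ ih₁ fun a ha y => hg₁ ?_) (e₃ ▸ ih₃ fun a ha y => ?_)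
      · rw [map_smul, hI' a ha, map_zero]
      · obtain ⟨y, rfl⟩ := hg₂ y
        rw [← map_smul, hI' a ha, map_zero]

/-- Bounded objects with finite cohomology are good. -/
theorem good_of_bounded (X : Dual.D A) (hfin : ∀ i, Module.Finite A (Dual.HD A X i)) (a b : ℤ)
    (hab : ∀ i, i < a ∨ b < i → Subsingleton (Dual.HD A X i)) : Good t X :=
  Devissage.bounded_induction (fun M => Module.Finite A M)
    (fun M N _ _ _ _ e _ => Module.Finite.equiv e) (fun M _ _ _ => Module.Finite.of_finite)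
    (Good t) (fun K L e h => good_of_iso t e h)
    (fun T hT h₁ h₃ => good_of_triangle t (Module.Baer.of_injective hf.isInjective) hT h₁ h₃)
    (fun M _ _ n hM => good_shift t n (good_inD t hω hn hf M (hM := hM)))
    X a b hab hfin

end Groth.Agent.Lib.DMod.Pairing
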