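import Groth.Agent.Lib.DMod.Cones
import Mathlib.RingTheory.Ideal.AssociatedPrime.Localization

/-!
For a dualizing complex `ω` and a prime `p`, the module `Hom(A/p, ω[i])` is nonzero at `p` in exactly
one degree, where it is cyclic.
-/

universe u

open CategoryTheory Category Limits Pretriangulated

attribute [local instance] HasDerivedCategory.standard

namespace Groth.Agent.Lib.DMod.PointDegree

open Groth.Agent.Lib.DMod.Basic Groth.Agent.Lib.DMod.HomSupp Groth.Agent.Lib.DMod.Cones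

variable {A : Type u} [CommRing A]

theorem exists_hom_bounds {ω : Dual.D A} (hω : Dual.IsDualizing A ω) :
    ∃ a b : ℤ, a ≤ b ∧ (∀ (M : Type u) [AddCommGroup M] [Module A M] (i : ℤ),
      (i < a ∨ b < i) → Subsingleton (Dual.inD A M ⟶ ω⟦i⟧)) ∧
      ∀ i, i < a ∨ b < i → Subsingleton (Dual.HD A ω i) := by
  obtain ⟨a, b, h⟩ := hω.finite_injective_dimension
  refine ⟨a, max a b, le_max_left a b, fun M _ _ i hi => h M i (by lia), fun i hi => ?_⟩
  have := h A i (by lia)
  exact (homUnitShiftEquiv ω i).symm.toEquiv.subsingleton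

/-- A quotient of the unit: `(A/p → M)` injective when `p` is minimal in the support of `M`. -/
theorem exists_injective_of_isolated [IsNoetherianRing A] (p : PrimeSpectrum A) (M : Type u)
    [AddCommGroup M] [Module A M] [Module.Finite A M] (hp : p ∈ Module.support A M)
    (hiso : ∀ q : PrimeSpectrum A, q ≤ p → q ∈ Module.support A M → q = p) :
    ∃ f : (A ⧸ p.asIdeal) →ₗ[A] M, Function.Injective f := by
  refine ((isAssociatedPrime_iff_exists_injective_linearMap _ _).1 ?_).2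
  refine Module.associatedPrimes.minimalPrimes_annihilator_subset_associatedPrimes A M ⟨⟨p.isPrime,
    Module.annihilator_le_of_mem_support hp⟩, ?_⟩
  rintro q ⟨hq, hle⟩ hqp
  have := hiso ⟨q, hq⟩ hqp (by rwa [Module.mem_support_iff_of_finite])
  exact le_of_eq (congrArg PrimeSpectrum.asIdeal this).symm

theorem finite_and_isolated_equiv (p : PrimeSpectrum A) {M N : Type u} [AddCommGroup M] [Module A M]
    [AddCommGroup N] [Module A N] (e : M ≃ₗ[A] N)
    (h : Module.Finite A M ∧ ∀ q : PrimeSpectrum A, q ≤ p → q ∈ Module.support A M → q = p) :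
    Module.Finite A N ∧ ∀ q : PrimeSpectrum A, q ≤ p → q ∈ Module.support A N → q = p :=
  ⟨@Module.Finite.equiv _ _ _ _ _ _ _ _ h.1 e, fun q hq hqN =>
    h.2 q hq (e.support_eq.symm ▸ hqN)⟩

theorem finite_and_notMem_equiv (p : PrimeSpectrum A) {M N : Type u} [AddCommGroup M] [Module A M]
    [AddCommGroup N] [Module A N] (e : M ≃ₗ[A] N)
    (h : Module.Finite A M ∧ p ∉ Module.support A M) :
    Module.Finite A N ∧ p ∉ Module.support A N :=
  ⟨@Module.Finite.equiv _ _ _ _ _ _ _ _ h.1 e, notMem_support_equiv e h.2⟩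

theorem isolated_of_subsingleton (p : PrimeSpectrum A) (M : Type u) [AddCommGroup M] [Module A M]
    (h : Subsingleton M) :
    Module.Finite A M ∧ ∀ q : PrimeSpectrum A, q ≤ p → q ∈ Module.support A M → q = p :=
  ⟨Module.Finite.of_finite, fun q _ hq => absurd hq (by simp [Module.support_eq_empty])⟩

theorem notMem_of_subsingleton (p : PrimeSpectrum A) (M : Type u) [AddCommGroup M] [Module A M]
    (h : Subsingleton M) : Module.Finite A M ∧ p ∉ Module.support A M :=
  ⟨Module.Finite.of_finite, by simp [Module.support_eq_empty]⟩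

variable [IsNoetherianRing A]

/-- Devissage for objects with cohomology isolated at `p`. -/
theorem notMem_support_hom_of_degrees (p : PrimeSpectrum A) (ω Z : Dual.D A) (i c e : ℤ)
    (hZb : ∀ j, j < c ∨ e < j → Subsingleton (Dual.HD A Z j))
    (hZf : ∀ j, Module.Finite A (Dual.HD A Z j))
    (hZp : ∀ j, ∀ q : PrimeSpectrum A, q ≤ p → q ∈ Module.support A (Dual.HD A Z j) → q = p)
    (hV : ∀ j, c ≤ j → j ≤ e →
      p ∉ Module.support A (Dual.inD A (A ⧸ p.asIdeal) ⟶ ω⟦i + j⟧)) :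
    p ∉ Module.support A (Z ⟶ ω⟦i⟧) := by
  refine Devissage.bounded_induction_range
    (fun M _ _ => Module.Finite A M ∧ ∀ q : PrimeSpectrum A, q ≤ p → q ∈ Module.support A M → q = p)
    (fun M N _ _ _ _ e h => finite_and_isolated_equiv p e h)
    (fun M _ _ h => isolated_of_subsingleton p M h)
    (fun X => p ∉ Module.support A (X ⟶ ω⟦i⟧)) ?_ ?_ ?_ c e ?_ Z hZb (fun j => ⟨hZf j, hZp j⟩)
  · intro X Y f h
    exact notMem_support_equiv (Linear.homCongr A f (Iso.refl _)) h
  · intro T hT h₁ h₃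
    exact notMem_support_hom_from_obj₂ hT _ h₁ h₃
  · intro X hX
    have : Subsingleton (X ⟶ ω⟦i⟧) := ⟨fun f g => hX.eq_of_src f g⟩
    simp [Module.support_eq_empty]
  · rintro M _ _ n h1 h2 ⟨_, hM⟩
    refine notMem_support_equiv (homShiftAdj (Dual.inD A M) ω n i (i - n) (by lia)).symm ?_
    refine notMem_support_hom_of_primes p _ M fun q hq hqM => ?_
    obtain rfl := hM q hq hqM
    have := hV (-n) h1 h2
    rwa [← sub_eq_add_neg] at this

omit [IsNoetherianRing A] in
/-- Vanishing at `p` of the morphisms from a module placed in degree `i` into an object whose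
cohomology vanishes at `p` up to degree `i`. -/
theorem notMem_support_hom_to (p : PrimeSpectrum A) (W : Type u) [AddCommGroup W] [Module A W]
    (Z : Dual.D A) (i c : ℤ) (hZb : ∀ j, j < c → Subsingleton (Dual.HD A Z j))
    (hZf : ∀ j, Module.Finite A (Dual.HD A Z j))
    (hZ : ∀ j, j ≤ i → p ∉ Module.support A (Dual.HD A Z j)) :
    p ∉ Module.support A ((Dual.inD A W)⟦-i⟧ ⟶ Z) := by
  obtain ⟨T, hT, hT₂, hT₁, hT₃, h₁, h₃⟩ := Devissage.exists_trunc Z i
  subst hT₂
  refine notMem_support_hom_to_obj₂ hT _ ?_ ?_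
  · refine Devissage.bounded_induction
      (fun M _ _ => Module.Finite A M ∧ p ∉ Module.support A M)
      (fun M N _ _ _ _ e h => finite_and_notMem_equiv p e h)
      (fun M _ _ h => notMem_of_subsingleton p M h)
      (fun X => p ∉ Module.support A ((Dual.inD A W)⟦-i⟧ ⟶ X))
      (fun X Y f h => notMem_support_equiv (Linear.homCongr A (Iso.refl _) f) h)
      (fun T hT h₁ h₃ => notMem_support_hom_to_obj₂ hT _ h₁ h₃) ?_ T.obj₁ c i ?_ ?_
    · rintro M _ _ n ⟨_, hM⟩
      exact notMem_support_hom_inD_right M hM n _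
    · intro j hj
      by_cases hji : j ≤ i
      · obtain ⟨f⟩ := h₁ j hji
        have := hZb j (by lia)
        exact f.toEquiv.subsingleton
      · exact subsingleton_HD_of_isLE _ i (by lia)
    · intro j
      by_cases hji : j ≤ i
      · obtain ⟨f⟩ := h₁ j hji
        have := hZf j
        exact ⟨Module.Finite.equiv f.symm, notMem_support_equiv f.symm (hZ j hji)⟩
      · have := subsingleton_HD_of_isLE T.obj₁ i (i := j) (by lia)
        exact ⟨Module.Finite.of_finite, by simp [Module.support_eq_empty]⟩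
  · have : ((Dual.inD A W)⟦-i⟧).IsLE i :=
      DerivedCategory.TStructure.t.isLE_shift _ 0 (-i) i (by lia)
    have : Subsingleton ((Dual.inD A W)⟦-i⟧ ⟶ T.obj₃) :=
      subsingleton_of_forall_eq 0 fun f => DerivedCategory.TStructure.t.zero f i (i + 1) (by lia)
    simp [Module.support_eq_empty]

/-- The bottom cohomology module of an object isolated at `p` is detected in the top degree. -/
theorem exists_bottom_map (p : PrimeSpectrum A) (ω Y : Dual.D A) (t l b : ℤ)
    (hYb : ∀ j, j < l ∨ b < j → Subsingleton (Dual.HD A Y j))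
    (hYf : ∀ j, Module.Finite A (Dual.HD A Y j))
    (hYp : ∀ j, ∀ q : PrimeSpectrum A, q ≤ p → q ∈ Module.support A (Dual.HD A Y j) → q = p)
    (hl : p ∈ Module.support A (Dual.HD A Y l))
    (ht : ∀ i, t < i → p ∉ Module.support A (Dual.inD A (A ⧸ p.asIdeal) ⟶ ω⟦i⟧)) :
    ∃ F : (Y ⟶ ω⟦t - l⟧) →ₗ[A] (Dual.inD A (A ⧸ p.asIdeal) ⟶ ω⟦t⟧),
      ∀ y, ∃ s ∉ p.asIdeal, ∃ z, F z = s • y := by
  obtain ⟨U, hU, hU₂, hU₁, hU₃, k₁, k₃⟩ := Devissage.exists_trunc Y l
  subst hU₂
  have : U.obj₁.IsGE l := (isGE_iff _ l).2 fun j hj => by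
    obtain ⟨f⟩ := k₁ j hj.le
    have := hYb j (Or.inl hj)
    exact f.toEquiv.subsingleton
  obtain ⟨eU⟩ := Devissage.exists_iso_inD_shift U.obj₁ l
  obtain ⟨g₁⟩ := k₁ l le_rfl
  let N := Dual.HD A U.obj₁ l
  have hNf : Module.Finite A N := have := hYf l; Module.Finite.equiv g₁.symm
  have hNp : p ∈ Module.support A N := mem_support_equiv g₁.symm hl
  have hNiso : ∀ q : PrimeSpectrum A, q ≤ p → q ∈ Module.support A N → q = p := fun q hq hqN =>
    hYp l q hq (mem_support_equiv g₁ hqN)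
  obtain ⟨ι, hι⟩ := exists_injective_of_isolated p N hNp hNiso
  obtain ⟨V, hV, eV₁, eV₂, eV₃⟩ := exists_triangle_of_shortExact ι (LinearMap.range ι).mkQ hι
    (Submodule.mkQ_surjective _) (LinearMap.exact_map_mkQ_range ι)
  have hC : p ∉ Module.support A (V.obj₃ ⟶ ω⟦t + 1⟧) := by
    rw [eV₃]
    refine notMem_support_hom_of_primes p _ _ fun q hq hqM => ?_
    obtain rfl := hNiso q hq (Module.support_subset_of_surjective _
      (Submodule.mkQ_surjective _) hqM)
    exact ht _ (by lia)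
  have hZ : p ∉ Module.support A (U.obj₃ ⟶ ω⟦t - l + 1⟧) := by
    refine notMem_support_hom_of_degrees p ω U.obj₃ (t - l + 1) (l + 1) b (fun j hj => ?_)
      (fun j => ?_) (fun j q hqp hq => ?_) (fun j hj _ => ht _ (by lia))
    · by_cases hlj : l < j
      · obtain ⟨f⟩ := k₃ j hlj
        have := hYb j (by lia)
        exact f.symm.toEquiv.subsingleton
      · exact subsingleton_HD_of_isGE _ (l + 1) (by lia)
    · by_cases hlj : l < j
      · obtain ⟨f⟩ := k₃ j hlj
        have := hYf j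
        exact Module.Finite.equiv f
      · have := subsingleton_HD_of_isGE U.obj₃ (l + 1) (i := j) (by lia)
        exact Module.Finite.of_finite
    · by_cases hlj : l < j
      · obtain ⟨f⟩ := k₃ j hlj
        exact hYp j q hqp (mem_support_equiv f.symm hq)
      · have := subsingleton_HD_of_isGE U.obj₃ (l + 1) (i := j) (by lia)
        simp [Module.support_eq_empty] at hq
  let eN : (U.obj₁ ⟶ ω⟦t - l⟧) ≃ₗ[A] (V.obj₂ ⟶ ω⟦t⟧) :=
    ((Linear.homCongr A eU (Iso.refl _)).trans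
      (homShiftAdj (Dual.inD A N) ω (-l) (t - l) t (by lia))).trans
        (Linear.homCongr A (eqToIso eV₂.symm) (Iso.refl _))
  let e₀ : (V.obj₁ ⟶ ω⟦t⟧) ≃ₗ[A] (Dual.inD A (A ⧸ p.asIdeal) ⟶ ω⟦t⟧) :=
    Linear.homCongr A (eqToIso eV₁) (Iso.refl _)
  refine ⟨e₀.toLinearMap ∘ₗ Linear.leftComp A _ V.mor₁ ∘ₗ eN.toLinearMap ∘ₗ
    Linear.leftComp A _ U.mor₁, fun y => ?_⟩
  obtain ⟨s₁, hs₁, hs₁'⟩ := Module.notMem_support_iff'.1 hC
    (conn V ω t (t + 1) rfl (e₀.symm y))
  obtain ⟨y₂, hy₂⟩ := (exact_leftComp_conn hV ω t (t + 1) rfl (s₁ • e₀.symm y)).1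
    (by rw [map_smul, hs₁'])
  obtain ⟨s₂, hs₂, hs₂'⟩ := Module.notMem_support_iff'.1 hZ
    (conn U ω (t - l) (t - l + 1) rfl (eN.symm y₂))
  obtain ⟨z, hz⟩ := (exact_leftComp_conn hU ω (t - l) (t - l + 1) rfl (s₂ • eN.symm y₂)).1
    (by rw [map_smul, hs₂'])
  refine ⟨s₂ * s₁, p.isPrime.mul_notMem hs₂ hs₁, z, ?_⟩
  simp only [LinearMap.coe_comp, Function.comp_apply, LinearEquiv.coe_coe]
  rw [hz, map_smul, LinearEquiv.apply_symm_apply, map_smul, map_smul, hy₂, map_smul,
    LinearEquiv.apply_symm_apply, ← mul_smul]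

/-- The main structure theorem at a prime. -/
theorem exists_degree {ω : Dual.D A} (hω : Dual.IsDualizing A ω) (p : PrimeSpectrum A) :
    ∃ d : ℤ, (∀ i, i ≠ d →
        p ∉ Module.support A (Dual.inD A (A ⧸ p.asIdeal) ⟶ ω⟦i⟧)) ∧
      p ∈ Module.support A (Dual.inD A (A ⧸ p.asIdeal) ⟶ ω⟦d⟧) ∧
      ∃ φ : A →ₗ[A] (Dual.inD A (A ⧸ p.asIdeal) ⟶ ω⟦d⟧),
        p ∉ Module.support A ((Dual.inD A (A ⧸ p.asIdeal) ⟶ ω⟦d⟧) ⧸ LinearMap.range φ) := by
  classical
  obtain ⟨a, b, -, hinj, hab⟩ := exists_hom_bounds hω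
  obtain ⟨G, hG⟩ : p.asIdeal.FG := IsNoetherian.noetherian p.asIdeal
  have hofList : Ideal.ofList G.toList = p.asIdeal := by
    rw [← hG]
    simp [Ideal.ofList]
  obtain ⟨X, hXb, hXf, htop, ⟨e⟩, hXsupp, hXW⟩ := exists_cones ω hω a b hab p G.toList fun x hx => by
    rw [← hofList]
    exact Ideal.subset_span hx
  set r : ℤ := (G.toList.length : ℤ)
  rw [hofList] at e hXsupp
  have hXp : ∀ j, ∀ q : PrimeSpectrum A, q ≤ p → q ∈ Module.support A (Dual.HD A X j) → q = p :=
    fun j q hqp hq => le_antisymm hqp (hXsupp j q hq)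
  have hXr : p ∈ Module.support A (X ⟶ ω⟦r⟧) :=
    mem_support_equiv e.symm ((mem_support_quotient_prime p p).2 le_rfl)
  let S : ℤ → Prop := fun i => p ∈ Module.support A (Dual.inD A (A ⧸ p.asIdeal) ⟶ ω⟦i⟧)
  have hSb : ∀ i, S i → a ≤ i ∧ i ≤ b := fun i hi => by
    by_contra hc
    have := hinj (A ⧸ p.asIdeal) i (by lia)
    simp [S, Module.support_eq_empty] at hi
  have hne : ∃ i, S i := by
    by_contra hc
    exact notMem_support_hom_of_degrees p ω X r (a - r) b hXb hXf hXp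
      (fun j _ _ hj => hc ⟨_, hj⟩) hXr
  obtain ⟨s, hs, hsmin⟩ := Int.exists_least_of_bdd ⟨a, fun i hi => (hSb i hi).1⟩ hne
  obtain ⟨t, ht, htmax⟩ := Int.exists_greatest_of_bdd ⟨b, fun i hi => (hSb i hi).2⟩ hne
  -- the lowest degree of the cohomology of `X` at `p`
  have hl0 : ∃ j, j ≤ s - r ∧ p ∈ Module.support A (Dual.HD A X j) := by
    by_contra hc
    refine notMem_support_hom_to p (A ⧸ p.asIdeal) X (s - r) (a - r) (fun j hj => hXb j (Or.inl hj))
      hXf (fun j hj hjp => hc ⟨j, hj, hjp⟩) (hXW s ?_)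
    exact mem_support_equiv (homNeg _ ω s).symm hs
  obtain ⟨l, hl, hlmin⟩ := Int.exists_least_of_bdd
    (P := fun j => p ∈ Module.support A (Dual.HD A X j)) ⟨a - r, fun j hj => by
      by_contra hc
      have := hXb j (Or.inl (by lia))
      simp [Module.support_eq_empty] at hj⟩ (hl0.imp fun j hj => hj.2)
  have hls : l ≤ s - r := by
    obtain ⟨j, hj, hjp⟩ := hl0
    exact le_trans (hlmin j hjp) hj
  -- truncate `X` below `l`
  obtain ⟨T, hT, hT₂, hT₁, hT₃, h₁, h₃⟩ := Devissage.exists_trunc X (l - 1)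
  subst hT₂
  have hYb : ∀ j, j < l ∨ b < j → Subsingleton (Dual.HD A T.obj₃ j) := fun j hj => by
    by_cases hlj : l - 1 < j
    · obtain ⟨f⟩ := h₃ j hlj
      have := hXb j (by lia)
      exact f.symm.toEquiv.subsingleton
    · exact subsingleton_HD_of_isGE _ (l - 1 + 1) (by lia)
  have hlow : ∀ i : ℤ, p ∉ Module.support A (T.obj₁ ⟶ ω⟦i⟧) := fun i => by
    refine Devissage.bounded_induction
      (fun M _ _ => Module.Finite A M ∧ p ∉ Module.support A M)
      (fun M N _ _ _ _ e h => finite_and_notMem_equiv p e h)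
      (fun M _ _ h => notMem_of_subsingleton p M h)
      (fun X => p ∉ Module.support A (X ⟶ ω⟦i⟧))
      (fun X Y f h => notMem_support_equiv (Linear.homCongr A f (Iso.refl _)) h)
      (fun T hT h₁ h₃ => notMem_support_hom_from_obj₂ hT _ h₁ h₃) ?_ T.obj₁ (a - r) (l - 1) ?_ ?_
    · rintro M _ _ n ⟨_, hM⟩
      exact notMem_support_hom_inD_left M hM n _
    · intro j hj
      by_cases hjl : j ≤ l - 1
      · obtain ⟨f⟩ := h₁ j hjl
        have := hXb j (by lia)
        exact f.toEquiv.subsingleton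
      · exact subsingleton_HD_of_isLE _ (l - 1) (by lia)
    · intro j
      by_cases hjl : j ≤ l - 1
      · obtain ⟨f⟩ := h₁ j hjl
        have := hXf j
        refine ⟨Module.Finite.equiv f.symm, notMem_support_equiv f.symm fun hjp => ?_⟩
        have := hlmin j hjp
        lia
      · have := subsingleton_HD_of_isLE T.obj₁ (l - 1) (i := j) (by lia)
        exact ⟨Module.Finite.of_finite, by simp [Module.support_eq_empty]⟩
  obtain ⟨g₂⟩ := h₃ l (by lia)
  obtain ⟨F, hF⟩ := exists_bottom_map p ω T.obj₃ t l b hYb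
    (fun j => by
      by_cases hlj : l - 1 < j
      · obtain ⟨f⟩ := h₃ j hlj
        have := hXf j
        exact Module.Finite.equiv f
      · have := subsingleton_HD_of_isGE T.obj₃ (l - 1 + 1) (i := j) (by lia)
        exact Module.Finite.of_finite)
    (fun j q hqp hq => by
      by_cases hlj : l - 1 < j
      · obtain ⟨f⟩ := h₃ j hlj
        exact hXp j q hqp (mem_support_equiv f.symm hq)
      · have := subsingleton_HD_of_isGE T.obj₃ (l - 1 + 1) (i := j) (by lia)
        simp [Module.support_eq_empty] at hq)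
    (mem_support_equiv g₂ hl)
    (fun i hi hc => by
      have := htmax i hc
      lia)
  let c₁ : (T.obj₃ ⟶ ω⟦t - l⟧) →ₗ[A] (T.obj₂ ⟶ ω⟦t - l⟧) := Linear.leftComp A _ T.mor₂
  have hc₁ : ∀ z, c₁ z = 0 → ∃ s ∉ p.asIdeal, s • z = 0 := by
    intro z hz
    obtain ⟨w, hw⟩ := (exact_conn_leftComp hT ω (t - l - 1) (t - l) (by lia) z).1 hz
    obtain ⟨s, hs, hs'⟩ := Module.notMem_support_iff'.1 (hlow (t - l - 1)) w
    exact ⟨s, hs, by rw [← hw, ← map_smul, hs', map_zero]⟩
  -- so `t - l` is at most `r`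
  have htl : p ∈ Module.support A (T.obj₂ ⟶ ω⟦t - l⟧) := by
    by_contra hc
    refine absurd ht (Module.notMem_support_iff'.2 fun y => ?_)
    obtain ⟨s, hs, z, hz⟩ := hF y
    obtain ⟨s', hs', hs'z⟩ := Module.notMem_support_iff'.1 hc (c₁ z)
    obtain ⟨u, hu, hu'⟩ := hc₁ (s' • z) (by rw [map_smul, hs'z])
    refine ⟨u * s' * s, p.isPrime.mul_notMem (p.isPrime.mul_notMem hu hs') hs, ?_⟩
    rw [mul_smul, mul_smul, ← hz, ← map_smul, ← map_smul, hu', map_zero]
  have hle : t - l ≤ r := by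
    by_contra hc
    have := htop (t - l) (by lia)
    simp [Module.support_eq_empty] at htl
  have hts : t = s := by
    have := hsmin t ht
    lia
  subst hts
  refine ⟨t, fun i hi hc => hi (le_antisymm (htmax i hc) (hsmin i hc)), ht, ?_⟩
  have hd : t - l = r := by lia
  obtain ⟨e'⟩ : Nonempty ((T.obj₂ ⟶ ω⟦t - l⟧) ≃ₗ[A] A ⧸ p.asIdeal) := by
    rw [hd]; exact ⟨e⟩
  let x₁ := e'.symm (Submodule.mkQ p.asIdeal 1)
  obtain ⟨s₀, hs₀, hs₀'⟩ := Module.notMem_support_iff'.1 (hlow (t - l))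
    (Linear.leftComp A (ω⟦t - l⟧) T.mor₁ x₁)
  obtain ⟨z₀, hz₀⟩ := (exact_leftComp hT (ω⟦t - l⟧) (s₀ • x₁)).1 (by rw [map_smul, hs₀'])
  change c₁ z₀ = _ at hz₀
  refine ⟨LinearMap.toSpanSingleton A _ (F z₀), Module.notMem_support_iff'.2 fun w => ?_⟩
  obtain ⟨y, rfl⟩ := Submodule.mkQ_surjective _ w
  obtain ⟨s, hs, z, hz⟩ := hF y
  obtain ⟨a₀, ha₀⟩ := Submodule.mkQ_surjective p.asIdeal (e' (c₁ z))
  have hx : c₁ z = a₀ • x₁ := e'.injective (by
    rw [map_smul, LinearEquiv.apply_symm_apply, ← ha₀, ← map_smul]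
    simp)
  obtain ⟨u, hu, hu'⟩ := hc₁ (s₀ • z - a₀ • z₀) (by
    rw [map_sub, map_smul, map_smul, hx, hz₀, smul_comm, sub_self])
  refine ⟨u * s₀ * s, p.isPrime.mul_notMem (p.isPrime.mul_notMem hu hs₀) hs, ?_⟩
  rw [← map_smul, Submodule.mkQ_apply, Submodule.Quotient.mk_eq_zero]
  refine ⟨u * a₀, ?_⟩
  rw [LinearMap.toSpanSingleton_apply, mul_smul (u * s₀), ← hz, mul_smul, mul_smul]
  have := congrArg F hu'
  rw [map_smul, map_sub, map_zero, map_smul, map_smul, smul_sub, sub_eq_zero] at this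
  exact this.symm

end Groth.Agent.Lib.DMod.PointDegree
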