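import Groth.Agent.Lib.DMod.Pointwise
import Groth.Agent.Lib.DMod.Cones

/-!
A complex of pointwise finite injective dimension has eventually vanishing `Hom(M, R[i])` for
every finite module `M`.
-/

universe u

open CategoryTheory Category Limits Pretriangulated

attribute [local instance] HasDerivedCategory.standard

namespace Groth.Agent.Lib.DMod.PointwiseVanish

open Groth.Agent.Lib.DMod Groth.Agent.Lib.DMod.Basic Groth.Agent.Lib.DMod.HomSupp

variable {A : Type u} [CommRing A] [IsNoetherianRing A] (R : Dual.D A) (p : PrimeSpectrum A)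

/-- The support of `Hom(A/p, R⟦i⟧)`. -/
def E (i : ℤ) : Set (PrimeSpectrum A) :=
  Module.support A (Dual.inD A (A ⧸ p.asIdeal) ⟶ R⟦i⟧)

theorem exists_bound_at {c : ℤ} (hR : R.IsGE c) (q : PrimeSpectrum A)
    [DRing.HasLBaseChange (algebraMap A (Localization.AtPrime q.asIdeal))]
    (hq : DRing.HasFiniteInjDim (Localization.AtPrime q.asIdeal)
      ((DRing.LBaseChange (algebraMap A (Localization.AtPrime q.asIdeal))).obj R)) :
    ∃ t : ℤ, ∀ i, t < i → q ∉ E R p i := by
  obtain ⟨a, b, h⟩ := (InjAmp.amp_iff _).1 hq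
  refine ⟨b, fun i hi => ?_⟩
  let B := Localization.AtPrime q.asIdeal
  have hB : Subsingleton (Dual.inD B (B ⧸ p.asIdeal.map (algebraMap A B)) ⟶
      ((FlatHom.L A B).obj R)⟦i⟧) :=
    (Linear.homCongr B (Iso.refl _) ((shiftFunctor (Dual.D B) i).mapIso
      ((FlatHom.isoLBaseChange A B).app R))).toEquiv.subsingleton_congr.1 (h _ i (Or.inr hi))
  have ht := (Pointwise.quotEquivGE B p.asIdeal hR i).toEquiv.subsingleton_congr.2 hB
  refine Module.notMem_support_iff'.2 fun f => ?_
  obtain ⟨⟨s, hs⟩, hsf⟩ := (IsLocalizedModule.eq_zero_iff q.asIdeal.primeCompl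
    (TensorProduct.mk A B (Dual.inD A (A ⧸ p.asIdeal) ⟶ R⟦i⟧) 1)).1 (Subsingleton.elim _ _)
  exact ⟨s, hs, hsf⟩

/-- On an open set around `p`, vanishing of `Hom(A/p, R⟦≥ i⟧)` forces vanishing for modules on `V(p)`. -/
theorem exists_open_module (N : Type u) [AddCommGroup N] [Module A N] [Module.Finite A N]
    (hN : ∀ r, r ∈ Module.support A N → p ≤ r) :
    ∃ f ∉ p.asIdeal, ∀ q : PrimeSpectrum A, f ∉ q.asIdeal → ∀ i : ℤ,
      (∀ i', i ≤ i' → q ∉ E R p i') → q ∉ Module.support A (Dual.inD A N ⟶ R⟦i⟧) := by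
  revert hN
  refine IsNoetherianRing.induction_on_isQuotientEquivQuotientPrime (A := A) (M := N) inferInstance
    (motive := fun N _ _ _ => (∀ r, r ∈ Module.support A N → p ≤ r) →
      ∃ f ∉ p.asIdeal, ∀ q : PrimeSpectrum A, f ∉ q.asIdeal → ∀ i : ℤ,
      (∀ i', i ≤ i' → q ∉ E R p i') → q ∉ Module.support A (Dual.inD A N ⟶ R⟦i⟧)) ?_ ?_ ?_
  · intro N _ _ _ _ _
    refine ⟨1, fun h => p.isPrime.ne_top ((Ideal.eq_top_iff_one _).2 h), fun q _ i _ => ?_⟩
    have hq : q ∉ Module.support A N := by simp [Module.support_eq_empty]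
    refine notMem_support_equiv ?_ (notMem_support_hom_inD_left N hq 0 (R⟦i⟧))
    exact Linear.homCongr A ((shiftFunctorZero (Dual.D A) ℤ).app _) (Iso.refl _)
  · intro N _ _ _ r e hN
    have hr : p ≤ r := hN r (by rw [e.support_eq, mem_support_quotient_prime])
    rcases hr.eq_or_lt with h | h
    · subst h
      refine ⟨1, fun h => p.isPrime.ne_top ((Ideal.eq_top_iff_one _).2 h), fun q _ i hi => ?_⟩
      exact notMem_support_equiv (Linear.homCongr A
        ((DerivedCategory.singleFunctor (ModuleCat.{u} A) 0).mapIso e.symm.toModuleIso) (Iso.refl _))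
        (hi i le_rfl)
    · obtain ⟨f, hfr, hfp⟩ := Degree.exists_mem_notMem h
      refine ⟨f, hfp, fun q hq i _ => ?_⟩
      have hqN : q ∉ Module.support A N := by
        rw [e.support_eq, mem_support_quotient_prime]
        exact fun hc => hq (hc hfr)
      refine notMem_support_equiv ?_ (notMem_support_hom_inD_left N hqN 0 (R⟦i⟧))
      exact Linear.homCongr A ((shiftFunctorZero (Dual.D A) ℤ).app _) (Iso.refl _)
  · intro N₁ _ _ _ N₂ _ _ _ N₃ _ _ _ f g hf hg hfg ih₁ ih₃ hN₂
    obtain ⟨a, ha, h₁⟩ := ih₁ fun r hr => hN₂ r (Module.support_subset_of_injective f hf hr)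
    obtain ⟨b, hb, h₃⟩ := ih₃ fun r hr => hN₂ r (Module.support_subset_of_surjective g hg hr)
    refine ⟨a * b, p.isPrime.mul_notMem ha hb, fun q hq i hi => ?_⟩
    obtain ⟨T, hT, e₁, e₂, e₃⟩ := exists_triangle_of_shortExact f g hf hg hfg
    rw [← e₂]
    refine notMem_support_hom_from_obj₂ hT _ ?_ ?_
    · rw [e₁]; exact h₁ q (fun h => hq (q.asIdeal.mul_mem_right b h)) i hi
    · rw [e₃]; exact h₃ q (fun h => hq (q.asIdeal.mul_mem_left a h)) i hi

/-- `exists_open_module` for bounded complexes. -/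
theorem exists_open_complex : ∀ (m : ℕ) (c : ℤ) (X : Dual.D A),
    (∀ i, i < c ∨ c + (m : ℤ) ≤ i → Subsingleton (Dual.HD A X i)) →
    (∀ i, Module.Finite A (Dual.HD A X i)) →
    (∀ i r, r ∈ Module.support A (Dual.HD A X i) → p ≤ r) →
    ∃ f ∉ p.asIdeal, ∀ q : PrimeSpectrum A, f ∉ q.asIdeal → ∀ i : ℤ,
      (∀ i', i + c ≤ i' → q ∉ E R p i') → q ∉ Module.support A (X ⟶ R⟦i⟧) := by
  intro m
  induction m with
  | zero =>
    intro c X h _ _
    refine ⟨1, fun h => p.isPrime.ne_top ((Ideal.eq_top_iff_one _).2 h), fun q _ i _ => ?_⟩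
    have hz : IsZero X := (isZero_iff_HD X).2 fun i => h i (by lia)
    have : Subsingleton (X ⟶ R⟦i⟧) := ⟨fun f g => hz.eq_of_src f g⟩
    simp [Module.support_eq_empty]
  | succ m ih =>
    intro c X h hfin hsupp
    obtain ⟨T, hT, hT₂, hT₁, hT₃, h₁, h₃⟩ := Devissage.exists_trunc X c
    subst hT₂
    have hge : T.obj₁.IsGE c := (isGE_iff _ c).2 fun i hi => by
      obtain ⟨e⟩ := h₁ i hi.le
      have := h i (Or.inl hi)
      exact e.toEquiv.subsingleton
    obtain ⟨e⟩ := Devissage.exists_iso_inD_shift T.obj₁ c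
    obtain ⟨e₁⟩ := h₁ c le_rfl
    have := hfin c
    have : Module.Finite A (Dual.HD A T.obj₁ c) := Module.Finite.equiv e₁.symm
    obtain ⟨a, ha, hA⟩ := exists_open_module R p (Dual.HD A T.obj₁ c) fun r hr =>
      hsupp c r (by rwa [← e₁.support_eq])
    obtain ⟨b, hb, hB⟩ := ih (c + 1) T.obj₃ (fun i hi => by
        by_cases hic : c < i
        · obtain ⟨e⟩ := h₃ i hic
          have := h i (by lia)
          exact e.symm.toEquiv.subsingleton
        · exact subsingleton_HD_of_isGE _ (c + 1) (by lia))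
      (fun i => by
        by_cases hic : c < i
        · obtain ⟨e⟩ := h₃ i hic
          have := hfin i
          exact Module.Finite.equiv e
        · have := subsingleton_HD_of_isGE T.obj₃ (c + 1) (i := i) (by lia)
          exact Module.Finite.of_finite)
      fun i r hr => by
        by_cases hic : c < i
        · obtain ⟨e⟩ := h₃ i hic
          exact hsupp i r (by rwa [e.support_eq])
        · have := subsingleton_HD_of_isGE T.obj₃ (c + 1) (i := i) (by lia)
          simp [Module.support_eq_empty] at hr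
    refine ⟨a * b, p.isPrime.mul_notMem ha hb, fun q hq i hi => ?_⟩
    refine notMem_support_hom_from_obj₂ hT _ ?_
      (hB q (fun h => hq (q.asIdeal.mul_mem_left a h)) i fun i' hi' => hi i' (by lia))
    refine notMem_support_equiv ((Linear.homCongr A e (Iso.refl _)).trans
      (homShiftAdj _ R (-c) i (i + c) (by lia))).symm ?_
    exact hA q (fun h => hq (q.asIdeal.mul_mem_right b h)) (i + c) fun i' hi' => hi i' hi'

/-- Extract a bound for `Hom(A/p, R⟦i⟧)` from a complex on `V(p)` nonzero at `p`. -/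
theorem exists_bound_of_complex (hbd : ∀ q, ∃ t : ℤ, ∀ i, t < i → q ∉ E R p i) :
    ∀ (m : ℕ) (c : ℤ) (X : Dual.D A),
    (∀ i, i < c ∨ c + (m : ℤ) ≤ i → Subsingleton (Dual.HD A X i)) →
    (∀ i, Module.Finite A (Dual.HD A X i)) →
    (∀ i r, r ∈ Module.support A (Dual.HD A X i) → p ≤ r) →
    (∃ j, p ∈ Module.support A (Dual.HD A X j)) →
    (∃ f ∉ p.asIdeal, ∃ N : ℤ, ∀ q : PrimeSpectrum A, f ∉ q.asIdeal → ∀ i, N < i →
      q ∉ Module.support A (X ⟶ R⟦i⟧)) →
    ∃ f ∉ p.asIdeal, ∃ N : ℤ, ∀ q : PrimeSpectrum A, f ∉ q.asIdeal → ∀ i, N < i → q ∉ E R p i := by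
  intro m
  induction m with
  | zero =>
    intro c X h _ _ hj _
    obtain ⟨j, hj⟩ := hj
    have := h j (by lia)
    simp [Module.support_eq_empty] at hj
  | succ m ih =>
    intro c X h hfin hsupp hj hvan
    obtain ⟨f₀, hf₀, N, hN⟩ := hvan
    obtain ⟨T, hT, hT₂, hT₁, hT₃, h₁, h₃⟩ := Devissage.exists_trunc X c
    subst hT₂
    have hge : T.obj₁.IsGE c := (isGE_iff _ c).2 fun i hi => by
      obtain ⟨e⟩ := h₁ i hi.le
      have := h i (Or.inl hi)
      exact e.toEquiv.subsingleton
    obtain ⟨e⟩ := Devissage.exists_iso_inD_shift T.obj₁ c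
    obtain ⟨e₁⟩ := h₁ c le_rfl
    have := hfin c
    have hfin₁ : Module.Finite A (Dual.HD A T.obj₁ c) := Module.Finite.equiv e₁.symm
    have h3z : ∀ i, i < c + 1 ∨ c + 1 + (m : ℤ) ≤ i → Subsingleton (Dual.HD A T.obj₃ i) :=
      fun i hi => by
        by_cases hic : c < i
        · obtain ⟨e⟩ := h₃ i hic
          have := h i (by lia)
          exact e.symm.toEquiv.subsingleton
        · exact subsingleton_HD_of_isGE _ (c + 1) (by lia)
    have h3f : ∀ i, Module.Finite A (Dual.HD A T.obj₃ i) := fun i => by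
      by_cases hic : c < i
      · obtain ⟨e⟩ := h₃ i hic
        have := hfin i
        exact Module.Finite.equiv e
      · have := subsingleton_HD_of_isGE T.obj₃ (c + 1) (i := i) (by lia)
        exact Module.Finite.of_finite
    have h3s : ∀ i r, r ∈ Module.support A (Dual.HD A T.obj₃ i) → p ≤ r := fun i r hr => by
      by_cases hic : c < i
      · obtain ⟨e⟩ := h₃ i hic
        exact hsupp i r (by rwa [e.support_eq])
      · have := subsingleton_HD_of_isGE T.obj₃ (c + 1) (i := i) (by lia)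
        simp [Module.support_eq_empty] at hr
    have hobj₁ : ∀ i, (T.obj₁ ⟶ R⟦i⟧) ≃ₗ[A] (Dual.inD A (Dual.HD A T.obj₁ c) ⟶ R⟦i + c⟧) :=
      fun i => (Linear.homCongr A e (Iso.refl _)).trans (homShiftAdj _ R (-c) i (i + c) (by lia))
    by_cases hc : p ∈ Module.support A (Dual.HD A T.obj₁ c)
    · -- the bottom cohomology module contains a copy of `A/p`
      obtain ⟨ι, hι⟩ : ∃ ι : (A ⧸ p.asIdeal) →ₗ[A] Dual.HD A T.obj₁ c, Function.Injective ι :=
        PointDegree.exists_injective_of_isolated p _ hc fun r hr hrM => le_antisymm hr (by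
          rw [e₁.support_eq] at hrM
          exact hsupp c r hrM)
      obtain ⟨b, hb, hB⟩ := exists_open_module R p (_ ⧸ LinearMap.range ι) fun r hr => by
        have hr' := Module.support_subset_of_surjective _ (LinearMap.range ι).mkQ_surjective hr
        rw [e₁.support_eq] at hr'
        exact hsupp c r hr'
      obtain ⟨d, hd, hD⟩ := exists_open_complex R p m (c + 1) T.obj₃ h3z h3f h3s
      obtain ⟨V, hV, eV₁, eV₂, eV₃⟩ := exists_triangle_of_shortExact ι (LinearMap.range ι).mkQ hι
        (Submodule.mkQ_surjective _) (LinearMap.exact_map_mkQ_range ι)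
      refine ⟨f₀ * (b * d), p.isPrime.mul_notMem hf₀ (p.isPrime.mul_notMem hb hd), N + c,
        fun q hq => ?_⟩
      have hq₀ : f₀ ∉ q.asIdeal := fun h => hq (q.asIdeal.mul_mem_right _ h)
      have hqb : b ∉ q.asIdeal := fun h => hq (q.asIdeal.mul_mem_left _ (q.asIdeal.mul_mem_right _ h))
      have hqd : d ∉ q.asIdeal := fun h => hq (q.asIdeal.mul_mem_left _ (q.asIdeal.mul_mem_left _ h))
      obtain ⟨t, ht⟩ := hbd q
      suffices key : ∀ (n : ℕ) (i : ℤ), t - i < n → N + c < i → q ∉ E R p i from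
        fun i hi => key ((t - i).toNat + 1) i (by lia) hi
      intro n
      induction n with
      | zero => exact fun i hi _ => ht i (by lia)
      | succ n ihn =>
        intro i hi hiN
        have hup : ∀ i', i + 1 ≤ i' → q ∉ E R p i' := fun i' hi' => ihn i' (by lia) (by lia)
        have hX₁ : q ∉ Module.support A (T.obj₁ ⟶ R⟦i - c⟧) := by
          refine notMem_support_of_exact (exact_leftComp_conn hT R (i - c) (i - c + 1) rfl)
            (hN q hq₀ _ (by lia)) (hD q hqd _ fun i' hi' => hup i' (by lia))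
        have hH : q ∉ Module.support A (V.obj₂ ⟶ R⟦i⟧) := by
          rw [eV₂]
          have := notMem_support_equiv (hobj₁ (i - c)) hX₁
          rwa [sub_add_cancel] at this
        have hQ : q ∉ Module.support A (V.obj₃ ⟶ R⟦i + 1⟧) := by
          rw [eV₃]
          exact hB q hqb _ hup
        have := notMem_support_of_exact (exact_leftComp_conn hV R i (i + 1) rfl) hH hQ
        rwa [eV₁] at this
    · obtain ⟨s, hs, hsM⟩ := exists_notMem_smul_eq_zero hc
      refine ih (c + 1) T.obj₃ h3z h3f h3s ?_ ⟨f₀ * s, p.isPrime.mul_notMem hf₀ hs, N + 1,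
        fun q hq i hi => ?_⟩
      · obtain ⟨j, hj⟩ := hj
        rcases lt_trichotomy j c with hjc | rfl | hjc
        · have := h j (Or.inl hjc)
          simp [Module.support_eq_empty] at hj
        · rw [← e₁.support_eq] at hj
          exact absurd hj hc
        · obtain ⟨e⟩ := h₃ j hjc
          exact ⟨j, by rwa [← e.support_eq]⟩
      · refine notMem_support_of_exact (exact_conn_leftComp hT R (i - 1) i (by lia)) ?_
          (hN q (fun h => hq (q.asIdeal.mul_mem_right s h)) i (by lia))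
        refine notMem_support_equiv (hobj₁ (i - 1)).symm ?_
        have hqM : q ∉ Module.support A (Dual.HD A T.obj₁ c) :=
          Module.notMem_support_iff'.2 fun x => ⟨s, fun h => hq (q.asIdeal.mul_mem_left f₀ h), hsM x⟩
        refine notMem_support_equiv ?_ (notMem_support_hom_inD_left _ hqM 0 (R⟦i - 1 + c⟧))
        exact Linear.homCongr A ((shiftFunctorZero (Dual.D A) ℤ).app _) (Iso.refl _)

/-- The iterated cones of `A` along elements of `p`. -/
theorem exists_koszul (b : ℤ) (hb : ∀ i, b < i → Subsingleton (Dual.HD A R i)) (xs : List A)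
    (hxs : ∀ x ∈ xs, x ∈ p.asIdeal) :
    ∃ X : Dual.D A,
      (∀ i, i < -(xs.length : ℤ) ∨ 0 < i → Subsingleton (Dual.HD A X i)) ∧
      (∀ i, Module.Finite A (Dual.HD A X i)) ∧
      (∀ i, b + xs.length < i → Subsingleton (X ⟶ R⟦i⟧)) ∧
      (∀ j r, r ∈ Module.support A (Dual.HD A X j) → Ideal.ofList xs ≤ r.asIdeal) ∧
      ∃ j, p ∈ Module.support A (Dual.HD A X j) := by
  induction xs with
  | nil =>
    refine ⟨Dual.inD A A, fun i hi => ?_, fun i => finite_HD_inD A i, fun i hi => ?_, fun j r _ => ?_, 0, ?_⟩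
    · exact subsingleton_HD_inD A (by simp at hi; lia)
    · exact (homUnitShiftEquiv R i).toEquiv.subsingleton_congr.2 (hb i (by simpa using hi))
    · simp
    · rw [(HDinD A).support_eq, Module.mem_support_iff_of_finite]
      intro a ha
      have h0 : a * 1 = 0 := Module.mem_annihilator.mp ha 1
      simp only [mul_one] at h0
      simp [h0]
  | cons x xs ih =>
    obtain ⟨X, hbd, hfin, htop, hsupp, j, hj⟩ := ih fun y hy => hxs y (List.mem_cons_of_mem x hy)
    obtain ⟨X', g, h, hT⟩ := Cones.exists_smul_triangle X x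
    have hlen : (((x :: xs).length : ℕ) : ℤ) = (xs.length : ℤ) + 1 := by simp
    rw [hlen, Ideal.ofList_cons]
    refine ⟨X', fun i hi => ?_, fun i => ?_, fun i hi => ?_, fun j r hr => ?_, j, ?_⟩
    · exact Cones.subsingleton_HD_step hT i (hbd i (by lia)) (hbd (i + 1) (by lia))
    · exact Cones.finite_HD_step hT i (hfin i) (hfin (i + 1))
    · exact Cones.subsingleton_hom_step hT R i (htop i (by lia)) (htop (i - 1) (by lia))
    · by_contra hc
      refine Cones.notMem_support_HD hT j (fun hxq => ?_) hr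
      have hJ : ¬ Ideal.ofList xs ≤ r.asIdeal := fun hJ =>
        hc (sup_le ((Ideal.span_singleton_le_iff_mem _).2 hxq) hJ)
      exact ⟨fun hh => hJ (hsupp j r hh), fun hh => hJ (hsupp _ r hh)⟩
    · obtain ⟨δ, e₂, e₃, -⟩ := Cones.exists_coneδ hT j
      by_contra hc
      refine notMem_support_of_smul_exact (hxs x List.mem_cons_self) (g := mapHD g j)
        (fun m hm => ?_) hc hj
      obtain ⟨m', hm'⟩ := (e₂ m).1 hm
      exact ⟨m', by rwa [Cones.mapHD_smul_id] at hm'⟩

/-- `Hom(M, R⟦i⟧)` vanishes for large `i`. -/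
def Bdd (M : Type u) [AddCommGroup M] [Module A M] : Prop :=
  ∃ N : ℤ, ∀ i, N < i → Subsingleton (Dual.inD A M ⟶ R⟦i⟧)

/-- Devissage for `Bdd`. -/
theorem bdd_of_primes (M : Type u) [AddCommGroup M] [Module A M] [Module.Finite A M]
    (h : ∀ r, r ∈ Module.support A M → Bdd R (A ⧸ r.asIdeal)) : Bdd R M := by
  revert h
  refine IsNoetherianRing.induction_on_isQuotientEquivQuotientPrime (A := A) (M := M) inferInstance
    (motive := fun N _ _ _ => (∀ r, r ∈ Module.support A N → Bdd R (A ⧸ r.asIdeal)) → Bdd R N) ?_ ?_ ?_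
  · intro N _ _ _ _ _
    refine ⟨0, fun i _ => ⟨fun f g => ?_⟩⟩
    exact (Functor.map_isZero _ (ModuleCat.isZero_of_subsingleton (ModuleCat.of A N))).eq_of_src f g
  · intro N _ _ _ r e hN
    obtain ⟨K, hK⟩ := hN r (by rw [e.support_eq, mem_support_quotient_prime])
    exact ⟨K, fun i hi => (Linear.homCongr A
      ((DerivedCategory.singleFunctor (ModuleCat.{u} A) 0).mapIso e.toModuleIso) (Iso.refl _)
      ).toEquiv.subsingleton_congr.2 (hK i hi)⟩
  · intro N₁ _ _ _ N₂ _ _ _ N₃ _ _ _ f g hf hg hfg ih₁ ih₃ hN₂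
    obtain ⟨a, h₁⟩ := ih₁ fun r hr => hN₂ r (Module.support_subset_of_injective f hf hr)
    obtain ⟨b, h₃⟩ := ih₃ fun r hr => hN₂ r (Module.support_subset_of_surjective g hg hr)
    refine ⟨max a b, fun i hi => ?_⟩
    obtain ⟨T, hT, e₁, e₂, e₃⟩ := exists_triangle_of_shortExact f g hf hg hfg
    rw [← e₂]
    exact subsingleton_hom_from_obj₂ hT _ (e₁ ▸ h₁ i (lt_of_le_of_lt (le_max_left a b) hi))
      (e₃ ▸ h₃ i (lt_of_le_of_lt (le_max_right a b) hi))

/-- Pointwise finite injective dimension gives eventual vanishing for every finite module. -/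
theorem bdd_of_pointwise (hfin : ∀ i, Module.Finite A (Dual.HD A R i)) (a b : ℤ)
    (hab : ∀ i, i < a ∨ b < i → Subsingleton (Dual.HD A R i))
    [∀ q : PrimeSpectrum A, DRing.HasLBaseChange (algebraMap A (Localization.AtPrime q.asIdeal))]
    (hpw : ∀ q : PrimeSpectrum A, DRing.HasFiniteInjDim (Localization.AtPrime q.asIdeal)
      ((DRing.LBaseChange (algebraMap A (Localization.AtPrime q.asIdeal))).obj R))
    (M : Type u) [AddCommGroup M] [Module A M] [Module.Finite A M] : Bdd R M := by
  have hge : R.IsGE a := (isGE_iff R a).2 fun i hi => hab i (Or.inl hi)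
  refine bdd_of_primes R M fun r _ => ?_
  suffices key : ∀ (I : Ideal A) (p : PrimeSpectrum A), p.asIdeal = I → Bdd R (A ⧸ p.asIdeal) from
    key _ r rfl
  intro I
  induction I using WellFoundedGT.induction with
  | _ I ih =>
    intro p hpI
    subst hpI
    obtain ⟨xs, hxs⟩ : ∃ xs : List A, Ideal.ofList xs = p.asIdeal := by
      obtain ⟨s, hs⟩ := IsNoetherian.noetherian p.asIdeal
      exact ⟨s.toList, by simpa [Ideal.ofList] using hs⟩
    obtain ⟨X, hXb, hXf, hXtop, hXs, hXj⟩ := exists_koszul R p b (fun i hi => hab i (Or.inr hi)) xs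
      fun x hx => hxs ▸ Ideal.subset_span hx
    obtain ⟨f, hf, N, hN⟩ := exists_bound_of_complex R p
      (fun q => exists_bound_at R p hge q (hpw q)) (xs.length + 1) (-(xs.length : ℤ)) X
      (fun i hi => hXb i (by lia)) hXf (fun j r hr => by
        have := hXs j r hr
        rwa [hxs] at this) hXj
      ⟨1, fun h => p.isPrime.ne_top ((Ideal.eq_top_iff_one _).2 h), b + xs.length,
        fun q _ i hi => by
          have := hXtop i hi
          simp [Module.support_eq_empty]⟩
    obtain ⟨C, _, _, _, hC, hseq⟩ := Degree.exists_quotient_triangle (ω := R) p f hf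
    obtain ⟨K, hK⟩ := bdd_of_primes R C fun r hr => by
      obtain ⟨hpr, hfr⟩ := (hC r).1 hr
      have hlt : p < r := lt_of_le_of_ne hpr fun he => hf (by rw [he]; exact hfr)
      exact ih r.asIdeal ((PrimeSpectrum.asIdeal_lt_asIdeal p r).2 hlt) r rfl
    refine ⟨max N K, fun i hi => ?_⟩
    rw [← Module.support_eq_empty_iff (R := A), Set.eq_empty_iff_forall_notMem]
    intro q hq
    by_cases hfq : f ∈ q.asIdeal
    · obtain ⟨g, hg⟩ := hseq i (i + 1) rfl
      have := hK (i + 1) (by lia)
      have := Conservative.finite_hom (Conservative.bddFin_inD (A ⧸ p.asIdeal))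
        (Conservative.bddFin_shift ⟨hfin, a, b, hab⟩ i)
      exact notMem_support_of_smul_exact hfq hg (by simp [Module.support_eq_empty]) hq
    · exact hN q hfq i (by lia) hq

end Groth.Agent.Lib.DMod.PointwiseVanish
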