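import Mathlib.RingTheory.Regular.RegularSequence
import Mathlib.Algebra.MvPolynomial.Equiv
import Mathlib.Algebra.MvPolynomial.Eval
import Mathlib.Algebra.MvPolynomial.Basic

/-!
Shifted variables in a polynomial ring over any commutative ring.
-/

universe u

open RingTheory.Sequence MvPolynomial

namespace Groth.Agent.Lib.DMod.PolyRegular

variable {F : Type u} [CommRing F] {k : ℕ} (c : Fin k → F)

/-- The list `X i - c i`. -/
noncomputable abbrev shifts : List (MvPolynomial (Fin k) F) := List.ofFn fun i => X i - C (c i)

theorem sub_mem (i : ℕ) (p : MvPolynomial (Fin k) F) :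
    p - aeval (fun j : Fin k => if j.val < i then C (c j) else X j) p ∈
      Ideal.ofList ((shifts c).take i) := by
  set φ : MvPolynomial (Fin k) F →ₐ[F] MvPolynomial (Fin k) F :=
    aeval fun j : Fin k => if j.val < i then C (c j) else X j
  set I : Ideal (MvPolynomial (Fin k) F) := Ideal.ofList ((shifts c).take i)
  induction p using MvPolynomial.induction_on with
  | C a => simp [φ]
  | add p q hp hq => rw [map_add, add_sub_add_comm]; exact add_mem hp hq
  | mul_X p j hp =>
    have hX : (X j : MvPolynomial (Fin k) F) - φ (X j) ∈ I := by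
      simp only [φ, aeval_X]
      split_ifs with h
      · refine Ideal.subset_span ?_
        simp only [Set.mem_ofPred_eq]
        rw [List.mem_take_iff_getElem]
        exact ⟨j.val, by simp [h], by simp⟩
      · simp
    rw [map_mul]
    have := add_mem (I.mul_mem_right (X j) hp) (I.mul_mem_left (φ p) hX)
    convert this using 1
    ring

theorem aeval_eq_zero (i : ℕ) (p : MvPolynomial (Fin k) F)
    (hp : p ∈ Ideal.ofList ((shifts c).take i)) :
    aeval (fun j : Fin k => if j.val < i then C (c j) else X j) p = 0 := by
  suffices Ideal.ofList ((shifts c).take i) ≤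
      RingHom.ker (aeval (R := F) (fun j : Fin k => if j.val < i then C (c j) else X j)).toRingHom from
    this hp
  rw [Ideal.span_le]
  intro r hr
  simp only [Set.mem_ofPred_eq] at hr
  rw [List.mem_take_iff_getElem] at hr
  obtain ⟨j, hj, rfl⟩ := hr
  simp only [shifts, List.length_ofFn, lt_min_iff] at hj
  simp [hj.1]

theorem isRegular_X_sub_C (i : Fin k) (u : MvPolynomial (Fin k) F) (h : (X i - C (c i)) * u = 0) :
    u = 0 := by
  let σ : MvPolynomial (Fin k) F →ₐ[F] MvPolynomial (Fin k) F := aeval fun j => X j + C (c j)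
  let τ : MvPolynomial (Fin k) F →ₐ[F] MvPolynomial (Fin k) F := aeval fun j => X j - C (c j)
  have hτσ : τ.comp σ = AlgHom.id F _ := MvPolynomial.algHom_ext fun j => by simp [σ, τ]
  have h1 : X i * σ u = 0 := by
    have := congrArg σ h
    simpa [σ] using this
  have h2 : σ u = 0 :=
    (isRegular_X (R := F) (n := i)).left (h1.trans (mul_zero (X i : MvPolynomial (Fin k) F)).symm)
  have h3 : τ (σ u) = u := AlgHom.congr_fun hτσ u
  rw [← h3, h2, map_zero]

theorem isWeaklyRegular_shifts : IsWeaklyRegular (MvPolynomial (Fin k) F) (shifts c) := by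
  rw [isWeaklyRegular_iff_Fin]
  intro i
  have hi : i.val < k := lt_of_lt_of_eq i.isLt (List.length_ofFn)
  rw [isSMulRegular_iff_right_eq_zero_of_smul]
  intro q hq
  obtain ⟨q, rfl⟩ := Submodule.Quotient.mk_surjective _ q
  rw [← Submodule.Quotient.mk_smul, Submodule.Quotient.mk_eq_zero, smul_eq_mul, Ideal.mul_top] at hq
  rw [Submodule.Quotient.mk_eq_zero, smul_eq_mul, Ideal.mul_top]
  have h0 := aeval_eq_zero c i.val _ hq
  simp only [shifts, smul_eq_mul, Fin.getElem_fin, List.getElem_ofFn, map_mul, map_sub,
    aeval_X, aeval_C, lt_irrefl, if_false, MvPolynomial.algebraMap_eq] at h0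
  have := sub_mem c i.val q
  rw [isRegular_X_sub_C c ⟨i.val, hi⟩ _ h0, sub_zero] at this
  exact this

theorem ker_eval : RingHom.ker (eval c) = Ideal.ofList (shifts c) := by
  refine le_antisymm (fun p hp => ?_) ?_
  · have h1 := sub_mem c k p
    have h2 : ∀ r : MvPolynomial (Fin k) F, (aeval fun j : Fin k =>
        if j.val < k then C (c j) else (X j : MvPolynomial (Fin k) F)) r = C (eval c r) := by
      intro r
      induction r using MvPolynomial.induction_on with
      | C a => simp
      | add r q hr hq => rw [map_add, map_add, map_add, hr, hq]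
      | mul_X r j hr => rw [map_mul, map_mul, map_mul, hr]; simp
    rw [h2, RingHom.mem_ker.1 hp, map_zero, sub_zero, List.take_of_length_le (by simp)] at h1
    exact h1
  · rw [Ideal.span_le]
    intro r hr
    simp only [shifts, Set.mem_ofPred_eq, List.mem_ofFn] at hr
    obtain ⟨j, rfl⟩ := hr
    simp

end Groth.Agent.Lib.DMod.PolyRegular
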