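import Groth.Agent.Lib.DMod.ExtTransfer
import Groth.Agent.Lib.DMod.PolyRegular
import Mathlib.RingTheory.Polynomial.Basic

/-!
`Ext(A, P)[n]` does not depend on the polynomial presentation `P → A`.
-/

set_option linter.style.haveILetI false

universe u

open CategoryTheory Abelian RingTheory.Sequence MvPolynomial

namespace Groth.Agent.Lib.DMod.PresTransfer

variable {R A : Type u} [CommRing R] [CommRing A] [Algebra R A] [IsNoetherianRing R] {m N : ℕ}
  (β : MvPolynomial (Fin m) R →ₐ[R] A) (α : MvPolynomial (Fin N) R →ₐ[R] A)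

/-- `Ext^i` of the algebra into the polynomial ring, for a presentation. -/
abbrev E {m : ℕ} (β : MvPolynomial (Fin m) R →ₐ[R] A) (i : ℕ) : Type u :=
  letI := β.toRingHom.toAlgebra
  Ext (ModuleCat.of (MvPolynomial (Fin m) R) A)
    (ModuleCat.of (MvPolynomial (Fin m) R) (MvPolynomial (Fin m) R)) i

/-- The `P`-module structure on `E β i`. -/
noncomputable instance instModuleE {m : ℕ} (β : MvPolynomial (Fin m) R →ₐ[R] A) (i : ℕ) :
    Module (MvPolynomial (Fin m) R) (E β i) :=
  letI := β.toRingHom.toAlgebra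
  inferInstanceAs (Module (MvPolynomial (Fin m) R) (Ext (ModuleCat.of (MvPolynomial (Fin m) R) A)
    (ModuleCat.of (MvPolynomial (Fin m) R) (MvPolynomial (Fin m) R)) i))

/-- The transfer between two presentations. -/
theorem exists_equiv (hβ : Function.Surjective β) (hα : Function.Surjective α) (i : ℕ) :
    (i + N < m → Subsingleton (E β i)) ∧
      ∀ j, i + N = j + m → ∃ e : E β i ≃+ E α j,
        ∀ (p : MvPolynomial (Fin m) R) (p' : MvPolynomial (Fin N) R), β p = α p' →
          ∀ y, e (p • y) = p' • e y := by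
  letI := β.toRingHom.toAlgebra
  letI := α.toRingHom.toAlgebra
  choose g hg using fun k : Fin N => hβ (α (X k))
  choose h hh using fun k : Fin m => hα (β (X k))
  let T := MvPolynomial (Fin N) (MvPolynomial (Fin m) R)
  let Φ := MvPolynomial.commAlgEquiv R (Fin N) (Fin m)
  let π₁ : T →+* MvPolynomial (Fin m) R := eval g
  let π₂ : T →+* MvPolynomial (Fin N) R := (eval h).comp Φ.toRingEquiv.toRingHom
  have hπ₁ : Function.Surjective π₁ := fun p => ⟨C p, eval_C _⟩
  have hπ₂ : Function.Surjective π₂ := fun p => ⟨Φ.symm (C p), by simp [π₂]⟩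
  have hcompat : β.toRingHom.comp π₁ = α.toRingHom.comp π₂ := by
    refine MvPolynomial.ringHom_ext' (MvPolynomial.ringHom_ext (fun r => ?_) fun k => ?_) fun k => ?_
    · have h1 : Φ (C (C r)) = C (C r) := by simp [Φ, MvPolynomial.commAlgEquiv_C]
      simp [π₁, π₂, h1]
    · simp [π₁, π₂, Φ, hh]
    · simp [π₁, π₂, Φ, hg]
  letI := π₁.toAlgebra
  letI := π₂.toAlgebra
  letI : Algebra T A := (β.toRingHom.comp π₁).toAlgebra
  haveI : IsScalarTower T (MvPolynomial (Fin m) R) A := IsScalarTower.of_algebraMap_eq' rfl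
  haveI : IsScalarTower T (MvPolynomial (Fin N) R) A := IsScalarTower.of_algebraMap_eq' hcompat
  haveI : Module.Finite (MvPolynomial (Fin m) R) A :=
    Module.Finite.of_surjective (Algebra.linearMap (MvPolynomial (Fin m) R) A) hβ
  haveI : Module.Finite (MvPolynomial (Fin N) R) A :=
    Module.Finite.of_surjective (Algebra.linearMap (MvPolynomial (Fin N) R) A) hα
  haveI : Module.Finite T A :=
    Module.Finite.of_surjective (Algebra.linearMap T A) (hβ.comp hπ₁)
  let ws₁ := PolyRegular.shifts g
  let ws₂ := (PolyRegular.shifts h).map Φ.symm.toRingEquiv.toRingHom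
  have hreg₁ : IsWeaklyRegular T ws₁ := PolyRegular.isWeaklyRegular_shifts g
  have hker₁ : RingHom.ker (algebraMap T (MvPolynomial (Fin m) R)) = Ideal.ofList ws₁ :=
    PolyRegular.ker_eval g
  have hreg₂ : IsWeaklyRegular T ws₂ := by
    refine (AddEquiv.isWeaklyRegular_congr (e := Φ.symm.toRingEquiv.toAddEquiv)
      ?_).mp (PolyRegular.isWeaklyRegular_shifts h)
    rw [List.forall₂_map_right_iff, List.forall₂_same]
    exact fun r _ x => map_mul Φ.symm r x
  have hker₂ : RingHom.ker (algebraMap T (MvPolynomial (Fin N) R)) = Ideal.ofList ws₂ := by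
    show RingHom.ker π₂ = _
    rw [← Ideal.map_ofList, ← PolyRegular.ker_eval h]
    refine le_antisymm (fun x hx => ?_) (Ideal.map_le_iff_le_comap.mpr fun x hx => ?_)
    · have : Φ.symm.toRingEquiv.toRingHom (Φ x) = x := Φ.symm_apply_apply x
      rw [← this]
      exact Ideal.mem_map_of_mem _ hx
    · show eval h (Φ (Φ.symm x)) = 0
      rw [Φ.apply_symm_apply]
      exact hx
  have hlen₁ : ws₁.length = N := List.length_ofFn
  have hlen₂ : ws₂.length = m := by simp [ws₂, PolyRegular.shifts]
  constructor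
  · intro hlt
    have hv := ExtTransfer.vanish (T := T) hreg₂ A (ExtTransfer.killed (T := T) (ws := ws₂) hker₂ A)
      (i + ws₁.length) (by omega)
    obtain ⟨e₁, -⟩ := ExtTransfer.exists_equiv (T := T) hπ₁ hreg₁ hker₁ i A
    exact e₁.toEquiv.subsingleton
  · intro j hj
    obtain ⟨e₁, he₁⟩ := ExtTransfer.exists_equiv (T := T) hπ₁ hreg₁ hker₁ i A
    obtain ⟨e₂, he₂⟩ := ExtTransfer.exists_equiv (T := T) hπ₂ hreg₂ hker₂ j A
    generalize hn : i + ws₁.length = n at e₁ he₁
    generalize hn₂ : j + ws₂.length = n₂ at e₂ he₂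
    obtain rfl : n₂ = n := by omega
    refine ⟨e₁.trans e₂.symm, fun p p' hp y => ?_⟩
    apply e₂.injective
    rw [AddEquiv.trans_apply, AddEquiv.apply_symm_apply]
    obtain ⟨t, rfl⟩ := hπ₁ p
    have hp' : p' - π₂ t ∈ RingHom.ker α.toRingHom := by
      rw [RingHom.mem_ker, map_sub, sub_eq_zero]
      exact hp.symm.trans (RingHom.congr_fun hcompat t)
    have hzero : ∀ (z : MvPolynomial (Fin N) R), α z = 0 →
        ∀ w : E α j, z • w = 0 := fun z hz w => by
      refine Depth.Ext.smul_eq_zero_of_annihilator_src ?_ w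
      refine Module.mem_annihilator.mpr fun a => ?_
      show α z * a = 0
      rw [hz, zero_mul]
    have h2 : p' • (e₁.trans e₂.symm) y = π₂ t • (e₁.trans e₂.symm) y := by
      rw [← sub_eq_zero, ← sub_smul]
      exact hzero _ hp' _
    rw [h2]
    exact (he₁ t y).trans ((congrArg (t • ·) (e₂.apply_symm_apply (e₁ y)).symm).trans (he₂ t _).symm)

end Groth.Agent.Lib.DMod.PresTransfer
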