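import Groth.Agent.Lib.DMod.FiniteRing
import Groth.Agent.Lib.DerCat.KInjExists
import Groth.Prelude.Def_TrivBC

/-!
Representing objects for `Hom(res -, K)` along a ring map.
-/

set_option linter.style.haveILetI false

universe u

open CategoryTheory CategoryTheory.Limits Pretriangulated
open Groth.Agent.Lib.DMod.Basic

attribute [local instance] HasDerivedCategory.standard

namespace Groth.Agent.Lib.DMod.Rep

section General

variable {A B : Type u} [CommRing A] [CommRing B] (φ : A →+* B)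

/-- Coextension preserves K-injectivity. -/
theorem isKInjective_coI (I : DRing.Cx A) [I.IsKInjective] :
    CochainComplex.IsKInjective (FiniteRing.coI φ I) where
  nonempty_homotopy_zero {X} f hX := by
    let G := ModuleCat.restrictScalars.{u} φ
    have hX' : ((G.mapHomologicalComplex (.up ℤ)).obj X).Acyclic := fun i => by
      have h := hX i
      rw [HomologicalComplex.exactAt_iff] at h ⊢
      exact h.map G
    obtain ⟨h⟩ := CochainComplex.IsKInjective.nonempty_homotopy_zero
      (((FiniteRing.cxa φ).homEquiv X I).symm f) hX'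
    refine ⟨(Homotopy.ofEq ?_).trans (((((ModuleCat.coextendScalars.{u, u, u} φ).mapHomotopy h).compLeft
      ((FiniteRing.cxa φ).unit.app X))).trans (Homotopy.ofEq ?_))⟩
    · exact (((FiniteRing.cxa φ).homEquiv X I).apply_symm_apply f).symm.trans
        ((FiniteRing.cxa φ).homEquiv_unit _ _ _)
    · simp

/-- The counit of a K-injective complex represents. -/
theorem isRep_eps (I : DRing.Cx A) [I.IsKInjective] :
    FiniteRing.IsRep (φ := φ) (FiniteRing.eps φ I) := by
  have := isKInjective_coI φ I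
  intro X
  obtain ⟨K, ⟨e⟩⟩ : ∃ K : CochainComplex (ModuleCat.{u} B) ℤ,
      Nonempty (DerivedCategory.Q.obj K ≅ X) :=
    ⟨_, ⟨DerivedCategory.Q.objObjPreimageIso X⟩⟩
  let G := ModuleCat.restrictScalars.{u} φ
  suffices h : Function.Bijective fun g : DerivedCategory.Q.obj K ⟶ _ =>
      (DRing.restrictD φ).map g ≫ FiniteRing.eps φ I by
    have h2 : (fun g : X ⟶ _ => (DRing.restrictD φ).map g ≫ FiniteRing.eps φ I) =
        (Iso.homCongr ((DRing.restrictD φ).mapIso e) (Iso.refl _)) ∘
          (fun g : DerivedCategory.Q.obj K ⟶ _ => (DRing.restrictD φ).map g ≫ FiniteRing.eps φ I) ∘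
            (Iso.homCongr e (Iso.refl _)).symm := by
      funext g
      simp [Iso.homCongr]
    rw [h2]
    exact (Equiv.bijective _).comp (h.comp (Equiv.bijective _))
  have key : ∀ ψ : K ⟶ FiniteRing.coI φ I,
      (DRing.restrictD φ).map (DerivedCategory.Q.map ψ) ≫ FiniteRing.eps φ I =
      G.mapDerivedCategoryFactors.hom.app K ≫
        DerivedCategory.Q.map (((FiniteRing.cxa φ).homEquiv K I).symm ψ) := fun ψ => by
    rw [Adjunction.homEquiv_counit]
    show (DRing.restrictD φ).map (DerivedCategory.Q.map ψ) ≫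
      (G.mapDerivedCategoryFactors.hom.app (FiniteRing.coI φ I) ≫
        DerivedCategory.Q.map ((FiniteRing.cxa φ).counit.app I)) = _
    refine (Category.assoc _ _ _).symm.trans ?_
    refine (congrArg (· ≫ DerivedCategory.Q.map ((FiniteRing.cxa φ).counit.app I))
      (G.mapDerivedCategoryFactors_hom_naturality ψ)).trans ?_
    exact (Category.assoc _ _ _).trans (congrArg _ (DerivedCategory.Q.map_comp _ _).symm)
  refine ⟨fun g g' hg => ?_, fun h => ?_⟩
  · obtain ⟨ψ, rfl⟩ := InjAmp.exists_Q_map_eq g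
    obtain ⟨ψ', rfl⟩ := InjAmp.exists_Q_map_eq g'
    simp only [key, cancel_epi] at hg
    obtain ⟨h⟩ := DR.Amplitude.nonempty_homotopy_of_Q_map_eq' hg
    have h' := (((ModuleCat.coextendScalars.{u, u, u} φ).mapHomotopy h).compLeft
      ((FiniteRing.cxa φ).unit.app K))
    have hψ : ∀ ψ : K ⟶ FiniteRing.coI φ I, ψ = (FiniteRing.cxa φ).unit.app K ≫
        ((ModuleCat.coextendScalars.{u, u, u} φ).mapHomologicalComplex (.up ℤ)).map
          (((FiniteRing.cxa φ).homEquiv K I).symm ψ) := fun ψ =>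
      (((FiniteRing.cxa φ).homEquiv K I).apply_symm_apply ψ).symm.trans
        ((FiniteRing.cxa φ).homEquiv_unit _ _ _)
    rw [hψ ψ, hψ ψ']
    exact DerivedCategory.Q_map_eq_of_homotopy _ h'
  · obtain ⟨f, hf⟩ := InjAmp.exists_Q_map_eq (G.mapDerivedCategoryFactors.inv.app K ≫ h)
    refine ⟨DerivedCategory.Q.map (((FiniteRing.cxa φ).homEquiv K I) f), ?_⟩
    show (DRing.restrictD φ).map _ ≫ _ = h
    rw [key, Equiv.symm_apply_apply, hf]
    exact Iso.hom_inv_id_app_assoc _ _ _

/-- `Hom(res -, K)` is representable. -/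
theorem exists_isRep (K : Dual.D A) :
    ∃ (Y : Dual.D B) (ε : (DRing.restrictD φ).obj Y ⟶ K), FiniteRing.IsRep ε := by
  obtain ⟨I, f, hI, hf⟩ :=
    Groth.Agent.Lib.DerCat.KInjExists.hasKInjRes (DerivedCategory.Q.objPreimage K)
  have : IsIso (DerivedCategory.Q.map f) := (DerivedCategory.isIso_Q_map_iff_quasiIso _ f).2 hf
  let e : DerivedCategory.Q.obj I ≅ K :=
    (asIso (DerivedCategory.Q.map f)).symm ≪≫ DerivedCategory.Q.objObjPreimageIso K
  refine ⟨DerivedCategory.Q.obj (FiniteRing.coI φ I), FiniteRing.eps φ I ≫ e.hom, fun X => ?_⟩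
  have h := (Iso.homCongr (Iso.refl ((DRing.restrictD φ).obj X)) e).bijective.comp (isRep_eps φ I X)
  convert h using 1
  funext g
  simp [Iso.homCongr]

end General

section Formal

variable {A B : Type u} [CommRing A] [CommRing B]

/-- `Y` represents `Hom(res -, K)`. -/
def Represents (φ : A →+* B) (Y : Dual.D B) (K : Dual.D A) : Prop :=
  ∃ ε : (DRing.restrictD φ).obj Y ⟶ K, FiniteRing.IsRep ε

theorem represents_adj {φ : A →+* B} {R : Dual.D A ⥤ Dual.D B} (adj : DRing.restrictD φ ⊣ R)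
    (K : Dual.D A) : Represents φ (R.obj K) K :=
  ⟨_, FiniteRing.isRep_counit adj K⟩

variable {φ : A →+* B} {Y Y' : Dual.D B} {K K' : Dual.D A}

theorem Represents.unique (h : Represents φ Y K) (h' : Represents φ Y' K) : Nonempty (Y ≅ Y') := by
  obtain ⟨ε, hε⟩ := h
  obtain ⟨ε', hε'⟩ := h'
  obtain ⟨f, hf⟩ := (hε' Y).2 ε
  obtain ⟨g, hg⟩ := (hε Y').2 ε'
  dsimp at hf hg
  refine ⟨⟨f, g, (hε Y).1 ?_, (hε' Y').1 ?_⟩⟩
  · simp [hg, hf]
  · simp [hg, hf]

theorem Represents.of_iso_right (h : Represents φ Y K) (e : K ≅ K') : Represents φ Y K' := by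
  obtain ⟨ε, hε⟩ := h
  refine ⟨ε ≫ e.hom, fun X => ?_⟩
  have h := (Iso.homCongr (Iso.refl ((DRing.restrictD φ).obj X)) e).bijective.comp (hε X)
  convert h using 1
  funext g
  simp [Iso.homCongr]

theorem Represents.of_iso_left (h : Represents φ Y K) (e : Y' ≅ Y) : Represents φ Y' K := by
  obtain ⟨ε, hε⟩ := h
  refine ⟨(DRing.restrictD φ).map e.hom ≫ ε, fun X => ?_⟩
  have h := (hε X).comp (Iso.homCongr (Iso.refl X) e).bijective
  convert h using 1
  funext g
  simp [Iso.homCongr]

theorem Represents.shift (h : Represents φ Y K) (n : ℤ) : Represents φ (Y⟦n⟧) (K⟦n⟧) := by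
  obtain ⟨ε, hε⟩ := h
  refine ⟨((DRing.restrictD φ).commShiftIso n).hom.app Y ≫ ε⟦n⟧', fun X => ?_⟩
  obtain ⟨X', ⟨e⟩⟩ : ∃ X' : Dual.D B, Nonempty (X'⟦n⟧ ≅ X) :=
    ⟨X⟦-n⟧, ⟨(shiftFunctorCompIsoId (Dual.D B) (-n) n (by lia)).app X⟩⟩
  have h2 : Function.Bijective fun g : X'⟦n⟧ ⟶ Y⟦n⟧ =>
      (DRing.restrictD φ).map g ≫ ((DRing.restrictD φ).commShiftIso n).hom.app Y ≫ ε⟦n⟧' := by
    have h3 := (Iso.homCongr (((DRing.restrictD φ).commShiftIso n).app X').symm
      (Iso.refl _)).bijective.comp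
        ((homShiftEquiv ((DRing.restrictD φ).obj X') K n).bijective.comp
          ((hε X').comp (homShiftEquiv X' Y n).symm.bijective))
    convert h3 using 1
    funext g
    obtain ⟨g', rfl⟩ := (homShiftEquiv X' Y n).surjective g
    show (DRing.restrictD φ).map (g'⟦n⟧') ≫ _ = _
    have := ((DRing.restrictD φ).commShiftIso n).hom.naturality g'
    dsimp at this
    rw [reassoc_of% this]
    simp only [Iso.homCongr, Equiv.coe_fn_mk, Function.comp_apply, Iso.refl_hom, Category.comp_id,
      Iso.symm_inv, Iso.app_hom]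
    rw [LinearEquiv.symm_apply_apply]
    exact congrArg _ ((shiftFunctor (Dual.D A) n).map_comp _ _).symm
  have h4 := (Iso.homCongr ((DRing.restrictD φ).mapIso e) (Iso.refl (K⟦n⟧))).bijective.comp
    (h2.comp (Iso.homCongr e (Iso.refl (Y⟦n⟧))).symm.bijective)
  convert h4 using 1
  funext g
  simp [Iso.homCongr]

end Formal

section Comp

variable {A B C : Type u} [CommRing A] [CommRing B] [CommRing C] (φ : A →+* B) (χ : B →+* C)

/-- Restriction along a composite. -/
noncomputable def resCompIso :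
    DRing.restrictD (χ.comp φ) ≅ DRing.restrictD χ ⋙ DRing.restrictD φ :=
  letI := TrivBC.liftingRes₂ χ φ
  Localization.liftNatIso (DerivedCategory.Q (C := ModuleCat.{u} C))
    (HomologicalComplex.quasiIso (ModuleCat.{u} C) (ComplexShape.up ℤ))
    ((ModuleCat.restrictScalars.{u} (χ.comp φ)).mapHomologicalComplex (ComplexShape.up ℤ) ⋙
      DerivedCategory.Q)
    ((ModuleCat.restrictScalars.{u} χ).mapHomologicalComplex (ComplexShape.up ℤ) ⋙
      (ModuleCat.restrictScalars.{u} φ).mapHomologicalComplex (ComplexShape.up ℤ) ⋙ DerivedCategory.Q)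
    _ _
    (Functor.isoWhiskerRight
      (Functor.mapHomologicalComplexCompIso
        (ModuleCat.restrictScalarsComp'.{u} φ χ (χ.comp φ) rfl).symm (ComplexShape.up ℤ)).symm _ ≪≫
      Functor.associator _ _ _)

variable {φ χ} {K : Dual.D A} {Y : Dual.D B} {Z : Dual.D C}

theorem Represents.comp (hY : Represents φ Y K) (hZ : Represents χ Z Y) :
    Represents (χ.comp φ) Z K := by
  obtain ⟨ε, hε⟩ := hY
  obtain ⟨η, hη⟩ := hZ
  let c := resCompIso φ χ
  refine ⟨c.hom.app Z ≫ (DRing.restrictD φ).map η ≫ ε, fun X => ?_⟩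
  have h := (Iso.homCongr (c.app X).symm (Iso.refl K)).bijective.comp ((hε _).comp (hη X))
  convert h using 1
  funext g
  have := c.hom.naturality g
  dsimp at this
  rw [reassoc_of% this]
  simp [Iso.homCongr]

end Comp

end Groth.Agent.Lib.DMod.Rep
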