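import Groth.Agent.Lib.DMod.RepPoly
import Groth.Prelude.Def_DualSh

/-!
The upper shriek functor is independent of the presentation.
-/

set_option linter.style.haveILetI false

universe u

open CategoryTheory CategoryTheory.Limits Pretriangulated TensorProduct MvPolynomial
open Groth.Agent.Lib.DR
open Groth.Agent.Lib.DMod.Basic Groth.Agent.Lib.DMod.FlatHom Groth.Agent.Lib.DMod.Rep

attribute [local instance] HasDerivedCategory.standard

namespace Groth.Agent.Lib.DMod.ShriekIndep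

variable {R A : Type u} [CommRing R] [CommRing A] [Algebra R A]

/-- A presentation with more variables gives the same upper shriek. -/
theorem represents_extend {n m : ℕ} (hm : 0 < m) (ψ : MvPolynomial (Fin n) R →ₐ[R] A)
    (hψ : Function.Surjective ψ)
    [DRing.HasLBaseChange (algebraMap R (MvPolynomial (Fin n) R))]
    (Rψ : Dual.D (MvPolynomial (Fin n) R) ⥤ Dual.D A) (adj : DRing.restrictD ψ.toRingHom ⊣ Rψ)
    {ι : Type} (s : ι ≃ Fin m ⊕ Fin n) (ψ'' : MvPolynomial ι R →ₐ[R] A)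
    (hs : ∀ j, ψ'' (X (s.symm (Sum.inr j))) = ψ (X j)) (K : Dual.D R) :
    Represents ψ''.toRingHom (Dual2.shriekVia n Rψ K)
      (((L R (MvPolynomial ι R)).obj K)⟦((n + m : ℕ) : ℤ)⟧) := by
  let P := MvPolynomial (Fin n) R
  let P' := MvPolynomial ι R
  let jR : P →ₐ[R] P' := rename (s.symm ∘ Sum.inr)
  letI : Algebra P P' := jR.toRingHom.toAlgebra
  haveI : IsScalarTower R P P' := IsScalarTower.of_algebraMap_eq fun r => (jR.commutes r).symm
  let b : P' ≃ₐ[R] MvPolynomial (Fin m) P := (renameEquiv R s).trans (sumAlgEquiv R (Fin m) (Fin n))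
  have hb : ∀ p : P, b (jR p) = C p := by
    intro p
    have : b.toAlgHom.comp jR = IsScalarTower.toAlgHom R P (MvPolynomial (Fin m) P) := by
      refine MvPolynomial.algHom_ext fun j => ?_
      simp [b, jR, IsScalarTower.toAlgHom]
      erw [rename_X, rename_X]
      simp
      refine (sumAlgEquiv R (Fin m) (Fin n)).symm.injective ?_
      rw [AlgEquiv.symm_apply_apply, sumAlgEquiv_symm_C_X]
    exact AlgHom.congr_fun this p
  let e : P' ≃ₐ[P] MvPolynomial (Fin m) P := AlgEquiv.ofRingEquiv (f := b.toRingEquiv) hb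
  haveI : Module.Flat P P' := Module.Flat.of_linearEquiv e.toLinearEquiv
  choose g hg using fun i : Fin m => hψ (ψ'' (X (s.symm (Sum.inl i))))
  let σ₀ : P' →ₐ[R] P := aeval fun v => Sum.elim g X (s v)
  have hσ₀ : ∀ p : P, σ₀ (jR p) = p := by
    intro p
    have : σ₀.comp jR = AlgHom.id R P := MvPolynomial.algHom_ext fun j => by
      show aeval _ (rename _ (X j)) = X j
      erw [rename_X, aeval_X]
      simp
    exact AlgHom.congr_fun this p
  let σ : P' →ₐ[P] P := { σ₀.toRingHom with commutes' := hσ₀ }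
  have hcomp : ψ.toRingHom.comp σ.toRingHom = ψ''.toRingHom := by
    have : ψ.comp σ₀ = ψ'' := MvPolynomial.algHom_ext fun v => by
      obtain ⟨w, rfl⟩ := s.symm.surjective v
      rcases w with i | j
      · simp [σ₀, hg]
      · simp [σ₀, hs]
    exact congrArg AlgHom.toRingHom this
  let S : Dual.D P := ((L R P).obj K)⟦(n : ℤ)⟧
  have h₁ : Represents ψ.toRingHom (Dual2.shriekVia n Rψ K) S :=
    ((represents_adj adj _).shift (n : ℤ)).of_iso_right
      ((shiftFunctor (Dual.D P) (n : ℤ)).mapIso ((isoLBaseChange R P).app K))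
  have h₂ : Represents σ.toRingHom S (((L P P').obj S)⟦(m : ℤ)⟧) :=
    RepPoly.represents_retraction m hm P' e σ S
  have h₃ := h₂.comp h₁
  rw [hcomp] at h₃
  obtain ⟨e'⟩ := RepPoly.nonempty_L_comp R P P' K
  exact h₃.of_iso_right ((shiftFunctor (Dual.D P') (m : ℤ)).mapIso
    ((((L P P').commShiftIso (n : ℤ)).app ((L R P).obj K)) ≪≫
      (shiftFunctor (Dual.D P') (n : ℤ)).mapIso e') ≪≫
    ((shiftFunctorAdd' (Dual.D P') (n : ℤ) (m : ℤ) ((n + m : ℕ) : ℤ) (by push_cast; rfl)).app _).symm)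

/-- Independence of the presentation. -/
theorem nonempty_iso (n : ℕ) (ψ : MvPolynomial (Fin n) R →ₐ[R] A) (hψ : Function.Surjective ψ)
    [DRing.HasLBaseChange (algebraMap R (MvPolynomial (Fin n) R))]
    (Rψ : Dual.D (MvPolynomial (Fin n) R) ⥤ Dual.D A) (adj : DRing.restrictD ψ.toRingHom ⊣ Rψ)
    (m : ℕ) (ψ' : MvPolynomial (Fin m) R →ₐ[R] A) (hψ' : Function.Surjective ψ')
    [DRing.HasLBaseChange (algebraMap R (MvPolynomial (Fin m) R))]
    (Rψ' : Dual.D (MvPolynomial (Fin m) R) ⥤ Dual.D A) (adj' : DRing.restrictD ψ'.toRingHom ⊣ Rψ')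
    (K : Dual.D R) :
    Nonempty (Dual2.shriekVia n Rψ K ≅ Dual2.shriekVia m Rψ' K) := by
  let ι := Fin n ⊕ Fin m ⊕ Fin 1
  let ψ'' : MvPolynomial ι R →ₐ[R] A :=
    aeval (Sum.elim (fun j => ψ (X j)) (Sum.elim (fun j => ψ' (X j)) fun _ => 0))
  let s : ι ≃ Fin (m + 1) ⊕ Fin n :=
    (Equiv.sumComm (Fin n) (Fin m ⊕ Fin 1)).trans (Equiv.sumCongr finSumFinEquiv (Equiv.refl _))
  let s' : ι ≃ Fin (n + 1) ⊕ Fin m :=
    ((Equiv.sumAssoc (Fin n) (Fin m) (Fin 1)).symm.trans
      (((Equiv.sumComm (Fin n) (Fin m)).sumCongr (Equiv.refl _)).trans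
        (Equiv.sumAssoc (Fin m) (Fin n) (Fin 1)))).trans
      ((Equiv.sumComm _ _).trans (Equiv.sumCongr finSumFinEquiv (Equiv.refl _)))
  have h := represents_extend (Nat.succ_pos m) ψ hψ Rψ adj s ψ'' (fun j => by
    show aeval _ (X _) = _
    rw [aeval_X]
    rfl) K
  have h' := represents_extend (Nat.succ_pos n) ψ' hψ' Rψ' adj' s' ψ'' (fun j => by
    show aeval _ (X _) = _
    rw [aeval_X]
    rfl) K
  rw [show m + (n + 1) = n + (m + 1) by omega] at h'
  exact h.unique h'

end Groth.Agent.Lib.DMod.ShriekIndep
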