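import Groth.Agent.Lib.DMod.Frob
import Groth.Agent.Lib.DMod.ShriekIndep
import Mathlib.RingTheory.TensorProduct.MvPolynomial

/-!
For a finite algebra the upper shriek is the right adjoint of restriction.
-/

set_option linter.style.haveILetI false

universe u

open CategoryTheory CategoryTheory.Limits Pretriangulated TensorProduct MvPolynomial
open Groth.Agent.Lib.DR
open Groth.Agent.Lib.DMod.Basic Groth.Agent.Lib.DMod.FlatHom Groth.Agent.Lib.DMod.Rep

attribute [local instance] HasDerivedCategory.standard Algebra.TensorProduct.rightAlgebra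

namespace Groth.Agent.Lib.DMod.ShriekFinite

/-- The upper shriek of a finite algebra. -/
theorem nonempty_iso {R A : Type u} [CommRing R] [CommRing A] [Algebra R A] [Module.Finite R A]
    (n : ℕ) (ψ : MvPolynomial (Fin n) R →ₐ[R] A) (hψ : Function.Surjective ψ)
    [DRing.HasLBaseChange (algebraMap R (MvPolynomial (Fin n) R))]
    (Rψ : Dual.D (MvPolynomial (Fin n) R) ⥤ Dual.D A) (adj : DRing.restrictD ψ.toRingHom ⊣ Rψ)
    (R' : Dual.D R ⥤ Dual.D A) (adjR : DRing.restrictD (algebraMap R A) ⊣ R') (K : Dual.D R) :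
    Nonempty (Dual2.shriekVia n Rψ K ≅ R'.obj K) := by
  -- one more variable
  let ι := Fin 1 ⊕ Fin n
  let ψ'' : MvPolynomial ι R →ₐ[R] A := aeval (Sum.elim (fun _ => 0) fun j => ψ (X j))
  have h : Represents ψ''.toRingHom (Dual2.shriekVia n Rψ K)
      (((L R (MvPolynomial ι R)).obj K)⟦((n + 1 : ℕ) : ℤ)⟧) :=
    ShriekIndep.represents_extend one_pos ψ hψ Rψ adj (Equiv.refl ι) ψ'' (fun j => by
      show aeval _ (X _) = _
      rw [aeval_X]
      rfl) K
  -- a finite free cover with a form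
  obtain ⟨s, hs⟩ := Module.Finite.fg_top (R := R) (M := A)
  obtain ⟨Q, _, _, _, _, χ, τ, hτ, hrange⟩ := Frob.exists_cover (R := R) s
  have hχ : Function.Surjective χ := fun a => by
    have : a ∈ Submodule.span R (s : Set A) := hs ▸ Submodule.mem_top
    exact (Submodule.span_le (p := Subalgebra.toSubmodule χ.range)).2 hrange this
  let P := MvPolynomial ι R
  let Q' := Q ⊗[R] P
  let a : Q' ≃ₐ[Q] MvPolynomial ι Q := algebraTensorAlgEquiv R Q
  let e : Q' ≃ₐ[Q] MvPolynomial (Fin (1 + n)) Q := a.trans (renameEquiv Q finSumFinEquiv)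
  haveI : Module.Flat Q Q' := Module.Flat.of_linearEquiv a.toLinearEquiv
  haveI : Module.Finite P Q' := (Frob.finite_projective_bc (Q := Q) P).1
  haveI : Module.Projective P Q' := (Frob.finite_projective_bc (Q := Q) P).2
  haveI : Module.Flat R Q' := Module.Flat.trans R Q Q'
  choose g hg using fun v : ι => hχ (ψ'' (X v))
  let σ : Q' →ₐ[Q] Q := (aeval g).comp a.toAlgHom
  have hcomp : χ.toRingHom.comp (σ.toRingHom.comp (algebraMap P Q')) = ψ''.toRingHom := by
    have h1 : (χ.comp (σ.restrictScalars R)).comp (IsScalarTower.toAlgHom R P Q') = ψ'' := by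
      refine MvPolynomial.algHom_ext fun v => ?_
      show χ (aeval g (a ((1 : Q) ⊗ₜ[R] (X v : P)))) = ψ'' (X v)
      have hX : a ((1 : Q) ⊗ₜ[R] (X v : P)) = X v := by
        rw [← AlgEquiv.eq_symm_apply, algebraTensorAlgEquiv_symm_X]
      rw [hX, aeval_X, hg]
    exact congrArg AlgHom.toRingHom h1
  let W := (L R Q).obj K
  let S := (L R P).obj K
  obtain ⟨Z, ε, hε⟩ := Rep.exists_isRep χ.toRingHom W
  have hZ : Represents χ.toRingHom Z W := ⟨ε, hε⟩
  -- the chain through `R`
  have h₁ : Represents (algebraMap R Q) W K := Frob.represents τ hτ K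
  have h₂ := h₁.comp hZ
  rw [show χ.toRingHom.comp (algebraMap R Q) = algebraMap R A from χ.comp_algebraMap] at h₂
  obtain ⟨e₂⟩ := h₂.unique (represents_adj adjR K)
  -- the chain through `P`
  have hσ : Represents σ.toRingHom W (((L Q Q').obj W)⟦((1 + n : ℕ) : ℤ)⟧) :=
    RepPoly.represents_retraction (1 + n) (by omega) Q' e σ W
  have hP : Represents (algebraMap P Q') ((L P Q').obj S) S :=
    Frob.represents (R := P) (Q := Q') (Frob.formBC τ P) (Frob.isForm_formBC τ P hτ) S
  obtain ⟨c₁⟩ := RepPoly.nonempty_L_comp R Q Q' K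
  obtain ⟨c₂⟩ := RepPoly.nonempty_L_comp R P Q' K
  have h₃ : Represents (algebraMap P Q') (((L Q Q').obj W)⟦((1 + n : ℕ) : ℤ)⟧)
      (S⟦((1 + n : ℕ) : ℤ)⟧) :=
    (hP.of_iso_left (c₁ ≪≫ c₂.symm)).shift _
  have h₄ := (h₃.comp hσ).comp hZ
  rw [hcomp, add_comm 1 n] at h₄
  obtain ⟨e₁⟩ := h.unique h₄
  exact ⟨e₁ ≪≫ e₂⟩

end Groth.Agent.Lib.DMod.ShriekFinite
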