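import Groth.Agent.Lib.DMod.ShriekSelf
import Groth.Agent.Lib.DMod.ShriekFinite
import Groth.Agent.S6943
import Groth.Prelude.Def_DualSh

/-!
The upper shriek pulled back along a section, and the relative dualizing complex of a flat algebra.
-/

set_option linter.style.haveILetI false

universe u

open CategoryTheory CategoryTheory.Limits Pretriangulated
open Groth.Agent.Lib.DR
open Groth.Agent.Lib.DMod Groth.Agent.Lib.DMod.Basic Groth.Agent.Lib.DMod.Rep
open scoped TensorProduct

attribute [local instance] HasDerivedCategory.standard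

namespace Groth.Agent.Lib.DMod.ShriekSection

section Equiv

variable {B C : Type u} [CommRing B] [CommRing C]

/-- Restriction along the identity. -/
noncomputable def resId : DRing.restrictD (RingHom.id B) ≅ 𝟭 (Dual.D B) :=
  Localization.liftNatIso (DerivedCategory.Q (C := ModuleCat.{u} B))
    (HomologicalComplex.quasiIso (ModuleCat.{u} B) (ComplexShape.up ℤ))
    ((ModuleCat.restrictScalars.{u} (RingHom.id B)).mapHomologicalComplex (ComplexShape.up ℤ) ⋙
      DerivedCategory.Q)
    DerivedCategory.Q _ _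
    (Functor.isoWhiskerRight
        (NatIso.mapHomologicalComplex (ModuleCat.restrictScalarsId' (RingHom.id B) rfl) (ComplexShape.up ℤ) ≪≫
          Functor.mapHomologicalComplexIdIso _ _) DerivedCategory.Q ≪≫ Functor.leftUnitor _)

/-- Restriction along an isomorphism is an equivalence. -/
noncomputable def resEquiv (σ : B →+* C) (τ : C →+* B) (hστ : σ.comp τ = RingHom.id C)
    (hτσ : τ.comp σ = RingHom.id B) : Dual.D C ≌ Dual.D B :=
  CategoryTheory.Equivalence.mk (DRing.restrictD σ) (DRing.restrictD τ)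
    ((resCompIso τ σ).symm ≪≫ eqToIso (by rw [hστ]) ≪≫ resId).symm
    ((resCompIso σ τ).symm ≪≫ eqToIso (by rw [hτσ]) ≪≫ resId)

theorem represents_equiv (σ : B →+* C) (τ : C →+* B) (hστ : σ.comp τ = RingHom.id C)
    (hτσ : τ.comp σ = RingHom.id B) (Y : Dual.D C) : Represents σ Y ((DRing.restrictD σ).obj Y) := by
  let E := resEquiv σ τ hστ hτσ
  refine ⟨𝟙 _, fun X => ?_⟩
  have h : Function.Bijective fun g : X ⟶ Y => E.functor.map g :=
    ⟨fun _ _ h => E.functor.map_injective h, fun g => E.functor.map_surjective g⟩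
  exact FlatHom.bij_congr h fun g => (Category.comp_id _).symm

theorem represents_id (K : Dual.D B) : Represents (RingHom.id B) K K :=
  (represents_equiv (RingHom.id B) (RingHom.id B) (RingHom.id_comp _) (RingHom.id_comp _) K).of_iso_right
    (resId.app K)

/-- Derived base change along an isomorphism. -/
theorem nonempty_lbc_iso (σ : B →+* C) (τ : C →+* B) (hστ : σ.comp τ = RingHom.id C)
    (hτσ : τ.comp σ = RingHom.id B) [DRing.HasLBaseChange σ] (X : Dual.D B) :
    Nonempty ((DRing.LBaseChange σ).obj X ≅ (DRing.restrictD τ).obj X) :=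
  ⟨((Derived.derivedAdj (ModuleCat.extendRestrictScalarsAdj.{u} σ)).leftAdjointUniq
    (resEquiv σ τ hστ hτσ).symm.toAdjunction).app X⟩

/-- Two coprojections exchanged by an involution fixed by `μ`. -/
theorem nonempty_swap {A T : Type u} [CommRing A] [CommRing T] (σ : B →+* B)
    (hσ : σ.comp σ = RingHom.id B) (μ : B →+* T) (hμ : μ.comp σ = μ) (iR iL : A →+* B)
    (h : σ.comp iR = iL) [DRing.HasLBaseChange iR] [DRing.HasLBaseChange iL]
    {Rμ : Dual.D B ⥤ Dual.D T} (adj : DRing.restrictD μ ⊣ Rμ) (K : Dual.D A) :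
    Nonempty (Rμ.obj ((DRing.LBaseChange iL).obj K) ≅ Rμ.obj ((DRing.LBaseChange iR).obj K)) := by
  subst h
  haveI : DRing.HasLBaseChange σ := BaseChangeU.hasLBaseChange σ
  let X := (DRing.LBaseChange iR).obj K
  obtain ⟨e₁⟩ := BaseChangeU.nonempty_LBaseChange_comp iR σ K
  obtain ⟨e₂⟩ := nonempty_lbc_iso σ σ hσ hσ X
  let E := resEquiv σ σ hσ hσ
  have h₁ : Represents σ ((DRing.restrictD σ).obj X) X :=
    (represents_equiv σ σ hσ hσ ((DRing.restrictD σ).obj X)).of_iso_right (E.unitIso.app X).symm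
  have h₂ := h₁.comp (represents_adj adj ((DRing.restrictD σ).obj X))
  rw [hμ] at h₂
  obtain ⟨e₃⟩ := h₂.unique (represents_adj adj X)
  exact ⟨Rμ.mapIso (e₁.symm ≪≫ e₂) ≪≫ e₃⟩

end Equiv

section Pullback

variable {R R' A : Type u} [CommRing R] [CommRing R'] [CommRing A]
  [Algebra R R'] [Algebra R A] [Module.Flat R A] [Algebra.FinitePresentation R A] {n : ℕ}
  {ψ : MvPolynomial (Fin n) R →ₐ[R] A}
  [DRing.HasLBaseChange (algebraMap R (MvPolynomial (Fin n) R))]
  {Rψ : Dual.D (MvPolynomial (Fin n) R) ⥤ Dual.D A}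

attribute [local instance] Algebra.TensorProduct.rightAlgebra

/-- The upper shriek pulled back along a section of the base change is the base change. -/
theorem nonempty_section_iso (hψ : Function.Surjective ψ) (adj : DRing.restrictD ψ.toRingHom ⊣ Rψ)
    (ν : R' ⊗[R] A →ₐ[R'] R') {Rν : Dual.D (R' ⊗[R] A) ⥤ Dual.D R'}
    (adjν : DRing.restrictD ν.toRingHom ⊣ Rν)
    [DRing.HasLBaseChange (algebraMap A (R' ⊗[R] A))] [DRing.HasLBaseChange (algebraMap R R')]
    (K : Dual.D R) :
    Nonempty (Rν.obj ((DRing.LBaseChange (algebraMap A (R' ⊗[R] A))).obj (Dual2.shriekVia n Rψ K)) ≅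
      (DRing.LBaseChange (algebraMap R R')).obj K) := by
  haveI : Algebra.FiniteType R A := Algebra.FiniteType.iff_quotient_mvPolynomial''.2 ⟨n, ψ, hψ⟩
  obtain ⟨m, ψ', hψ'⟩ := Algebra.FiniteType.iff_quotient_mvPolynomial''.1
    (inferInstance : Algebra.FiniteType R' (R' ⊗[R] A))
  haveI : DRing.HasLBaseChange (algebraMap R' (MvPolynomial (Fin m) R')) := BaseChangeU.hasLBaseChange _
  haveI := ShriekBC.hasRHomRel ψ'.toRingHom
  haveI := ShriekBC.hasRHomRel (algebraMap R' R')
  let Rψ' := DTen.RHomRel ψ'.toRingHom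
  let adj' : DRing.restrictD ψ'.toRingHom ⊣ Rψ' := DTen.relAdj _
  obtain ⟨e⟩ := ShriekBC.nonempty_baseChange_iso n ψ hψ Rψ adj m ψ' hψ' Rψ' adj' K
  let T := (DRing.LBaseChange (algebraMap R R')).obj K
  let Y := (DRing.LBaseChange (algebraMap R' (MvPolynomial (Fin m) R'))).obj T
  -- the composite presentation
  let χ : MvPolynomial (Fin m) R' →ₐ[R'] R' := ν.comp ψ'
  have hχ : Function.Surjective χ := fun r => ⟨MvPolynomial.C r, χ.commutes r⟩
  let adjχ : DRing.restrictD χ.toRingHom ⊣ Rψ' ⋙ Rν :=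
    (adjν.comp adj').ofNatIsoLeft (resCompIso ψ'.toRingHom ν.toRingHom).symm
  obtain ⟨ef⟩ := ShriekFinite.nonempty_iso (R := R') (A := R') m χ hχ (Rψ' ⋙ Rν) adjχ
    (DTen.RHomRel (algebraMap R' R')) (DTen.relAdj _) T
  obtain ⟨eid⟩ := (represents_adj (DTen.relAdj (algebraMap R' R')) T).unique
    (represents_id (B := R') T)
  obtain ⟨es⟩ := ((represents_adj adjν (Rψ'.obj Y)).shift (m : ℤ)).unique
    (represents_adj adjν ((Rψ'.obj Y)⟦(m : ℤ)⟧))
  exact ⟨Rν.mapIso e ≪≫ es.symm ≪≫ ef ≪≫ eid⟩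

end Pullback

section Main

variable {R A : Type u} [CommRing R] [CommRing A] [IsNoetherianRing R] [IsNoetherianRing A] [Algebra R A]
  {n : ℕ} {ψ : MvPolynomial (Fin n) R →ₐ[R] A}
  [DRing.HasLBaseChange (algebraMap R (MvPolynomial (Fin n) R))]
  {Rψ : Dual.D (MvPolynomial (Fin n) R) ⥤ Dual.D A}

/-- The upper shriek of the base is relatively dualizing. -/
theorem isRelDualizing [Module.Flat R A] (hψ : Function.Surjective ψ)
    (adj : DRing.restrictD ψ.toRingHom ⊣ Rψ)
    [DRing.HasLBaseChange (Algebra.TensorProduct.includeLeftRingHom : A →+* A ⊗[R] A)]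
    {Rμ : Dual.D (A ⊗[R] A) ⥤ Dual.D A}
    (adjμ : DRing.restrictD (Algebra.TensorProduct.lmul' R (S := A)).toRingHom ⊣ Rμ) :
    Dual2.IsRelDualizing R A Rμ (Dual2.shriekVia n Rψ (Dual.inD R R)) := by
  haveI := ShriekKT.finitePresentation ψ hψ
  obtain ⟨a, b, hab⟩ := ShriekSelf.exists_bounds hψ adj
  have hfin := ShriekSelf.finite_HD hψ adj
  refine ⟨⟨((Groth.Agent.S6943.result A (fun I hI => Module.finitePresentation_of_finite A I)
    _ ⟨b, fun i hi => hab i (Or.inr hi)⟩ 0).2).2 fun i => have := hfin i;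
      Module.finitePresentation_of_finite A _, ShriekSelf.hasFiniteTorDimCx hψ adj⟩, ?_⟩
  let ω := Dual2.shriekVia n Rψ (Dual.inD R R)
  let iR : A →+* A ⊗[R] A := (Algebra.TensorProduct.includeRight : A →ₐ[R] A ⊗[R] A).toRingHom
  let μ : A ⊗[R] A →+* A := (Algebra.TensorProduct.lmul' R (S := A)).toRingHom
  let σ : A ⊗[R] A →+* A ⊗[R] A := (Algebra.TensorProduct.comm R A A).toAlgHom.toRingHom
  have hσ : σ.comp σ = RingHom.id _ := RingHom.ext fun z => by
    induction z using TensorProduct.induction_on with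
    | zero => simp
    | add x y hx hy => rw [map_add, map_add, hx, hy]
    | tmul x y => rfl
  have hμ : μ.comp σ = μ := RingHom.ext fun z => by
    induction z using TensorProduct.induction_on with
    | zero => simp
    | add x y hx hy => rw [map_add, map_add, hx, hy]
    | tmul x y => exact mul_comm y x
  haveI : DRing.HasLBaseChange iR := BaseChangeU.hasLBaseChange iR
  obtain ⟨e₁⟩ := nonempty_swap σ hσ μ hμ iR Algebra.TensorProduct.includeLeftRingHom
    (RingHom.ext fun x => rfl) adjμ ω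
  haveI : DRing.HasLBaseChange (algebraMap R A) := BaseChangeU.hasLBaseChange _
  let ν : A ⊗[R] A →ₐ[A] A :=
    { μ with commutes' := fun x => show x * 1 = x from mul_one x }
  have key : ∀ (R' : Type u) (_ : CommRing R') (_ : Algebra R R')
      (ν : R' ⊗[R] A →ₐ[R'] R') (Rν : Dual.D (R' ⊗[R] A) ⥤ Dual.D R')
      (_ : DRing.restrictD ν.toRingHom ⊣ Rν)
      (_ : DRing.HasLBaseChange (Algebra.TensorProduct.includeRight : A →ₐ[R] R' ⊗[R] A).toRingHom)
      (_ : DRing.HasLBaseChange (algebraMap R R')),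
      Nonempty (Rν.obj ((DRing.LBaseChange
        (Algebra.TensorProduct.includeRight : A →ₐ[R] R' ⊗[R] A).toRingHom).obj ω) ≅ Dual.inD R' R') := by
    intro R' _ _ ν Rν adjν hI hρ
    letI : Algebra A (R' ⊗[R] A) := Algebra.TensorProduct.rightAlgebra
    haveI : DRing.HasLBaseChange (algebraMap A (R' ⊗[R] A)) := hI
    obtain ⟨e⟩ := nonempty_section_iso hψ adj ν adjν (Dual.inD R R)
    obtain ⟨e'⟩ := ShriekSelf.nonempty_lbc_inD_self (A := R) (B := R')
    exact ⟨e ≪≫ e'⟩
  obtain ⟨e₂⟩ := key A inferInstance inferInstance ν Rμ adjμ inferInstance inferInstance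
  exact ⟨e₁ ≪≫ e₂⟩

end Main

end Groth.Agent.Lib.DMod.ShriekSection
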