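import Groth.Agent.Lib.DMod.RepPrincipal
import Groth.Agent.Lib.Pure.UI
import Mathlib.RingTheory.Polynomial.Ideal
import Mathlib.Algebra.MvPolynomial.Equiv

/-!
Retractions of polynomial algebras: `T` represents `Hom(res -, (T ⊗ C[x₁..xₘ])[m])`.
-/

set_option linter.style.haveILetI false

universe u

open CategoryTheory CategoryTheory.Limits Pretriangulated TensorProduct
open Groth.Agent.Lib.DR
open Groth.Agent.Lib.DMod.Basic Groth.Agent.Lib.DMod.FlatHom Groth.Agent.Lib.DMod.Rep

attribute [local instance] HasDerivedCategory.standard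

namespace Groth.Agent.Lib.DMod.RepPoly

section Principal

variable {C P Q : Type u} [CommRing C] [CommRing P] [CommRing Q] [Algebra C P] [Algebra C Q]
  (σ : P →ₐ[C] Q)

/-- `σ ⊗ M`. -/
noncomputable def quotTensor (M : ModuleCat.{u} C) :
    ModuleCat.of P (P ⊗[C] M) ⟶
      (ModuleCat.restrictScalars.{u} σ.toRingHom).obj (ModuleCat.of Q (Q ⊗[C] M)) :=
  ModuleCat.ofHom (Y := (ModuleCat.restrictScalars.{u} σ.toRingHom).obj (ModuleCat.of Q (Q ⊗[C] M)))
    { toFun := σ.toLinearMap.rTensor M
      map_add' := map_add _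
      map_smul' := fun b x => by
        show σ.toLinearMap.rTensor M (b • x) = σ b • σ.toLinearMap.rTensor M x
        induction x using TensorProduct.induction_on with
        | zero => simp
        | tmul p m => simp [TensorProduct.smul_tmul']
        | add u v hu hv => simp only [smul_add, map_add, hu, hv] }

/-- Base change to `P` then to the quotient, on a module. -/
noncomputable def quotMap (M : ModuleCat.{u} C) :
    (E C P).obj M ⟶ (ModuleCat.restrictScalars.{u} σ.toRingHom).obj ((E C Q).obj M) :=
  (FlatBC.extEquiv C P M).toModuleIso.hom ≫ quotTensor σ M ≫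
    (ModuleCat.restrictScalars.{u} σ.toRingHom).map (FlatBC.extEquiv C Q M).toModuleIso.inv

theorem quotMap_apply (M : ModuleCat.{u} C) (z : (E C P).obj M) :
    (quotMap σ M).hom z =
      (FlatBC.extEquiv C Q M).symm (σ.toLinearMap.rTensor M (FlatBC.extEquiv C P M z)) := rfl

/-- Base change to `P` then to the quotient. -/
noncomputable def quotNat : E C P ⟶ E C Q ⋙ ModuleCat.restrictScalars.{u} σ.toRingHom where
  app := quotMap σ
  naturality M N g := by
    refine ModuleCat.ExtendScalars.hom_ext fun m => ?_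
    show (FlatBC.extEquiv C Q N).symm (σ (1 : P) ⊗ₜ[C] g.hom m) =
      ((E C Q).map g).hom ((FlatBC.extEquiv C Q M).symm (σ (1 : P) ⊗ₜ[C] m))
    rw [map_one]
    rfl

variable [Module.Flat C Q]

theorem injective_mul_rTensor {f : P} (hσ : Function.Surjective σ)
    (hker : RingHom.ker σ.toRingHom = Ideal.span {f}) (hreg : ∀ x : P, f * x = 0 → x = 0)
    (M : Type u) [AddCommGroup M] [Module C M] :
    Function.Exact ((LinearMap.mulLeft C f).rTensor M) (σ.toLinearMap.rTensor M) ∧
      Function.Injective ((LinearMap.mulLeft C f).rTensor M) := by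
  have hex : Function.Exact (LinearMap.mulLeft C f) σ.toLinearMap := fun x => by
    constructor
    · intro hx
      have hx' : x ∈ RingHom.ker σ.toRingHom := hx
      obtain ⟨y, rfl⟩ := Ideal.mem_span_singleton'.1 (hker ▸ hx')
      exact ⟨y, mul_comm f y⟩
    · rintro ⟨y, rfl⟩
      show σ (f * y) = 0
      rw [map_mul, show σ f = 0 from RingHom.mem_ker.1
        (show f ∈ RingHom.ker σ.toRingHom from hker ▸ Ideal.mem_span_singleton_self f), zero_mul]
  have hf : Function.Injective (LinearMap.mulLeft C f) := fun x y h =>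
    sub_eq_zero.1 (hreg _ (by rw [mul_sub]; exact sub_eq_zero.2 h))
  exact ⟨rTensor_exact M hex hσ, Pure.UI.of_flat_right _ σ.toLinearMap hf hex hσ M⟩

theorem smul_tensor_eq (f : P) (M : Type u) [AddCommGroup M] [Module C M] (z : P ⊗[C] M) :
    f • z = (LinearMap.mulLeft C f).rTensor M z := by
  induction z using TensorProduct.induction_on with
  | zero => simp
  | tmul p m => simp [TensorProduct.smul_tmul']
  | add u v hu hv => simp only [smul_add, map_add, hu, hv]

variable [Module.Flat C P]

/-- The quotient by a regular element, on derived base changes. -/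
theorem represents_principal {f : P} (hσ : Function.Surjective σ)
    (hker : RingHom.ker σ.toRingHom = Ideal.span {f}) (hreg : ∀ x : P, f * x = 0 → x = 0)
    (T : Dual.D C) :
    Represents σ.toRingHom ((L C Q).obj T) (((L C P).obj T)⟦(1 : ℤ)⟧) := by
  obtain ⟨G, ⟨eT⟩⟩ : ∃ G : DRing.Cx C, Nonempty (DerivedCategory.Q.obj G ≅ T) :=
    ⟨_, ⟨DerivedCategory.Q.objObjPreimageIso T⟩⟩
  let GP : DRing.Cx P := ((E C P).mapHomologicalComplex (.up ℤ)).obj G
  let GQ : DRing.Cx Q := ((E C Q).mapHomologicalComplex (.up ℤ)).obj G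
  let F := ModuleCat.restrictScalars.{u} σ.toRingHom
  let π : GP ⟶ (F.mapHomologicalComplex (.up ℤ)).obj GQ :=
    { f := fun i => (quotNat σ).app (G.X i)
      comm' := fun i j _ => ((quotNat σ).naturality (G.d i j)).symm }
  have hπf : (f • 𝟙 GP) ≫ π = 0 := by
    refine HomologicalComplex.hom_ext _ _ fun i => ModuleCat.hom_ext (LinearMap.ext fun z => ?_)
    refine (map_smul ((quotNat σ).app (G.X i)).hom f (show (E C P).obj (G.X i) from z)).trans ?_
    show σ f • (show (E C Q).obj (G.X i) from ((quotNat σ).app (G.X i)).hom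
      (show (E C P).obj (G.X i) from z)) = 0
    rw [show σ f = 0 from RingHom.mem_ker.1
      (show f ∈ RingHom.ker σ.toRingHom from hker ▸ Ideal.mem_span_singleton_self f)]
    exact zero_smul Q _
  let S := ShortComplex.mk (f • 𝟙 GP) π hπf
  have hS : S.ShortExact := HomologicalComplex.shortExact_of_degreewise_shortExact S fun i => by
    obtain ⟨hex, hinj⟩ := injective_mul_rTensor σ hσ hker hreg (G.X i)
    let eP := FlatBC.extEquiv C P (G.X i)
    let eQ := FlatBC.extEquiv C Q (G.X i)
    refine
      { exact := (ShortComplex.ShortExact.moduleCat_exact_iff_function_exact _).2 fun z => ?_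
        mono_f := (ModuleCat.mono_iff_injective _).2 fun x y h => ?_
        epi_g := (ModuleCat.epi_iff_surjective _).2 fun y => ?_ }
    · show eQ.symm (σ.toLinearMap.rTensor _ (eP z)) = (0 : (E C Q).obj (G.X i)) ↔ ∃ w, f • w = z
      rw [eQ.symm.map_eq_zero_iff, hex (eP z)]
      constructor
      · rintro ⟨w, hw⟩
        refine ⟨eP.symm w, eP.injective ((map_smul eP f (eP.symm w)).trans ?_)⟩
        rw [LinearEquiv.apply_symm_apply, smul_tensor_eq, hw]
      · rintro ⟨w, rfl⟩
        exact ⟨eP w, (smul_tensor_eq f _ (eP w)).symm.trans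
          (map_smul eP f (show (E C P).obj (G.X i) from w)).symm⟩
    · refine eP.injective (hinj ?_)
      exact (smul_tensor_eq f _ (eP x)).symm.trans (((map_smul eP f (show (E C P).obj (G.X i) from x)).symm.trans
        ((congrArg eP h).trans (map_smul eP f (show (E C P).obj (G.X i) from y)))).trans
          (smul_tensor_eq f _ (eP y)))
    · obtain ⟨x, hx⟩ := LinearMap.rTensor_surjective (G.X i) (g := σ.toLinearMap) hσ
        (eQ (show (E C Q).obj (G.X i) from y))
      refine ⟨eP.symm x, ?_⟩
      show eQ.symm (σ.toLinearMap.rTensor _ (eP (eP.symm x))) = (show (E C Q).obj (G.X i) from y)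
      rw [LinearEquiv.apply_symm_apply, hx, LinearEquiv.symm_apply_apply]
  let X := DerivedCategory.Q.obj GP
  let Y := DerivedCategory.Q.obj GQ
  let c : DerivedCategory.Q.obj ((F.mapHomologicalComplex (.up ℤ)).obj GQ) ≅
      (DRing.restrictD σ.toRingHom).obj Y := (F.mapDerivedCategoryFactors.app GQ).symm
  let T' := DerivedCategory.triangleOfSES hS
  have hf : DerivedCategory.Q.map (f • 𝟙 GP) = f • 𝟙 X :=
    (DerivedCategory.Q.map_smul _ _).trans (congrArg _ (DerivedCategory.Q.map_id _))
  have hT : Triangle.mk (f • 𝟙 X) (T'.mor₂ ≫ c.hom) (c.inv ≫ T'.mor₃) ∈ distTriang (Dual.D P) := by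
    refine isomorphic_distinguished _ (DerivedCategory.triangleOfSES_distinguished hS) _
      (Triangle.isoMk _ _ (Iso.refl _) (Iso.refl _) c.symm ?_ ?_ ?_)
    · exact (Category.comp_id _).trans (hf.symm.trans (Category.id_comp _).symm)
    · exact (Category.assoc _ _ _).trans ((congrArg _ c.hom_inv_id).trans
        ((Category.comp_id _).trans (Category.id_comp _).symm))
    · exact (congrArg _ ((shiftFunctor (Dual.D P) (1 : ℤ)).map_id _)).trans (Category.comp_id _)
  let eX : (L C P).obj T ≅ X := (L C P).mapIso eT.symm ≪≫ (E C P).mapDerivedCategoryFactors.app G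
  let eY : (L C Q).obj T ≅ Y := (L C Q).mapIso eT.symm ≪≫ (E C Q).mapDerivedCategoryFactors.app G
  have hinj : ∀ (i : ℤ) (x : Dual.HD P X i), f • x = 0 → x = 0 := fun i x hx => by
    let e : P ⊗[C] Dual.HD C T i ≃ₗ[P] Dual.HD P X i := (HDL P T i).trans (HDCongr eX i)
    obtain ⟨w, rfl⟩ := e.surjective x
    rw [← map_smul, e.map_eq_zero_iff, smul_tensor_eq] at hx
    rw [(injective_mul_rTensor σ hσ hker hreg (Dual.HD C T i)).2 (hx.trans (map_zero _).symm), map_zero]
  have h : Represents σ.toRingHom Y (X⟦(1 : ℤ)⟧) :=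
    ⟨_, RepPrincipal.isRep_δ hσ hker hreg hT hinj⟩
  exact (h.of_iso_left eY).of_iso_right ((shiftFunctor (Dual.D P) (1 : ℤ)).mapIso eX.symm)

end Principal

/-- Base change along the identity. -/
theorem nonempty_L_self (C : Type u) [CommRing C] (T : Dual.D C) : Nonempty ((L C C).obj T ≅ T) := by
  obtain ⟨G, ⟨eT⟩⟩ : ∃ G : DRing.Cx C, Nonempty (DerivedCategory.Q.obj G ≅ T) :=
    ⟨_, ⟨DerivedCategory.Q.objObjPreimageIso T⟩⟩
  exact ⟨(L C C).mapIso eT.symm ≪≫ (E C C).mapDerivedCategoryFactors.app G ≪≫
    DerivedCategory.Q.mapIso (HomologicalComplex.Hom.isoOfComponents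
      (fun i => (ModuleCat.extendScalarsId C).app (G.X i))
      (fun i j _ => ((ModuleCat.extendScalarsId C).hom.naturality (G.d i j)).symm)) ≪≫ eT⟩

/-- Transitivity of flat base change. -/
theorem nonempty_L_comp (C D P : Type u) [CommRing C] [CommRing D] [CommRing P] [Algebra C D]
    [Algebra D P] [Algebra C P] [IsScalarTower C D P] [Module.Flat C D] [Module.Flat D P]
    [Module.Flat C P] (T : Dual.D C) :
    Nonempty ((L D P).obj ((L C D).obj T) ≅ (L C P).obj T) := by
  haveI := BaseChangeU.hasLBaseChange (algebraMap C D)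
  haveI := BaseChangeU.hasLBaseChange (algebraMap D P)
  haveI := BaseChangeU.hasLBaseChange (algebraMap C P)
  haveI := BaseChangeU.hasLBaseChange ((algebraMap D P).comp (algebraMap C D))
  have key : ∀ (g : C →+* P) [DRing.HasLBaseChange g], g = algebraMap C P →
      Nonempty ((DRing.LBaseChange g).obj T ≅ (L C P).obj T) := by
    intro g _ hg
    subst hg
    exact ⟨(isoLBaseChange C P).app T⟩
  obtain ⟨e₁⟩ := BaseChangeU.nonempty_LBaseChange_comp (algebraMap C D) (algebraMap D P) T
  obtain ⟨e₂⟩ := key _ (IsScalarTower.algebraMap_eq C D P).symm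
  exact ⟨((isoLBaseChange D P).app _).symm ≪≫
    (DRing.LBaseChange (algebraMap D P)).mapIso ((isoLBaseChange C D).app T).symm ≪≫ e₁ ≪≫ e₂⟩

/-- A retraction of a polynomial algebra in one variable. -/
theorem represents_step {D P : Type u} [CommRing D] [CommRing P] [Algebra D P] [Module.Flat D P]
    (a : P ≃ₐ[D] Polynomial D) (τ : P →ₐ[D] D) (S : Dual.D D) :
    Represents τ.toRingHom S (((L D P).obj S)⟦(1 : ℤ)⟧) := by
  let g := τ (a.symm Polynomial.X)
  have hτ : ∀ q, τ (a.symm q) = Polynomial.eval g q := fun q => by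
    have : τ.comp a.symm.toAlgHom = Polynomial.aeval g := Polynomial.algHom_ext (by simp [g])
    exact (AlgHom.congr_fun this q).trans (by rw [Polynomial.coe_aeval_eq_eval])
  have hsurj : Function.Surjective τ := fun d => ⟨algebraMap D P d, τ.commutes d⟩
  let f : P := a.symm (Polynomial.X - Polynomial.C g)
  have hker : RingHom.ker τ.toRingHom = Ideal.span {f} := by
    ext p
    obtain ⟨q, rfl⟩ := a.symm.surjective p
    rw [RingHom.mem_ker, Ideal.mem_span_singleton]
    show τ (a.symm q) = 0 ↔ _
    rw [hτ, map_dvd_iff, Polynomial.dvd_iff_isRoot]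
    rfl
  have hreg : ∀ x : P, f * x = 0 → x = 0 := fun x hx => by
    have h1 : (Polynomial.X - Polynomial.C g) * a x = 0 := by
      have := congrArg a hx
      rwa [map_mul, map_zero, AlgEquiv.apply_symm_apply] at this
    exact a.injective (((Polynomial.monic_X_sub_C g).mul_right_eq_zero_iff.1 h1).trans (map_zero a).symm)
  obtain ⟨e⟩ := nonempty_L_self D S
  exact (represents_principal τ hsurj hker hreg S).of_iso_left e.symm

/-- A retraction of a polynomial algebra. -/
theorem represents_retraction {C : Type u} [CommRing C] :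
    ∀ (m : ℕ), 0 < m → ∀ (P : Type u) [CommRing P] [Algebra C P] [Module.Flat C P]
      (_ : P ≃ₐ[C] MvPolynomial (Fin m) C) (σ : P →ₐ[C] C) (T : Dual.D C),
      Represents σ.toRingHom T (((L C P).obj T)⟦(m : ℤ)⟧) := by
  intro m
  induction m with
  | zero => exact fun h => absurd h (lt_irrefl 0)
  | succ m ih =>
    intro _ P _ _ _ e σ T
    rcases Nat.eq_zero_or_pos m with rfl | hm
    · exact represents_step (e.trans ((MvPolynomial.finSuccEquiv C 0).trans
        (Polynomial.mapAlgEquiv (MvPolynomial.isEmptyAlgEquiv C (Fin 0))))) σ T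
    · let D := MvPolynomial (Fin m) C
      let b : P ≃ₐ[C] Polynomial D := e.trans (MvPolynomial.finSuccEquiv C m)
      let ι : D →ₐ[C] P := b.symm.toAlgHom.comp (IsScalarTower.toAlgHom C D (Polynomial D))
      letI : Algebra D P := ι.toRingHom.toAlgebra
      haveI : IsScalarTower C D P := IsScalarTower.of_algebraMap_eq fun c => (ι.commutes c).symm
      let a : P ≃ₐ[D] Polynomial D := AlgEquiv.ofRingEquiv (f := b.toRingEquiv) fun d =>
        b.apply_symm_apply _
      haveI : Module.Flat D P := Module.Flat.of_linearEquiv a.toLinearEquiv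
      let σ₁ : D →ₐ[C] C := σ.comp ι
      -- the retraction `P → D`
      let g : D := algebraMap C D (σ (a.symm Polynomial.X))
      let τ : P →ₐ[D] D := (Polynomial.aeval g).comp a.toAlgHom
      have hcomp : σ₁.toRingHom.comp τ.toRingHom = σ.toRingHom := by
        have h1 : (σ₁.toRingHom.comp τ.toRingHom).comp a.symm.toRingEquiv.toRingHom =
            σ.toRingHom.comp a.symm.toRingEquiv.toRingHom := by
          refine Polynomial.ringHom_ext (fun d => ?_) ?_
          · show σ (ι (Polynomial.aeval g (a (a.symm (Polynomial.C d))))) = σ (a.symm (Polynomial.C d))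
            rw [AlgEquiv.apply_symm_apply, Polynomial.aeval_C]
            exact congrArg σ (a.symm.commutes d).symm
          · show σ₁ (Polynomial.aeval g (a (a.symm Polynomial.X))) = σ (a.symm Polynomial.X)
            rw [AlgEquiv.apply_symm_apply, Polynomial.aeval_X]
            exact σ₁.commutes _
        refine RingHom.ext fun p => ?_
        obtain ⟨q, rfl⟩ := a.symm.surjective p
        exact RingHom.congr_fun h1 q
      let S : Dual.D D := ((L C D).obj T)⟦(m : ℤ)⟧
      have h₁ : Represents σ₁.toRingHom T S := ih hm D AlgEquiv.refl σ₁ T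
      have h₂ : Represents τ.toRingHom S (((L D P).obj S)⟦(1 : ℤ)⟧) := represents_step a τ S
      have h₃ := h₂.comp h₁
      rw [hcomp] at h₃
      obtain ⟨e'⟩ := nonempty_L_comp C D P T
      exact h₃.of_iso_right ((shiftFunctor (Dual.D P) (1 : ℤ)).mapIso
        ((((L D P).commShiftIso (m : ℤ)).app ((L C D).obj T)) ≪≫
          (shiftFunctor (Dual.D P) (m : ℤ)).mapIso e') ≪≫
        ((shiftFunctorAdd' (Dual.D P) (m : ℤ) 1 ((m + 1 : ℕ) : ℤ) (by push_cast; rfl)).app _).symm)

end Groth.Agent.Lib.DMod.RepPoly
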