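import Groth.Agent.Lib.DMod.Rep
import Mathlib.Algebra.Homology.DerivedCategory.SingleTriangle

/-!
The right adjoint of restriction along `P → P/(f)` for a regular element `f`: a triangle
`X → X → res Y → X[1]` with first map `f` exhibits `Y` as representing `Hom(res -, X[1])`.
-/

set_option linter.style.haveILetI false

universe u

open CategoryTheory CategoryTheory.Limits Pretriangulated
open Groth.Agent.Lib.DMod.Basic

attribute [local instance] HasDerivedCategory.standard

namespace Groth.Agent.Lib.DMod.RepPrincipal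

variable {P : Type u} [CommRing P] {Q : Type u} [CommRing Q] (σ : P →+* Q)

/-- Cohomology commutes with restriction of scalars. -/
noncomputable def resHomologyIso (n : ℤ) :
    DRing.restrictD σ ⋙ DerivedCategory.homologyFunctor (ModuleCat.{u} P) n ≅
      DerivedCategory.homologyFunctor (ModuleCat.{u} Q) n ⋙ ModuleCat.restrictScalars.{u} σ :=
  let G := ModuleCat.restrictScalars.{u} σ
  let e : G.mapHomologicalComplex (.up ℤ) ⋙
      HomologicalComplex.homologyFunctor (ModuleCat.{u} P) (.up ℤ) n ≅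
      HomologicalComplex.homologyFunctor (ModuleCat.{u} Q) (.up ℤ) n ⋙ G :=
    NatIso.ofComponents (fun K => (K.sc n).mapHomologyIso G)
      (fun f => ShortComplex.mapHomologyIso_hom_naturality
        ((HomologicalComplex.shortComplexFunctor (ModuleCat.{u} Q) (.up ℤ) n).map f) G)
  letI : Localization.Lifting (DerivedCategory.Q (C := ModuleCat.{u} Q))
      (HomologicalComplex.quasiIso (ModuleCat.{u} Q) (.up ℤ))
      (G.mapHomologicalComplex (.up ℤ) ⋙
        HomologicalComplex.homologyFunctor (ModuleCat.{u} P) (.up ℤ) n)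
      (DRing.restrictD σ ⋙ DerivedCategory.homologyFunctor (ModuleCat.{u} P) n) :=
    ⟨(Functor.associator _ _ _).symm ≪≫
      Functor.isoWhiskerRight G.mapDerivedCategoryFactors _ ≪≫
      Functor.associator _ _ _ ≪≫
      Functor.isoWhiskerLeft _ (DerivedCategory.homologyFunctorFactors (ModuleCat.{u} P) n)⟩
  letI : Localization.Lifting (DerivedCategory.Q (C := ModuleCat.{u} Q))
      (HomologicalComplex.quasiIso (ModuleCat.{u} Q) (.up ℤ))
      (HomologicalComplex.homologyFunctor (ModuleCat.{u} Q) (.up ℤ) n ⋙ G)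
      (DerivedCategory.homologyFunctor (ModuleCat.{u} Q) n ⋙ G) :=
    ⟨(Functor.associator _ _ _).symm ≪≫
      Functor.isoWhiskerRight (DerivedCategory.homologyFunctorFactors (ModuleCat.{u} Q) n) _⟩
  Localization.liftNatIso DerivedCategory.Q
    (HomologicalComplex.quasiIso (ModuleCat.{u} Q) (.up ℤ)) _ _ _ _ e

section Gen

variable {A : Type u} [CommRing A]

/-- The shifted free module of rank one. -/
noncomputable abbrev gen (A : Type u) [CommRing A] (k : ℤ) : Dual.D A := (Dual.inD A A)⟦k⟧

/-- The generator of its cohomology. -/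
noncomputable def genElt (A : Type u) [CommRing A] (k : ℤ) : Dual.HD A (gen A k) (-k) :=
  (HDShift (Dual.inD A A) k (-k) 0 (by lia)).symm ((HDinD (A := A) A).symm 1)

theorem exists_smul_genElt (k : ℤ) (x : Dual.HD A (gen A k) (-k)) :
    ∃! a : A, a • genElt A k = x := by
  let e := (HDShift (Dual.inD A A) k (-k) 0 (by lia)).trans (HDinD (A := A) A)
  have h1 : e (genElt A k) = 1 := by simp [e, genElt]
  refine ⟨e x, e.injective ?_, fun a ha => ?_⟩
  · rw [map_smul, h1, smul_eq_mul, mul_one]
  · rw [← ha, map_smul, h1, smul_eq_mul, mul_one]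

/-- Morphisms out of `gen A k` are cohomology classes. -/
theorem bijective_gen (k : ℤ) (K : Dual.D A) :
    Function.Bijective fun f : gen A k ⟶ K => mapHD f (-k) (genElt A k) := by
  obtain ⟨K', ⟨e⟩⟩ : ∃ K' : Dual.D A, Nonempty (K'⟦k⟧ ≅ K) :=
    ⟨K⟦-k⟧, ⟨(shiftFunctorCompIsoId (Dual.D A) (-k) k (by lia)).app K⟩⟩
  let s := homShiftEquiv (Dual.inD A A) K' k
  have h0 := (HDCongr e (-k)).bijective.comp
    ((HDShift K' k (-k) 0 (by lia)).symm.bijective.comp
      ((homUnitEquiv K').bijective.comp s.symm.bijective))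
  have h1 : Function.Bijective fun f : gen A k ⟶ K'⟦k⟧ => mapHD (f ≫ e.hom) (-k) (genElt A k) := by
    convert h0 using 1
    funext f
    obtain ⟨g, rfl⟩ := s.surjective f
    simp only [Function.comp_apply, LinearEquiv.symm_apply_apply]
    show mapHD (g⟦k⟧' ≫ e.hom) (-k) (genElt A k) = mapHD e.hom (-k)
      ((HDShift K' k (-k) 0 (by lia)).symm (mapHD g 0 ((HDinD (A := A) A).symm 1)))
    rw [mapHD, Functor.map_comp, ModuleCat.hom_comp, LinearMap.comp_apply]
    refine congrArg _ ?_
    apply (HDShift K' k (-k) 0 (by lia)).injective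
    rw [LinearEquiv.apply_symm_apply]
    refine (ConcreteCategory.congr_hom
      (((DerivedCategory.homologyFunctor (ModuleCat.{u} A) 0).shiftIso k (-k) 0 (by lia)).hom.naturality g)
      (genElt A k)).trans ?_
    show mapHD g 0 (HDShift (Dual.inD A A) k (-k) 0 (by lia) (genElt A k)) = _
    simp [genElt]
  have h2 := h1.comp (Iso.homCongr (Iso.refl (gen A k)) e).symm.bijective
  convert h2 using 1
  funext f
  simp [Iso.homCongr]

/-- A morphism inducing bijections on morphisms out of the generators is an isomorphism. -/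
theorem isIso_of_gen {Y Y' : Dual.D A} (g : Y ⟶ Y')
    (h : ∀ k : ℤ, Function.Bijective fun x : gen A k ⟶ Y => x ≫ g) : IsIso g := by
  rw [DerivedCategory.isIso_iff]
  intro i
  obtain ⟨k, rfl⟩ : ∃ k, -k = i := ⟨-i, neg_neg i⟩
  refine (ConcreteCategory.isIso_iff_bijective _).2 ?_
  have h2 : (mapHD g (-k) : _ → _) ∘ (fun f : gen A k ⟶ Y => mapHD f (-k) (genElt A k)) =
      (fun f : gen A k ⟶ Y' => mapHD f (-k) (genElt A k)) ∘ fun x => x ≫ g := by
    funext f
    simp [mapHD]
  have h3 := (bijective_gen k Y').comp (h k)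
  rw [← h2] at h3
  exact (Function.Bijective.of_comp_iff _ (bijective_gen k Y)).1 h3

end Gen

variable {σ} {f : P} (hσ : Function.Surjective σ) (hker : RingHom.ker σ = Ideal.span {f})
  (hreg : ∀ x : P, f * x = 0 → x = 0)

include hker in
theorem smul_res {W : Dual.D Q} :
    f • 𝟙 ((DRing.restrictD σ).obj W) = 0 := by
  rw [← FiniteRing.res_smul_id, show σ f = 0 from
    RingHom.mem_ker.1 (hker ▸ Ideal.mem_span_singleton_self f), zero_smul, Functor.map_zero]

include hσ hker hreg in
/-- The triangle of the generator. -/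
theorem exists_triangle_gen (k : ℤ) :
    ∃ (m : gen P k ⟶ gen P k) (p : gen P k ⟶ (DRing.restrictD σ).obj (gen Q k))
      (e : (DRing.restrictD σ).obj (gen Q k) ⟶ (gen P k)⟦(1 : ℤ)⟧),
      Triangle.mk m p e ∈ distTriang (Dual.D P) ∧
        ∀ W : Dual.D Q, Function.Bijective
          fun x : gen Q k ⟶ W => p ≫ (DRing.restrictD σ).map x := by
  let r : ModuleCat.of P P ⟶ (ModuleCat.restrictScalars.{u} σ).obj (ModuleCat.of Q Q) :=
    ModuleCat.ofHom (Y := (ModuleCat.restrictScalars.{u} σ).obj (ModuleCat.of Q Q))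
      { toFun := σ
        map_add' := map_add σ
        map_smul' := fun a x => map_mul σ a x }
  let S := ShortComplex.mk (f • 𝟙 (ModuleCat.of P P)) r (ModuleCat.hom_ext (LinearMap.ext fun x => by
    show σ (f * x) = 0
    rw [map_mul, show σ f = 0 from RingHom.mem_ker.1 (hker ▸ Ideal.mem_span_singleton_self f), zero_mul]))
  have hS : S.ShortExact :=
    { exact := (ShortComplex.ShortExact.moduleCat_exact_iff_function_exact S).2 fun x => by
        constructor
        · intro hx
          have hx' : x ∈ RingHom.ker σ := hx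
          obtain ⟨y, rfl⟩ := Ideal.mem_span_singleton'.1 (hker ▸ hx')
          exact ⟨y, mul_comm f y⟩
        · rintro ⟨y, rfl⟩
          show σ (f * y) = 0
          rw [map_mul, show σ f = 0 from RingHom.mem_ker.1 (hker ▸ Ideal.mem_span_singleton_self f),
            zero_mul]
      mono_f := (ModuleCat.mono_iff_injective _).2 fun x y h =>
        sub_eq_zero.1 (hreg _ (by rw [mul_sub]; exact sub_eq_zero.2 h))
      epi_g := (ModuleCat.epi_iff_surjective _).2 hσ }
  let T := (Triangle.shiftFunctor (Dual.D P) k).obj hS.singleTriangle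
  have hT : T ∈ distTriang (Dual.D P) :=
    Triangle.shift_distinguished _ hS.singleTriangle_distinguished k
  let c : T.obj₃ ≅ (DRing.restrictD σ).obj (gen Q k) :=
    (shiftFunctor (Dual.D P) k).mapIso (FiniteRing.resSingle (φ := σ) (ModuleCat.of Q Q)).symm ≪≫
      (((DRing.restrictD σ).commShiftIso k).app (Dual.inD Q Q)).symm
  refine ⟨T.mor₁, T.mor₂ ≫ c.hom, c.inv ≫ T.mor₃, isomorphic_distinguished _ hT _
    (Triangle.isoMk _ _ (Iso.refl _) (Iso.refl _) c.symm ?_ ?_ ?_), fun W => ?_⟩
  · exact (Category.comp_id _).trans (Category.id_comp _).symm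
  · exact (Category.assoc _ _ _).trans ((congrArg _ c.hom_inv_id).trans
      ((Category.comp_id _).trans (Category.id_comp _).symm))
  · exact (congrArg _ ((shiftFunctor (Dual.D P) (1 : ℤ)).map_id _)).trans (Category.comp_id _)
  let p : gen P k ⟶ (DRing.restrictD σ).obj (gen Q k) := T.mor₂ ≫ c.hom
  let θ := fun V : Dual.D Q => ((resHomologyIso σ (-k)).app V).toLinearEquiv
  -- the image of the generator generates
  let a : Dual.HD Q (gen Q k) (-k) := θ (gen Q k) (mapHD p (-k) (genElt P k))
  have hsurj : Function.Surjective (mapHD p (-k)) := by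
    have h1 : Function.Surjective (mapHD T.mor₂ (-k)) := by
      intro y
      refine ((exact_mapHD₃ hT (-k) (-k + 1) rfl) y).1 ?_
      have : Subsingleton (Dual.HD P T.obj₁ (-k + 1)) := by
        have := subsingleton_HD_inD (A := P) P (i := 1) one_ne_zero
        exact (HDShift (Dual.inD P P) k (-k + 1) 1 (by lia)).toEquiv.subsingleton
      exact Subsingleton.elim _ _
    intro y
    obtain ⟨z, hz⟩ := h1 ((HDCongr c (-k)).symm y)
    refine ⟨z, ?_⟩
    show ((DerivedCategory.homologyFunctor _ (-k)).map (T.mor₂ ≫ c.hom)).hom z = y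
    rw [Functor.map_comp, ModuleCat.hom_comp, LinearMap.comp_apply]
    exact (congrArg _ hz).trans ((HDCongr c (-k)).apply_symm_apply y)
  have ha : ∀ x : Dual.HD Q (gen Q k) (-k), ∃ q : Q, q • a = x := fun x => by
    obtain ⟨z, hz⟩ := hsurj ((θ (gen Q k)).symm x)
    obtain ⟨b, rfl, -⟩ := exists_smul_genElt k z
    refine ⟨σ b, ?_⟩
    have := congrArg (θ (gen Q k)) hz
    rw [map_smul, map_smul, LinearEquiv.apply_symm_apply] at this
    exact this
  obtain ⟨q₀, hq₀, -⟩ := exists_smul_genElt k a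
  obtain ⟨q₁, hq₁⟩ := ha (genElt Q k)
  have hu : q₁ * q₀ = 1 := by
    obtain ⟨w, -, huniq⟩ := exists_smul_genElt k (genElt Q k)
    rw [huniq (q₁ * q₀) (by show (q₁ * q₀) • genElt Q k = _; rw [mul_smul]; exact (congrArg _ hq₀).trans hq₁),
      huniq 1 (one_smul _ _)]
  let v : Qˣ := Units.mkOfMulEqOne q₀ q₁ (by rw [mul_comm]; exact hu)
  -- compare with the cohomology of `W`
  have h1 : Function.Bijective fun x : gen Q k ⟶ W => mapHD x (-k) a := by
    have h2 := (DistribMulAction.toLinearEquiv Q (Dual.HD Q W (-k)) v).bijective.comp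
      (bijective_gen k W)
    convert h2 using 1
    funext x
    show mapHD x (-k) a = q₀ • mapHD x (-k) (genElt Q k)
    rw [← map_smul, hq₀]
  have h3 := (θ W).symm.bijective.comp h1
  have h4 : ((fun f : gen P k ⟶ (DRing.restrictD σ).obj W => mapHD f (-k) (genElt P k)) ∘
      fun x : gen Q k ⟶ W => p ≫ (DRing.restrictD σ).map x) =
      (θ W).symm ∘ fun x : gen Q k ⟶ W => mapHD x (-k) a := by
    funext x
    show mapHD (p ≫ (DRing.restrictD σ).map x) (-k) (genElt P k) = (θ W).symm (mapHD x (-k) a)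
    apply (θ W).injective
    rw [LinearEquiv.apply_symm_apply, mapHD, Functor.map_comp, ModuleCat.hom_comp, LinearMap.comp_apply]
    exact ConcreteCategory.congr_hom ((resHomologyIso σ (-k)).hom.naturality x) _
  rw [← h4] at h3
  exact (Function.Bijective.of_comp_iff' (bijective_gen k _) _).1 h3

variable {X : Dual.D P} {Y : Dual.D Q} {π : X ⟶ (DRing.restrictD σ).obj Y}
  {δ : (DRing.restrictD σ).obj Y ⟶ X⟦(1 : ℤ)⟧}
  (hT : Triangle.mk (f • 𝟙 X) π δ ∈ distTriang (Dual.D P))
  (hinj : ∀ (i : ℤ) (x : Dual.HD P X i), f • x = 0 → x = 0)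

include hσ hker hreg hT hinj in
theorem bijective_gen_δ (k : ℤ) :
    Function.Bijective fun x : gen Q k ⟶ Y => (DRing.restrictD σ).map x ≫ δ := by
  obtain ⟨m, p, e, hT', hp⟩ := exists_triangle_gen hσ hker hreg k
  have hkill : ∀ {W : Dual.D P} (v : (DRing.restrictD σ).obj (gen Q k) ⟶ W), f • v = 0 := fun v => by
    rw [← Category.id_comp v, ← Linear.smul_comp, smul_res hker, zero_comp]
  have hfree : ∀ (j : ℤ) (K : Dual.D P), (∀ (i : ℤ) (x : Dual.HD P K i), f • x = 0 → x = 0) →
      ∀ v : gen P j ⟶ K, f • v = 0 → v = 0 := fun j K hK v hv => by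
    refine (bijective_gen j K).1 ((hK (-j) _ ?_).trans (by simp [mapHD]))
    show f • mapHD v (-j) (genElt P j) = 0
    rw [← LinearMap.smul_apply, ← ModuleCat.hom_smul, ← Functor.map_smul, hv, Functor.map_zero]
    rfl
  refine ⟨fun x x' hx => ?_, fun y => ?_⟩
  · suffices h : ∀ x : gen Q k ⟶ Y, (DRing.restrictD σ).map x ≫ δ = 0 → x = 0 from
      sub_eq_zero.1 (h _ (by rw [Functor.map_sub, Preadditive.sub_comp]; exact sub_eq_zero.2 hx))
    intro x hx
    obtain ⟨v, hv⟩ : ∃ v : (DRing.restrictD σ).obj (gen Q k) ⟶ X, (DRing.restrictD σ).map x = v ≫ π :=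
      Triangle.coyoneda_exact₃ _ hT ((DRing.restrictD σ).map x) hx
    have h1 : p ≫ v = 0 := hfree k X hinj _ (by rw [← Linear.comp_smul, hkill, comp_zero])
    refine (hp Y).1 ?_
    show p ≫ (DRing.restrictD σ).map x = p ≫ (DRing.restrictD σ).map 0
    rw [Functor.map_zero, comp_zero, hv]
    exact (Category.assoc _ _ _).symm.trans ((congrArg (· ≫ _) h1).trans zero_comp)
  · have hy : y ≫ (shiftFunctor (Dual.D P) (1 : ℤ)).map (f • 𝟙 X) = 0 := by
      rw [Functor.map_smul, CategoryTheory.Functor.map_id, Linear.comp_smul, Category.comp_id, hkill]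
    obtain ⟨w, hw⟩ : ∃ w : (DRing.restrictD σ).obj (gen Q k) ⟶ (DRing.restrictD σ).obj Y, y = w ≫ δ :=
      Triangle.coyoneda_exact₁ _ hT y hy
    obtain ⟨x, hx⟩ := (hp Y).2 (p ≫ w)
    dsimp at hx
    obtain ⟨u, hu⟩ : ∃ u : (gen P k)⟦(1 : ℤ)⟧ ⟶ (DRing.restrictD σ).obj Y,
        w - (DRing.restrictD σ).map x = e ≫ u :=
      Triangle.yoneda_exact₃ _ hT' _
        (show p ≫ (w - (DRing.restrictD σ).map x) = 0 by rw [Preadditive.comp_sub, hx, sub_self])
    have h2 : u ≫ δ = 0 := by
      let c := (shiftFunctorAdd' (Dual.D P) k 1 (k + 1) rfl).app (Dual.inD P P)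
      rw [← cancel_epi c.hom, comp_zero]
      refine hfree (k + 1) (X⟦(1 : ℤ)⟧) (fun i x hx => ?_) _ ?_
      · apply (HDShift X 1 i (1 + i) rfl).injective
        rw [map_zero]
        exact hinj _ _ (by rw [← map_smul, hx, map_zero])
      · have h3 : δ ≫ (shiftFunctor (Dual.D P) (1 : ℤ)).map (f • 𝟙 X) = 0 :=
          comp_distTriang_mor_zero₃₁ _ hT
        rw [Functor.map_smul, CategoryTheory.Functor.map_id, Linear.comp_smul, Category.comp_id] at h3
        rw [← Linear.comp_smul, ← Linear.comp_smul, h3, comp_zero, comp_zero]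
    refine ⟨x, ?_⟩
    show (DRing.restrictD σ).map x ≫ δ = y
    rw [hw, show w = e ≫ u + (DRing.restrictD σ).map x from sub_eq_iff_eq_add.1 hu]
    show _ = (e ≫ u + (DRing.restrictD σ).map x) ≫ δ
    rw [Preadditive.add_comp, Category.assoc, h2, comp_zero, zero_add]

include hσ hker hreg hT hinj in
/-- The triangle represents. -/
theorem isRep_δ : FiniteRing.IsRep δ := by
  obtain ⟨Y₀, ε₀, hε₀⟩ := Rep.exists_isRep σ (X⟦(1 : ℤ)⟧)
  obtain ⟨g, hg⟩ := (hε₀ Y).2 δ
  dsimp at hg
  have hcomp : ∀ {W : Dual.D Q} (x : W ⟶ Y),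
      (DRing.restrictD σ).map (x ≫ g) ≫ ε₀ = (DRing.restrictD σ).map x ≫ δ := fun x => by
    rw [Functor.map_comp, Category.assoc, hg]
  have : IsIso g := isIso_of_gen g fun k => by
    refine (Function.Bijective.of_comp_iff' (hε₀ (gen Q k)) _).1 ?_
    convert bijective_gen_δ hσ hker hreg hT hinj k using 1
    funext x
    exact hcomp x
  intro W
  have h := (hε₀ W).comp (Iso.homCongr (Iso.refl W) (asIso g)).bijective
  convert h using 1
  funext x
  simp [Iso.homCongr, hg]

end Groth.Agent.Lib.DMod.RepPrincipal
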