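import Groth.Agent.Lib.DMod.Bottom
import Groth.Agent.Lib.DMod.Cones
import Groth.Agent.Lib.DMod.Devissage
import Groth.Agent.Lib.FEt.DepthTwo

/-!
Endomorphisms and self-extensions of the dualizing module of an `(S₂)` or `(S₃)` local ring.
-/

universe u

open CategoryTheory Category Limits Pretriangulated

attribute [local instance] HasDerivedCategory.standard

namespace Groth.Agent.Lib.DMod.S2End

open Groth.Agent.Lib.DMod Groth.Agent.Lib.DMod.Basic Groth.Agent.Lib.DMod.Degree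

variable {A : Type u} [CommRing A] [IsNoetherianRing A] [IsLocalRing A] {ω : Dual.D A}
  (hω : Dual.IsDualizing A ω) (hn : Dual.IsNormalized A ω) (n : ℕ) (hd : ringKrullDim A = n)

omit [IsNoetherianRing A] [IsLocalRing A] in
theorem mem_support_self (p : PrimeSpectrum A) : p ∈ Module.support A A := by
  rw [Module.support_eq_zeroLocus]
  exact fun a ha => by
    have h0 : a * 1 = 0 := Module.mem_annihilator.mp ha 1
    simp only [mul_one] at h0
    simp [h0]

omit [IsNoetherianRing A] [IsLocalRing A] in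
/-- A closed finite union of closures. -/
theorem isClosed_above {S : Set (PrimeSpectrum A)} (hS : S.Finite) :
    IsClosed {p : PrimeSpectrum A | ∃ q ∈ S, q ≤ p} := by
  have : {p : PrimeSpectrum A | ∃ q ∈ S, q ≤ p} =
      ⋃ q ∈ S, PrimeSpectrum.zeroLocus (q.asIdeal : Set A) := by
    ext p
    simp only [Set.mem_ofPred_eq, Set.mem_iUnion, PrimeSpectrum.mem_zeroLocus, exists_prop]
    rfl
  rw [this]
  exact hS.isClosed_biUnion fun q _ => PrimeSpectrum.isClosed_zeroLocus _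

include hω hn hd

/-- `(S₂)` local rings with a dualizing complex are equidimensional. -/
theorem exists_le_deg_eq (h2 : LocCoh.HasSk 2 A A) (p₀ : PrimeSpectrum A) :
    ∃ q ≤ p₀, deg hω q = -(n : ℤ) := by
  classical
  let Gd : Set (PrimeSpectrum A) := {q | q.asIdeal ∈ minimalPrimes A ∧ deg hω q = -(n : ℤ)}
  let Bd : Set (PrimeSpectrum A) := {q | q.asIdeal ∈ minimalPrimes A ∧ deg hω q ≠ -(n : ℤ)}
  have hfin : ∀ S : Set (PrimeSpectrum A), (∀ q ∈ S, q.asIdeal ∈ minimalPrimes A) → S.Finite :=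
    fun S hS => ((Ideal.finite_minimalPrimes_of_isNoetherianRing A ⊥).preimage
      (f := PrimeSpectrum.asIdeal) (fun x _ y _ h => PrimeSpectrum.ext h)).subset hS
  let V₁ : Set (PrimeSpectrum A) := {p | ∃ q ∈ Gd, q ≤ p}
  let V₂ : Set (PrimeSpectrum A) := {p | ∃ q ∈ Bd, q ≤ p}
  have hV₁ : IsClosed V₁ := isClosed_above (hfin Gd fun q hq => hq.1)
  have hV₂ : IsClosed V₂ := isClosed_above (hfin Bd fun q hq => hq.1)
  obtain ⟨q₁, hq₁, hq₁p⟩ := Ideal.exists_minimalPrimes_le (I := (⊥ : Ideal A)) (J := p₀.asIdeal) bot_le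
  by_cases hq₁d : deg hω ⟨q₁, hq₁.1.1⟩ = -(n : ℤ)
  · exact ⟨_, hq₁p, hq₁d⟩
  exfalso
  obtain ⟨g, -, hgd, -⟩ := LocalCase.exists_min_deg_local hω hn A n
    (by rw [Module.supportDim_self_eq_ringKrullDim, hd])
  have hne : ((V₁ ∩ V₂) : Set (PrimeSpectrum A)).Nonempty := ⟨IsLocalRing.closedPoint A,
    ⟨g, ⟨Bottom.mem_minimalPrimes_of_deg_eq hω hn n hd g hgd, hgd⟩,
      IsLocalRing.le_maximalIdeal g.isPrime.ne_top⟩,
    ⟨⟨q₁, hq₁.1.1⟩, ⟨hq₁, hq₁d⟩, IsLocalRing.le_maximalIdeal hq₁.1.1.ne_top⟩⟩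
  let f : PrimeSpectrum A → ℕ := fun p => (deg hω p + n).toNat
  let p := Function.argminOn f (V₁ ∩ V₂) hne
  obtain ⟨⟨q, ⟨hqm, hqd⟩, hqp⟩, ⟨q', ⟨hq'm, hq'd⟩, hq'p⟩⟩ : p ∈ V₁ ∩ V₂ :=
    Function.argminOn_mem f _ hne
  have hlo := Bottom.neg_dim_le_deg hω hn n hd
  have hqlt : q < p := lt_of_le_of_ne hqp fun e => by
    subst e
    have h' : q' = p := PrimeSpectrum.ext (le_antisymm hq'p (hqm.2 ⟨q'.isPrime, bot_le⟩ hq'p))
    rw [h'] at hq'd
    exact hq'd hqd
  have hq'lt : q' < p := lt_of_le_of_ne hq'p fun e => by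
    subst e
    have h' : q = p := PrimeSpectrum.ext (le_antisymm hqp (hq'm.2 ⟨q.isPrime, bot_le⟩ hqp))
    rw [h'] at hqd
    exact hq'd hqd
  have hdeg : -(n : ℤ) + 2 ≤ deg hω p := by
    have := deg_lt hω hq'lt
    have := hlo q'
    lia
  have hdepth : (2 : ℕ∞) ≤
      LocCoh.depth (Localization.AtPrime p.asIdeal) (Localization.AtPrime p.asIdeal) := by
    have h := h2 p.asIdeal
    rw [DimDegree.supportDim_localized_eq hω p q A hqp (mem_support_self q)
      (fun r _ _ => hqd.le.trans (hlo r)), hqd] at h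
    have hmin : min ((2 : ℕ) : WithBot ℕ∞) (((deg hω p - -(n : ℤ)).toNat : ℕ) : WithBot ℕ∞)
        = ((2 : ℕ∞) : WithBot ℕ∞) := by
      rw [min_eq_left (by exact_mod_cast (show 2 ≤ (deg hω p - -(n : ℤ)).toNat by lia))]
      rfl
    rw [hmin, WithBot.coe_le_coe] at h
    refine h.trans_eq (Depth.Basic.depth_congr ?_)
    exact (IsLocalizedModule.iso p.asIdeal.primeCompl
      (Algebra.linearMap A (Localization.AtPrime p.asIdeal))).extendScalarsOfIsLocalization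
        p.asIdeal.primeCompl (Localization.AtPrime p.asIdeal)
  have hpre := (FEt.DepthTwo.isConnected_generalizations p hdepth).isPreconnected
  have hG : ∀ r : PrimeSpectrum A, r ∈ {r | r ⤳ p ∧ r ≠ p} ↔ r < p := fun r => by
    rw [Set.mem_ofPred_eq, ← PrimeSpectrum.le_iff_specializes, lt_iff_le_and_ne]
  obtain ⟨r, hr, hr12⟩ := isPreconnected_closed_iff.1 hpre V₁ V₂ hV₁ hV₂ (fun r _ => by
      obtain ⟨m, hm, hmr⟩ := Ideal.exists_minimalPrimes_le (I := (⊥ : Ideal A)) (J := r.asIdeal) bot_le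
      by_cases hmd : deg hω ⟨m, hm.1.1⟩ = -(n : ℤ)
      · exact Or.inl ⟨_, ⟨hm, hmd⟩, hmr⟩
      · exact Or.inr ⟨_, ⟨hm, hmd⟩, hmr⟩)
    ⟨q, (hG q).2 hqlt, q, ⟨hqm, hqd⟩, le_rfl⟩ ⟨q', (hG q').2 hq'lt, q', ⟨hq'm, hq'd⟩, le_rfl⟩
  have hle : f p ≤ f r := Function.argminOn_le f _ hr12
  have := deg_lt hω ((hG r).1 hr)
  have := hlo r
  simp only [f] at hle
  lia

/-- The cohomology sheaves of the normalized dualizing complex of an `(S_k)` ring. -/
theorem deg_bound (k : ℕ) (hk : 2 ≤ k) (hsk : LocCoh.HasSk k A A) (i : ℤ) (hi : i ≠ -(n : ℤ))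
    (p : PrimeSpectrum A) (hp : p ∈ Module.support A (Dual.HD A ω i)) : i + k ≤ deg hω p := by
  have h2 : LocCoh.HasSk 2 A A := fun q hq => le_trans
    (min_le_min_right _ (by exact_mod_cast hk)) (hsk q)
  refine (SkEquidim.hasSk_iff hω A n k (by lia) (fun p _ => ?_)
    (fun p _ => Bottom.neg_dim_le_deg hω hn n hd p)).1 hsk i hi p ?_
  · obtain ⟨q, hq, hqd⟩ := exists_le_deg_eq hω hn n hd h2 p
    exact ⟨q, hq, mem_support_self q, hqd⟩
  · rwa [(homUnitShiftEquiv ω i).support_eq]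

omit hn hd [IsLocalRing A] in
/-- Maps from a bounded complex whose cohomology lives in high degrees into `ω⟦j⟧` vanish. -/
theorem subsingleton_hom_of_deg (j : ℤ) : ∀ (m : ℕ) (c : ℤ) (X : Dual.D A),
    (∀ i, i < c ∨ c + (m : ℤ) ≤ i → Subsingleton (Dual.HD A X i)) →
    (∀ i, Module.Finite A (Dual.HD A X i)) →
    (∀ i, ∀ p, p ∈ Module.support A (Dual.HD A X i) → i + j < deg hω p) →
    Subsingleton (X ⟶ ω⟦j⟧) := by
  intro m
  induction m with
  | zero =>
    intro c X h _ _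
    exact ⟨fun f g => ((isZero_iff_HD X).2 fun i => h i (by lia)).eq_of_src f g⟩
  | succ m ih =>
    intro c X h hfin hdeg
    obtain ⟨T, hT, hT₂, hT₁, hT₃, h₁, h₃⟩ := Devissage.exists_trunc X c
    subst hT₂
    refine subsingleton_hom_from_obj₂ hT _ ?_ ?_
    · have hge : T.obj₁.IsGE c := (isGE_iff _ c).2 fun i hi => by
        obtain ⟨e⟩ := h₁ i hi.le
        have := h i (Or.inl hi)
        exact e.toEquiv.subsingleton
      obtain ⟨e⟩ := Devissage.exists_iso_inD_shift T.obj₁ c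
      obtain ⟨e₁⟩ := h₁ c le_rfl
      have := hfin c
      have : Module.Finite A (Dual.HD A T.obj₁ c) := Module.Finite.equiv e₁.symm
      have hs : Subsingleton (Dual.inD A (Dual.HD A T.obj₁ c) ⟶ ω⟦c + j⟧) :=
        Bottom.subsingleton_of_deg_lt hω _ _ fun q hq => hdeg c q (by rwa [← e₁.support_eq])
      exact ((Linear.homCongr A e (Iso.refl _)).trans
        (homShiftAdj _ ω (-c) j (c + j) (by lia))).toEquiv.subsingleton_congr.2 hs
    · refine ih (c + 1) T.obj₃ (fun i hi => ?_) (fun i => ?_) fun i p hp => ?_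
      · by_cases hic : c < i
        · obtain ⟨e⟩ := h₃ i hic
          have := h i (by lia)
          exact e.symm.toEquiv.subsingleton
        · exact subsingleton_HD_of_isGE _ (c + 1) (by lia)
      · by_cases hic : c < i
        · obtain ⟨e⟩ := h₃ i hic
          have := hfin i
          exact Module.Finite.equiv e
        · have := subsingleton_HD_of_isGE T.obj₃ (c + 1) (i := i) (by lia)
          exact Module.Finite.of_finite
      · by_cases hic : c < i
        · obtain ⟨e⟩ := h₃ i hic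
          exact hdeg i p (by rwa [e.support_eq])
        · have := subsingleton_HD_of_isGE T.obj₃ (c + 1) (i := i) (by lia)
          simp [Module.support_eq_empty] at hp

/-- The bottom triangle of a normalized dualizing complex. -/
theorem exists_bottom (k : ℕ) (hk : 2 ≤ k) (hsk : LocCoh.HasSk k A A) :
    ∃ T : Triangle (Dual.D A), T ∈ distTriang (Dual.D A) ∧ T.obj₂ = ω ∧
      Nonempty (T.obj₁ ≅ (Dual.inD A (Dual.HD A ω (-(n : ℤ))))⟦(n : ℤ)⟧) ∧
      T.obj₁.IsLE (-(n : ℤ)) ∧ T.obj₃.IsGE (-(n : ℤ) + 1) ∧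
      ∀ j : ℤ, j < k → Subsingleton (T.obj₃ ⟶ ω⟦j⟧) := by
  obtain ⟨T, hT, hT₂, hT₁, hT₃, h₁, h₃⟩ := Devissage.exists_trunc ω (-(n : ℤ))
  have hlow : ∀ i : ℤ, i < -(n : ℤ) → Subsingleton (Dual.HD A ω i) := fun i hi =>
    (homUnitShiftEquiv ω i).toEquiv.subsingleton_congr.1 (Bottom.subsingleton_of_deg_lt hω A i
      fun q _ => lt_of_lt_of_le hi (Bottom.neg_dim_le_deg hω hn n hd q))
  have hhigh : ∀ i : ℤ, 0 < i → Subsingleton (Dual.HD A ω i) := fun i hi =>
    (homUnitShiftEquiv ω i).toEquiv.subsingleton_congr.1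
      (LocalCase.subsingleton_hom_of_pos hω hn A hi)
  have hge : T.obj₁.IsGE (-(n : ℤ)) := (isGE_iff _ _).2 fun i hi => by
    obtain ⟨e⟩ := h₁ i hi.le
    have := hlow i hi
    exact e.toEquiv.subsingleton
  obtain ⟨e⟩ := Devissage.exists_iso_inD_shift T.obj₁ (-(n : ℤ))
  obtain ⟨e₁⟩ := h₁ (-(n : ℤ)) le_rfl
  refine ⟨T, hT, hT₂, ⟨e ≪≫ (shiftFunctor _ _).mapIso
    ((DerivedCategory.singleFunctor _ 0).mapIso e₁.toModuleIso) ≪≫ eqToIso (by simp)⟩, hT₁, hT₃, ?_⟩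
  intro j hj
  refine subsingleton_hom_of_deg hω j (n + 1) (-(n : ℤ) + 1) T.obj₃ (fun i hi => ?_) (fun i => ?_)
    fun i p hp => ?_
  · by_cases hin : -(n : ℤ) < i
    · obtain ⟨e⟩ := h₃ i hin
      have := hhigh i (by lia)
      exact e.symm.toEquiv.subsingleton
    · exact subsingleton_HD_of_isGE _ (-(n : ℤ) + 1) (by lia)
  · by_cases hin : -(n : ℤ) < i
    · obtain ⟨e⟩ := h₃ i hin
      have := hω.finite_cohomology i
      exact Module.Finite.equiv e
    · have := subsingleton_HD_of_isGE T.obj₃ (-(n : ℤ) + 1) (i := i) (by lia)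
      exact Module.Finite.of_finite
  · by_cases hin : -(n : ℤ) < i
    · obtain ⟨e⟩ := h₃ i hin
      have := deg_bound hω hn n hd k hk hsk i (by lia) p (by rwa [e.support_eq])
      lia
    · have := subsingleton_HD_of_isGE T.obj₃ (-(n : ℤ) + 1) (i := i) (by lia)
      simp [Module.support_eq_empty] at hp

omit hn hd hω [IsNoetherianRing A] [IsLocalRing A] in
/-- Scalar endomorphisms are transported along isomorphisms. -/
theorem bijective_smul_id_of_iso {C : Type*} [Category C] [Preadditive C] [Linear A C] {X Y : C}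
    (e : X ≅ Y) (h : Function.Bijective fun a : A => a • 𝟙 X) :
    Function.Bijective fun a : A => a • 𝟙 Y := by
  have : (fun a : A => a • 𝟙 Y) = (Linear.homCongr A e e) ∘ fun a : A => a • 𝟙 X := by
    funext a
    simp [Linear.homCongr_apply]
  exact this ▸ (Linear.homCongr A e e).bijective.comp h

/-- For `(S₂)` the dualizing module has endomorphism ring `A`. -/
theorem bijective_end (h2 : LocCoh.HasSk 2 A A) :
    Function.Bijective (fun r : A => r • (LinearMap.id :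
      Dual.HD A ω (-(n : ℤ)) →ₗ[A] Dual.HD A ω (-(n : ℤ)))) := by
  obtain ⟨T, hT, hT₂, ⟨e⟩, hT₁, hT₃, hvan⟩ := exists_bottom hω hn n hd 2 le_rfl h2
  subst hT₂
  have h0 : Subsingleton (T.obj₃ ⟶ T.obj₂) :=
    (Linear.homCongr A (Iso.refl _) ((shiftFunctorZero (Dual.D A) ℤ).app T.obj₂)).toEquiv
      |>.subsingleton_congr.1 (hvan 0 (by norm_num))
  have h1 : Subsingleton (T.obj₃⟦(-1 : ℤ)⟧ ⟶ T.obj₂) :=
    (Cones.homNeg T.obj₃ T.obj₂ 1).toEquiv.subsingleton_congr.2 (hvan 1 (by norm_num))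
  have hres : Function.Bijective (fun f : T.obj₂ ⟶ T.obj₂ => T.mor₁ ≫ f) := by
    refine ⟨fun f g hfg => ?_, fun g => ?_⟩
    · obtain ⟨v, hv⟩ := Triangle.yoneda_exact₂ _ hT (f - g) (by
        rw [Preadditive.comp_sub, sub_eq_zero]; exact hfg)
      rw [← sub_eq_zero, hv, Subsingleton.elim v 0, comp_zero]
    · obtain ⟨f, hf⟩ := Triangle.yoneda_exact₂ _ (inv_rot_of_distTriang _ hT) g
        (Subsingleton.elim (α := (T.obj₃⟦(-1 : ℤ)⟧ ⟶ T.obj₂)) _ _)
      exact ⟨f, hf.symm⟩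
  have hout : Subsingleton (T.obj₁ ⟶ T.obj₃) :=
    subsingleton_of_forall_eq 0 fun f =>
      DerivedCategory.TStructure.t.zero f (-(n : ℤ)) (-(n : ℤ) + 1) (by lia)
  have hout' : Subsingleton (T.obj₁ ⟶ T.obj₃⟦(-1 : ℤ)⟧) := subsingleton_of_forall_eq 0 fun f => by
    have := DerivedCategory.TStructure.t.isGE_shift T.obj₃ (-(n : ℤ) + 1) (-1) (-(n : ℤ) + 2) (by lia)
    exact DerivedCategory.TStructure.t.zero f (-(n : ℤ)) (-(n : ℤ) + 2) (by lia)
  have hpush : Function.Injective (fun f : T.obj₁ ⟶ T.obj₁ => f ≫ T.mor₁) := fun f g hfg => by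
    obtain ⟨v, hv⟩ := Triangle.coyoneda_exact₂ _ (inv_rot_of_distTriang _ hT) (f - g) (by
      show (f - g) ≫ T.mor₁ = 0
      rw [Preadditive.sub_comp, sub_eq_zero]; exact hfg)
    rw [← sub_eq_zero, hv, Subsingleton.elim (α := (T.obj₁ ⟶ T.obj₃⟦(-1 : ℤ)⟧)) v 0]
    exact zero_comp
  have hobj₁ : Function.Bijective (fun a : A => a • 𝟙 T.obj₁) := by
    have hcomp : (fun f : T.obj₁ ⟶ T.obj₁ => f ≫ T.mor₁) ∘ (fun a : A => a • 𝟙 T.obj₁)
        = (fun f : T.obj₂ ⟶ T.obj₂ => T.mor₁ ≫ f) ∘ (fun a : A => a • 𝟙 T.obj₂) := by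
      funext a
      simp
    have hb := hres.comp hω.toEnd_bijective
    rw [← hcomp] at hb
    exact ⟨hb.1.of_comp, fun f => by
      obtain ⟨a, ha⟩ := hb.2 (f ≫ T.mor₁)
      exact ⟨a, hpush ha⟩⟩
  have hK := bijective_smul_id_of_iso e hobj₁
  let K := Dual.HD A T.obj₂ (-(n : ℤ))
  have h0K : Function.Bijective (fun a : A => a • 𝟙 (Dual.inD A K)) := by
    have : (fun a : A => a • 𝟙 ((Dual.inD A K)⟦(n : ℤ)⟧)) =
        (homShiftEquiv (Dual.inD A K) (Dual.inD A K) (n : ℤ)) ∘ fun a : A => a • 𝟙 (Dual.inD A K) := by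
      funext a
      simp [homShiftEquiv]
    rw [this] at hK
    exact (Function.Bijective.of_comp_iff' (LinearEquiv.bijective _) _).1 hK
  let F := DerivedCategory.singleFunctor (ModuleCat.{u} A) 0
  have hmap : (fun a : A => a • 𝟙 (Dual.inD A K)) =
      (fun φ : ModuleCat.of A K ⟶ ModuleCat.of A K => F.map φ) ∘
        (fun l : K →ₗ[A] K => ModuleCat.ofHom l) ∘ fun r : A => r • (LinearMap.id : K →ₗ[A] K) := by
    funext a
    show a • 𝟙 _ = F.map (a • 𝟙 (ModuleCat.of A K))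
    rw [CategoryTheory.Functor.map_smul, CategoryTheory.Functor.map_id]
  rw [hmap] at h0K
  have hb1 : Function.Bijective (fun φ : ModuleCat.of A K ⟶ ModuleCat.of A K => F.map φ) :=
    ⟨fun _ _ h => F.map_injective h, fun g => F.map_surjective g⟩
  have hb2 : Function.Bijective (fun l : K →ₗ[A] K => ModuleCat.ofHom l) :=
    ⟨fun _ _ h => congrArg ModuleCat.Hom.hom h, fun g => ⟨g.hom, rfl⟩⟩
  exact (Function.Bijective.of_comp_iff' hb2 _).1 ((Function.Bijective.of_comp_iff' hb1 _).1 h0K)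

/-- For `(S₃)` the dualizing module has no self-extensions. -/
theorem subsingleton_ext_one (h3 : LocCoh.HasSk 3 A A) :
    Subsingleton (Dual.inD A (Dual.HD A ω (-(n : ℤ))) ⟶
      (Dual.inD A (Dual.HD A ω (-(n : ℤ))))⟦(1 : ℤ)⟧) := by
  obtain ⟨T, hT, hT₂, ⟨e⟩, hT₁, hT₃, hvan⟩ := exists_bottom hω hn n hd 3 (by norm_num) h3
  subst hT₂
  have h2 : Subsingleton (T.obj₃⟦(-1 : ℤ)⟧ ⟶ T.obj₂⟦(1 : ℤ)⟧) :=
    (homShiftAdj T.obj₃ T.obj₂ (-1) 1 2 (by norm_num)).toEquiv.subsingleton_congr.2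
      (hvan 2 (by norm_num))
  have hto : Subsingleton (T.obj₁ ⟶ T.obj₂⟦(1 : ℤ)⟧) := subsingleton_of_forall_eq 0 fun g => by
    obtain ⟨f, hf⟩ := Triangle.yoneda_exact₂ _ (inv_rot_of_distTriang _ hT) g
      (Subsingleton.elim (α := (T.obj₃⟦(-1 : ℤ)⟧ ⟶ T.obj₂⟦(1 : ℤ)⟧)) _ _)
    have := hω.ext_self_subsingleton 1 one_ne_zero
    rw [hf, Subsingleton.elim (α := (T.obj₂ ⟶ T.obj₂⟦(1 : ℤ)⟧)) f 0]
    exact comp_zero
  have hout : Subsingleton (T.obj₁ ⟶ T.obj₃) :=
    subsingleton_of_forall_eq 0 fun f =>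
      DerivedCategory.TStructure.t.zero f (-(n : ℤ)) (-(n : ℤ) + 1) (by lia)
  have hself : Subsingleton (T.obj₁ ⟶ T.obj₁⟦(1 : ℤ)⟧) := subsingleton_of_forall_eq 0 fun f => by
    obtain ⟨g, hg⟩ := Triangle.coyoneda_exact₁ _ hT f (Subsingleton.elim _ _)
    rw [hg, Subsingleton.elim g 0, zero_comp]
  exact ((Linear.homCongr A e ((shiftFunctor _ (1 : ℤ)).mapIso e ≪≫
      ((shiftFunctorAdd' (Dual.D A) (n : ℤ) 1 ((n : ℤ) + 1) rfl).app _).symm)).trans
    (homShiftAdj _ _ (n : ℤ) ((n : ℤ) + 1) 1 rfl)).toEquiv.subsingleton_congr.1 hself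

end Groth.Agent.Lib.DMod.S2End
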