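import Groth.Agent.Lib.DMod.ShriekBounds
import Groth.Agent.Lib.DMod.PDFibre
import Groth.Agent.Lib.DMod.DualComplex
import Groth.Agent.Lib.DMod.CokerFlat
import Groth.Agent.Lib.DMod.FiniteRing
import Groth.Prelude.Def_DRing2
import Mathlib.CategoryTheory.Abelian.Injective.Extend

/-!
The relative dualizing complex of a flat algebra has tor amplitude given by the fibre dimension.
-/

set_option linter.style.haveILetI false

universe u

open CategoryTheory CategoryTheory.Limits Pretriangulated
open Groth.Agent.Lib.DR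
open Groth.Agent.Lib.DMod Groth.Agent.Lib.DMod.Basic

attribute [local instance] HasDerivedCategory.standard

namespace Groth.Agent.Lib.DMod.ShriekAmplitude

/-- Restriction of scalars preserves lower bounds. -/
theorem isGE_res {S T : Type u} [CommRing S] [CommRing T] (f : S →+* T) (X : Dual.D T) (c : ℤ)
    [hX : X.IsGE c] : ((DRing.restrictD f).obj X).IsGE c := by
  let e := DerivedCategory.Q.objObjPreimageIso X
  let K : DRing.Cx T := DerivedCategory.Q.objPreimage X
  have hK : K.IsGE c := by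
    rw [← DerivedCategory.isGE_Q_obj_iff]
    exact DerivedCategory.TStructure.t.isGE_of_iso e.symm c
  let L : DRing.Cx S := ((ModuleCat.restrictScalars.{u} f).mapHomologicalComplex (.up ℤ)).obj K
  have h2 : L.IsGE c :=
    (CochainComplex.isGE_iff _ _).2 fun i hi => (HomologicalComplex.exactAt_iff L i).2
      (((HomologicalComplex.exactAt_iff K i).1 ((CochainComplex.isGE_iff K c).1 hK i hi)).map (ModuleCat.restrictScalars.{u} f))
  rw [← DerivedCategory.isGE_Q_obj_iff] at h2
  let eL : DerivedCategory.Q.obj L ≅ (DRing.restrictD f).obj X :=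
    ((ModuleCat.restrictScalars.{u} f).mapDerivedCategoryFactors.app K).symm ≪≫
      (DRing.restrictD f).mapIso e
  exact DerivedCategory.TStructure.t.isGE_of_iso eL c

/-- Flatness of a cokernel after restriction of scalars. -/
theorem flat_res_coker {R P : Type u} [CommRing R] [CommRing P] [Algebra R P] {U V : ModuleCat.{u} P}
    (f : U ⟶ V) (h : Module.Flat R (RestrictScalars R P (V ⧸ LinearMap.range f.hom))) :
    Module.Flat R (((ModuleCat.restrictScalars.{u} (algebraMap R P)).obj V) ⧸
      LinearMap.range ((ModuleCat.restrictScalars.{u} (algebraMap R P)).map f).hom) := by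
  let C : ModuleCat.{u} R :=
    (ModuleCat.restrictScalars.{u} (algebraMap R P)).obj (ModuleCat.of P (V ⧸ LinearMap.range f.hom))
  haveI : Module.Flat R C := h
  let π : ((ModuleCat.restrictScalars.{u} (algebraMap R P)).obj V) →ₗ[R] C :=
    ((ModuleCat.restrictScalars.{u} (algebraMap R P)).map (ModuleCat.ofHom (LinearMap.range f.hom).mkQ)).hom
  have hπ : Function.Surjective π := fun y => Submodule.Quotient.mk_surjective _ y
  have hk : LinearMap.ker π = LinearMap.range ((ModuleCat.restrictScalars.{u} (algebraMap R P)).map f).hom := by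
    ext v
    exact Submodule.Quotient.mk_eq_zero (p := LinearMap.range f.hom) (x := v)
  exact Module.Flat.of_linearEquiv ((Submodule.quotEquivOfEq _ _ hk.symm).trans (π.quotKerEquivOfSurjective hπ))

variable {R A : Type u} [CommRing R] [CommRing A] [IsNoetherianRing R] [IsNoetherianRing A] [Algebra R A]
  {n : ℕ} {ψ : MvPolynomial (Fin n) R →ₐ[R] A}
  [DRing.HasLBaseChange (algebraMap R (MvPolynomial (Fin n) R))]
  {Rψ : Dual.D (MvPolynomial (Fin n) R) ⥤ Dual.D A}

omit [IsNoetherianRing A] in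
/-- A bounded complex of projective modules computing the restricted dualizing complex. -/
theorem exists_model [Module.Flat R A] (hψ : Function.Surjective ψ)
    (adj : DRing.restrictD ψ.toRingHom ⊣ Rψ) :
    ∃ E : DRing.Cx (MvPolynomial (Fin n) R),
      (∀ i : ℤ, i < 0 ∨ (n : ℤ) < i → IsZero (E.X i)) ∧
      (∀ i : ℤ, Module.Finite (MvPolynomial (Fin n) R) (E.X i)) ∧
      (∀ i : ℤ, Module.Projective (MvPolynomial (Fin n) R) (E.X i)) ∧
      (∀ x : MvPolynomial (Fin n) R, ψ x = 0 → Nonempty (Homotopy (x • 𝟙 E) 0)) ∧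
      Nonempty ((DRing.restrictD (algebraMap R A)).obj (Rψ.obj (ShriekLCI.Y (R := R) (n := n))) ≅
        DerivedCategory.Q.obj (((ModuleCat.restrictScalars.{u} (algebraMap R (MvPolynomial (Fin n) R))).mapHomologicalComplex
          (.up ℤ)).obj E)) := by
  letI := ψ.toRingHom.toAlgebra
  haveI : IsScalarTower R (MvPolynomial (Fin n) R) A :=
    IsScalarTower.of_algebraMap_eq fun r => (ψ.commutes r).symm
  let P := MvPolynomial (Fin n) R
  have hsurj : Function.Surjective (algebraMap P A) := hψ
  let J := InjectiveResolution.of (ModuleCat.of P P)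
  let I : DRing.Cx P := J.cochainComplex
  have hI : ∀ i : ℤ, i < 0 → IsZero (I.X i) := fun i hi => CochainComplex.isZero_of_isStrictlyGE I 0 i hi
  have : ∀ i, Injective (I.X i) := fun i => by
    rcases lt_or_ge i 0 with h | h
    · exact (hI i h).injective
    · obtain ⟨k, rfl⟩ := Int.eq_ofNat_of_zero_le h
      exact Injective.of_iso (J.cochainComplexXIso k k rfl).symm (J.injective k)
  have : Module.Finite P A := Module.Finite.of_surjective (Algebra.linearMap P A) hsurj
  obtain ⟨E, hE⟩ := DualComplex.exists_rep (I := I) J.ι' n A (PDFibre.pdle_presentation hsurj)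
  obtain ⟨b⟩ := hE.iso
  have : ∀ i, Projective (E.X i) := fun i => (IsProjective.iff_projective (R := P) (E.X i)).1 (hE.proj i)
  have : E.IsStrictlyLE (n : ℤ) := (CochainComplex.isStrictlyLE_iff _ _).2 fun i hi => hE.zero i (Or.inr hi)
  have : E.IsKProjective := CochainComplex.isKProjective_of_projective E (n : ℤ)
  refine ⟨E, hE.zero, hE.finite, hE.proj, fun x hx => DualComplex.nonempty_homotopy _ ?_, ?_⟩
  · have h0 : x • 𝟙 (Biduality.DC I (ModuleCat.of P A)) = 0 := by
      refine HomologicalComplex.hom_ext _ _ fun i => ModuleCat.hom_ext (LinearMap.ext fun g => ?_)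
      refine ModuleCat.hom_ext (LinearMap.ext fun a => ?_)
      show x • (g : ModuleCat.of P A ⟶ I.X i).hom a = 0
      rw [← map_smul, Algebra.smul_def, show algebraMap P A x = 0 from hx, zero_mul, map_zero]
    have h1 : x • 𝟙 (DerivedCategory.Q.obj E) = 0 := by
      have h2 : x • 𝟙 (Biduality.D I (ModuleCat.of P A)) = 0 :=
        ((congrArg _ (DerivedCategory.Q.map_id _).symm).trans
          ((DerivedCategory.Q.map_smul _ _).symm.trans (congrArg DerivedCategory.Q.map h0))).trans
            (Functor.map_zero _ _ _)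
      rw [← cancel_mono b.hom, zero_comp, Linear.smul_comp, Category.id_comp,
        ← Category.comp_id b.hom, ← Linear.comp_smul, h2, comp_zero]
    exact ((DerivedCategory.Q.map_smul _ _).trans (congrArg _ (DerivedCategory.Q.map_id _))).trans h1
  · have : IsIso (DerivedCategory.Q.map J.ι') :=
      (DerivedCategory.isIso_Q_map_iff_quasiIso _ J.ι').2 inferInstance
    let eY : ShriekLCI.Y (R := R) (n := n) ≅ DerivedCategory.Q.obj I :=
      ShriekLCI.YIso ≪≫ @asIso _ _ _ _ (DerivedCategory.Q.map J.ι') this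
    obtain ⟨eC⟩ := FiniteRing.nonempty_iso_coI_of_ge ψ.toRingHom hI adj
    let C' := FiniteRing.coI ψ.toRingHom I
    let GA := ModuleCat.restrictScalars.{u} (algebraMap R A)
    let GP := ModuleCat.restrictScalars.{u} (algebraMap R P)
    let Gψ := ModuleCat.restrictScalars.{u} ψ.toRingHom
    let mid : (GA.mapHomologicalComplex (.up ℤ)).obj C' ≅
        (GP.mapHomologicalComplex (.up ℤ)).obj ((Gψ.mapHomologicalComplex (.up ℤ)).obj C') :=
      HomologicalComplex.Hom.isoOfComponents
        (fun i =>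
          let e : GA.obj (C'.X i) ≃ₗ[R] GP.obj (Gψ.obj (C'.X i)) :=
          { toFun := fun z => z
            invFun := fun z => z
            left_inv := fun _ => rfl
            right_inv := fun _ => rfl
            map_add' := fun _ _ => rfl
            map_smul' := fun r z => by
              show (algebraMap R A r • (show C'.X i from z)) = ψ (algebraMap R P r) • (show C'.X i from z)
              rw [ψ.commutes] }
          e.toModuleIso)
        (fun i j _ => by ext z; rfl)
    exact ⟨(DRing.restrictD (algebraMap R A)).mapIso (Rψ.mapIso eY ≪≫ eC.symm) ≪≫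
      GA.mapDerivedCategoryFactors.app C' ≪≫ DerivedCategory.Q.mapIso mid ≪≫
      DerivedCategory.Q.mapIso ((GP.mapHomologicalComplex (.up ℤ)).mapIso (FiniteRing.resCoI ψ.toRingHom I)) ≪≫
      (GP.mapDerivedCategoryFactors.app _).symm ≪≫ (DRing.restrictD (algebraMap R P)).mapIso b.symm ≪≫
      GP.mapDerivedCategoryFactors.app E⟩

omit [IsNoetherianRing A] in
/-- The upper bound on the degrees. -/
theorem le_zero [Module.Flat R A] (hψ : Function.Surjective ψ)
    (adj : DRing.restrictD ψ.toRingHom ⊣ Rψ) (i : ℤ) (hi : 0 < i) :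
    Subsingleton (Dual.HD A (Dual2.shriekVia n Rψ (Dual.inD R R)) i) := by
  letI := ψ.toRingHom.toAlgebra
  haveI : IsScalarTower R (MvPolynomial (Fin n) R) A :=
    IsScalarTower.of_algebraMap_eq fun r => (ψ.commutes r).symm
  obtain ⟨j, hj⟩ := Int.eq_ofNat_of_zero_le (show 0 ≤ (n : ℤ) + i by omega)
  obtain ⟨e, -⟩ := ShriekBounds.exists_shriek_equiv adj i j hj
  have : Subsingleton (PresTransfer.E ψ j) := PDFibre.subsingleton_ext_of_lt (n := n) hψ j (by omega)
  exact e.toEquiv.subsingleton

omit [IsNoetherianRing A] in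
/-- Both bounds. -/
theorem bounds [Module.Flat R A] (hψ : Function.Surjective ψ)
    (adj : DRing.restrictD ψ.toRingHom ⊣ Rψ) (q : PrimeSpectrum A) (d : ℕ)
    (hd : FlatMor.fibreDimAt (AlgebraicGeometry.Spec.map (CommRingCat.ofHom (algebraMap R A))) q = d)
    (i : ℤ) (h : Nontrivial (LocalizedModule q.asIdeal.primeCompl
      (Dual.HD A (Dual2.shriekVia n Rψ (Dual.inD R R)) i))) : -(d : ℤ) ≤ i ∧ i ≤ 0 := by
  refine ⟨ShriekBounds.neg_fibreDim_le hψ adj q d hd i h, le_of_not_gt fun hi => ?_⟩
  have := le_zero hψ adj i hi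
  exact not_subsingleton_iff_nontrivial.2 h (LocalizedModule.subsingleton_iff.2 fun x =>
    ⟨1, fun h1 => q.2.ne_top ((Ideal.eq_top_iff_one _).2 h1), Subsingleton.elim _ _⟩)

omit [IsNoetherianRing A] in
set_option maxHeartbeats 800000 in
/-- Tor amplitude from the fibre dimension. -/
theorem torAmplitude [Module.Flat R A] (hψ : Function.Surjective ψ)
    (adj : DRing.restrictD ψ.toRingHom ⊣ Rψ) (d : ℕ)
    (hd : ∀ q : PrimeSpectrum A,
      FlatMor.fibreDimAt (AlgebraicGeometry.Spec.map (CommRingCat.ofHom (algebraMap R A))) q ≤ (d : WithBot ℕ∞)) :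
    DRing.HasTorAmplitudeIn R (-(d : ℤ)) 0
      ((DRing.restrictD (algebraMap R A)).obj (Dual2.shriekVia n Rψ (Dual.inD R R))) := by
  letI := ψ.toRingHom.toAlgebra
  haveI : IsScalarTower R (MvPolynomial (Fin n) R) A :=
    IsScalarTower.of_algebraMap_eq fun r => (ψ.commutes r).symm
  let P := MvPolynomial (Fin n) R
  have hsurj : Function.Surjective (algebraMap P A) := hψ
  obtain ⟨E, hz, hfin, hproj, hhom, ⟨eE⟩⟩ := exists_model hψ adj
  let GP := ModuleCat.restrictScalars.{u} (algebraMap R P)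
  let ER : DRing.Cx R := (GP.mapHomologicalComplex (.up ℤ)).obj E
  let W := Rψ.obj (ShriekLCI.Y (R := R) (n := n))
  let c : ℕ := n - d
  have hcodim : ∀ (q : Ideal A) [q.IsPrime], c ≠ 0 → ∃ D dq : ℕ,
      ringKrullDim (CMFibrePrime.AmbientAt R (q.comap (algebraMap P A))) = D ∧
      ringKrullDim (GorFibrePrime.FibreAt R q) = dq ∧ c + dq ≤ D := fun q _ hc => by
    obtain ⟨D, dq, dd, hD, hdq, hdd, hsum⟩ := ShriekBounds.exists_codim (n := n) hsurj q
    have h1 := hd ⟨q, inferInstance⟩
    rw [hdd] at h1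
    have : dd ≤ d := by exact_mod_cast h1
    exact ⟨D, dq, hD, hdq, by omega⟩
  -- no cohomology below `c`
  have hW : W.IsGE (c : ℤ) := (isGE_iff W (c : ℤ)).2 fun j hj => by
    rcases lt_or_ge j 0 with h0 | h0
    · exact ShriekLCI.subsingleton_HD_neg adj j h0
    obtain ⟨j, rfl⟩ := Int.eq_ofNat_of_zero_le h0
    obtain ⟨e, he⟩ := ShriekLCI.exists_HD_equiv_E adj j
    refine ShriekLCI.subsingleton_of_local (A := A) fun (M : Ideal A) (hM : M.IsMaximal) x => ?_
    have := hM.isPrime
    obtain ⟨D, dq, hD, hdq, hle⟩ := hcodim M (by omega)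
    have := CMFibrePrime.subsingleton_of_lt hsurj M hD hdq j (by omega)
    obtain ⟨φ, hφ⟩ := LocalExtCI.exists_localizing (P := P) hsurj M j
    obtain ⟨⟨s, hs⟩, hsx⟩ := hφ.eq_zero (e x) (Subsingleton.elim _ _)
    exact ⟨ψ s, hs, e.injective (by rw [he, map_zero]; exact hsx)⟩
  have hER : ER.IsGE (c : ℤ) := by
    have := isGE_res (algebraMap R A) W (c : ℤ)
    rw [← DerivedCategory.isGE_Q_obj_iff]
    exact DerivedCategory.TStructure.t.isGE_of_iso eE (c : ℤ)
  -- flatness of the terms
  have hflatX : ∀ i : ℤ, Module.Flat R (ER.X i) := fun i => by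
    letI : Module R (E.X i) := Module.compHom _ (algebraMap R P)
    haveI : IsScalarTower R P (E.X i) := IsScalarTower.of_algebraMap_smul fun _ _ => rfl
    haveI := hproj i
    exact Module.Flat.trans R P (E.X i)
  have hflatC : Module.Flat R (ER.opcycles (c : ℤ)) := by
    let S := ER.sc' ((c : ℤ) - 1) (c : ℤ) ((c : ℤ) + 1)
    let e : ER.opcycles (c : ℤ) ≅ ModuleCat.of R (S.X₂ ⧸ LinearMap.range S.f.hom) :=
      ShortComplex.opcyclesMapIso (ER.isoSc' _ _ _ (by simp) (by simp)) ≪≫ S.moduleCatOpcyclesIso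
    suffices Module.Flat R (S.X₂ ⧸ LinearMap.range S.f.hom) from
      Module.Flat.of_linearEquiv e.toLinearEquiv
    rcases Nat.eq_zero_or_pos c with h0 | hpos
    · have hz0 : LinearMap.range S.f.hom = ⊥ := by
        have : S.f = 0 := (GP.map_isZero (hz ((c : ℤ) - 1) (Or.inl (by omega)))).eq_of_src _ _
        rw [this]
        exact LinearMap.range_zero
      haveI : Module.Flat R S.X₂ := hflatX (c : ℤ)
      exact Module.Flat.of_linearEquiv (Submodule.quotEquivOfEqBot _ hz0)
    · obtain ⟨j, hj⟩ : ∃ j, c = j + 1 := ⟨c - 1, by omega⟩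
      let G : ℕ → Type u := fun k => E.X (k : ℤ)
      let dd : ∀ k, G k →ₗ[P] G (k + 1) := fun k => (E.d (k : ℤ) ((k + 1 : ℕ) : ℤ)).hom
      haveI : ∀ k, Module.Finite P (G k) := fun k => hfin _
      haveI : ∀ k, Module.Projective P (G k) := fun k => hproj _
      have hdd : ∀ k z, dd (k + 1) (dd k z) = 0 := fun k z =>
        LinearMap.congr_fun (congrArg ModuleCat.Hom.hom (E.d_comp_d (k : ℤ) ((k + 1 : ℕ) : ℤ) ((k + 1 + 1 : ℕ) : ℤ))) z
      have hnull : ∀ x ∈ RingHom.ker (algebraMap P A), Acyclic.NullHomotopic dd x := fun x hx => by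
        obtain ⟨H⟩ := hhom x hx
        refine ⟨fun k => (H.hom ((k + 1 : ℕ) : ℤ) (k : ℤ)).hom, fun z => ?_, fun k z => ?_⟩
        · have h1 := H.comm ((0 : ℕ) : ℤ)
          rw [dNext_eq (w := show (ComplexShape.up ℤ).Rel ((0 : ℕ) : ℤ) ((0 + 1 : ℕ) : ℤ) by simp),
            prevD_eq (w := show (ComplexShape.up ℤ).Rel (((0 : ℕ) : ℤ) - 1) ((0 : ℕ) : ℤ) by simp),
            (hz (((0 : ℕ) : ℤ) - 1) (Or.inl (by omega))).eq_of_tgt (H.hom _ _) 0, zero_comp,
            HomologicalComplex.zero_f, add_zero, add_zero] at h1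
          exact (LinearMap.congr_fun (congrArg ModuleCat.Hom.hom h1) z).symm
        · have h1 := H.comm ((k + 1 : ℕ) : ℤ)
          rw [dNext_eq (w := show (ComplexShape.up ℤ).Rel ((k + 1 : ℕ) : ℤ) ((k + 1 + 1 : ℕ) : ℤ) by simp),
            prevD_eq (w := show (ComplexShape.up ℤ).Rel (k : ℤ) ((k + 1 : ℕ) : ℤ) by simp),
            HomologicalComplex.zero_f, add_zero] at h1
          exact ((LinearMap.congr_fun (congrArg ModuleCat.Hom.hom h1) z).trans (add_comm _ _)).symm
      have hflat := CokerFlat.flat_coker hsurj dd hdd c (fun q _ => hcodim q (by omega)) hnull j (by omega)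
      have key : ∀ a b : ℤ, a = (j : ℤ) → b = ((j + 1 : ℕ) : ℤ) →
          Module.Flat R ((GP.obj (E.X b)) ⧸ LinearMap.range (GP.map (E.d a b)).hom) := by
        rintro a b rfl rfl
        exact flat_res_coker (E.d _ _) hflat
      exact key _ _ (by omega) (by omega)
  -- the truncation
  let T : DRing.Cx R := ER.truncGE (c : ℤ)
  have hTz : ∀ i : ℤ, i < (c : ℤ) ∨ (n : ℤ) < i → IsZero (T.X i) := by
    rintro i (hi | hi)
    · exact CochainComplex.isZero_of_isStrictlyGE T (c : ℤ) i hi
    · exact (GP.map_isZero (hz i (Or.inr hi))).of_iso (ER.truncGEXIso (c : ℤ) i (by omega))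
  have hTflat : ∀ i : ℤ, Module.Flat R (T.X i) := fun i => by
    rcases lt_trichotomy i (c : ℤ) with hi | rfl | hi
    · have := ModuleCat.isZero_iff_subsingleton.1 (hTz i (Or.inl hi))
      infer_instance
    · exact Module.Flat.of_linearEquiv (ER.truncGEXIsoOpcycles (c : ℤ)).toLinearEquiv
    · haveI := hflatX i
      exact Module.Flat.of_linearEquiv (ER.truncGEXIso (c : ℤ) i hi).toLinearEquiv
  haveI : QuasiIso (ER.πTruncGE (c : ℤ)) := (CochainComplex.quasiIso_πTruncGE_iff ER _).2 hER
  have : IsIso (DerivedCategory.Q.map (ER.πTruncGE (c : ℤ))) :=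
    (DerivedCategory.isIso_Q_map_iff_quasiIso _ _).2 inferInstance
  refine ⟨T⟦(n : ℤ)⟧, fun i hi => (hTz (i + n) ?_).of_iso (T.shiftFunctorObjXIso (n : ℤ) i _ rfl),
    fun i => ?_, ⟨?_⟩⟩
  · omega
  · haveI := hTflat (i + n)
    exact Module.Flat.of_linearEquiv (T.shiftFunctorObjXIso (n : ℤ) i (i + n) rfl).toLinearEquiv
  · exact ((DerivedCategory.Q (C := ModuleCat.{u} R)).commShiftIso (n : ℤ)).app T ≪≫
      (shiftFunctor (Dual.D R) (n : ℤ)).mapIso
        ((@asIso _ _ _ _ (DerivedCategory.Q.map (ER.πTruncGE (c : ℤ))) this).symm ≪≫ eE.symm) ≪≫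
      (((DRing.restrictD (algebraMap R A)).commShiftIso (n : ℤ)).app W).symm

end Groth.Agent.Lib.DMod.ShriekAmplitude
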