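import Groth.Agent.Lib.DMod.ShriekKT
import Groth.Agent.Lib.DMod.TorIndepData
import Groth.Agent.Lib.DMod.ShriekIndep
import Mathlib.RingTheory.TensorProduct.MvPolynomial

/-!
Base change of the upper shriek of a flat algebra.
-/

set_option linter.style.haveILetI false

universe u

open CategoryTheory CategoryTheory.Limits MonoidalCategory
open Groth.Agent.Lib.DR
open Groth.Agent.Lib.DMod
open scoped TensorProduct

attribute [local instance] HasDerivedCategory.standard
attribute [local instance] MvPolynomial.algebraMvPolynomial Algebra.TensorProduct.rightAlgebra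

namespace Groth.Agent.Lib.DMod.ShriekBC

/-- Restriction of scalars on derived categories has a right adjoint. -/
theorem hasRHomRel {A B : Type u} [CommRing A] [CommRing B] (φ : A →+* B) : DTen.HasRHomRel φ := by
  choose G ε hε using fun K : Dual.D A => Rep.exists_isRep (φ := φ) K
  let e : ∀ (X : Dual.D B) (K : Dual.D A), ((DRing.restrictD φ).obj X ⟶ K) ≃ (X ⟶ G K) :=
    fun X K => (Equiv.ofBijective _ (hε K X)).symm
  have he : ∀ X' X K f g, e X' K ((DRing.restrictD φ).map f ≫ g) = f ≫ e X K g := fun X' X K f g => by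
    apply (e X' K).symm.injective
    rw [Equiv.symm_apply_apply]
    show _ = (DRing.restrictD φ).map (f ≫ e X K g) ≫ ε K
    rw [Functor.map_comp, Category.assoc]
    exact congrArg (_ ≫ ·) ((e X K).symm_apply_apply g).symm
  exact ⟨(Adjunction.adjunctionOfEquivRight e he).isLeftAdjoint⟩

/-- Tor vanishes for the base change of a polynomial presentation of a flat algebra. -/
theorem subsingleton_tor_bc {R P A : Type u} [CommRing R] [CommRing P] [CommRing A] [Algebra R P]
    [Module.Flat R P] [Algebra R A] [Algebra P A] [IsScalarTower R P A] [Module.Flat R A]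
    (M : Type u) [AddCommGroup M] [Module R M] (p : ℕ) (hp : 1 ≤ p) :
    Subsingleton (DRing.Tor P p A (P ⊗[R] M)) := by
  obtain ⟨k, rfl⟩ : ∃ k, p = k + 1 := ⟨p - 1, by omega⟩
  let F := ModuleCat.extendScalars.{u, u, u} (algebraMap R P)
  haveI : F.PreservesProjectiveObjects := ⟨fun {X} hX =>
    (IsProjective.iff_projective (R := P) (F.obj X)).1
      (BaseChange.ext_proj (algebraMap R P) X ((IsProjective.iff_projective (R := R) X).2 hX))⟩
  haveI : PreservesFiniteLimits F := FlatBC.preservesFiniteLimits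
  haveI : PreservesFiniteColimits F := FlatBC.preservesFiniteColimits
  haveI : F.PreservesHomology := F.preservesHomology_of_preservesEpis_and_kernels
  let Pr : ProjectiveResolution (ModuleCat.of R M) := projectiveResolution _
  let Q := F.mapProjectiveResolution Pr
  let G := MonoidalCategory.tensorLeft (ModuleCat.of P A)
  let C := (G.mapHomologicalComplex (ComplexShape.down ℕ)).obj Q.complex
  let T := (CategoryTheory.Tor (ModuleCat.{u} P) (k + 1)).obj (ModuleCat.of P A)
  let e : T.obj (ModuleCat.of P (P ⊗[R] M)) ≅ C.homology (k + 1) :=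
    T.mapIso (FlatBC.extEquiv R P M).toModuleIso.symm ≪≫ Q.isoLeftDerivedObj G (k + 1)
  suffices h : C.ExactAt (k + 1) from ModuleCat.subsingleton_of_isZero
    (((HomologicalComplex.exactAt_iff_isZero_homology _ _).1 h).of_iso e)
  rw [HomologicalComplex.exactAt_iff' C (k + 2) (k + 1) k (by simp) (by simp),
    ShortComplex.ShortExact.moduleCat_exact_iff_function_exact]
  let d₂ := (Pr.complex.d (k + 2) (k + 1)).hom
  let d₁ := (Pr.complex.d (k + 1) k).hom
  have hex : Function.Exact (d₂.lTensor A) (d₁.lTensor A) := by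
    refine Module.Flat.lTensor_exact A ?_
    exact (ShortComplex.ShortExact.moduleCat_exact_iff_function_exact _).1 (Pr.exact_succ k)
  have hexP := (H54.TorDimHom.exact_lTensor_iff (A := R) (B := P) A d₂ d₁).2 hex
  let E := fun N : ModuleCat.{u} R => (FlatBC.extEquiv R P N).lTensor A
  have key : ∀ {N N' : ModuleCat.{u} R} (u : N ⟶ N'),
      (u.hom.baseChange P).lTensor A ∘ₗ (E N).toLinearMap = (E N').toLinearMap ∘ₗ ((F.map u).hom.lTensor A) := by
    intro N N' u
    refine TensorProduct.ext' fun a x => ?_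
    show a ⊗ₜ[P] (u.hom.baseChange P) (FlatBC.extEquiv R P N x) = a ⊗ₜ[P] FlatBC.extEquiv R P N' ((F.map u).hom x)
    refine congrArg (a ⊗ₜ[P] ·) ?_
    induction x using TensorProduct.induction_on with
    | zero => erw [map_zero]
    | add x y hx hy => erw [map_add, map_add, map_add, map_add, hx, hy]
    | tmul b m => rfl
  exact (Function.Exact.iff_of_ladder_linearEquiv (e₁ := E _) (e₂ := E _) (e₃ := E _) (key _) (key _)).1 hexP

section Core

variable {R R' A A' : Type u} [CommRing R] [CommRing R'] [CommRing A] [CommRing A']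
  [Algebra R R'] [Algebra R A] [Algebra A A'] [Algebra R' A'] [Algebra R A']
  [IsScalarTower R A A'] [IsScalarTower R R' A'] [Algebra.IsPushout R A R' A'] [Module.Flat R A]
  [Algebra.FinitePresentation R A] {n : ℕ}
  [Algebra (MvPolynomial (Fin n) R) A] [IsScalarTower R (MvPolynomial (Fin n) R) A]
  [Algebra (MvPolynomial (Fin n) R') A'] [IsScalarTower R' (MvPolynomial (Fin n) R') A']
  [Algebra (MvPolynomial (Fin n) R) A'] [IsScalarTower (MvPolynomial (Fin n) R) A A']
  [IsScalarTower (MvPolynomial (Fin n) R) (MvPolynomial (Fin n) R') A']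

/-- Base change of the relative dualizing object of a presentation. -/
theorem nonempty_unit_iso (hsurj : Function.Surjective (algebraMap (MvPolynomial (Fin n) R) A))
    [DRing.HasLBaseChange (algebraMap A A')]
    {Rψ : Dual.D (MvPolynomial (Fin n) R) ⥤ Dual.D A}
    (adj : DRing.restrictD (algebraMap (MvPolynomial (Fin n) R) A) ⊣ Rψ)
    {Rψ' : Dual.D (MvPolynomial (Fin n) R') ⥤ Dual.D A'}
    (adj' : DRing.restrictD (algebraMap (MvPolynomial (Fin n) R') A') ⊣ Rψ') :
    Nonempty ((DRing.LBaseChange (algebraMap A A')).obj (Rψ.obj (DTen.unit (MvPolynomial (Fin n) R))) ≅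
      Rψ'.obj (DTen.unit (MvPolynomial (Fin n) R'))) := by
  let P := MvPolynomial (Fin n) R
  let P' := MvPolynomial (Fin n) R'
  haveI : IsScalarTower R P' A' := IsScalarTower.of_algebraMap_eq fun r => by
    rw [IsScalarTower.algebraMap_apply R R' A', IsScalarTower.algebraMap_apply R' P' A',
      IsScalarTower.algebraMap_apply R R' P']
  haveI : Algebra.IsPushout P A P' A' := (Algebra.IsPushout.comp_iff R P R' P').1 inferInstance
  haveI : DRing.HasLBaseChange (algebraMap P P') := BaseChangeU.hasLBaseChange _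
  have htor : ∀ p : ℕ, 1 ≤ p → Subsingleton (DRing.Tor P p A P') := fun p hp => by
    have h1 := subsingleton_tor_bc (R := R) (P := P) (A := A) R' p hp
    let e := ((CategoryTheory.Tor (ModuleCat.{u} P) p).obj (ModuleCat.of P A)).mapIso
      ((Algebra.IsPushout.equiv R P R' P').toLinearEquiv).toModuleIso
    exact e.toLinearEquiv.symm.toEquiv.subsingleton
  obtain ⟨E, hE, e, q, he, hq', hq⟩ :=
    TorIndepData.exists_data_proj (R := P) (A := A) (R' := P') (A' := A') htor
  have hEf := KFlat.isKFlat_of_isKProjective E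
  have hsq : (algebraMap A A').comp (algebraMap P A) = (algebraMap P' A').comp (algebraMap P P') :=
    (IsScalarTower.algebraMap_eq P A A').symm.trans (IsScalarTower.algebraMap_eq P P' A')
  let adjσ : DRing.LBaseChange (algebraMap P P') ⊣ DRing.restrictD (algebraMap P P') :=
    Derived.derivedAdj (ModuleCat.extendRestrictScalarsAdj.{u} (algebraMap P P'))
  let adjα : DRing.LBaseChange (algebraMap A A') ⊣ DRing.restrictD (algebraMap A A') :=
    Derived.derivedAdj (ModuleCat.extendRestrictScalarsAdj.{u} (algebraMap A A'))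
  let ψ : P →ₐ[R] A := IsScalarTower.toAlgHom R P A
  obtain ⟨S₀, p, S, hp, hSK, hS, hP⟩ :=
    RelHom.exists_perfect_unit (algebraMap P A) (ShriekKT.isPerfect_res_unit ψ hsurj)
  have hc := TorIndepBC.isIso_cmp _ _ _ _ hsq e q adjσ adjα hEf hq (Rψ.obj (DTen.unit P))
  have := TorIndepBC.isIso_bcMap _ _ _ _ hsq e q adjσ adjα hEf hq adj adj' p S hS hP (DTen.unit P) hc
  haveI : CochainComplex.IsKProjective (𝟙_ (DRing.Cx P)) :=
    FiniteComplex.isKProjective_of_bounds PseudoCoherent.projective_of_proj (b := 0)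
      (fun i hi => HomologicalComplex.isZero_single_obj_X (ComplexShape.up ℤ) 0 _ i (by omega))
      (fun i => by
        by_cases hi : i = 0
        · subst hi
          exact PseudoCoherent.good_proj.iso
            (HomologicalComplex.singleObjXSelf (ComplexShape.up ℤ) 0 (𝟙_ (ModuleCat.{u} P))).symm
            (inferInstanceAs (Module.Projective P P))
        · exact PseudoCoherent.good_proj.zero
            (HomologicalComplex.isZero_single_obj_X (ComplexShape.up ℤ) 0 _ i hi))
  let v : (ModuleCat.extendScalars.{u, u, u} (algebraMap P P')).obj (𝟙_ (ModuleCat.{u} P)) ≅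
      𝟙_ (ModuleCat.{u} P') :=
    ((FlatBC.extEquiv P P' P).trans (Algebra.TensorProduct.rid P P' P').toLinearEquiv).toModuleIso
  let w : (DRing.LBaseChange (algebraMap P P')).obj (DTen.unit P) ≅ DTen.unit P' :=
    BaseChange.bc (algebraMap P P') (𝟙_ (DRing.Cx P)) ≪≫ DerivedCategory.Q.mapIso
      ((HomologicalComplex.singleMapHomologicalComplex _ (ComplexShape.up ℤ) 0).app _ ≪≫
        (HomologicalComplex.single (ModuleCat.{u} P') (ComplexShape.up ℤ) 0).mapIso v)
  exact ⟨asIso (TrivBC.bcMap adjσ adjα hsq adj adj' (DTen.unit P) hc) ≪≫ Rψ'.mapIso w⟩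

end Core

/-- Base change of the upper shriek along a flat map. -/
theorem nonempty_baseChange_iso {R R' A : Type u} [CommRing R] [CommRing R'] [CommRing A]
    [Algebra R R'] [Algebra R A] [Module.Flat R A] [Algebra.FinitePresentation R A]
    (n : ℕ) (ψ : MvPolynomial (Fin n) R →ₐ[R] A) (hψ : Function.Surjective ψ)
    [DRing.HasLBaseChange (algebraMap R (MvPolynomial (Fin n) R))]
    (Rψ : Dual.D (MvPolynomial (Fin n) R) ⥤ Dual.D A) (adj : DRing.restrictD ψ.toRingHom ⊣ Rψ)
    (m : ℕ) (ψ' : MvPolynomial (Fin m) R' →ₐ[R'] (R' ⊗[R] A)) (hψ' : Function.Surjective ψ')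
    [DRing.HasLBaseChange (algebraMap R' (MvPolynomial (Fin m) R'))]
    (Rψ' : Dual.D (MvPolynomial (Fin m) R') ⥤ Dual.D (R' ⊗[R] A))
    (adj' : DRing.restrictD ψ'.toRingHom ⊣ Rψ')
    [DRing.HasLBaseChange (algebraMap A (R' ⊗[R] A))] [DRing.HasLBaseChange (algebraMap R R')]
    (K : Dual.D R) :
    Nonempty ((DRing.LBaseChange (algebraMap A (R' ⊗[R] A))).obj (Dual2.shriekVia n Rψ K) ≅
      Dual2.shriekVia m Rψ' ((DRing.LBaseChange (algebraMap R R')).obj K)) := by
  let P := MvPolynomial (Fin n) R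
  let P' := MvPolynomial (Fin n) R'
  let A' := R' ⊗[R] A
  haveI : Module.Flat R' A' := inferInstance
  let ψ'' : P' →ₐ[R'] A' :=
    MvPolynomial.aeval fun i => Algebra.TensorProduct.includeRight (R := R) (A := R') (ψ (MvPolynomial.X i))
  have hcomp : (algebraMap A A').comp ψ.toRingHom = ψ''.toRingHom.comp (algebraMap P P') := by
    refine MvPolynomial.ringHom_ext (fun r => ?_) fun i => ?_
    · show algebraMap A A' (ψ (MvPolynomial.C r)) = ψ'' (MvPolynomial.map (algebraMap R R') (MvPolynomial.C r))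
      rw [MvPolynomial.map_C, MvPolynomial.aeval_C, ← IsScalarTower.algebraMap_apply,
        show ψ (MvPolynomial.C r) = algebraMap R A r from ψ.commutes r, ← IsScalarTower.algebraMap_apply]
    · show algebraMap A A' (ψ (MvPolynomial.X i)) = ψ'' (MvPolynomial.map (algebraMap R R') (MvPolynomial.X i))
      rw [MvPolynomial.map_X, MvPolynomial.aeval_X]
      rfl
  have hψ'' : Function.Surjective ψ'' := fun z => by
    induction z using TensorProduct.induction_on with
    | zero => exact ⟨0, map_zero _⟩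
    | add x y hx hy =>
      obtain ⟨a, rfl⟩ := hx
      obtain ⟨b, rfl⟩ := hy
      exact ⟨a + b, map_add _ _ _⟩
    | tmul r a =>
      obtain ⟨f, rfl⟩ := hψ a
      refine ⟨MvPolynomial.C r * algebraMap P P' f, ?_⟩
      rw [map_mul, MvPolynomial.aeval_C]
      have h1 : ψ'' (algebraMap P P' f) = (1 : R') ⊗ₜ[R] ψ f := (RingHom.congr_fun hcomp f).symm
      rw [h1]
      show r ⊗ₜ[R] (1 : A) * (1 : R') ⊗ₜ[R] ψ f = r ⊗ₜ[R] ψ f
      rw [Algebra.TensorProduct.tmul_mul_tmul, mul_one, one_mul]
  haveI : DRing.HasLBaseChange (algebraMap R' P') := BaseChangeU.hasLBaseChange _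
  haveI := hasRHomRel ψ''.toRingHom
  let Rψ'' := DTen.RHomRel ψ''.toRingHom
  let adj'' : DRing.restrictD ψ''.toRingHom ⊣ Rψ'' := DTen.relAdj _
  -- the relative dualizing objects
  have core : Nonempty ((DRing.LBaseChange (algebraMap A A')).obj (Rψ.obj (DTen.unit P)) ≅
      Rψ''.obj (DTen.unit P')) := by
    letI : Algebra P A := ψ.toRingHom.toAlgebra
    letI : Algebra P' A' := ψ''.toRingHom.toAlgebra
    letI : Algebra P A' := ((algebraMap A A').comp ψ.toRingHom).toAlgebra
    haveI : IsScalarTower R P A := IsScalarTower.of_algebraMap_eq fun r => (ψ.commutes r).symm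
    haveI : IsScalarTower R' P' A' := IsScalarTower.of_algebraMap_eq fun r => (ψ''.commutes r).symm
    haveI : IsScalarTower P A A' := IsScalarTower.of_algebraMap_eq fun r => rfl
    haveI : IsScalarTower P P' A' := IsScalarTower.of_algebraMap_eq fun f => RingHom.congr_fun hcomp f
    exact nonempty_unit_iso (R := R) (R' := R') (A := A) (A' := A') (n := n) hψ adj adj''
  obtain ⟨c⟩ := core
  -- representatives
  obtain ⟨N, hN, ⟨eN⟩⟩ := DTenBasic.exists_rep (Rψ.obj (DTen.unit P))
  obtain ⟨X, hX, ⟨eX⟩⟩ := DTenBasic.exists_rep K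
  let ι := algebraMap R A
  let α := algebraMap A A'
  let ρ := algebraMap R R'
  let ι' := algebraMap R' A'
  haveI : CochainComplex.IsKProjective ((DTen.extCx ι).obj X) := BaseChangeU.isKProjective_ext ι X
  haveI : CochainComplex.IsKProjective ((DTen.extCx ρ).obj X) := BaseChangeU.isKProjective_ext ρ X
  haveI : CochainComplex.IsKProjective ((DTen.extCx α).obj N) := BaseChangeU.isKProjective_ext α N
  haveI : CochainComplex.IsKProjective (N⟦(n : ℤ)⟧) := inferInstance
  haveI : CochainComplex.IsKProjective ((DTen.extCx ι).obj X ⊗ N⟦(n : ℤ)⟧) := RHom.isKProjective_tensor _ _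
  obtain ⟨eL⟩ := ShriekKT.nonempty_shriek_iso ψ hψ adj N (KFlat.isKFlat_of_isKProjective N) eN X
  let eN' : DerivedCategory.Q.obj ((DTen.extCx α).obj N) ≅ Rψ''.obj (DTen.unit P') :=
    (BaseChange.bc α N).symm ≪≫ (DRing.LBaseChange α).mapIso eN ≪≫ c
  obtain ⟨eR⟩ := ShriekKT.nonempty_shriek_iso ψ'' hψ'' adj'' ((DTen.extCx α).obj N)
    (KFlat.isKFlat_of_isKProjective _) eN' ((DTen.extCx ρ).obj X)
  obtain ⟨ind⟩ := ShriekIndep.nonempty_iso n ψ'' hψ'' Rψ'' adj'' m ψ' hψ' Rψ' adj'
    ((DRing.LBaseChange ρ).obj K)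
  have hcc : α.comp ι = ι'.comp ρ :=
    (IsScalarTower.algebraMap_eq R A A').symm.trans (IsScalarTower.algebraMap_eq R R' A')
  let cX : (DTen.extCx α).obj ((DTen.extCx ι).obj X) ≅ (DTen.extCx ι').obj ((DTen.extCx ρ).obj X) :=
    (DTen.extCompCx ι α).app X ≪≫ eqToIso (by rw [hcc]) ≪≫ ((DTen.extCompCx ρ ι').app X).symm
  let cN : (DTen.extCx α).obj (N⟦(n : ℤ)⟧) ≅ ((DTen.extCx α).obj N)⟦(n : ℤ)⟧ :=
    ((DTen.extCx α).commShiftIso (n : ℤ)).app N
  exact ⟨(DRing.LBaseChange α).mapIso ((shiftFunctor (Dual.D A) (n : ℤ)).mapIso (Rψ.mapIso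
      ((DRing.LBaseChange (algebraMap R P)).mapIso eX.symm)) ≪≫ eL) ≪≫
    BaseChange.bc α ((DTen.extCx ι).obj X ⊗ N⟦(n : ℤ)⟧) ≪≫
    DerivedCategory.Q.mapIso (DTen.extTenCxIso α _ _ ≪≫ tensorIso cX cN) ≪≫
    eR.symm ≪≫ (shiftFunctor (Dual.D A') (n : ℤ)).mapIso (Rψ''.mapIso
      ((DRing.LBaseChange (algebraMap R' P')).mapIso
        ((BaseChange.bc ρ X).symm ≪≫ (DRing.LBaseChange ρ).mapIso eX))) ≪≫ ind⟩

end Groth.Agent.Lib.DMod.ShriekBC
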