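import Groth.Prelude.Def_DualSh
import Groth.Agent.Lib.DMod.GorFibreApply
import Groth.Agent.Lib.DMod.FiniteRing
import Groth.Agent.Lib.DMod.DimDegree
import Mathlib.RingTheory.Smooth.Basic
import Mathlib.RingTheory.KrullDimension.Polynomial
import Mathlib.RingTheory.Jacobson.Ring

/-!
The upper shriek construction and dualizing complexes.
-/

universe u

open CategoryTheory CategoryTheory.Limits Pretriangulated TensorProduct
open Groth.Agent.Lib.DMod Groth.Agent.Lib.DMod.Basic Groth.Agent.Lib.DMod.Conservative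
open Groth.Agent.Lib.DMod.FlatHom Groth.Agent.Lib.DMod.FlatDualizing

attribute [local instance] HasDerivedCategory.standard

namespace Groth.Agent.Lib.DMod.ShriekVia

variable {A B : Type u} [CommRing A] [CommRing B] {φ : A →+* B}

theorem right_bounded_below {R : Dual.D A ⥤ Dual.D B} (adj : DRing.restrictD φ ⊣ R) {K : Dual.D A}
    {a : ℤ} (hK : ∀ i : ℤ, i < a → Subsingleton (Dual.HD A K i)) (i : ℤ) (hi : i < a) :
    Subsingleton (Dual.HD B (R.obj K) i) := by
  have : K.IsGE a := (isGE_iff K a).2 hK
  let X := (ModuleCat.restrictScalars.{u} φ).obj (ModuleCat.of B B)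
  have h0 : Subsingleton (Dual.inD A X ⟶ K⟦i⟧) := subsingleton_of_forall_eq 0 fun f => by
    have : (K⟦i⟧).IsGE (a - i) := DerivedCategory.TStructure.t.isGE_shift K a i _ (by lia)
    have : (K⟦i⟧).IsGE 1 := DerivedCategory.TStructure.t.isGE_of_ge _ 1 (a - i) (by lia)
    exact DerivedCategory.TStructure.t.zero f 0 1
  have : Subsingleton (Dual.inD B B ⟶ (R.obj K)⟦i⟧) :=
    ((FiniteRing.adjEquiv (FiniteRing.isRep_counit adj K) (Dual.inD B B) i).trans
      (Linear.homCongr A (FiniteRing.resSingle (ModuleCat.of B B)) (Iso.refl _)).toAddEquiv).toEquiv.subsingleton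
  exact (homUnitShiftEquiv (R.obj K) i).symm.toEquiv.subsingleton

variable [IsNoetherianRing A] (n : ℕ)

/-- The derived base change to the polynomial ring of a dualizing complex is dualizing. -/
theorem isDualizing_L_mvPolynomial {ω : Dual.D A} (hω : Dual.IsDualizing A ω) :
    Dual.IsDualizing (MvPolynomial (Fin n) A) ((L A (MvPolynomial (Fin n) A)).obj ω) :=
  haveI : Algebra.Smooth A (MvPolynomial (Fin n) A) := ⟨inferInstance, inferInstance⟩
  GorFibreGlobal.isDualizing_L_of_fibres (GorFibreApply.ringKrullDim_lt_top_of_finiteType hω)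
    (fun q => GorFibreApply.gorenstein_fibre_of_smooth _) hω

variable {n}

/-- Maximal ideals of polynomial rings over a field have full height. -/
theorem height_maximal (k : Type u) [Field k] : ∀ (n : ℕ) (M : Ideal (MvPolynomial (Fin n) k)),
    M.IsMaximal → M.height = n
  | 0, M, hM => by
    have h := Ideal.height_le_ringKrullDim_of_ne_top hM.ne_top
    rw [MvPolynomial.ringKrullDim_of_isNoetherianRing, ringKrullDim_eq_zero_of_field] at h
    simpa using h
  | n + 1, M, hM => by
    let e := (MvPolynomial.finSuccEquiv k n).toRingEquiv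
    let M' : Ideal (Polynomial (MvPolynomial (Fin n) k)) := M.map e
    have : M'.IsMaximal := Ideal.map_isMaximal_of_equiv e
    have h0 : (M'.comap Polynomial.C).IsMaximal :=
      Polynomial.isMaximal_comap_C_of_isJacobsonRing M'
    have : M'.LiesOver (M'.comap Polynomial.C) := ⟨rfl⟩
    rw [← e.height_map M, Polynomial.height_eq_height_add_one (M'.comap Polynomial.C) M',
      height_maximal k n _ h0]
    rfl

/-- The degree of a maximal ideal of a polynomial algebra over the closed point. -/
theorem deg_maximal [IsLocalRing A] {ω : Dual.D A} (hω : Dual.IsDualizing A ω)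
    (hn : Dual.IsNormalized A ω) (M : Ideal (MvPolynomial (Fin n) A)) [hM : M.IsMaximal]
    (hc : M.comap (algebraMap A (MvPolynomial (Fin n) A)) = IsLocalRing.maximalIdeal A) :
    Degree.deg (isDualizing_L_mvPolynomial n hω) ⟨M, hM.isPrime⟩ = n := by
  let P := MvPolynomial (Fin n) A
  let m := IsLocalRing.maximalIdeal A
  set Lω := isDualizing_L_mvPolynomial n hω
  let e : (P ⧸ m.map (algebraMap A P)) ≃+* MvPolynomial (Fin n) (A ⧸ m) :=
    MvPolynomial.quotientEquivQuotientMvPolynomial m |>.toRingEquiv.symm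
  have hprime : (m.map (algebraMap A P)).IsPrime := by
    rw [← Ideal.Quotient.isDomain_iff_prime]
    have : IsDomain (A ⧸ m) := Ideal.Quotient.isDomain _
    exact e.toMulEquiv.isDomain_iff.2 inferInstance
  let η : PrimeSpectrum P := ⟨m.map (algebraMap A P), hprime⟩
  let q : PrimeSpectrum P := ⟨M, hM.isPrime⟩
  have hηq : η ≤ q := Ideal.map_le_iff_le_comap.2 (le_of_eq hc.symm)
  have hdη : Degree.deg Lω η = 0 := by
    by_contra hne
    have := hn _ hne
    have := vanish_quot P (bddFin_of_dualizing hω) m _ this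
    exact absurd (Degree.mem_support_deg Lω η) (by simp [Module.support_eq_empty, η])
  have hdq := Degree.deg_le Lω hηq
  have hdim : (((Degree.deg Lω q - Degree.deg Lω η).toNat : ℕ) : WithBot ℕ∞) = n := by
    rw [← DimDegree.supportDim_localized_eq Lω q η (P ⧸ η.asIdeal) hηq
      ((HomSupp.mem_support_quotient_prime η η).2 le_rfl)
      fun r hr _ => Degree.deg_le Lω ((HomSupp.mem_support_quotient_prime η r).1 hr),
      SupportDim.supportDim_localized]
    let S : Set (PrimeSpectrum P) := {r | η ≤ r}
    rw [show Module.support P (P ⧸ η.asIdeal) = S from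
      Set.ext fun r => HomSupp.mem_support_quotient_prime η r]
    let Pq := MvPolynomial (Fin n) (A ⧸ m)
    let ψ : P →+* Pq := e.toRingHom.comp (Ideal.Quotient.mk η.asIdeal)
    have hψ : Function.Surjective ψ := e.surjective.comp Ideal.Quotient.mk_surjective
    have hker : RingHom.ker ψ = η.asIdeal := by
      rw [← RingHom.comap_ker, (RingHom.injective_iff_ker_eq_bot e.toRingHom).1 e.injective,
        ← RingHom.ker_eq_comap_bot, Ideal.mk_ker]
    have : M.comap (RingHom.id P) = M := Ideal.comap_id M
    let M' : Ideal Pq := M.map ψ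
    have hM' : M'.IsMaximal := (Ideal.map_eq_top_or_isMaximal_of_surjective ψ hψ hM).resolve_left
      fun h => hM.ne_top (by
        rw [← Ideal.comap_map_of_surjective' ψ hψ M |>.trans (sup_eq_left.2 (hker.le.trans hηq)), h,
          Ideal.comap_top])
    have hMM' : M'.comap ψ = M :=
      (Ideal.comap_map_of_surjective' ψ hψ M).trans (sup_eq_left.2 (hker.le.trans hηq))
    let _ := Ideal.Quotient.field m
    have hh : (M'.height : WithBot ℕ∞) = n := by
      rw [height_maximal (A ⧸ m) n M' hM']
      simp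
    rw [← hh, show M'.height = Order.height (⟨M', hM'.isPrime⟩ : PrimeSpectrum Pq) from
      PrimeSpectrum.height_eq_orderHeight (⟨M', hM'.isPrime⟩ : PrimeSpectrum Pq),
      Order.height_eq_krullDim_Iic]
    refine Order.krullDim_eq_of_orderIso
      { toFun := fun r => ⟨⟨r.1.asIdeal.map ψ, Ideal.map_isPrime_of_surjective hψ (hker.le.trans r.2.1)⟩,
          Ideal.map_mono r.2.2⟩
        invFun := fun r => ⟨PrimeSpectrum.comap ψ r.1,
          hker.ge.trans (Ideal.comap_mono bot_le : RingHom.ker ψ ≤ r.1.asIdeal.comap ψ),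
          (Ideal.comap_mono r.2).trans hMM'.le⟩
        left_inv := fun r => Subtype.ext (PrimeSpectrum.ext
          ((Ideal.comap_map_of_surjective' ψ hψ r.1.asIdeal).trans (sup_eq_left.2 (hker.le.trans r.2.1))))
        right_inv := fun r => Subtype.ext (PrimeSpectrum.ext (Ideal.map_comap_of_surjective ψ hψ r.1.asIdeal))
        map_rel_iff' := fun {r s} => ⟨fun h => by
          have h2 : (r.1.asIdeal.map ψ).comap ψ ≤ (s.1.asIdeal.map ψ).comap ψ := Ideal.comap_mono h
          rwa [Ideal.comap_map_of_surjective' ψ hψ, Ideal.comap_map_of_surjective' ψ hψ,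
            sup_eq_left.2 (hker.le.trans r.2.1), sup_eq_left.2 (hker.le.trans s.2.1)] at h2,
          fun h => Ideal.map_mono h⟩ }
  have h' : (Degree.deg Lω q - Degree.deg Lω η).toNat = n := by exact_mod_cast hdim
  show Degree.deg Lω q = n
  omega

/-- At a maximal ideal, `Hom(P/M, Y[i])` lives only in degree `deg M`. -/
theorem subsingleton_closed {P : Type u} [CommRing P] [IsNoetherianRing P] {Y : Dual.D P}
    (hY : Dual.IsDualizing P Y) (M : Ideal P) [hM : M.IsMaximal] (i : ℤ)
    (hi : i ≠ Degree.deg hY ⟨M, hM.isPrime⟩) :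
    Subsingleton (Dual.inD P (P ⧸ M) ⟶ Y⟦i⟧) := by
  rw [← Module.support_eq_empty_iff (R := P), Set.eq_empty_iff_forall_notMem]
  intro q hq
  by_cases hqM : q = ⟨M, hM.isPrime⟩
  · subst hqM
    exact hi ((Degree.mem_support_iff_eq_deg hY ⟨M, hM.isPrime⟩ i).1 hq)
  · have hnot : q ∉ Module.support P (P ⧸ M) := by
      rw [HomSupp.mem_support_quotient_prime ⟨M, hM.isPrime⟩ q]
      exact fun h => hqM (PrimeSpectrum.ext (hM.eq_of_le q.2.ne_top h).symm)
    obtain ⟨s, hs, hsM⟩ := HomSupp.exists_notMem_smul_eq_zero hnot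
    exact Module.notMem_support_iff'.2
      (fun f => ⟨s, hs, HomSupp.smul_hom_eq_zero_left (HomSupp.smul_id_inD hsM) f⟩) hq

/-- The upper shriek of a normalized dualizing complex at a closed point over the closed point. -/
theorem subsingleton_maximal [IsLocalRing A] {ω : Dual.D A} (hω : Dual.IsDualizing A ω)
    (hn : Dual.IsNormalized A ω) (M : Ideal (MvPolynomial (Fin n) A)) [hM : M.IsMaximal]
    (hc : M.comap (algebraMap A (MvPolynomial (Fin n) A)) = IsLocalRing.maximalIdeal A)
    (i : ℤ) (hi : i ≠ n) :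
    Subsingleton (Dual.inD (MvPolynomial (Fin n) A) (MvPolynomial (Fin n) A ⧸ M) ⟶
      ((L A (MvPolynomial (Fin n) A)).obj ω)⟦i⟧) := by
  refine subsingleton_closed (isDualizing_L_mvPolynomial n hω) M i fun h => hi ?_
  rw [h, deg_maximal hω hn M hc]

end Groth.Agent.Lib.DMod.ShriekVia
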