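import Groth.Agent.Lib.DMod.PresTransfer
import Groth.Agent.Lib.DMod.LocalExtCI
import Groth.Agent.Lib.DMod.ShriekVia
import Groth.Agent.Lib.DMod.Devissage
import Groth.Agent.Lib.Goren.OfLCI

/-!
The relative dualizing complex of a local complete intersection is invertible.
-/

set_option linter.style.haveILetI false

universe u

open CategoryTheory CategoryTheory.Limits Pretriangulated TensorProduct RingTheory.Sequence
open Groth.Agent.Lib.DR
open Groth.Agent.Lib.DMod Groth.Agent.Lib.DMod.Basic Groth.Agent.Lib.DMod.FlatHom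

attribute [local instance] HasDerivedCategory.standard

namespace Groth.Agent.Lib.DMod.ShriekLCI

variable {R A : Type u} [CommRing R] [CommRing A] [Algebra R A] {n : ℕ}
  {ψ : MvPolynomial (Fin n) R →ₐ[R] A}
  [DRing.HasLBaseChange (algebraMap R (MvPolynomial (Fin n) R))]
  {Rψ : Dual.D (MvPolynomial (Fin n) R) ⥤ Dual.D A}

/-- The base change of `R` to the polynomial ring. -/
noncomputable abbrev Y : Dual.D (MvPolynomial (Fin n) R) :=
  (DRing.LBaseChange (algebraMap R (MvPolynomial (Fin n) R))).obj (Dual.inD R R)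

/-- It is the polynomial ring in degree zero. -/
noncomputable def YIso : (Y (R := R) (n := n)) ≅
    Dual.inD (MvPolynomial (Fin n) R) (MvPolynomial (Fin n) R) :=
  (isoLBaseChange R (MvPolynomial (Fin n) R)).app _ ≪≫
    FlatBC.mapInD (A := R) (B := MvPolynomial (Fin n) R) (M := R) ≪≫
      (DerivedCategory.singleFunctor (ModuleCat.{u} (MvPolynomial (Fin n) R)) 0).mapIso
        (Algebra.TensorProduct.rid R (MvPolynomial (Fin n) R)
          (MvPolynomial (Fin n) R)).toLinearEquiv.toModuleIso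

/-- `res A` as a module. -/
noncomputable def resIso :
    letI := ψ.toRingHom.toAlgebra
    (ModuleCat.restrictScalars.{u} ψ.toRingHom).obj (ModuleCat.of A A) ≅
      ModuleCat.of (MvPolynomial (Fin n) R) A :=
  letI := ψ.toRingHom.toAlgebra
  Iso.refl _

/-- Cohomology of the adjoint is `Hom` out of `A`. -/
theorem exists_HD_equiv_hom (adj : DRing.restrictD ψ.toRingHom ⊣ Rψ) (j : ℤ) :
    letI := ψ.toRingHom.toAlgebra
    ∃ e : Dual.HD A (Rψ.obj Y) j ≃+
      (Dual.inD (MvPolynomial (Fin n) R) A ⟶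
        (Dual.inD (MvPolynomial (Fin n) R) (MvPolynomial (Fin n) R))⟦j⟧),
      ∀ (p : MvPolynomial (Fin n) R) x, e (ψ p • x) = p • e x := by
  letI := ψ.toRingHom.toAlgebra
  let e₁ := (homUnitShiftEquiv (Rψ.obj Y) j).symm
  let e₂ := FiniteRing.adjEquiv (FiniteRing.isRep_counit adj (Y (R := R) (n := n))) (Dual.inD A A) j
  let e₃ : ((DRing.restrictD ψ.toRingHom).obj (Dual.inD A A) ⟶ (Y (R := R) (n := n))⟦j⟧) ≃ₗ[
      MvPolynomial (Fin n) R] (Dual.inD (MvPolynomial (Fin n) R) A ⟶
        (Dual.inD (MvPolynomial (Fin n) R) (MvPolynomial (Fin n) R))⟦j⟧) :=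
    Linear.homCongr (MvPolynomial (Fin n) R)
      (FiniteRing.resSingle (ModuleCat.of A A) ≪≫
        (DerivedCategory.singleFunctor (ModuleCat.{u} (MvPolynomial (Fin n) R)) 0).mapIso resIso)
      ((shiftFunctor _ j).mapIso YIso)
  refine ⟨(e₁.toAddEquiv.trans e₂).trans e₃.toAddEquiv, fun p x => ?_⟩
  show e₃ (e₂ (e₁ (ψ p • x))) = p • e₃ (e₂ (e₁ x))
  rw [map_smul]
  exact (congrArg e₃ (FiniteRing.adjEquiv_smul _ _ j p (e₁ x))).trans (map_smul e₃ p _)

theorem subsingleton_HD_neg (adj : DRing.restrictD ψ.toRingHom ⊣ Rψ) (j : ℤ) (hj : j < 0) :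
    Subsingleton (Dual.HD A (Rψ.obj Y) j) := by
  letI := ψ.toRingHom.toAlgebra
  obtain ⟨e, -⟩ := exists_HD_equiv_hom adj j
  have := subsingleton_hom_inD_neg (A := MvPolynomial (Fin n) R) (M := A)
    (N := MvPolynomial (Fin n) R) hj
  exact e.toEquiv.subsingleton

theorem exists_HD_equiv_E (adj : DRing.restrictD ψ.toRingHom ⊣ Rψ) (i : ℕ) :
    ∃ e : Dual.HD A (Rψ.obj Y) (i : ℤ) ≃+ PresTransfer.E ψ i,
      ∀ (p : MvPolynomial (Fin n) R) x, e (ψ p • x) = p • e x := by
  letI := ψ.toRingHom.toAlgebra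
  obtain ⟨e, he⟩ := exists_HD_equiv_hom adj (i : ℤ)
  let E := extEquiv (A := MvPolynomial (Fin n) R) A (MvPolynomial (Fin n) R) i
  exact ⟨e.trans E.symm.toAddEquiv, fun p x =>
    (congrArg E.symm (he p x)).trans (map_smul E.symm p _)⟩

variable [IsNoetherianRing R] {N : ℕ} {α : MvPolynomial (Fin N) R →ₐ[R] A}

/-- The structure near the primes lying in a chart of the presentation `α`. -/
theorem chart_structure (hψ : Function.Surjective ψ) (hα : Function.Surjective α)
    (adj : DRing.restrictD ψ.toRingHom ⊣ Rψ) (g : MvPolynomial (Fin N) R)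
    (l : List (Localization.Away g)) (hl : LCI.IsKoszulRegularSeq (Localization.Away g) l)
    (hspan : (RingHom.ker α.toRingHom).map
      (algebraMap (MvPolynomial (Fin N) R) (Localization.Away g)) = Ideal.span {x | x ∈ l})
    (q : Ideal A) [q.IsPrime] (hg : α g ∉ q) :
    let j₀ : ℤ := (l.length : ℤ) + n - N
    (∀ j ≠ j₀, ∀ x : Dual.HD A (Rψ.obj Y) j, ∃ s : A, s ∉ q ∧ s • x = 0) ∧
      ∃ x : Dual.HD A (Rψ.obj Y) j₀,
        (∀ y : Dual.HD A (Rψ.obj Y) j₀, ∃ s a : A, s ∉ q ∧ s • y = a • x) ∧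
        ∀ a : A, a • x = 0 → ∃ s : A, s ∉ q ∧ s * a = 0 := by
  intro j₀
  letI := α.toRingHom.toAlgebra
  let P := MvPolynomial (Fin N) R
  let Q := q.comap (algebraMap P A)
  let C := Localization.AtPrime Q
  let Rg := Localization.Away g
  let f : Fin l.length → Rg := fun i => l.get i
  have hfR : Wiebe.Link.Acyc f :=
    Wiebe.Bridge.acyc_of_isKoszulRegularSeq f (by rwa [List.ofFn_get])
  have hgu : IsUnit (algebraMap P C g) := IsLocalization.map_units C (⟨g, hg⟩ : Q.primeCompl)
  let : Algebra Rg C := (IsLocalization.Away.lift g hgu).toAlgebra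
  have : IsScalarTower P Rg C :=
    .of_algebraMap_eq fun x => (IsLocalization.Away.lift_eq g hgu x).symm
  have : Module.Flat Rg C := (Module.flat_iff_of_isLocalization Rg (Submonoid.powers g) C).2
    (IsLocalization.flat C Q.primeCompl)
  let rs := (List.ofFn fun i => algebraMap Rg C (f i)).reverse
  have hlist : (RingHom.ker (algebraMap P A)).map (algebraMap P C) = Ideal.ofList rs := by
    have h1 : Ideal.ofList rs = Ideal.span (algebraMap Rg C '' Set.range f) := by
      rw [Ideal.ofList, ← Set.range_comp]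
      congr 1
      ext x
      simp only [rs, List.mem_reverse, List.mem_ofFn]
      exact Iff.rfl
    rw [h1, ← Ideal.map_span, show Set.range f = {x | x ∈ l} from
      Set.ext fun x => List.mem_iff_get.symm, ← hspan, Ideal.map_map, ← IsScalarTower.algebraMap_eq]
    rfl
  have hmem : ∀ i, algebraMap Rg C (f i) ∈ IsLocalRing.maximalIdeal C := fun i => by
    have h2 : (RingHom.ker (algebraMap P A)).map (algebraMap P C) ≤ IsLocalRing.maximalIdeal C :=
      Ideal.map_le_iff_le_comap.2 fun x hx => (IsLocalization.AtPrime.to_map_mem_maximal_iff C Q x).2 (by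
        show algebraMap P A x ∈ q
        rw [RingHom.mem_ker.1 hx]
        exact zero_mem _)
    refine h2 (hlist ▸ Ideal.subset_span ?_)
    exact List.mem_reverse.mpr (List.mem_ofFn.mpr ⟨i, rfl⟩)
  have hreg : IsWeaklyRegular C rs :=
    Wiebe.AcycRegular.isWeaklyRegular_reverse _ (Wiebe.Bridge.acyc_flat (B := C) f hfR)
      fun i => by rw [IsLocalRing.jacobson_eq_maximalIdeal ⊥ bot_ne_top]; exact hmem i
  have hlen : rs.length = l.length := by simp [rs]
  obtain ⟨hvan, htop⟩ := LocalExtCI.local_structure (P := P) hα q rs hreg hlist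
  -- from `A` to the presentation `α`
  have main : ∀ j : ℤ, (j + N - n < 0 → Subsingleton (Dual.HD A (Rψ.obj Y) j)) ∧
      ∀ k : ℕ, j + N = k + n → ∃ e : Dual.HD A (Rψ.obj Y) j ≃+ PresTransfer.E α k,
        ∀ (p : P) x, e (α p • x) = p • e x := by
    intro j
    rcases lt_or_ge j 0 with hj | hj
    · refine ⟨fun _ => subsingleton_HD_neg adj j hj, fun k hk => ?_⟩
      have := subsingleton_HD_neg adj j hj
      obtain ⟨h, -⟩ := PresTransfer.exists_equiv α ψ hα hψ k
      have := h (by omega)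
      exact ⟨{ toFun := fun _ => 0, invFun := fun _ => 0,
               left_inv := fun _ => Subsingleton.elim _ _, right_inv := fun _ => Subsingleton.elim _ _,
               map_add' := fun _ _ => (add_zero 0).symm }, fun p x => (smul_zero p).symm⟩
    · obtain ⟨i, rfl⟩ := Int.eq_ofNat_of_zero_le hj
      obtain ⟨e₁, he₁⟩ := exists_HD_equiv_E adj i
      obtain ⟨h, h'⟩ := PresTransfer.exists_equiv ψ α hψ hα i
      refine ⟨fun hlt => ?_, fun k hk => ?_⟩
      · have := h (by omega)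
        exact e₁.toEquiv.subsingleton
      · obtain ⟨e₂, he₂⟩ := h' k (by omega)
        refine ⟨e₁.trans e₂, fun p x => ?_⟩
        obtain ⟨p', hp'⟩ := hψ (α p)
        rw [← hp']
        exact (congrArg e₂ (he₁ p' x)).trans (he₂ p' p hp' _)
  refine ⟨fun j hj x => ?_, ?_⟩
  · rcases lt_or_ge (j + N - n) 0 with h | h
    · have := (main j).1 h
      exact ⟨1, fun h1 => Ideal.IsPrime.ne_top inferInstance ((Ideal.eq_top_iff_one q).2 h1),
        Subsingleton.elim _ _⟩
    · obtain ⟨k, hk⟩ := Int.eq_ofNat_of_zero_le h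
      obtain ⟨e, he⟩ := (main j).2 k (by omega)
      obtain ⟨s, hs, hsx⟩ := hvan k (by omega) (e x)
      exact ⟨α s, hs, e.injective (by rw [he, map_zero]; exact hsx)⟩
  · obtain ⟨e, he⟩ := (main j₀).2 rs.length (by omega)
    obtain ⟨x, hgen, hann⟩ := htop
    refine ⟨e.symm x, fun y => ?_, fun a ha => ?_⟩
    · obtain ⟨s, a, hs, hsa⟩ := hgen (e y)
      refine ⟨α s, α a, hs, e.injective ?_⟩
      rw [he, he, e.apply_symm_apply]
      exact hsa
    · obtain ⟨p, rfl⟩ := hα a
      obtain ⟨s, hs, hsp⟩ := hann p (by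
        have := congrArg e ha
        rw [he, map_zero, e.apply_symm_apply] at this
        exact this)
      exact ⟨α s, hs, by rw [← map_mul]; exact hsp⟩

omit [IsNoetherianRing R] in
theorem finite_HD [IsNoetherianRing R] [IsNoetherianRing A] (hψ : Function.Surjective ψ)
    (adj : DRing.restrictD ψ.toRingHom ⊣ Rψ) (j : ℤ) :
    Module.Finite A (Dual.HD A (Rψ.obj Y) j) := by
  refine FiniteRing.finite_HD_right (RingHom.Finite.of_surjective _ hψ) adj _ 0 (fun i hi => ?_)
    (fun i => ?_) j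
  · have := subsingleton_HD_inD (A := MvPolynomial (Fin n) R) (MvPolynomial (Fin n) R) (ne_of_lt hi)
    exact (HDCongr YIso i).toEquiv.subsingleton
  · by_cases hi : i = 0
    · subst hi
      exact Module.Finite.equiv ((HDCongr YIso 0).trans (HDinD _)).symm
    · have := subsingleton_HD_inD (A := MvPolynomial (Fin n) R) (MvPolynomial (Fin n) R) hi
      exact Module.Finite.equiv (HDCongr YIso i).symm

section Spread

omit [IsNoetherianRing R]

theorem exists_kill {M : Type u} [AddCommGroup M] [Module A M] [Module.Finite A M]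
    (q : Ideal A) [q.IsPrime] (N' : Submodule A M) (h : ∀ x : M, ∃ s : A, s ∉ q ∧ s • x ∈ N') :
    ∃ s : A, s ∉ q ∧ ∀ x : M, s • x ∈ N' := by
  classical
  obtain ⟨S, hS⟩ := Module.Finite.fg_top (R := A) (M := M)
  choose t ht ht' using h
  refine ⟨∏ x ∈ S, t x, fun hmem => ?_, fun x => ?_⟩
  · obtain ⟨x, -, hx⟩ := (Ideal.IsPrime.prod_mem_iff).1 hmem
    exact ht x hx
  · have : x ∈ Submodule.span A (S : Set M) := hS ▸ Submodule.mem_top
    induction this using Submodule.span_induction with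
    | mem y hy =>
      rw [← Finset.mul_prod_erase S t hy, mul_comm, mul_smul]
      exact N'.smul_mem _ (ht' y)
    | zero => rw [smul_zero]; exact N'.zero_mem
    | add y z _ _ hy hz => rw [smul_add]; exact N'.add_mem hy hz
    | smul a y _ hy => rw [smul_comm]; exact N'.smul_mem a hy

theorem exists_kill_ideal [IsNoetherianRing A] (q : Ideal A) [q.IsPrime] (I : Ideal A)
    (h : ∀ a ∈ I, ∃ s : A, s ∉ q ∧ s * a = 0) : ∃ s : A, s ∉ q ∧ ∀ a ∈ I, s * a = 0 := by
  classical
  obtain ⟨S, hS⟩ := IsNoetherian.noetherian I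
  choose t ht ht' using fun a : S => h a.1 (hS ▸ Ideal.subset_span a.2)
  refine ⟨∏ x, t x, fun hmem => ?_, fun a ha => ?_⟩
  · obtain ⟨x, -, hx⟩ := (Ideal.IsPrime.prod_mem_iff).1 hmem
    exact ht x hx
  · rw [← hS] at ha
    induction ha using Submodule.span_induction with
    | mem y hy => rw [← Finset.mul_prod_erase Finset.univ t (Finset.mem_univ ⟨y, hy⟩), mul_comm (t _),
        mul_assoc, ht' ⟨y, hy⟩, mul_zero]
    | zero => rw [mul_zero]
    | add y z _ _ hy hz => rw [mul_add, hy, hz, add_zero]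
    | smul b y _ hy => rw [smul_eq_mul, mul_left_comm, hy, mul_zero]

theorem subsingleton_away {M : Type u} [AddCommGroup M] [Module A M] (f : A)
    (h : ∀ x : M, f • x = 0) : Subsingleton (Localization.Away f ⊗[A] M) := by
  refine subsingleton_of_forall_eq 0 fun z => ?_
  have hz : f • z = 0 := by
    induction z using TensorProduct.induction_on with
    | zero => rw [smul_zero]
    | tmul b y => rw [← TensorProduct.tmul_smul, h, TensorProduct.tmul_zero]
    | add y z hy hz => rw [smul_add, hy, hz, add_zero]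
  rw [← IsScalarTower.algebraMap_smul (Localization.Away f) f z] at hz
  exact (IsLocalization.map_units (Localization.Away f)
    (⟨f, Submonoid.mem_powers f⟩ : Submonoid.powers f)).smul_eq_zero.1 hz

theorem nonempty_away_equiv {M : Type u} [AddCommGroup M] [Module A M] (f : A) (x : M)
    (hgen : ∀ y : M, ∃ a : A, f • y = a • x) (hann : ∀ a : A, a • x = 0 → f * a = 0) :
    Nonempty (Localization.Away f ⊗[A] M ≃ₗ[Localization.Away f] Localization.Away f) := by
  let Af := Localization.Away f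
  have hu : IsUnit (algebraMap A Af f) :=
    IsLocalization.map_units Af (⟨f, Submonoid.mem_powers f⟩ : Submonoid.powers f)
  let φ : Af →ₗ[Af] Af ⊗[A] M := LinearMap.toSpanSingleton Af _ (1 ⊗ₜ x)
  have hφa : ∀ a : A, φ (algebraMap A Af a) = 1 ⊗ₜ (a • x) := fun a => by
    rw [LinearMap.toSpanSingleton_apply, IsScalarTower.algebraMap_smul, TensorProduct.tmul_smul]
  refine ⟨(LinearEquiv.ofBijective φ ⟨?_, ?_⟩).symm⟩
  · rw [injective_iff_map_eq_zero]
    intro c hc
    obtain ⟨⟨a, s⟩, hs⟩ := IsLocalization.surj (Submonoid.powers f) c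
    have h1 : φ (algebraMap A Af a) = 0 := by
      rw [← hs, mul_comm, ← smul_eq_mul, map_smul, hc, smul_zero]
    rw [hφa] at h1
    -- the kernel is killed by `f`
    let θ : A →ₗ[A] M := LinearMap.toSpanSingleton A M x
    have : Module.Flat A Af := IsLocalization.flat Af (Submonoid.powers f)
    have hex := Module.Flat.lTensor_exact (M := Af) (LinearMap.exact_subtype_ker_map θ)
    obtain ⟨w, hw⟩ := (hex ((1 : Af) ⊗ₜ[A] a)).1 h1
    have hw0 : ∀ w : Af ⊗[A] LinearMap.ker θ, f • LinearMap.lTensor Af (LinearMap.ker θ).subtype w = 0 := by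
      intro w
      induction w using TensorProduct.induction_on with
      | zero => rw [map_zero, smul_zero]
      | tmul b k =>
        rw [LinearMap.lTensor_tmul, ← TensorProduct.tmul_smul]
        have hk : f • ((LinearMap.ker θ).subtype k) = 0 := hann k.1 k.2
        rw [hk, TensorProduct.tmul_zero]
      | add y z hy hz => rw [map_add, smul_add, hy, hz, add_zero]
    have h2 := hw0 w
    rw [hw, ← TensorProduct.tmul_smul] at h2
    have h3 := congrArg (TensorProduct.rid A Af) h2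
    rw [TensorProduct.rid_tmul, map_zero, Algebra.smul_def, mul_one, smul_eq_mul, map_mul] at h3
    rw [(hu.mul_right_eq_zero).1 h3] at hs
    exact ((IsLocalization.map_units Af s).mul_left_eq_zero).1 hs
  · intro z
    induction z using TensorProduct.induction_on with
    | zero => exact ⟨0, map_zero φ⟩
    | tmul b y =>
      obtain ⟨a, ha⟩ := hgen y
      refine ⟨(b * ↑hu.unit⁻¹) * algebraMap A Af a, ?_⟩
      rw [← smul_eq_mul, map_smul, hφa, ← ha, TensorProduct.tmul_smul,
        ← IsScalarTower.algebraMap_smul Af f ((1 : Af) ⊗ₜ[A] y), smul_smul, mul_assoc,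
        IsUnit.val_inv_mul, mul_one, TensorProduct.smul_tmul', smul_eq_mul, mul_one]
    | add y z hy hz =>
      obtain ⟨c, rfl⟩ := hy
      obtain ⟨d, rfl⟩ := hz
      exact ⟨c + d, map_add φ c d⟩

end Spread

/-- Invertibility from the structure at each prime. -/
theorem away_iso_of_local [IsNoetherianRing A] (hψ : Function.Surjective ψ)
    (adj : DRing.restrictD ψ.toRingHom ⊣ Rψ)
    [hL : ∀ f : A, DRing.HasLBaseChange (algebraMap A (Localization.Away f))]
    (B : ℕ) (hbound : ∀ j : ℤ, (B : ℤ) < j → Subsingleton (Dual.HD A (Rψ.obj Y) j))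
    (q : Ideal A) [q.IsPrime] (j₀ : ℤ)
    (hv : ∀ j ≠ j₀, ∀ x : Dual.HD A (Rψ.obj Y) j, ∃ s : A, s ∉ q ∧ s • x = 0)
    (x : Dual.HD A (Rψ.obj Y) j₀)
    (hgen : ∀ y : Dual.HD A (Rψ.obj Y) j₀, ∃ s a : A, s ∉ q ∧ s • y = a • x)
    (hann : ∀ a : A, a • x = 0 → ∃ s : A, s ∉ q ∧ s * a = 0) :
    ∃ (f : A) (_ : f ∉ q) (m : ℤ), Nonempty
      ((DRing.LBaseChange (algebraMap A (Localization.Away f))).obj
        (Dual2.shriekVia n Rψ (Dual.inD R R)) ≅
      (Dual.inD (Localization.Away f) (Localization.Away f))⟦m⟧) := by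
  classical
  -- kill everything else
  have hkill : ∀ j : ℤ, j ≠ j₀ → ∃ s : A, s ∉ q ∧ ∀ x : Dual.HD A (Rψ.obj Y) j, s • x = 0 := by
    intro j hj
    have := finite_HD hψ adj j
    obtain ⟨s, hs, hs'⟩ := exists_kill q (⊥ : Submodule A (Dual.HD A (Rψ.obj Y) j)) fun y => by
      obtain ⟨s, hs, hsy⟩ := hv j hj y
      exact ⟨s, hs, (Submodule.mem_bot A).2 hsy⟩
    exact ⟨s, hs, fun y => (Submodule.mem_bot A).1 (hs' y)⟩
  choose t ht ht' using hkill
  have := finite_HD hψ adj j₀
  obtain ⟨s₁, hs₁, hs₁'⟩ := exists_kill q (Submodule.span A {x}) fun y => by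
    obtain ⟨s, a, hs, hsa⟩ := hgen y
    exact ⟨s, hs, Submodule.mem_span_singleton.2 ⟨a, hsa.symm⟩⟩
  obtain ⟨s₂, hs₂, hs₂'⟩ := exists_kill_ideal q (LinearMap.ker (LinearMap.toSpanSingleton A _ x))
    fun a ha => hann a ha
  let T : Finset {j : ℤ // j ≠ j₀} := (Finset.Icc (0 : ℤ) B).subtype (· ≠ j₀)
  let f : A := s₁ * s₂ * ∏ j ∈ T, t j.1 j.2
  have hf : f ∉ q := by
    intro hmem
    rcases Ideal.IsPrime.mem_or_mem inferInstance hmem with h | h
    · rcases Ideal.IsPrime.mem_or_mem inferInstance h with h | h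
      · exact hs₁ h
      · exact hs₂ h
    · obtain ⟨j, -, hj⟩ := (Ideal.IsPrime.prod_mem_iff).1 h
      exact ht _ _ hj
  let Af := Localization.Away f
  have : Module.Flat A Af := IsLocalization.flat Af (Submonoid.powers f)
  have hzero : ∀ j : ℤ, j ≠ j₀ → Subsingleton (Af ⊗[A] Dual.HD A (Rψ.obj Y) j) := by
    intro j hj
    refine subsingleton_away f fun y => ?_
    by_cases hr : 0 ≤ j ∧ j ≤ B
    · have hjT : (⟨j, hj⟩ : {j : ℤ // j ≠ j₀}) ∈ T := Finset.mem_subtype.2 (Finset.mem_Icc.2 hr)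
      show (s₁ * s₂ * ∏ j ∈ T, t j.1 j.2) • y = 0
      rw [← Finset.mul_prod_erase T (fun j => t j.1 j.2) hjT, ← mul_assoc, mul_right_comm, mul_smul,
        ht' j hj y, smul_zero]
    · have : Subsingleton (Dual.HD A (Rψ.obj Y) j) := by
        rcases lt_or_ge j 0 with h | h
        · exact subsingleton_HD_neg adj j h
        · exact hbound j (by omega)
      exact Subsingleton.elim _ _
  obtain ⟨e₀⟩ := nonempty_away_equiv f x (fun y => by
    obtain ⟨a, ha⟩ := Submodule.mem_span_singleton.1 (hs₁' y)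
    refine ⟨(s₂ * ∏ j ∈ T, t j.1 j.2) * a, ?_⟩
    rw [mul_smul _ a x, ha, smul_smul]
    congr 1
    show s₁ * s₂ * _ = _
    ring) (fun a ha => by
      show s₁ * s₂ * (∏ j ∈ T, t j.1 j.2) * a = 0
      rw [mul_right_comm, mul_assoc s₁, hs₂' a ha, mul_zero, zero_mul])
  let W := Rψ.obj (Y (R := R) (n := n))
  let K := (L A Af).obj (W⟦(n : ℤ)⟧)
  let eHD : ∀ i : ℤ, Af ⊗[A] Dual.HD A W ((n : ℤ) + i) ≃ₗ[Af] Dual.HD Af K i := fun i =>
    (LinearEquiv.baseChange A Af _ _ (HDShift W (n : ℤ) i ((n : ℤ) + i) rfl).symm).trans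
      (HDL Af (W⟦(n : ℤ)⟧) i)
  let c : ℤ := j₀ - n
  have hvan : ∀ i, i ≠ c → Subsingleton (Dual.HD Af K i) := fun i hi => by
    have := hzero ((n : ℤ) + i) (by omega)
    exact (eHD i).symm.toEquiv.subsingleton
  have : K.IsGE c := (isGE_iff K c).2 fun i hi => hvan i (by omega)
  have : K.IsLE c := (isLE_iff K c).2 fun i hi => hvan i (by omega)
  obtain ⟨e₁⟩ := Devissage.exists_iso_inD_shift K c
  have hc : ∀ j, (n : ℤ) + c = j → Nonempty (Dual.HD Af K c ≃ₗ[Af] Af ⊗[A] Dual.HD A W j) := by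
    intro j hj
    subst hj
    exact ⟨(eHD c).symm⟩
  obtain ⟨e₂⟩ := hc j₀ (by omega)
  refine ⟨f, hf, -c, ⟨(isoLBaseChange A Af).app _ ≪≫ e₁ ≪≫ (shiftFunctor _ (-c)).mapIso
    ((DerivedCategory.singleFunctor (ModuleCat.{u} Af) 0).mapIso (e₂.trans e₀).toModuleIso)⟩⟩

/-- Vanishing at all maximal ideals. -/
theorem subsingleton_of_local {M : Type u} [AddCommGroup M] [Module A M]
    (h : ∀ (P : Ideal A), P.IsMaximal → ∀ x : M, ∃ s : A, s ∉ P ∧ s • x = 0) : Subsingleton M := by
  refine subsingleton_of_forall_eq 0 fun x => ?_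
  by_contra hx
  have hne : Ideal.torsionOf A M x ≠ ⊤ := fun e => hx ((Ideal.torsionOf_eq_top_iff A x).1 e)
  obtain ⟨P, hP, hle⟩ := Ideal.exists_le_maximal _ hne
  obtain ⟨s, hs, hsx⟩ := h P hP x
  exact hs (hle ((Ideal.mem_torsionOf_iff x s).2 hsx))

/-- The upper shriek of an lci map is invertible. -/
theorem exists_away_iso [IsNoetherianRing A] (hl : LCI.IsLCI R A) (hψ : Function.Surjective ψ)
    (adj : DRing.restrictD ψ.toRingHom ⊣ Rψ)
    [hL : ∀ f : A, DRing.HasLBaseChange (algebraMap A (Localization.Away f))]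
    (q : Ideal A) [q.IsPrime] :
    ∃ (f : A) (_ : f ∉ q) (m : ℤ), Nonempty
      ((DRing.LBaseChange (algebraMap A (Localization.Away f))).obj
        (Dual2.shriekVia n Rψ (Dual.inD R R)) ≅
      (Dual.inD (Localization.Away f) (Localization.Away f))⟦m⟧) := by
  classical
  obtain ⟨-, N, α, hα, hJ⟩ := hl
  -- charts
  have hcharts : ∀ p : PrimeSpectrum A, ∃ g : MvPolynomial (Fin N) R, α g ∉ p.asIdeal ∧
      ∃ l : List (Localization.Away g), LCI.IsKoszulRegularSeq (Localization.Away g) l ∧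
        (RingHom.ker α.toRingHom).map
          (algebraMap (MvPolynomial (Fin N) R) (Localization.Away g)) = Ideal.span {x | x ∈ l} := by
    intro p
    obtain ⟨g, hg, l, hl, hspan⟩ := hJ (PrimeSpectrum.comap α.toRingHom p) (fun x hx => by
      show α.toRingHom x ∈ p.asIdeal
      rw [RingHom.mem_ker.1 hx]
      exact zero_mem _)
    exact ⟨g, hg, l, hl, hspan⟩
  choose g hg l hl hspan using hcharts
  obtain ⟨S, hS⟩ := isCompact_univ.elim_finite_subcover
    (fun p : PrimeSpectrum A => (PrimeSpectrum.basicOpen (α (g p)) : Set (PrimeSpectrum A)))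
    (fun p => (PrimeSpectrum.basicOpen _).2) (fun p _ => Set.mem_iUnion.2 ⟨p, hg p⟩)
  let B : ℕ := ∑ p ∈ S, ((l p).length + n)
  -- vanishing outside `[0, B]`
  have hbound : ∀ j : ℤ, (B : ℤ) < j → Subsingleton (Dual.HD A (Rψ.obj Y) j) := by
    intro j hj
    refine subsingleton_of_forall_eq 0 fun x => ?_
    let I : Ideal A :=
      { carrier := {a | a • x = 0}
        add_mem' := fun {a b} ha hb => by
          show (a + b) • x = 0
          rw [add_smul, show a • x = 0 from ha, show b • x = 0 from hb, add_zero]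
        zero_mem' := zero_smul A x
        smul_mem' := fun c a ha => by
          show (c * a) • x = 0
          rw [mul_smul, show a • x = 0 from ha, smul_zero] }
    suffices I = ⊤ by
      have h1 : (1 : A) • x = 0 := (Ideal.eq_top_iff_one I).1 this
      rwa [one_smul] at h1
    by_contra hne
    obtain ⟨M, hM, hIM⟩ := Ideal.exists_le_maximal I hne
    obtain ⟨p, hp, hpM⟩ := Set.mem_iUnion₂.1 (hS (Set.mem_univ (⟨M, hM.isPrime⟩ : PrimeSpectrum A)))
    obtain ⟨hv, -⟩ := chart_structure hψ hα adj (g p) (l p) (hl p) (hspan p) M hpM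
    have hle : (l p).length + n ≤ B :=
      Finset.single_le_sum (f := fun p => (l p).length + n) (fun _ _ => Nat.zero_le _) hp
    obtain ⟨s, hs, hsx⟩ := hv j (by omega) x
    exact hs (hIM hsx)
  obtain ⟨j₀, hv, x, hgen, hann⟩ : ∃ j₀ : ℤ,
      (∀ j ≠ j₀, ∀ x : Dual.HD A (Rψ.obj Y) j, ∃ s : A, s ∉ q ∧ s • x = 0) ∧
      ∃ x : Dual.HD A (Rψ.obj Y) j₀,
        (∀ y : Dual.HD A (Rψ.obj Y) j₀, ∃ s a : A, s ∉ q ∧ s • y = a • x) ∧
        ∀ a : A, a • x = 0 → ∃ s : A, s ∉ q ∧ s * a = 0 :=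
    ⟨_, chart_structure hψ hα adj (g ⟨q, ‹_›⟩) (l ⟨q, ‹_›⟩) (hl ⟨q, ‹_›⟩)
      (hspan ⟨q, ‹_›⟩) q (hg ⟨q, ‹_›⟩)⟩
  exact away_iso_of_local hψ adj B hbound q j₀ hv x hgen hann

end Groth.Agent.Lib.DMod.ShriekLCI
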