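import Groth.Agent.Lib.DMod.CMFibrePrime
import Groth.Agent.Lib.DMod.ShriekLCI
import Groth.Agent.Lib.FibreDim.Chart

/-!
The degrees of the relative dualizing complex are bounded by the local fibre dimension.
-/

set_option linter.style.haveILetI false

universe u

open CategoryTheory CategoryTheory.Limits Pretriangulated TensorProduct
open Groth.Agent.Lib.DR
open Groth.Agent.Lib.DMod Groth.Agent.Lib.DMod.Basic

attribute [local instance] HasDerivedCategory.standard

namespace Groth.Agent.Lib.DMod.ShriekBounds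

variable {R A : Type u} [CommRing R] [CommRing A] [IsNoetherianRing R] [Algebra R A] {n : ℕ}

/-- The local fibre dimension at a prime, through a presentation. -/
theorem exists_codim [Algebra (MvPolynomial (Fin n) R) A] [IsScalarTower R (MvPolynomial (Fin n) R) A]
    (hsurj : Function.Surjective (algebraMap (MvPolynomial (Fin n) R) A)) (q : Ideal A) [q.IsPrime] :
    ∃ D d dd : ℕ,
      ringKrullDim (CMFibrePrime.AmbientAt R (q.comap (algebraMap (MvPolynomial (Fin n) R) A))) = D ∧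
      ringKrullDim (GorFibrePrime.FibreAt R q) = d ∧
      FlatMor.fibreDimAt (AlgebraicGeometry.Spec.map (CommRingCat.ofHom (algebraMap R A)))
        (⟨q, inferInstance⟩ : PrimeSpectrum A) = (dd : WithBot ℕ∞) ∧ n + d = D + dd := by
  have : Algebra.FiniteType R A := Algebra.FiniteType.of_surjective
    (IsScalarTower.toAlgHom R (MvPolynomial (Fin n) R) A) hsurj
  let p := PrimeSpectrum.comap (algebraMap R A) (⟨q, inferInstance⟩ : PrimeSpectrum A)
  let Qf := (PrimeSpectrum.preimageHomeomorphFiber R A p ⟨⟨q, inferInstance⟩, rfl⟩).asIdeal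
  have hQ : Qf.comap (Algebra.TensorProduct.includeRight : A →ₐ[R] p.asIdeal.Fiber A) = q :=
    congrArg (fun y => y.1.asIdeal)
      ((PrimeSpectrum.preimageEquivFiber R A p).symm_apply_apply ⟨⟨q, inferInstance⟩, rfl⟩)
  obtain ⟨D, d, e, hD, hd, hht, hco, hsum, -⟩ := CMFibrePrime.exists_dims hsurj p.asIdeal Qf
  have hfd : FlatMor.fibreDimAt (AlgebraicGeometry.Spec.map (CommRingCat.ofHom (algebraMap R A)))
      (⟨q, inferInstance⟩ : PrimeSpectrum A) = ((d + e : ℕ) : WithBot ℕ∞) := by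
    have h1 : FlatMor.fibreDimAt (AlgebraicGeometry.Spec.map (CommRingCat.ofHom (algebraMap R A)))
        (⟨q, inferInstance⟩ : PrimeSpectrum A) = (Dim.Local.dimAt p.asIdeal.ResidueField Qf : WithBot ℕ∞) :=
      FibreDim.Chart.fibreDimAt_eq_dimAt _ (𝟙 _) (𝟙 _)
        (by rw [Category.comp_id, Category.id_comp]) (⟨q, inferInstance⟩ : PrimeSpectrum A)
    have h2 := (Excellent.CatenaryDim.ringKrullDim_quotient_eq_coheight
      (⟨Qf, inferInstance⟩ : PrimeSpectrum (p.asIdeal.Fiber A))).symm.trans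
      (Dim.Basic.ringKrullDim_quotient_prime p.asIdeal.ResidueField Qf)
    rw [hco] at h2
    have h3 : e = Dim.Basic.dimQ p.asIdeal.ResidueField Qf := by exact_mod_cast h2
    rw [h1, Dim.Local.dimAt, hht, ENat.toNat_natCast, ← h3]
  have key : ∀ (q' : Ideal A) [q'.IsPrime], q' = q →
      ringKrullDim (CMFibrePrime.AmbientAt R (q'.comap (algebraMap (MvPolynomial (Fin n) R) A))) = D →
      ringKrullDim (GorFibrePrime.FibreAt R q') = d →
      ringKrullDim (CMFibrePrime.AmbientAt R (q.comap (algebraMap (MvPolynomial (Fin n) R) A))) = D ∧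
      ringKrullDim (GorFibrePrime.FibreAt R q) = d := by
    intro q' _ h
    subst h
    exact fun x y => ⟨x, y⟩
  obtain ⟨hD', hd'⟩ := key _ hQ hD hd
  exact ⟨D, d, d + e, hD', hd', hfd, by omega⟩

variable {ψ : MvPolynomial (Fin n) R →ₐ[R] A}
  [DRing.HasLBaseChange (algebraMap R (MvPolynomial (Fin n) R))]
  {Rψ : Dual.D (MvPolynomial (Fin n) R) ⥤ Dual.D A}

/-- The cohomology of the relative dualizing complex as `Ext`. -/
theorem exists_shriek_equiv (adj : DRing.restrictD ψ.toRingHom ⊣ Rψ) (i : ℤ) (j : ℕ)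
    (hij : (n : ℤ) + i = j) :
    ∃ e : Dual.HD A (Dual2.shriekVia n Rψ (Dual.inD R R)) i ≃+ PresTransfer.E ψ j,
      ∀ (p : MvPolynomial (Fin n) R) x, e (ψ p • x) = p • e x := by
  obtain ⟨e, he⟩ := ShriekLCI.exists_HD_equiv_E adj j
  let s : Dual.HD A (Dual2.shriekVia n Rψ (Dual.inD R R)) i ≃ₗ[A]
      Dual.HD A (Rψ.obj (ShriekLCI.Y (R := R) (n := n))) (j : ℤ) :=
    HDShift (Rψ.obj (ShriekLCI.Y (R := R) (n := n))) (n : ℤ) i (j : ℤ) hij
  refine ⟨s.toAddEquiv.trans e, fun p x => ?_⟩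
  show e (s (ψ p • x)) = p • e (s x)
  rw [map_smul, he]

/-- Vanishing below minus the fibre dimension. -/
theorem killed_of_lt (hψ : Function.Surjective ψ) (adj : DRing.restrictD ψ.toRingHom ⊣ Rψ)
    (q : PrimeSpectrum A) (dd : ℕ)
    (hdd : FlatMor.fibreDimAt (AlgebraicGeometry.Spec.map (CommRingCat.ofHom (algebraMap R A))) q = dd)
    (i : ℤ) (hi : i < -(dd : ℤ)) (x : Dual.HD A (Dual2.shriekVia n Rψ (Dual.inD R R)) i) :
    ∃ s : A, s ∉ q.asIdeal ∧ s • x = 0 := by
  letI := ψ.toRingHom.toAlgebra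
  haveI : IsScalarTower R (MvPolynomial (Fin n) R) A :=
    IsScalarTower.of_algebraMap_eq fun r => (ψ.commutes r).symm
  have hsurj : Function.Surjective (algebraMap (MvPolynomial (Fin n) R) A) := hψ
  rcases lt_or_ge ((n : ℤ) + i) 0 with h0 | h0
  · have := ShriekLCI.subsingleton_HD_neg adj _ h0
    have := (HDShift (Rψ.obj (ShriekLCI.Y (R := R) (n := n))) (n : ℤ) i _ rfl).toEquiv.subsingleton
    exact ⟨1, fun h => q.2.ne_top ((Ideal.eq_top_iff_one _).2 h), @Subsingleton.elim _ this _ _⟩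
  obtain ⟨j, hj⟩ := Int.eq_ofNat_of_zero_le h0
  obtain ⟨D, d, dd', hD, hd, hdd', hsum⟩ := exists_codim (n := n) hsurj q.asIdeal
  have hdd'' : dd' = dd := by exact_mod_cast hdd'.symm.trans hdd
  have := CMFibrePrime.subsingleton_of_lt hsurj q.asIdeal hD hd j (by omega)
  obtain ⟨φ, hφ⟩ := LocalExtCI.exists_localizing (P := MvPolynomial (Fin n) R) hsurj q.asIdeal j
  obtain ⟨e, he⟩ := exists_shriek_equiv adj i j hj
  obtain ⟨⟨s, hs⟩, hsx⟩ := hφ.eq_zero (e x) (Subsingleton.elim _ _)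
  exact ⟨ψ s, hs, e.injective (by rw [he, map_zero]; exact hsx)⟩

/-- The lower bound on the degrees of the relative dualizing complex. -/
theorem neg_fibreDim_le (hψ : Function.Surjective ψ) (adj : DRing.restrictD ψ.toRingHom ⊣ Rψ)
    (q : PrimeSpectrum A) (dd : ℕ)
    (hdd : FlatMor.fibreDimAt (AlgebraicGeometry.Spec.map (CommRingCat.ofHom (algebraMap R A))) q = dd)
    (i : ℤ) (h : Nontrivial (LocalizedModule q.asIdeal.primeCompl
      (Dual.HD A (Dual2.shriekVia n Rψ (Dual.inD R R)) i))) : -(dd : ℤ) ≤ i := by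
  by_contra hlt
  refine not_subsingleton_iff_nontrivial.2 h (LocalizedModule.subsingleton_iff.2 fun x => ?_)
  obtain ⟨s, hs, hsx⟩ := killed_of_lt hψ adj q dd hdd i (not_le.1 hlt) x
  exact ⟨s, hs, hsx⟩

end Groth.Agent.Lib.DMod.ShriekBounds
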