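import Groth.Agent.Lib.DMod.FlatDegree
import Groth.Agent.Lib.DMod.LocalCase
import Groth.Agent.Lib.DMod.GorFibreApply
import Groth.Agent.Lib.Kaehler.SmoothDim
import Groth.Prelude.Def_FlatCA

/-!
The degree function of the pull back of a dualizing complex along a smooth map.
-/

set_option linter.style.haveILetI false

universe u

open CategoryTheory CategoryTheory.Limits Pretriangulated TensorProduct

attribute [local instance] HasDerivedCategory.standard

namespace Groth.Agent.Lib.DMod.SmoothDegree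

open Groth.Agent.Lib.DMod Groth.Agent.Lib.DMod.FlatHom

section Trdeg

variable {A : Type u} [CommRing A] (p : Ideal A) [p.IsPrime] {B : Type u} [CommRing B] [Algebra A B]

/-- The transcendence degree of a residue field over that of the prime below. -/
noncomputable def td (r : Ideal B) [r.IsPrime] [h : r.LiesOver p] : Cardinal.{u} :=
  @Algebra.trdeg p.ResidueField r.ResidueField _ _
    (Ideal.ResidueField.mapₐ p r (Algebra.ofId A B) h.over).toRingHom.toAlgebra

theorem algHom_residueField_eq {T : Type u} [CommRing T] [Algebra A T]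
    (f g : p.ResidueField →ₐ[A] T) : f = g :=
  Ideal.ResidueField.algHom_ext (Algebra.ext_id _ _ _)

/-- The residual transcendence degree only depends on the residue field. -/
theorem td_eq {F : Type u} [CommRing F] [Algebra A F] (φ : B →ₐ[A] F) (r : Ideal B) [r.IsPrime]
    [r.LiesOver p] (P : Ideal F) [P.IsPrime] [P.LiesOver p] (hr : P.comap φ = r)
    (hφ : ∀ x : F, ∃ b c : B, φ c ∉ P ∧ φ c * x = φ b) :
    td p r = td p P := by
  letI : Algebra p.ResidueField r.ResidueField :=
    (Ideal.ResidueField.mapₐ p r (Algebra.ofId A B) (Ideal.over_def r p)).toRingHom.toAlgebra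
  letI : Algebra p.ResidueField P.ResidueField :=
    (Ideal.ResidueField.mapₐ p P (Algebra.ofId A F) (Ideal.over_def P p)).toRingHom.toAlgebra
  let ψ : r.ResidueField →ₐ[A] P.ResidueField := Ideal.ResidueField.mapₐ r P φ hr.symm
  have hψ : ∀ b : B, ψ (algebraMap B r.ResidueField b) = algebraMap F P.ResidueField (φ b) :=
    fun b => Ideal.ResidueField.map_algebraMap _ _ _ _ b
  have hcomm : ∀ x : p.ResidueField, ψ (algebraMap p.ResidueField r.ResidueField x) =
      algebraMap p.ResidueField P.ResidueField x := by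
    intro x
    exact DFunLike.congr_fun (algHom_residueField_eq p
      (ψ.comp (Ideal.ResidueField.mapₐ p r (Algebra.ofId A B) (Ideal.over_def r p)))
      (Ideal.ResidueField.mapₐ p P (Algebra.ofId A F) (Ideal.over_def P p))) x
  let Ψ : r.ResidueField →ₐ[p.ResidueField] P.ResidueField := { ψ.toRingHom with commutes' := hcomm }
  refine (AlgEquiv.ofBijective Ψ ⟨Ψ.toRingHom.injective, fun y => ?_⟩).trdeg_eq
  obtain ⟨⟨a, s⟩, hy⟩ := IsLocalization.surj (nonZeroDivisors (F ⧸ P)) y
  obtain ⟨a, rfl⟩ := Ideal.Quotient.mk_surjective a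
  obtain ⟨s', hs'⟩ := Ideal.Quotient.mk_surjective (s : F ⧸ P)
  rw [← hs'] at hy
  change y * algebraMap F P.ResidueField s' = algebraMap F P.ResidueField a at hy
  have hs0 : algebraMap F P.ResidueField s' ≠ 0 := fun h0 => by
    rw [Ideal.algebraMap_residueField_eq_zero] at h0
    exact nonZeroDivisors.ne_zero s.2 (by rw [← hs', Ideal.Quotient.eq_zero_iff_mem]; exact h0)
  have himg : ∀ x : F, ∃ z, ψ z = algebraMap F P.ResidueField x := fun x => by
    obtain ⟨b, c, hc, hx⟩ := hφ x
    refine ⟨algebraMap B r.ResidueField b / algebraMap B r.ResidueField c, ?_⟩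
    rw [map_div₀, hψ, hψ, div_eq_iff (fun h0 => hc (Ideal.algebraMap_residueField_eq_zero.1 h0)),
      ← map_mul, mul_comm x, hx]
  obtain ⟨u, hu⟩ := himg a
  obtain ⟨v, hv⟩ := himg s'
  refine ⟨u / v, ?_⟩
  show ψ (u / v) = y
  rw [map_div₀, hu, hv, ← hy, mul_div_assoc, div_self hs0, mul_one]

theorem liesOver_of_comap (r : PrimeSpectrum B) (hr : r.asIdeal.comap (algebraMap A B) = p) :
    r.asIdeal.LiesOver p := ⟨hr.symm⟩

/-- The prime of the fibre of a prime over `p`. -/
noncomputable def fibPt (r : PrimeSpectrum B) (hr : r.asIdeal.comap (algebraMap A B) = p) :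
    PrimeSpectrum (p.Fiber B) :=
  PrimeSpectrum.preimageOrderIsoFiber A B ⟨p, inferInstance⟩ ⟨r, PrimeSpectrum.ext hr⟩

theorem fibPt_comap (r : PrimeSpectrum B) (hr : r.asIdeal.comap (algebraMap A B) = p) :
    (fibPt p r hr).asIdeal.comap (Algebra.TensorProduct.includeRight : B →ₐ[A] p.Fiber B) =
      r.asIdeal :=
  congrArg (fun x => (Subtype.val x).asIdeal)
    ((PrimeSpectrum.preimageOrderIsoFiber A B ⟨p, inferInstance⟩).symm_apply_apply
      ⟨r, PrimeSpectrum.ext hr⟩)

theorem td_fibre [Algebra.FiniteType A B] (r : PrimeSpectrum B)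
    (hr : r.asIdeal.comap (algebraMap A B) = p) :
    haveI := liesOver_of_comap p r hr
    td p r.asIdeal = ((Dim.Basic.dimQ p.ResidueField (fibPt p r hr).asIdeal : ℕ) : Cardinal.{u}) := by
  haveI := liesOver_of_comap p r hr
  have hov : (fibPt p r hr).asIdeal.LiesOver p := by
    constructor
    show p = (fibPt p r hr).asIdeal.comap (algebraMap A (p.Fiber B))
    rw [← (Algebra.TensorProduct.includeRight : B →ₐ[A] p.Fiber B).comp_algebraMap,
      ← Ideal.comap_comap]
    exact hr.symm.trans (congrArg (Ideal.comap (algebraMap A B)) (fibPt_comap p r hr).symm)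
  rw [td_eq p (Algebra.TensorProduct.includeRight : B →ₐ[A] p.Fiber B) r.asIdeal
    (fibPt p r hr).asIdeal (fibPt_comap p r hr) (fun x => ?_)]
  · rw [← Dim.Basic.trdeg_residueField p.ResidueField (fibPt p r hr).asIdeal]
    unfold td
    congr 1
    refine Algebra.algebra_ext _ _ fun x => ?_
    refine RingHom.congr_fun (Ideal.ResidueField.ringHom_ext (RingHom.ext fun a => ?_)) x
    refine ((Ideal.ResidueField.mapₐ p (fibPt p r hr).asIdeal (Algebra.ofId A _) hov.over).commutes a).trans ?_
    rw [IsScalarTower.algebraMap_apply A (p.Fiber B) (fibPt p r hr).asIdeal.ResidueField,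
      IsScalarTower.algebraMap_apply A p.ResidueField (p.Fiber B)]
    rfl
  · obtain ⟨c, hc, b, hb⟩ := Ideal.Fiber.exists_smul_eq_one_tmul p x
    refine ⟨b, algebraMap A B c, fun h => hc ?_, ?_⟩
    · rw [hov.over]
      show algebraMap A (p.Fiber B) c ∈ (fibPt p r hr).asIdeal
      rwa [← (Algebra.TensorProduct.includeRight : B →ₐ[A] p.Fiber B).commutes c]
    · rw [(Algebra.TensorProduct.includeRight : B →ₐ[A] p.Fiber B).commutes c, ← Algebra.smul_def, hb]
      rfl

theorem comap_eq_of_le {Q r : PrimeSpectrum B} (hQ : Q.asIdeal.comap (algebraMap A B) = p)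
    (hQr : r ≤ Q) (hr : p.map (algebraMap A B) ≤ r.asIdeal) : r.asIdeal.comap (algebraMap A B) = p :=
  le_antisymm (hQ ▸ Ideal.comap_mono hQr) (Ideal.map_le_iff_le_comap.1 hr)

/-- A minimal point of the fibre of a standard smooth algebra has transcendence degree `n`. -/
theorem td_minimal_standard (n : ℕ) [Algebra.IsStandardSmoothOfRelativeDimension n A B]
    [Algebra.FiniteType A B] (Q : PrimeSpectrum B) (hQp : Q.asIdeal.comap (algebraMap A B) = p)
    (hQ : Q.asIdeal ∈ (p.map (algebraMap A B)).minimalPrimes) :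
    haveI := liesOver_of_comap p Q hQp
    td p Q.asIdeal = (n : Cardinal.{u}) := by
  rw [td_fibre p Q hQp]
  haveI : Algebra.IsStandardSmoothOfRelativeDimension n p.ResidueField (p.Fiber B) :=
    Algebra.IsStandardSmoothOfRelativeDimension.baseChange (R := A) (S := B) (T := p.ResidueField) n
  rw [Kaehler.SmoothDim.dimQ_of_minimal p.ResidueField (n := n)]
  rw [← PrimeSpectrum.isMin_iff]
  refine (OrderIso.isMin_apply _).2 fun z hz => ?_
  have h := comap_eq_of_le p hQp (show z.1 ≤ Q from hz)
    (Ideal.map_le_iff_le_comap.2 (le_of_eq (congrArg PrimeSpectrum.asIdeal z.2).symm))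
  exact hQ.2 ⟨z.1.isPrime, Ideal.map_le_iff_le_comap.2 h.ge⟩ hz

/-- A minimal point of the fibre of a smooth algebra has transcendence degree `n`. -/
theorem td_minimal (n : ℕ) (hs : FlatCA.SmoothRelDim n A B) (Q : PrimeSpectrum B)
    (hQp : Q.asIdeal.comap (algebraMap A B) = p)
    (hQ : Q.asIdeal ∈ (p.map (algebraMap A B)).minimalPrimes) :
    haveI := liesOver_of_comap p Q hQp
    td p Q.asIdeal = (n : Cardinal.{u}) := by
  haveI := liesOver_of_comap p Q hQp
  obtain ⟨s, hspan, hloc⟩ := (AlgebraicGeometry.HasRingHomProperty.Spec_iff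
    (P := @AlgebraicGeometry.SmoothOfRelativeDimension n)).1 hs
  obtain ⟨g, hgs, hgQ⟩ : ∃ g ∈ s, g ∉ Q.asIdeal := by
    by_contra! hc
    exact Q.isPrime.ne_top (top_le_iff.1 (hspan ▸ Ideal.span_le.2 hc))
  let C := Localization.Away g
  have hstd : Algebra.IsStandardSmoothOfRelativeDimension n A C := by
    rw [← RingHom.isStandardSmoothOfRelativeDimension_algebraMap, IsScalarTower.algebraMap_eq A B C]
    exact hloc g hgs
  haveI : Algebra.IsStandardSmooth A C :=
    Algebra.IsStandardSmoothOfRelativeDimension.isStandardSmooth n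
  haveI : Algebra.FiniteType A C := inferInstance
  have hdisj : Disjoint (Submonoid.powers g : Set B) Q.asIdeal := by
    refine Set.disjoint_left.2 ?_
    rintro - ⟨k, rfl⟩ hk
    exact hgQ (Q.isPrime.mem_of_pow_mem k hk)
  let Q' : PrimeSpectrum C :=
    ⟨Q.asIdeal.map (algebraMap B C), IsLocalization.isPrime_of_isPrime_disjoint (Submonoid.powers g) C _ Q.isPrime hdisj⟩
  have hcomap : Q'.asIdeal.comap (algebraMap B C) = Q.asIdeal :=
    IsLocalization.comap_map_of_isPrime_disjoint (Submonoid.powers g) C Q.isPrime hdisj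
  have hQ'p : Q'.asIdeal.comap (algebraMap A C) = p := by
    rw [IsScalarTower.algebraMap_eq A B C, ← Ideal.comap_comap, hcomap, hQp]
  haveI := liesOver_of_comap p Q' hQ'p
  haveI : Q'.asIdeal.IsPrime := Q'.isPrime
  have hmin : Q'.asIdeal ∈ (p.map (algebraMap A C)).minimalPrimes := by
    refine ⟨⟨Q'.isPrime, Ideal.map_le_iff_le_comap.2 hQ'p.ge⟩, fun J hJ hle => ?_⟩
    have h1 : p.map (algebraMap A B) ≤ J.comap (algebraMap B C) := by
      rw [← Ideal.map_le_iff_le_comap, Ideal.map_map, ← IsScalarTower.algebraMap_eq]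
      exact hJ.2
    have := hJ.1
    have h2 := hQ.2 ⟨Ideal.IsPrime.comap (algebraMap B C), h1⟩ ((Ideal.comap_mono hle).trans hcomap.le)
    exact Ideal.map_le_iff_le_comap.2 h2
  rw [← td_minimal_standard p n Q' hQ'p hmin,
    td_eq p (IsScalarTower.toAlgHom A B C) Q.asIdeal Q'.asIdeal hcomap fun x => ?_]
  obtain ⟨⟨b, c⟩, hbc⟩ := IsLocalization.surj (Submonoid.powers g) x
  refine ⟨b, c, fun h => ?_, by rw [mul_comm]; exact hbc⟩
  exact Q'.isPrime.ne_top (Ideal.eq_top_of_isUnit_mem _ h (IsLocalization.map_units C c))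

end Trdeg

section Degree

variable {A B : Type u} [CommRing A] [CommRing B] [Algebra A B] [IsNoetherianRing A]
  [IsNoetherianRing B] [Module.Flat A B] [Algebra.FiniteType A B] {ω : Dual.D A}
  (hω : Dual.IsDualizing A ω) (hω' : Dual.IsDualizing B ((L A B).obj ω))

/-- Along a fibre `deg + trdeg` is constant. -/
theorem deg_add_td (p : Ideal A) [p.IsPrime] (q : PrimeSpectrum B)
    (hq : q.asIdeal.comap (algebraMap A B) = p) :
    ∀ (m : ℕ) (r : PrimeSpectrum B) (hr : r.asIdeal.comap (algebraMap A B) = p),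
      r ≤ q → Degree.deg hω' q ≤ Degree.deg hω' r + m →
      Degree.deg hω' r + Dim.Basic.dimQ p.ResidueField (fibPt p r hr).asIdeal =
        Degree.deg hω' q + Dim.Basic.dimQ p.ResidueField (fibPt p q hq).asIdeal := by
  intro m
  induction m with
  | zero =>
    intro r hr hrq hm
    rcases hrq.eq_or_lt with h | h
    · subst h; rfl
    · have := Degree.deg_lt hω' h
      lia
  | succ m ih =>
    intro r hr hrq hm
    rcases hrq.eq_or_lt with h | h
    · subst h; rfl
    obtain ⟨z, hrz, hzq, hz⟩ := DimDegree.exists_next hω' h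
    have hzp : z.asIdeal.comap (algebraMap A B) = p :=
      le_antisymm (hq ▸ Ideal.comap_mono hzq) (hr ▸ Ideal.comap_mono hrz.le)
    rw [← ih z hzp hzq (by lia), hz]
    have hcov : fibPt p r hr ⋖ fibPt p z hzp := by
      refine (apply_covBy_apply_iff _).2 ⟨hrz, fun w hw hw' => ?_⟩
      have h1 := Degree.deg_lt hω' (show r < w.1 from hw)
      have h2 := Degree.deg_lt hω' (show w.1 < z from hw')
      lia
    have := Dim.Basic.dimQ_add_one_of_covBy p.ResidueField hcov
    lia

/-- The degree at a point of a smooth algebra. -/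
theorem deg_eq (n : ℕ) (hs : FlatCA.SmoothRelDim n A B) (p : Ideal A) [p.IsPrime]
    (q : PrimeSpectrum B) (hq : q.asIdeal.comap (algebraMap A B) = p) (t : ℕ)
    (ht : haveI := liesOver_of_comap p q hq; td p q.asIdeal = (t : Cardinal.{u})) :
    Degree.deg hω' q = Degree.deg hω ⟨p, inferInstance⟩ - t + n := by
  obtain ⟨Q, hQ, hQq⟩ := Ideal.exists_minimalPrimes_le (I := p.map (algebraMap A B)) (J := q.asIdeal)
    (Ideal.map_le_iff_le_comap.2 hq.ge)
  let Q' : PrimeSpectrum B := ⟨Q, hQ.1.1⟩
  have hQp : Q'.asIdeal.comap (algebraMap A B) = p :=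
    comap_eq_of_le p hq (show Q' ≤ q from hQq) hQ.1.2
  have hpt : PrimeSpectrum.comap (algebraMap A B) Q' = ⟨p, inferInstance⟩ := PrimeSpectrum.ext hQp
  have hgen := FlatDegree.deg_eq_of_minimal hω hω' Q' (by rw [hpt]; exact hQ)
  rw [hpt] at hgen
  have hchain := deg_add_td hω' p q hq (Degree.deg hω' q - Degree.deg hω' Q').toNat Q' hQp hQq
    (by lia)
  have hn := td_minimal p n hs Q' hQp hQ
  rw [td_fibre p Q' hQp] at hn
  rw [td_fibre p q hq] at ht
  have hn' := Nat.cast_injective hn
  have ht' := Nat.cast_injective ht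
  lia

end Degree

section Local

variable {A : Type u} [CommRing A] [IsNoetherianRing A] {ω : Dual.D A} (hω : Dual.IsDualizing A ω)

/-- The residual Hom at a prime is nonzero exactly in the degree of the prime. -/
theorem nontrivial_hom_residue_iff (q : PrimeSpectrum A) {C : Type u} [CommRing C] [IsLocalRing C]
    [IsNoetherianRing C] [Algebra A C] [Module.Flat A C]
    (hC : q.asIdeal.map (algebraMap A C) = IsLocalRing.maximalIdeal C)
    (hc : PrimeSpectrum.comap (algebraMap A C) (IsLocalRing.closedPoint C) = q)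
    {K : Dual.D C} (e : (L A C).obj ω ≅ K) (i : ℤ) :
    Nontrivial (Dual.inD C (IsLocalRing.ResidueField C) ⟶ K⟦i⟧) ↔ i = Degree.deg hω q := by
  obtain ⟨c, hge⟩ := FlatDualizing.exists_isGE (FlatDualizing.bddFin_of_dualizing hω)
  let E := (Pointwise.quotEquivGE C q.asIdeal hge i).trans
    (Linear.homCongr C ((DerivedCategory.singleFunctor (ModuleCat.{u} C) 0).mapIso
      (Submodule.quotEquivOfEq _ _ hC).toModuleIso) ((shiftFunctor (Dual.D C) i).mapIso e))
  rw [← Degree.mem_support_iff_eq_deg hω q i]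
  refine (E.toEquiv.nontrivial_congr).symm.trans ⟨fun h => ?_, fun h => ?_⟩
  · by_contra hn
    haveI : Subsingleton (C ⊗[A] (Dual.inD A (A ⧸ q.asIdeal) ⟶ ω⟦i⟧)) := by
      have := Degree.finite_hom hω (A ⧸ q.asIdeal) i
      refine LocalCase.subsingleton_of_closedPoint_notMem (A := C) _ fun hmem => hn ?_
      have h' := Pointwise.mem_support_of_baseChange _ hmem
      rwa [hc] at h'
    exact not_nontrivial _ h
  · have := Degree.finite_hom hω (A ⧸ q.asIdeal) i
    exact (LocalCase.nontrivial_iff_closedPoint_mem _).2 (FlatDegree.mem_support_baseChange _ (hc ▸ h))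

end Local

end Groth.Agent.Lib.DMod.SmoothDegree
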