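import Groth.Agent.Lib.DMod.ShriekBounds
import Groth.Agent.Lib.DMod.SmoothDegree
import Groth.Agent.Lib.DMod.CMExtTwo
import Groth.Agent.Lib.RG.PureTrans
import Groth.Agent.H18.CMPoly
import Groth.Prelude.Def_Dual3
import Mathlib.RingTheory.MvPolynomial.Localization
import Mathlib.RingTheory.Localization.LocalizationLocalization

/-!
The relative dualizing complex over the Cohen–Macaulay locus of the base.
-/

set_option linter.style.haveILetI false

universe u

open CategoryTheory AlgebraicGeometry RingTheory.Sequence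

attribute [local instance] HasDerivedCategory.standard

namespace Groth.Agent.Lib.DMod.ShriekCM

open Groth.Agent.Lib.DMod

/-- Transcendence degrees are transported along compatible isomorphisms of fields. -/
theorem trdeg_transport {k K k' K' : Type u} [Field k] [Field K] [Field k'] [Field K'] [Algebra k K]
    [Algebra k' K'] (e : k ≃+* k') (f : K ≃+* K')
    (hc : ∀ x, f (algebraMap k K x) = algebraMap k' K' (e x)) :
    Algebra.trdeg k K = Algebra.trdeg k' K' := by
  letI : Algebra k K' := ((algebraMap k' K').comp e.toRingHom).toAlgebra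
  letI : Algebra k k' := e.toRingHom.toAlgebra
  haveI : IsScalarTower k k' K' := IsScalarTower.of_algebraMap_eq fun _ => rfl
  haveI : Module.Finite k k' := RingHom.Finite.of_surjective e.toRingHom e.surjective
  haveI : Algebra.IsAlgebraic k k' := Algebra.IsAlgebraic.of_finite _ _
  rw [(AlgEquiv.ofRingEquiv (f := f) hc).trdeg_eq]
  have h := trdeg_add_eq k k' (A := K')
  rw [trdeg_eq_zero (R := k), zero_add] at h
  exact h.symm

variable {R A : Type u} [CommRing R] [CommRing A] [Algebra R A]

/-- The residual transcendence degree of a morphism of affine schemes. -/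
theorem resTrdeg_eq_td (q : PrimeSpectrum A) (p' : Ideal R) [p'.IsPrime]
    (hq : q.asIdeal.comap (algebraMap R A) = p') :
    haveI := SmoothDegree.liesOver_of_comap p' q hq
    Dual3.resTrdeg (Spec.map (CommRingCat.ofHom (algebraMap R A))) q =
      SmoothDegree.td p' q.asIdeal := by
  subst hq
  let f := Spec.map (CommRingCat.ofHom (algebraMap R A))
  let i1 := Scheme.Spec.residueFieldIso (CommRingCat.of R) (f q)
  let i2 := Scheme.Spec.residueFieldIso (CommRingCat.of A) q
  have h := RG.PureTrans.residueFieldMap_eq (R := R) q (q.asIdeal.under R) rfl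
  symm
  letI := (Ideal.ResidueField.mapₐ (q.asIdeal.comap (algebraMap R A)) q.asIdeal (Algebra.ofId R A)
    rfl).toRingHom.toAlgebra
  letI := (f.residueFieldMap q).hom.toAlgebra
  exact trdeg_transport i1.commRingCatIsoToRingEquiv.symm i2.commRingCatIsoToRingEquiv.symm
    fun x => (congrArg (fun φ => φ.hom x) h).symm

section Ambient

variable [IsNoetherianRing R] {n : ℕ} [Algebra (MvPolynomial (Fin n) R) A]
  [IsScalarTower R (MvPolynomial (Fin n) R) A]
  (hsurj : Function.Surjective (algebraMap (MvPolynomial (Fin n) R) A))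

include hsurj in
/-- The primes of the presentation containing the ideal have height at least `n - r`. -/
theorem sub_le_height (r : ℕ)
    (hr : ∀ q : PrimeSpectrum A, q.asIdeal ∈ minimalPrimes A →
      Dual3.resTrdeg (Spec.map (CommRingCat.ofHom (algebraMap R A))) q ≤ (r : Cardinal.{u}))
    (Q : Ideal (MvPolynomial (Fin n) R)) [Q.IsPrime]
    (hQ : RingHom.ker (algebraMap (MvPolynomial (Fin n) R) A) ≤ Q) :
    ((n - r : ℕ) : ℕ∞) ≤ Q.height := by
  have : Algebra.FiniteType R A := Algebra.FiniteType.of_surjective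
    (IsScalarTower.toAlgHom R (MvPolynomial (Fin n) R) A) hsurj
  have hmap : (Q.map (algebraMap (MvPolynomial (Fin n) R) A)).IsPrime :=
    Ideal.map_isPrime_of_surjective hsurj hQ
  obtain ⟨q₀, hq₀, hle⟩ := Ideal.exists_minimalPrimes_le (I := (⊥ : Ideal A))
    (J := Q.map (algebraMap (MvPolynomial (Fin n) R) A)) bot_le
  have hcomap : q₀.comap (algebraMap (MvPolynomial (Fin n) R) A) ≤ Q := by
    refine (Ideal.comap_mono hle).trans ?_
    rw [Ideal.comap_map_of_surjective _ hsurj]
    exact sup_le le_rfl hQ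
  refine le_trans ?_ (Ideal.height_mono hcomap)
  have := hq₀.1.1
  let q : PrimeSpectrum A := ⟨q₀, hq₀.1.1⟩
  let p' := q.asIdeal.comap (algebraMap R A)
  let Qf := SmoothDegree.fibPt p' q rfl
  have hQf := SmoothDegree.fibPt_comap p' q rfl
  obtain ⟨D, d, e, hD, -, -, hco, hsum, -⟩ := CMFibrePrime.exists_dims (N := n) hsurj p' Qf.asIdeal
  have he : e ≤ r := by
    have h1 := hr q hq₀
    rw [resTrdeg_eq_td q p' rfl, SmoothDegree.td_fibre p' q rfl, Nat.cast_le] at h1
    have h2 := (Excellent.CatenaryDim.ringKrullDim_quotient_eq_coheight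
      (⟨Qf.asIdeal, inferInstance⟩ : PrimeSpectrum (p'.Fiber A))).symm.trans
      (Dim.Basic.ringKrullDim_quotient_prime p'.ResidueField Qf.asIdeal)
    rw [hco] at h2
    have h3 : e = Dim.Basic.dimQ p'.ResidueField Qf.asIdeal := by exact_mod_cast h2
    rw [h3]
    exact h1
  let Q₀ := (Qf.asIdeal.comap
    (Algebra.TensorProduct.includeRight : A →ₐ[R] p'.Fiber A)).comap
      (algebraMap (MvPolynomial (Fin n) R) A)
  have hDle : ((D : ℕ∞) : WithBot ℕ∞) ≤ ((Q₀.height : ℕ∞) : WithBot ℕ∞) := by
    rw [← IsLocalization.AtPrime.ringKrullDim_eq_height Q₀ (Localization.AtPrime Q₀)]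
    exact hD.ge.trans (ringKrullDim_le_of_surjective _ Ideal.Quotient.mk_surjective)
  have hh : Q₀.height = (q₀.comap (algebraMap (MvPolynomial (Fin n) R) A)).height :=
    congrArg (fun I : Ideal A => (I.comap (algebraMap (MvPolynomial (Fin n) R) A)).height) hQf
  rw [← hh]
  refine le_trans ?_ (WithBot.coe_le_coe.1 hDle)
  exact_mod_cast (show n - r ≤ D by omega)

end Ambient

attribute [local instance] MvPolynomial.algebraMvPolynomial in
/-- Local rings of the polynomial ring over the Cohen–Macaulay locus are Cohen–Macaulay. -/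
theorem isCohenMacaulay_ambient (p : Ideal R) [p.IsPrime]
    [LocCoh.IsCohenMacaulayLocalRing (Localization.AtPrime p)] {n : ℕ}
    (Q : Ideal (MvPolynomial (Fin n) R)) [Q.IsPrime]
    (hQ : Q.comap (algebraMap R (MvPolynomial (Fin n) R)) ≤ p) :
    LocCoh.IsCohenMacaulayLocalRing (Localization.AtPrime Q) := by
  let Rp := Localization.AtPrime p
  have hRp : LocCoh.IsCohenMacaulayRing Rp :=
    { isCohenMacaulayLocalRing_localization := fun P _ =>
        Depth.CM.isCohenMacaulayLocalRing_localization P }
  let M := p.primeCompl.map (MvPolynomial.C (σ := Fin n))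
  let Pp := MvPolynomial (Fin n) Rp
  have hdisj : Disjoint (M : Set (MvPolynomial (Fin n) R)) Q := by
    refine Set.disjoint_left.2 ?_
    rintro - ⟨t, ht, rfl⟩ htQ
    exact ht (hQ htQ)
  let Q' : Ideal Pp := Q.map (algebraMap (MvPolynomial (Fin n) R) Pp)
  haveI : Q'.IsPrime := IsLocalization.isPrime_of_isPrime_disjoint M Pp Q ‹_› hdisj
  have hc : Q'.comap (algebraMap (MvPolynomial (Fin n) R) Pp) = Q :=
    IsLocalization.under_map_of_isPrime_disjoint M Pp ‹Q.IsPrime› hdisj
  let L := Localization.AtPrime Q'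
  haveI : IsScalarTower (MvPolynomial (Fin n) R) Pp L :=
    IsScalarTower.to₁₂₄ (MvPolynomial (Fin n) R) Pp Pp L
  have h1 := IsLocalization.isLocalization_isLocalization_atPrime_isLocalization M L Q'
  have h2 : IsLocalization.AtPrime L Q := by
    have key : ∀ (I : Ideal (MvPolynomial (Fin n) R)) [I.IsPrime], I = Q →
        IsLocalization.AtPrime L I → IsLocalization.AtPrime L Q := by
      intro I _ hI h
      subst hI
      exact h
    exact key _ hc h1
  have hL : LocCoh.IsCohenMacaulayLocalRing L :=
    (H18.CMPoly.mvPolynomial Rp n).isCohenMacaulayLocalRing_localization Q'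
  exact @Excellent.Transport.isCohenMacaulayLocalRing_of_ringEquiv _ _ _ _
    (IsLocalization.algEquiv Q.primeCompl L (Localization.AtPrime Q)).toRingEquiv hL

section Change

variable {C L : Type u} [CommRing C] [CommRing L] (g : C →+* L)

/-- Dimensions of supports along a surjection. -/
theorem supportDim_eq_of_surjective {N : Type u} [AddCommGroup N] [Module C N] [Module L N]
    [Algebra C L] [IsScalarTower C L N] (hg : Function.Surjective (algebraMap C L))
    [Module.Finite C N] : Module.supportDim L N = Module.supportDim C N := by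
  haveI : Module.Finite L N := Module.Finite.of_restrictScalars_finite C L N
  rw [Module.supportDim_eq_ringKrullDim_quotient_annihilator,
    Module.supportDim_eq_ringKrullDim_quotient_annihilator]
  have hker : RingHom.ker ((Ideal.Quotient.mk (Module.annihilator L N)).comp (algebraMap C L)) =
      Module.annihilator C N := by
    ext x
    rw [RingHom.mem_ker, RingHom.comp_apply, Ideal.Quotient.eq_zero_iff_mem, Module.mem_annihilator,
      Module.mem_annihilator]
    simp only [algebraMap_smul]
  exact (ringKrullDim_eq_of_ringEquiv ((Ideal.quotEquivOfEq hker.symm).trans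
    (RingHom.quotientKerEquivOfSurjective (Ideal.Quotient.mk_surjective.comp hg)))).symm

end Change

section Shriek

variable [IsNoetherianRing R] {n : ℕ} {ψ : MvPolynomial (Fin n) R →ₐ[R] A}
  [DRing.HasLBaseChange (algebraMap R (MvPolynomial (Fin n) R))]
  {Rψ : Dual.D (MvPolynomial (Fin n) R) ⥤ Dual.D A}
  (hψ : Function.Surjective ψ) (adj : DRing.restrictD ψ.toRingHom ⊣ Rψ)
  (p : Ideal R) [p.IsPrime] [LocCoh.IsCohenMacaulayLocalRing (Localization.AtPrime p)] (r : ℕ)
  (hr : ∀ q : PrimeSpectrum A, q.asIdeal ∈ minimalPrimes A →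
      Dual3.resTrdeg (Spec.map (CommRingCat.ofHom (algebraMap R A))) q ≤ (r : Cardinal.{u}))

include hψ adj hr

/-- The relative dualizing complex lives in degrees `≥ -r` over the Cohen–Macaulay locus. -/
theorem killed (i : ℤ) (hi : i < -(r : ℤ))
    (x : Dual.HD A (Dual2.shriekVia n Rψ (Dual.inD R R)) i) :
    ∃ s ∈ Algebra.algebraMapSubmonoid A p.primeCompl, s • x = 0 := by
  by_contra hcon
  push Not at hcon
  let I : Ideal A := LinearMap.ker (LinearMap.toSpanSingleton A _ x)
  have hdisj : Disjoint (I : Set A) (Algebra.algebraMapSubmonoid A p.primeCompl : Set A) :=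
    Set.disjoint_left.2 fun s hsI hs => hcon s hs (LinearMap.mem_ker.1 hsI)
  obtain ⟨q, hq, hIq, hqS⟩ := Ideal.exists_le_prime_disjoint I _ hdisj
  suffices key : ∃ s : A, s ∉ q ∧ s • x = 0 by
    obtain ⟨s, hs, hsx⟩ := key
    exact hs (hIq hsx)
  have hqp : q.comap (algebraMap R A) ≤ p := fun a ha => by
    by_contra hap
    exact Set.disjoint_left.1 hqS ha ⟨a, hap, rfl⟩
  letI := ψ.toRingHom.toAlgebra
  haveI : IsScalarTower R (MvPolynomial (Fin n) R) A :=
    IsScalarTower.of_algebraMap_eq fun r => (ψ.commutes r).symm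
  have hsurj : Function.Surjective (algebraMap (MvPolynomial (Fin n) R) A) := hψ
  rcases lt_or_ge ((n : ℤ) + i) 0 with h0 | h0
  · have := ShriekLCI.subsingleton_HD_neg adj _ h0
    have := (Basic.HDShift (Rψ.obj (ShriekLCI.Y (R := R) (n := n))) (n : ℤ) i _ rfl).toEquiv.subsingleton
    exact ⟨1, fun h => hq.ne_top ((Ideal.eq_top_iff_one _).2 h), @Subsingleton.elim _ this _ _⟩
  obtain ⟨j, hj⟩ := Int.eq_ofNat_of_zero_le h0
  let Q := q.comap (algebraMap (MvPolynomial (Fin n) R) A)
  haveI := isCohenMacaulay_ambient p Q (by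
    rw [Ideal.comap_comap, ← IsScalarTower.algebraMap_eq]; exact hqp)
  have hht : ∀ P : Ideal (Localization.AtPrime Q), P.IsPrime → LocalExtCI.locKer A q ≤ P →
      ((n - r : ℕ) : ℕ∞) ≤ P.height := fun P hP hle => by
    rw [← IsLocalization.height_under Q.primeCompl P]
    exact sub_le_height hsurj r hr _ (Ideal.map_le_iff_le_comap.1 hle)
  have hJ : LocalExtCI.locKer A q ≠ ⊤ := ne_top_of_le_ne_top
    (IsLocalRing.maximalIdeal.isMaximal (Localization.AtPrime Q)).ne_top (Ideal.map_le_iff_le_comap.2 (le_of_le_of_eq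
      (Ideal.ker_le_comap _) (IsLocalization.AtPrime.under_maximalIdeal (Localization.AtPrime Q) Q).symm))
  have : Subsingleton (LocalExtCI.LExt (P := MvPolynomial (Fin n) R) A q j) :=
    CMExtTwo.subsingleton_ext _ hJ (n - r) hht j (by omega)
  obtain ⟨φ, hφ⟩ := LocalExtCI.exists_localizing (P := MvPolynomial (Fin n) R) hsurj q j
  obtain ⟨e, he⟩ := ShriekBounds.exists_shriek_equiv adj i j hj
  obtain ⟨⟨s, hs⟩, hsx⟩ := hφ.eq_zero (e x) (Subsingleton.elim _ _)
  exact ⟨ψ s, hs, e.injective (by rw [he, map_zero]; exact hsx)⟩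

/-- `(S₂)` in the lowest degree. -/
theorem hasSk_two :
    LocCoh.HasSk 2 (Localization (Algebra.algebraMapSubmonoid A p.primeCompl))
      (LocalizedModule (Algebra.algebraMapSubmonoid A p.primeCompl)
        (Dual.HD A (Dual2.shriekVia n Rψ (Dual.inD R R)) (-(r : ℤ)))) := by
  let S := Algebra.algebraMapSubmonoid A p.primeCompl
  let H := Dual.HD A (Dual2.shriekVia n Rψ (Dual.inD R R)) (-(r : ℤ))
  rcases lt_or_ge ((n : ℤ) + -(r : ℤ)) 0 with h0 | h0
  · have h1 := ShriekLCI.subsingleton_HD_neg adj _ h0
    have hH : Subsingleton H :=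
      (Basic.HDShift (Rψ.obj (ShriekLCI.Y (R := R) (n := n))) (n : ℤ) (-(r : ℤ)) _ rfl).toEquiv.subsingleton
    have hS : Subsingleton (LocalizedModule S H) :=
      LocalizedModule.subsingleton_iff.2 fun m => ⟨1, S.one_mem, @Subsingleton.elim _ hH _ _⟩
    intro q _
    have : Subsingleton (LocalizedModule q.primeCompl (LocalizedModule S H)) :=
      LocalizedModule.subsingleton_iff.2 fun m => ⟨1, q.primeCompl.one_mem, Subsingleton.elim _ _⟩
    rw [(Module.supportDim_eq_bot_iff_subsingleton _ _).2 this]
    exact le_trans (min_le_right _ _) bot_le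
  letI := ψ.toRingHom.toAlgebra
  haveI : IsScalarTower R (MvPolynomial (Fin n) R) A :=
    IsScalarTower.of_algebraMap_eq fun r => (ψ.commutes r).symm
  have hsurj : Function.Surjective (algebraMap (MvPolynomial (Fin n) R) A) := hψ
  obtain ⟨j, hj⟩ := Int.eq_ofNat_of_zero_le h0
  have hjc : j = n - r := by omega
  subst hjc
  haveI : IsNoetherianRing A := isNoetherianRing_of_surjective _ _ _ hsurj
  refine QDepth.hasSk_of_forall fun q' _ k hk hd => ?_
  let B := Localization S
  let L := Localization.AtPrime q'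
  let q := q'.comap (algebraMap A B)
  let Q := q.comap (algebraMap (MvPolynomial (Fin n) R) A)
  have hqp : q.comap (algebraMap R A) ≤ p := fun a ha => by
    by_contra hap
    exact (show q'.IsPrime from inferInstance).ne_top (Ideal.eq_top_of_isUnit_mem _ ha
      (IsLocalization.map_units B (⟨algebraMap R A a, a, hap, rfl⟩ : S)))
  haveI := isCohenMacaulay_ambient p Q (by
    rw [Ideal.comap_comap, ← IsScalarTower.algebraMap_eq]; exact hqp)
  have hht : ∀ P : Ideal (Localization.AtPrime Q), P.IsPrime → LocalExtCI.locKer A q ≤ P →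
      ((n - r : ℕ) : ℕ∞) ≤ P.height := fun P hP hle => by
    rw [← IsLocalization.height_under Q.primeCompl P]
    exact sub_le_height hsurj r hr _ (Ideal.map_le_iff_le_comap.1 hle)
  have hJ : LocalExtCI.locKer A q ≠ ⊤ := ne_top_of_le_ne_top
    (IsLocalRing.maximalIdeal.isMaximal (Localization.AtPrime Q)).ne_top (Ideal.map_le_iff_le_comap.2 (le_of_le_of_eq
      (Ideal.ker_le_comap _) (IsLocalization.AtPrime.under_maximalIdeal (Localization.AtPrime Q) Q).symm))
  -- `L` is the local ring of `A` at `q`
  haveI : IsLocalization.AtPrime L q :=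
    IsLocalization.isLocalization_isLocalization_atPrime_isLocalization S L q'
  let C := Localization.AtPrime Q
  let g : C →+* L := IsLocalization.lift (M := Q.primeCompl)
    (g := (algebraMap A L).comp (algebraMap (MvPolynomial (Fin n) R) A)) fun s =>
      IsLocalization.map_units L (⟨algebraMap (MvPolynomial (Fin n) R) A s, s.2⟩ : q.primeCompl)
  have hg : ∀ a : MvPolynomial (Fin n) R, g (algebraMap _ C a) = algebraMap A L (algebraMap _ A a) :=
    fun a => IsLocalization.lift_eq _ a
  letI : Algebra C L := g.toAlgebra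
  have hgs : Function.Surjective (algebraMap C L) := fun z => by
    obtain ⟨⟨a, t⟩, ht⟩ := IsLocalization.surj q.primeCompl z
    obtain ⟨a', rfl⟩ := hsurj a
    obtain ⟨t', ht'⟩ := hsurj (t : A)
    have htQ : t' ∈ Q.primeCompl := fun h => t.2 (by rw [← ht']; exact h)
    refine ⟨IsLocalization.mk' C a' (⟨t', htQ⟩ : Q.primeCompl), ?_⟩
    refine (IsLocalization.map_units L t).mul_left_injective ?_
    show g _ * algebraMap A L (t : A) = z * algebraMap A L (t : A)
    rw [ht, ← ht', ← hg t', ← map_mul, IsLocalization.mk'_spec, hg]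
  let N := LocalizedModule q'.primeCompl (LocalizedModule S H)
  letI : Module C N := Module.compHom N g
  haveI : IsScalarTower C L N := IsScalarTower.of_algebraMap_smul fun _ _ => rfl
  let f : H →ₗ[A] N := ((LocalizedModule.mkLinearMap q'.primeCompl (LocalizedModule S H)).restrictScalars A)
    ∘ₗ LocalizedModule.mkLinearMap S H
  haveI hf : IsLocalizedModule q.primeCompl f :=
    (isLocalizedModule_iff_isBaseChange q.primeCompl L f).2
      ((IsLocalizedModule.isBaseChange S B (LocalizedModule.mkLinearMap S H)).comp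
        (IsLocalizedModule.isBaseChange q'.primeCompl L
          (LocalizedModule.mkLinearMap q'.primeCompl (LocalizedModule S H))))
  obtain ⟨e, he⟩ := ShriekBounds.exists_shriek_equiv adj (-(r : ℤ)) (n - r) hj
  let ν : PresTransfer.E ψ (n - r) →+ N := f.toAddMonoidHom.comp e.symm.toAddMonoidHom
  have hν : ∀ (a : MvPolynomial (Fin n) R) (x : PresTransfer.E ψ (n - r)),
      ν (a • x) = algebraMap _ C a • ν x := fun a x => by
    have h1 : e.symm (a • x) = ψ a • e.symm x :=
      e.injective (by rw [e.apply_symm_apply, he, e.apply_symm_apply])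
    show f (e.symm (a • x)) = g (algebraMap _ C a) • f (e.symm x)
    rw [h1, map_smul, hg, algebraMap_smul]
    rfl
  have hνloc : LCFin.ExtLoc.IsLocalizing Q.primeCompl ν := by
    refine ⟨hν, fun z => ?_, fun x hx => ?_⟩
    · obtain ⟨⟨h, t⟩, ht⟩ := IsLocalizedModule.surj q.primeCompl f z
      obtain ⟨t', ht'⟩ := hsurj (t : A)
      refine ⟨e h, ⟨t', fun hc => t.2 (by rw [← ht']; exact hc)⟩, ?_⟩
      show g (algebraMap _ C t') • z = f (e.symm (e h))
      rw [hg, ht', algebraMap_smul, e.symm_apply_apply]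
      exact ht
    · obtain ⟨t, ht⟩ := (IsLocalizedModule.eq_zero_iff q.primeCompl f).1 hx
      obtain ⟨t', ht'⟩ := hsurj (t : A)
      refine ⟨⟨t', fun hc => t.2 (by rw [← ht']; exact hc)⟩, e.symm.injective ?_⟩
      rw [map_zero, ← ht]
      refine e.injective ?_
      rw [e.apply_symm_apply]
      show t' • x = e ((t : A) • e.symm x)
      rw [← ht', show algebraMap (MvPolynomial (Fin n) R) A t' = ψ t' from rfl, he, e.apply_symm_apply]
  obtain ⟨eN⟩ := hνloc.nonempty_equiv
  obtain ⟨φ, hφ⟩ := LocalExtCI.exists_localizing (P := MvPolynomial (Fin n) R) hsurj q (n - r)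
  obtain ⟨eE⟩ := hφ.nonempty_equiv
  let eNE : N ≃ₗ[C] LocalExtCI.LExt (P := MvPolynomial (Fin n) R) A q (n - r) := eN.symm.trans eE
  haveI : Module.Finite C (LocalExtCI.LExt (P := MvPolynomial (Fin n) R) A q (n - r)) :=
    CMExtTwo.finite_ext _ hJ _ hht
  haveI : Module.Finite C N := Module.Finite.equiv eNE.symm
  have hdim : Module.supportDim L N =
      Module.supportDim C (LocalExtCI.LExt (P := MvPolynomial (Fin n) R) A q (n - r)) :=
    (supportDim_eq_of_surjective (C := C) (L := L) hgs).trans (Module.supportDim_eq_of_equiv eNE)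
  rw [hdim] at hd
  rw [← Depth.Basic.depth_eq_of_surjective (R := C) (S := L) hgs, Depth.Basic.depth_congr eNE]
  exact CMExtTwo.le_depth_ext _ hJ _ hht k hk hd

end Shriek

end Groth.Agent.Lib.DMod.ShriekCM
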