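import Groth.Agent.Lib.DMod.ShriekFlatBC
import Groth.Agent.Lib.DMod.ShriekSection

/-!
The upper shriek of a composite.
-/

set_option linter.style.haveILetI false

universe u

open CategoryTheory CategoryTheory.Limits
open Groth.Agent.Lib.DR
open Groth.Agent.Lib.DMod Groth.Agent.Lib.DMod.Basic Groth.Agent.Lib.DMod.FlatHom Groth.Agent.Lib.DMod.Rep
open scoped TensorProduct

attribute [local instance] HasDerivedCategory.standard
attribute [local instance] MvPolynomial.algebraMvPolynomial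

namespace Groth.Agent.Lib.DMod.ShriekComp

theorem represents_lbc_equiv {B C : Type u} [CommRing B] [CommRing C] (σ : B →+* C) (τ : C →+* B)
    (hστ : σ.comp τ = RingHom.id C) (hτσ : τ.comp σ = RingHom.id B) [DRing.HasLBaseChange σ]
    (X : Dual.D B) : Represents σ ((DRing.LBaseChange σ).obj X) X := by
  obtain ⟨e⟩ := ShriekSection.nonempty_lbc_iso σ τ hστ hτσ X
  exact ((ShriekSection.represents_equiv σ τ hστ hτσ ((DRing.restrictD τ).obj X)).of_iso_right
    ((ShriekSection.resEquiv σ τ hστ hτσ).counitIso.app X)).of_iso_left e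

/-- The upper shriek of a composite, for bounded below objects and a pseudo-coherent presentation. -/
theorem nonempty_comp_iso_of_pc {A B C : Type u} [CommRing A] [CommRing B] [CommRing C]
    [Algebra A B] [Algebra B C] [Algebra A C] [IsScalarTower A B C]
    (n : ℕ) (ψ : MvPolynomial (Fin n) A →ₐ[A] B) (hψ : Function.Surjective ψ)
    [DRing.HasLBaseChange (algebraMap A (MvPolynomial (Fin n) A))]
    (Rψ : Dual.D (MvPolynomial (Fin n) A) ⥤ Dual.D B) (adj : DRing.restrictD ψ.toRingHom ⊣ Rψ)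
    (m : ℕ) (χ : MvPolynomial (Fin m) B →ₐ[B] C) (hχ : Function.Surjective χ)
    [DRing.HasLBaseChange (algebraMap B (MvPolynomial (Fin m) B))]
    (Rχ : Dual.D (MvPolynomial (Fin m) B) ⥤ Dual.D C) (adjχ : DRing.restrictD χ.toRingHom ⊣ Rχ)
    (k : ℕ) (θ : MvPolynomial (Fin k) A →ₐ[A] C) (hθ : Function.Surjective θ)
    [DRing.HasLBaseChange (algebraMap A (MvPolynomial (Fin k) A))]
    (Rθ : Dual.D (MvPolynomial (Fin k) A) ⥤ Dual.D C) (adjθ : DRing.restrictD θ.toRingHom ⊣ Rθ)
    (K : Dual.D A) (c : ℤ) (hK : ∀ i : ℤ, i < c → Subsingleton (Dual.HD A K i))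
    (hpc : letI := ψ.toRingHom.toAlgebra; DRing.IsPseudoCoherentModule' (MvPolynomial (Fin n) A) B) :
    Nonempty (Dual2.shriekVia k Rθ K ≅ Dual2.shriekVia m Rχ (Dual2.shriekVia n Rψ K)) := by
  let P := MvPolynomial (Fin n) A
  let P' := MvPolynomial (Fin m) P
  let B' := MvPolynomial (Fin m) B
  let M := MvPolynomial (Fin (m + n)) A
  letI : Algebra P B := ψ.toRingHom.toAlgebra
  haveI : IsScalarTower A P B := IsScalarTower.of_algebraMap_eq fun r => (ψ.commutes r).symm
  haveI : Algebra.IsPushout P B P' B' := inferInstance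
  haveI : DRing.HasLBaseChange (algebraMap P P') := BaseChangeU.hasLBaseChange _
  haveI := ShriekBC.hasRHomRel (algebraMap P' B')
  let Rψ' := DTen.RHomRel (algebraMap P' B')
  let adjψ' : DRing.restrictD (algebraMap P' B') ⊣ Rψ' := DTen.relAdj _
  let Y := (DRing.LBaseChange (algebraMap A P)).obj K
  haveI : Y.IsGE c := (isGE_iff Y c).2 fun i hi => by
    haveI := hK i hi
    exact ShriekFlatBC.subsingleton_HD_lbc K i
  obtain ⟨d⟩ := ShriekFlatBC.nonempty_core_of_pc (P := P) (A := B) (P' := P') (A' := B') hpc adj adjψ' Y c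
  let V := (DRing.LBaseChange (algebraMap P P')).obj Y
  let W := (DRing.LBaseChange (algebraMap B B')).obj (Rψ.obj Y)
  let W' := (DRing.LBaseChange (algebraMap B B')).obj ((Rψ.obj Y)⟦(n : ℤ)⟧)
  let eW : W⟦(n : ℤ)⟧ ≅ W' := (shiftFunctor (Dual.D B') (n : ℤ)).mapIso ((isoLBaseChange B B').app _) ≪≫
    (((L B B').commShiftIso (n : ℤ)).app (Rψ.obj Y)).symm ≪≫ ((isoLBaseChange B B').app _).symm
  have r₁ : Represents (algebraMap P' B') W' (V⟦(n : ℤ)⟧) :=
    (((represents_adj adjψ' V).of_iso_left d).shift (n : ℤ)).of_iso_left eW.symm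
  have r₂ := (r₁.comp (represents_adj adjχ W')).shift (m : ℤ)
  -- the total presentation
  let e : M ≃ₐ[A] P' :=
    (MvPolynomial.renameEquiv A finSumFinEquiv.symm).trans (MvPolynomial.sumAlgEquiv A (Fin m) (Fin n))
  let θ₁ : P' →ₐ[A] C :=
    { χ.toRingHom.comp (algebraMap P' B') with
      commutes' := fun a => by
        show χ (MvPolynomial.map (algebraMap P B) (MvPolynomial.C (algebraMap A P a))) = algebraMap A C a
        rw [MvPolynomial.map_C, ← IsScalarTower.algebraMap_apply A P B, ← MvPolynomial.algebraMap_eq,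
          χ.commutes, ← IsScalarTower.algebraMap_apply A B C] }
  let θ' : M →ₐ[A] C := θ₁.comp e.toAlgHom
  have hθ' : Function.Surjective θ' := by
    have h1 : Function.Surjective θ₁ := hχ.comp (MvPolynomial.map_surjective _ hψ)
    exact h1.comp e.surjective
  haveI : DRing.HasLBaseChange (algebraMap A M) := BaseChangeU.hasLBaseChange _
  haveI : DRing.HasLBaseChange e.toAlgHom.toRingHom := BaseChangeU.hasLBaseChange _
  haveI := ShriekBC.hasRHomRel θ'.toRingHom
  let adjθ' : DRing.restrictD θ'.toRingHom ⊣ DTen.RHomRel θ'.toRingHom := DTen.relAdj _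
  let S := (DRing.LBaseChange (algebraMap A M)).obj K
  -- transitivity
  let η := (algebraMap P P').comp (algebraMap A P)
  haveI : DRing.HasLBaseChange η := BaseChangeU.hasLBaseChange _
  haveI : DRing.HasLBaseChange (e.toAlgHom.toRingHom.comp (algebraMap A M)) := BaseChangeU.hasLBaseChange _
  have hη : e.toAlgHom.toRingHom.comp (algebraMap A M) = η :=
    RingHom.ext fun a => e.toAlgHom.commutes a
  obtain ⟨t₁⟩ := BaseChangeU.nonempty_LBaseChange_comp (algebraMap A P) (algebraMap P P') K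
  obtain ⟨t₂⟩ := BaseChangeU.nonempty_LBaseChange_comp (algebraMap A M) e.toAlgHom.toRingHom K
  let t : (DRing.LBaseChange e.toAlgHom.toRingHom).obj S ≅ V :=
    t₂ ≪≫ eqToIso (by congr 2) ≪≫ t₁.symm
  have r₀ : Represents e.toAlgHom.toRingHom ((V⟦(n : ℤ)⟧)⟦(m : ℤ)⟧) ((S⟦(n : ℤ)⟧)⟦(m : ℤ)⟧) :=
    (((represents_lbc_equiv e.toAlgHom.toRingHom e.symm.toAlgHom.toRingHom
      (RingHom.ext fun x => e.apply_symm_apply x) (RingHom.ext fun x => e.symm_apply_apply x) S).of_iso_left
        t.symm).shift (n : ℤ)).shift (m : ℤ)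
  have r : Represents θ'.toRingHom (Dual2.shriekVia m Rχ (Dual2.shriekVia n Rψ K))
      ((S⟦(n : ℤ)⟧)⟦(m : ℤ)⟧) := r₀.comp r₂
  obtain ⟨u⟩ := (r.of_iso_right
      ((shiftFunctorAdd' (Dual.D M) (n : ℤ) (m : ℤ) ((m + n : ℕ) : ℤ) (by push_cast; ring)).app S).symm).unique
    ((represents_adj adjθ' S).shift ((m + n : ℕ) : ℤ))
  obtain ⟨ind⟩ := ShriekIndep.nonempty_iso (m + n) θ' hθ' (DTen.RHomRel θ'.toRingHom) adjθ' k θ hθ Rθ adjθ K
  exact ⟨(u ≪≫ ind).symm⟩

/-- The upper shriek of a composite, for bounded below objects. -/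
theorem nonempty_comp_iso {A B C : Type u} [CommRing A] [CommRing B] [CommRing C] [IsNoetherianRing A]
    [Algebra A B] [Algebra B C] [Algebra A C] [IsScalarTower A B C]
    (n : ℕ) (ψ : MvPolynomial (Fin n) A →ₐ[A] B) (hψ : Function.Surjective ψ)
    [DRing.HasLBaseChange (algebraMap A (MvPolynomial (Fin n) A))]
    (Rψ : Dual.D (MvPolynomial (Fin n) A) ⥤ Dual.D B) (adj : DRing.restrictD ψ.toRingHom ⊣ Rψ)
    (m : ℕ) (χ : MvPolynomial (Fin m) B →ₐ[B] C) (hχ : Function.Surjective χ)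
    [DRing.HasLBaseChange (algebraMap B (MvPolynomial (Fin m) B))]
    (Rχ : Dual.D (MvPolynomial (Fin m) B) ⥤ Dual.D C) (adjχ : DRing.restrictD χ.toRingHom ⊣ Rχ)
    (k : ℕ) (θ : MvPolynomial (Fin k) A →ₐ[A] C) (hθ : Function.Surjective θ)
    [DRing.HasLBaseChange (algebraMap A (MvPolynomial (Fin k) A))]
    (Rθ : Dual.D (MvPolynomial (Fin k) A) ⥤ Dual.D C) (adjθ : DRing.restrictD θ.toRingHom ⊣ Rθ)
    (K : Dual.D A) (c : ℤ) (hK : ∀ i : ℤ, i < c → Subsingleton (Dual.HD A K i)) :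
    Nonempty (Dual2.shriekVia k Rθ K ≅ Dual2.shriekVia m Rχ (Dual2.shriekVia n Rψ K)) := by
  letI : Algebra (MvPolynomial (Fin n) A) B := ψ.toRingHom.toAlgebra
  haveI : Module.Finite (MvPolynomial (Fin n) A) B := Module.Finite.of_surjective (Algebra.linearMap _ B) hψ
  exact nonempty_comp_iso_of_pc n ψ hψ Rψ adj m χ hχ Rχ adjχ k θ hθ Rθ adjθ K c hK
    (((Groth.Agent.S6943.result (MvPolynomial (Fin n) A) (fun I _ => Module.finitePresentation_of_finite _ I)
      (Dual.inD (MvPolynomial (Fin n) A) B)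
      ⟨0, fun i hi => subsingleton_HD_inD B (ne_of_gt hi)⟩ 0).2).2 fun i =>
        have := finite_HD_inD (A := MvPolynomial (Fin n) A) B i
        Module.finitePresentation_of_finite _ _)

end Groth.Agent.Lib.DMod.ShriekComp
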