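import Groth.Agent.Lib.DMod.CoextExt
import Groth.Agent.Lib.DMod.BidualityCx
import Groth.Agent.Lib.DMod.ShriekVia
import Groth.Agent.Lib.DMod.RelDual.Main

/-!
Flat base change of duals of complexes with finite cohomology.
-/

set_option linter.style.haveILetI false

universe u

open CategoryTheory CategoryTheory.Limits MonoidalCategory
open CochainComplex CochainComplex.HomComplex
open Groth.Agent.Lib.DR Groth.Agent.Lib.DR.HomCx
open Groth.Agent.Lib.DR.FiniteComplex Groth.Agent.Lib.DR.PseudoCoherent
open Groth.Agent.Lib.DMod Groth.Agent.Lib.DMod.RelDual Groth.Agent.Lib.DMod.RelDual.Extend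
open scoped TensorProduct

attribute [local instance] HasDerivedCategory.standard

namespace Groth.Agent.Lib.DMod.ShriekDual

variable {A P : Type u} [CommRing A] [CommRing P] (i : A →+* P)

theorem β_natural {X X' : DRing.Cx A} (f : X' ⟶ X) (I : DRing.Cx A) :
    (DTen.extCx i).map ((RHomRes.precomp f).app I) ≫ β i X' I =
      β i X I ≫ (RHomRes.precomp ((DTen.extCx i).map f)).app ((DTen.extCx i).obj I) :=
  HomologicalComplex.hom_ext _ _ fun n => ModuleCat.ExtendScalars.hom_ext fun z => by
    let z' : Cochain X I n := z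
    let w : Cochain X' I n := ((RHomRes.precomp f).app I).f n z'
    have e1 : ((DTen.extCx i).map ((RHomRes.precomp f).app I)).f n (one₁ i (M := (DRing.homCx X I).X n) z') =
        one₁ i (M := (DRing.homCx X' I).X n) w :=
      ModuleCat.ExtendScalars.map_tmul i (((RHomRes.precomp f).app I).f n) 1 z
    refine (congrArg (βX i X' I n) e1).trans ((βX_one i X' I n w).trans ?_)
    refine Eq.trans ?_ (congrArg (((RHomRes.precomp ((DTen.extCx i).map f)).app ((DTen.extCx i).obj I)).f n)
      (βX_one i X I n z')).symm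
    refine cochain_ext i X' _ n fun p q h x => ?_
    have e2 : ((DTen.extCx i).map f).f p (one₁ i x) = one₁ i (f.f p x) :=
      ModuleCat.ExtendScalars.map_tmul i (f.f p) 1 x
    refine Eq.trans ?_ (Elem.precomp_apply ((DTen.extCx i).map f) n p q h
      (z'.map (DTen.extM i) : Cochain ((DTen.extCx i).obj X) ((DTen.extCx i).obj I) n) (one₁ i x)).symm
    rw [e2]
    refine (ModuleCat.ExtendScalars.map_tmul i (w.v p q h) 1 x).trans (Eq.trans ?_
      (ModuleCat.ExtendScalars.map_tmul i (z'.v p q h) 1 (f.f p x)).symm)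
    exact congrArg (one₁ i) (Elem.precomp_apply f n p q h z' x)

/-- The comparison map into the dual over the extended ring. -/
noncomputable def m {I : DRing.Cx A} {J : DRing.Cx P} (q : (DTen.extCx i).obj I ⟶ J) (X : DRing.Cx A) :
    (DTen.extCx i).obj (DRing.homCx X I) ⟶ DRing.homCx ((DTen.extCx i).obj X) J :=
  β i X I ≫ (DRing.homCxFunctor ((DTen.extCx i).obj X)).map q

theorem m_natural {I : DRing.Cx A} {J : DRing.Cx P} (q : (DTen.extCx i).obj I ⟶ J) {X X' : DRing.Cx A} (f : X' ⟶ X) :
    (DTen.extCx i).map ((RHomRes.precomp f).app I) ≫ m i q X' =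
      m i q X ≫ (RHomRes.precomp ((DTen.extCx i).map f)).app J :=
  ((Category.assoc _ _ _).symm.trans (congrArg (· ≫ (DRing.homCxFunctor ((DTen.extCx i).obj X')).map q)
    (β_natural i f I))).trans ((Category.assoc _ _ _).trans
      ((congrArg (β i X I ≫ ·) ((RHomRes.precomp ((DTen.extCx i).map f)).naturality q).symm).trans
        (Category.assoc _ _ _).symm))

theorem quasiIso_ext_map (hflat : i.Flat) {X Y : DRing.Cx A} (f : X ⟶ Y) (j : ℤ) [QuasiIsoAt f j] :
    QuasiIsoAt ((DTen.extCx i).map f) j :=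
  letI := i.toAlgebra
  haveI : Module.Flat A P := hflat
  inferInstanceAs (QuasiIsoAt (((FlatHom.E A P).mapHomologicalComplex (.up ℤ)).map f) j)

variable [IsNoetherianRing A] [IsNoetherianRing P] {a b a' b' : ℤ} {I : DRing.Cx A} {J : DRing.Cx P}
  [I.IsKInjective] [J.IsKInjective]

theorem quasiIsoAt_m (hflat : i.Flat) (hI : ∀ n, n < a ∨ b < n → IsZero (I.X n))
    (hJ : ∀ n, n < a' ∨ b' < n → IsZero (J.X n)) (q : (DTen.extCx i).obj I ⟶ J) [QuasiIso q]
    (X : DRing.Cx A) (hX : ∀ j, Module.Finite A (Dual.HD A (DerivedCategory.Q.obj X) j)) (j : ℤ) :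
    QuasiIsoAt (m i q X) j := by
  have qq : ∀ {Y Z : DRing.Cx A} (g : Y ⟶ Z), QuasiIso g → QuasiIso ((DTen.extCx i).map g) := fun g hg =>
    ⟨fun j => quasiIso_ext_map i hflat g j⟩
  have key : ∀ (Y : DRing.Cx A) (c : ℤ), Y.IsLE c →
      (∀ j, Module.Finite A (Dual.HD A (DerivedCategory.Q.obj Y) j)) → QuasiIso (m i q Y) := by
    intro Y c hc hY
    obtain ⟨d, F, r, hr, hFb, hF⟩ := BidualityCx.exists_ff_res Y c hc hY
    haveI := isKProjective_of_bounds projective_of_ff hFb hF
    haveI : CochainComplex.IsKProjective ((DTen.extCx i).obj F) := BaseChangeU.isKProjective_ext i F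
    haveI := isIso_β i F I (fun p => fproj_of_ff _ (hF p)) a d hFb (fun n hn => hI n (Or.inl hn))
    haveI : QuasiIso ((DRing.homCxFunctor ((DTen.extCx i).obj F)).map q) :=
      (DerivedCategory.isIso_Q_map_iff_quasiIso _ _).1
        (RHom.inverts_homCxQ _ q (inferInstance : QuasiIso q))
    haveI := qq r hr
    haveI hp : QuasiIso ((RHomRes.precomp ((DTen.extCx i).map r)).app J) :=
      (DerivedCategory.isIso_Q_map_iff_quasiIso _ _).1 (RHomRes.isIso_precomp _ J)
    haveI := qq _ ((DerivedCategory.isIso_Q_map_iff_quasiIso _ _).1 (RHomRes.isIso_precomp r I))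
    have hmF : QuasiIso (m i q F) := Duality.qis_comp _ _ inferInstance (by assumption)
    have h : QuasiIso (m i q Y ≫ (RHomRes.precomp ((DTen.extCx i).map r)).app J) := by
      rw [← m_natural]
      exact Duality.qis_comp _ _ (by assumption) hmF
    exact (quasiIso_iff_comp_right (hφ' := hp) _ _).1 h
  let c := max b b' - j + 2
  let f := X.ιTruncLE c
  have hf : ∀ p, p < c → IsIso (f.f p) := fun p hp => BidualityCx.isIso_ιTruncLE_f X c p hp
  haveI h1 := BidualityCx.quasiIsoAt_precomp I hI f c j hf (by lia)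
  haveI := quasiIso_ext_map i hflat ((RHomRes.precomp f).app I) j
  haveI h2 : QuasiIsoAt ((RHomRes.precomp ((DTen.extCx i).map f)).app J) j :=
    BidualityCx.quasiIsoAt_precomp J hJ ((DTen.extCx i).map f) c j
      (fun p hp => have := hf p hp; inferInstanceAs (IsIso ((DTen.extM i).map (f.f p)))) (by lia)
  have hk := key (X.truncLE c) c inferInstance fun l => by
    rw [BidualityCx.finite_HD_Q_iff]
    by_cases hl : l ≤ c
    · haveI := CochainComplex.quasiIsoAt_ιTruncLE X c l hl
      haveI := (BidualityCx.finite_HD_Q_iff X l).1 (hX l)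
      exact Module.Finite.equiv (asIso (HomologicalComplex.homologyMap f l)).toLinearEquiv.symm
    · haveI := ModuleCat.subsingleton_of_isZero
        ((X.truncLE c).isZero_of_isLE c l (by lia))
      infer_instance
  have h : QuasiIsoAt (m i q X ≫ (RHomRes.precomp ((DTen.extCx i).map f)).app J) j := by
    rw [← m_natural]
    exact @quasiIsoAt_comp _ _ _ _ _ _ _ _ ((DTen.extCx i).map ((RHomRes.precomp f).app I))
      (m i q (X.truncLE c)) j _ _ _ (by assumption) (hk.quasiIsoAt j)
  exact (quasiIsoAt_iff_comp_right (hφ' := h2) (m i q X) ((RHomRes.precomp ((DTen.extCx i).map f)).app J) j).1 h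

end Groth.Agent.Lib.DMod.ShriekDual
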