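import Groth.Agent.S13550
import Groth.Agent.S6943
import Groth.Agent.Lib.DMod.ShriekBC
import Groth.Agent.Lib.Tor.Module

/-!
Base change of the upper shriek along a flat map of bases.
-/

set_option linter.style.haveILetI false

universe u

open CategoryTheory CategoryTheory.Limits
open Groth.Agent.Lib.DR
open Groth.Agent.Lib.DMod Groth.Agent.Lib.DMod.Basic Groth.Agent.Lib.DMod.FlatHom
open scoped TensorProduct

attribute [local instance] HasDerivedCategory.standard
attribute [local instance] MvPolynomial.algebraMvPolynomial Algebra.TensorProduct.rightAlgebra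

namespace Groth.Agent.Lib.DMod.ShriekFlatBC

theorem hasTorDimLE_zero {R M : Type u} [CommRing R] [AddCommGroup M] [Module R M] [Module.Flat R M] :
    DRing.HasTorDimLE R 0 M := fun _ _ _ _ hp =>
  Groth.Agent.Lib.Tor.Module.subsingleton_tor_of_flat_left _ _ _ _ hp

/-- Flat base change preserves lower bounds. -/
theorem subsingleton_HD_lbc {A B : Type u} [CommRing A] [CommRing B] [Algebra A B] [Module.Flat A B]
    [DRing.HasLBaseChange (algebraMap A B)] (K : Dual.D A) (i : ℤ) [Subsingleton (Dual.HD A K i)] :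
    Subsingleton (Dual.HD B ((DRing.LBaseChange (algebraMap A B)).obj K) i) :=
  haveI : Subsingleton (B ⊗[A] Dual.HD A K i) := inferInstance
  have := (HDL B K i).symm.toEquiv.subsingleton
  (HDCongr ((isoLBaseChange A B).app K) i).toEquiv.subsingleton

section Core

variable {P A P' A' : Type u} [CommRing P] [CommRing A] [CommRing P'] [CommRing A']
  [Algebra P A] [Algebra P P'] [Algebra A A'] [Algebra P' A'] [Algebra P A'] [IsScalarTower P A A']
  [IsScalarTower P P' A'] [Algebra.IsPushout P A P' A']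
  [Module.Flat P P']

/-- Trivial duality commutes with flat base change along a pseudo-coherent algebra. -/
theorem nonempty_core_of_pc (hpc : DRing.IsPseudoCoherentModule' P A) [DRing.HasLBaseChange (algebraMap P P')] [DRing.HasLBaseChange (algebraMap A A')]
    {Rψ : Dual.D P ⥤ Dual.D A} (adj : DRing.restrictD (algebraMap P A) ⊣ Rψ)
    {Rψ' : Dual.D P' ⥤ Dual.D A'} (adj' : DRing.restrictD (algebraMap P' A') ⊣ Rψ')
    (Y : Dual.D P) (c : ℤ) [Y.IsGE c] :
    Nonempty ((DRing.LBaseChange (algebraMap A A')).obj (Rψ.obj Y) ≅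
      Rψ'.obj ((DRing.LBaseChange (algebraMap P P')).obj Y)) := by
  have htor : ∀ p : ℕ, 1 ≤ p → Subsingleton (DRing.Tor P p A P') := fun p hp =>
    Groth.Agent.Lib.Tor.Module.subsingleton_tor_of_flat_right _ _ _ p hp
  have hsq : (algebraMap A A').comp (algebraMap P A) = (algebraMap P' A').comp (algebraMap P P') :=
    (IsScalarTower.algebraMap_eq P A A').symm.trans (IsScalarTower.algebraMap_eq P P' A')
  let adjσ : DRing.LBaseChange (algebraMap P P') ⊣ DRing.restrictD (algebraMap P P') :=
    Derived.derivedAdj (ModuleCat.extendRestrictScalarsAdj.{u} (algebraMap P P'))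
  let adjα : DRing.LBaseChange (algebraMap A A') ⊣ DRing.restrictD (algebraMap A A') :=
    Derived.derivedAdj (ModuleCat.extendRestrictScalarsAdj.{u} (algebraMap A A'))
  obtain ⟨E, hE, e, q, he, hq', hq⟩ :=
    TorIndepData.exists_data_proj (R := P) (A := A) (R' := P') (A' := A') htor
  have hc := TorIndepBC.isIso_cmp _ _ _ _ hsq e q adjσ adjα (KFlat.isKFlat_of_isKProjective E) hq (Rψ.obj Y)
  have := Groth.Agent.S13550.result P A P' A' hpc ⟨0, hasTorDimLE_zero⟩ htor adjσ adjα hsq Rψ adj Rψ' adj' Y c hc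
  exact ⟨asIso (TrivBC.bcMap adjσ adjα hsq adj adj' Y hc)⟩

variable [IsNoetherianRing P] [Module.Finite P A]

/-- Trivial duality commutes with flat base change. -/
theorem nonempty_core [DRing.HasLBaseChange (algebraMap P P')] [DRing.HasLBaseChange (algebraMap A A')]
    {Rψ : Dual.D P ⥤ Dual.D A} (adj : DRing.restrictD (algebraMap P A) ⊣ Rψ)
    {Rψ' : Dual.D P' ⥤ Dual.D A'} (adj' : DRing.restrictD (algebraMap P' A') ⊣ Rψ')
    (Y : Dual.D P) (c : ℤ) [Y.IsGE c] :
    Nonempty ((DRing.LBaseChange (algebraMap A A')).obj (Rψ.obj Y) ≅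
      Rψ'.obj ((DRing.LBaseChange (algebraMap P P')).obj Y)) :=
  nonempty_core_of_pc
    (((Groth.Agent.S6943.result P (fun I _ => Module.finitePresentation_of_finite P I) (Dual.inD P A)
      ⟨0, fun i hi => subsingleton_HD_inD A (ne_of_gt hi)⟩ 0).2).2 fun i =>
        have := finite_HD_inD (A := P) A i
        Module.finitePresentation_of_finite P _) adj adj' Y c

end Core

/-- Base change of the upper shriek along a flat map of bases. -/
theorem nonempty_baseChange_iso {R R' A : Type u} [CommRing R] [CommRing R'] [CommRing A]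
    [IsNoetherianRing R] [Algebra R R'] [Algebra R A] [Module.Flat R R']
    (n : ℕ) (ψ : MvPolynomial (Fin n) R →ₐ[R] A) (hψ : Function.Surjective ψ)
    [DRing.HasLBaseChange (algebraMap R (MvPolynomial (Fin n) R))]
    (Rψ : Dual.D (MvPolynomial (Fin n) R) ⥤ Dual.D A) (adj : DRing.restrictD ψ.toRingHom ⊣ Rψ)
    (m : ℕ) (ψ' : MvPolynomial (Fin m) R' →ₐ[R'] (R' ⊗[R] A)) (hψ' : Function.Surjective ψ')
    [DRing.HasLBaseChange (algebraMap R' (MvPolynomial (Fin m) R'))]
    (Rψ' : Dual.D (MvPolynomial (Fin m) R') ⥤ Dual.D (R' ⊗[R] A))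
    (adj' : DRing.restrictD ψ'.toRingHom ⊣ Rψ')
    [DRing.HasLBaseChange (algebraMap A (R' ⊗[R] A))] [DRing.HasLBaseChange (algebraMap R R')]
    (K : Dual.D R) (c : ℤ) (hK : ∀ i : ℤ, i < c → Subsingleton (Dual.HD R K i)) :
    Nonempty ((DRing.LBaseChange (algebraMap A (R' ⊗[R] A))).obj (Dual2.shriekVia n Rψ K) ≅
      Dual2.shriekVia m Rψ' ((DRing.LBaseChange (algebraMap R R')).obj K)) := by
  let P := MvPolynomial (Fin n) R
  let P' := MvPolynomial (Fin n) R'
  let A' := R' ⊗[R] A
  let ψ'' : P' →ₐ[R'] A' :=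
    MvPolynomial.aeval fun i => Algebra.TensorProduct.includeRight (R := R) (A := R') (ψ (MvPolynomial.X i))
  have hcomp : (algebraMap A A').comp ψ.toRingHom = ψ''.toRingHom.comp (algebraMap P P') := by
    refine MvPolynomial.ringHom_ext (fun r => ?_) fun i => ?_
    · show algebraMap A A' (ψ (MvPolynomial.C r)) = ψ'' (MvPolynomial.map (algebraMap R R') (MvPolynomial.C r))
      rw [MvPolynomial.map_C, MvPolynomial.aeval_C, ← IsScalarTower.algebraMap_apply,
        show ψ (MvPolynomial.C r) = algebraMap R A r from ψ.commutes r, ← IsScalarTower.algebraMap_apply]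
    · show algebraMap A A' (ψ (MvPolynomial.X i)) = ψ'' (MvPolynomial.map (algebraMap R R') (MvPolynomial.X i))
      rw [MvPolynomial.map_X, MvPolynomial.aeval_X]
      rfl
  have hψ'' : Function.Surjective ψ'' := fun z => by
    induction z using TensorProduct.induction_on with
    | zero => exact ⟨0, map_zero _⟩
    | add x y hx hy =>
      obtain ⟨a, rfl⟩ := hx
      obtain ⟨b, rfl⟩ := hy
      exact ⟨a + b, map_add _ _ _⟩
    | tmul r a =>
      obtain ⟨f, rfl⟩ := hψ a
      refine ⟨MvPolynomial.C r * algebraMap P P' f, ?_⟩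
      rw [map_mul, MvPolynomial.aeval_C]
      have h1 : ψ'' (algebraMap P P' f) = (1 : R') ⊗ₜ[R] ψ f := (RingHom.congr_fun hcomp f).symm
      rw [h1]
      show r ⊗ₜ[R] (1 : A) * (1 : R') ⊗ₜ[R] ψ f = r ⊗ₜ[R] ψ f
      rw [Algebra.TensorProduct.tmul_mul_tmul, mul_one, one_mul]
  haveI : Algebra.IsPushout R P R' P' := inferInstance
  haveI : Module.Flat P P' := Module.Flat.of_linearEquiv (Algebra.IsPushout.equiv R P R' P').symm.toLinearEquiv
  haveI : Algebra.IsPushout R A R' A' := inferInstance
  haveI : Module.Flat A A' := Module.Flat.of_linearEquiv (Algebra.IsPushout.equiv R A R' A').symm.toLinearEquiv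
  haveI : DRing.HasLBaseChange (algebraMap R' P') := BaseChangeU.hasLBaseChange _
  haveI : DRing.HasLBaseChange (algebraMap P P') := BaseChangeU.hasLBaseChange _
  haveI := ShriekBC.hasRHomRel ψ''.toRingHom
  let Rψ'' := DTen.RHomRel ψ''.toRingHom
  let adj'' : DRing.restrictD ψ''.toRingHom ⊣ Rψ'' := DTen.relAdj _
  let Y := (DRing.LBaseChange (algebraMap R P)).obj K
  haveI : Y.IsGE c := (isGE_iff Y c).2 fun i hi => by
    haveI := hK i hi
    exact subsingleton_HD_lbc K i
  -- the relative duality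
  have core : Nonempty ((DRing.LBaseChange (algebraMap A A')).obj (Rψ.obj Y) ≅
      Rψ''.obj ((DRing.LBaseChange (algebraMap P P')).obj Y)) := by
    letI : Algebra P A := ψ.toRingHom.toAlgebra
    letI : Algebra P' A' := ψ''.toRingHom.toAlgebra
    letI : Algebra P A' := ((algebraMap A A').comp ψ.toRingHom).toAlgebra
    haveI : IsScalarTower R P A := IsScalarTower.of_algebraMap_eq fun r => (ψ.commutes r).symm
    haveI : IsScalarTower R' P' A' := IsScalarTower.of_algebraMap_eq fun r => (ψ''.commutes r).symm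
    haveI : IsScalarTower P A A' := IsScalarTower.of_algebraMap_eq fun r => rfl
    haveI : IsScalarTower P P' A' := IsScalarTower.of_algebraMap_eq fun f => RingHom.congr_fun hcomp f
    haveI : IsScalarTower R P' A' := IsScalarTower.of_algebraMap_eq fun r => by
      rw [IsScalarTower.algebraMap_apply R R' A', IsScalarTower.algebraMap_apply R' P' A',
        IsScalarTower.algebraMap_apply R R' P']
    haveI : Algebra.IsPushout P A P' A' := (Algebra.IsPushout.comp_iff R P R' P').1 inferInstance
    haveI : Module.Finite P A := Module.Finite.of_surjective (Algebra.linearMap P A) hψ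
    exact nonempty_core (P := P) (A := A) (P' := P') (A' := A') adj adj'' Y c
  obtain ⟨d⟩ := core
  obtain ⟨ind⟩ := ShriekIndep.nonempty_iso n ψ'' hψ'' Rψ'' adj'' m ψ' hψ' Rψ' adj'
    ((DRing.LBaseChange (algebraMap R R')).obj K)
  -- transitivity
  let η := (algebraMap P P').comp (algebraMap R P)
  haveI : DRing.HasLBaseChange η := BaseChangeU.hasLBaseChange _
  have hη : (algebraMap R' P').comp (algebraMap R R') = η :=
    (IsScalarTower.algebraMap_eq R R' P').symm.trans (IsScalarTower.algebraMap_eq R P P')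
  haveI : DRing.HasLBaseChange ((algebraMap R' P').comp (algebraMap R R')) := BaseChangeU.hasLBaseChange _
  obtain ⟨t₁⟩ := BaseChangeU.nonempty_LBaseChange_comp (algebraMap R P) (algebraMap P P') K
  obtain ⟨t₂⟩ := BaseChangeU.nonempty_LBaseChange_comp (algebraMap R R') (algebraMap R' P') K
  let t : (DRing.LBaseChange (algebraMap P P')).obj Y ≅
      (DRing.LBaseChange (algebraMap R' P')).obj ((DRing.LBaseChange (algebraMap R R')).obj K) :=
    t₁ ≪≫ eqToIso (by congr 2; exact hη.symm) ≪≫ t₂.symm
  let Q : Dual.D A ⥤ Dual.D A' := L A A'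
  exact ⟨(isoLBaseChange A A').app _ ≪≫ ((L A A').commShiftIso (n : ℤ)).app (Rψ.obj Y) ≪≫
    (shiftFunctor (Dual.D A') (n : ℤ)).mapIso
      (((isoLBaseChange A A').app _).symm ≪≫ d ≪≫ Rψ''.mapIso t) ≪≫ ind⟩

end Groth.Agent.Lib.DMod.ShriekFlatBC
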