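import Groth.Agent.Lib.DMod.GorFibrePrime
import Groth.Agent.Lib.DMod.ShriekLCI

/-!
Invertibility of the relative dualizing complex and Gorenstein fibres.
-/

set_option linter.style.haveILetI false

universe u

open CategoryTheory CategoryTheory.Limits Pretriangulated TensorProduct
open Groth.Agent.Lib.DR
open Groth.Agent.Lib.DMod Groth.Agent.Lib.DMod.Basic Groth.Agent.Lib.DMod.FlatHom

attribute [local instance] HasDerivedCategory.standard

namespace Groth.Agent.Lib.DMod.ShriekGor

variable {A : Type u} [CommRing A] {M : Type u} [AddCommGroup M] [Module A M]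

/-- A module killed after inverting `f` is killed by powers of `f`. -/
theorem exists_kill_of_away (f : A) (h : Subsingleton (Localization.Away f ⊗[A] M)) (y : M) :
    ∃ k : ℕ, f ^ k • y = 0 := by
  obtain ⟨⟨s, k, rfl⟩, hk⟩ := IsLocalizedModule.exists_of_eq (S := Submonoid.powers f)
    (f := TensorProduct.mk A (Localization.Away f) M 1) (x₁ := y) (x₂ := 0) (Subsingleton.elim _ _)
  exact ⟨k, by simpa [Submonoid.smul_def] using hk⟩

/-- A module that becomes free of rank one after inverting `f`. -/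
theorem exists_gen_of_away (q : Ideal A) [q.IsPrime] (f : A) (hf : f ∉ q)
    (e : Localization.Away f ⊗[A] M ≃ₗ[Localization.Away f] Localization.Away f) :
    ∃ x : M, (∀ y : M, ∃ s a : A, s ∉ q ∧ s • y = a • x) ∧
      ∀ a : A, a • x = 0 → ∃ s : A, s ∉ q ∧ s * a = 0 := by
  let S := Submonoid.powers f
  have hS : ∀ s : S, s.1 ∉ q := by
    rintro ⟨_, k, rfl⟩ hk
    exact hf (Ideal.IsPrime.mem_of_pow_mem inferInstance k hk)
  let g := TensorProduct.mk A (Localization.Away f) M 1
  obtain ⟨⟨x, s⟩, hxs⟩ := IsLocalizedModule.surj S g (e.symm 1)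
  have he : ∀ (b : A) (z : Localization.Away f ⊗[A] M),
      e (b • z) = algebraMap A (Localization.Away f) b * e z := fun b z => by
    rw [← IsScalarTower.algebraMap_smul (Localization.Away f) b z, map_smul, smul_eq_mul]
  have hx : e (g x) = algebraMap A (Localization.Away f) s.1 := by
    rw [← hxs]
    show e (s.1 • e.symm 1) = _
    rw [he, LinearEquiv.apply_symm_apply, mul_one]
  refine ⟨x, fun y => ?_, fun a ha => ?_⟩
  · obtain ⟨⟨a, t⟩, hat⟩ := IsLocalization.surj S (e (g y))
    have h1 : g ((t.1 * s.1) • y) = g (a • x) := by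
      refine e.injective ?_
      rw [map_smul g, map_smul g, he, he, hx, map_mul, ← hat]
      ring
    obtain ⟨u, hu⟩ := IsLocalizedModule.exists_of_eq (S := S) h1
    refine ⟨u.1 * (t.1 * s.1), u.1 * a, hS (u * (t * s)), ?_⟩
    simp only [Submonoid.smul_def, smul_smul] at hu
    exact hu
  · have h1 : algebraMap A (Localization.Away f) (a * s.1) = 0 := by
      rw [map_mul, ← hx, ← he, ← map_smul g, ha, map_zero g]
      exact map_zero e
    obtain ⟨u, hu⟩ := (IsLocalization.map_eq_zero_iff S _ _).1 h1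
    exact ⟨u.1 * s.1, hS (u * s), by rw [mul_assoc, mul_comm s.1 a]; exact hu⟩

section Main

variable {R : Type u} [CommRing R] [IsNoetherianRing R] [IsNoetherianRing A] [Algebra R A] {n : ℕ}
  {ψ : MvPolynomial (Fin n) R →ₐ[R] A}
  [DRing.HasLBaseChange (algebraMap R (MvPolynomial (Fin n) R))]
  {Rψ : Dual.D (MvPolynomial (Fin n) R) ⥤ Dual.D A}

/-- Gorenstein fibres iff the relative dualizing complex is invertible. -/
theorem fibres_iff_invertible [Module.Flat R A] (hψ : Function.Surjective ψ)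
    (adj : DRing.restrictD ψ.toRingHom ⊣ Rψ)
    [hL : ∀ f : A, DRing.HasLBaseChange (algebraMap A (Localization.Away f))] :
    (∀ p : PrimeSpectrum R, LocCoh.IsGorensteinRing (A ⊗[R] p.asIdeal.ResidueField)) ↔
      ∀ q : PrimeSpectrum A, ∃ (f : A) (_ : f ∉ q.asIdeal) (m : ℤ), Nonempty
        ((DRing.LBaseChange (algebraMap A (Localization.Away f))).obj
          (Dual2.shriekVia n Rψ (Dual.inD R R)) ≅
        (Dual.inD (Localization.Away f) (Localization.Away f))⟦m⟧) := by
  letI := ψ.toRingHom.toAlgebra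
  haveI : IsScalarTower R (MvPolynomial (Fin n) R) A :=
    IsScalarTower.of_algebraMap_eq fun r => (ψ.commutes r).symm
  have hsurj : Function.Surjective (algebraMap (MvPolynomial (Fin n) R) A) := hψ
  have : Algebra.FiniteType R A := Algebra.FiniteType.of_surjective ψ hψ
  let W := Rψ.obj (ShriekLCI.Y (R := R) (n := n))
  choose e he using fun i : ℕ => ShriekLCI.exists_HD_equiv_E adj i
  rw [GorFibrePrime.fibres_iff]
  constructor
  · intro h q
    have local' : ∀ (q : Ideal A) [q.IsPrime], ∃ c : ℕ, c ≤ n ∧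
        (∀ j : ℤ, j ≠ c → ∀ x : Dual.HD A W j, ∃ s : A, s ∉ q ∧ s • x = 0) ∧
        ∃ x : Dual.HD A W c,
          (∀ y : Dual.HD A W c, ∃ s a : A, s ∉ q ∧ s • y = a • x) ∧
          ∀ a : A, a • x = 0 → ∃ s : A, s ∉ q ∧ s * a = 0 := by
      intro q _
      obtain ⟨c, hc, hv, hiso⟩ := (GorFibrePrime.prime_iff (n := n) hsurj q).1 (h q)
      obtain ⟨hv', x, hgen, hann⟩ := LocalExtCI.structure_of_local hsurj q c hv hiso
      refine ⟨c, hc, fun j hj z => ?_, (e c).symm x, fun y => ?_, fun a ha => ?_⟩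
      · rcases lt_or_ge j 0 with hj0 | hj0
        · have := ShriekLCI.subsingleton_HD_neg adj j hj0
          exact ⟨1, fun h1 => Ideal.IsPrime.ne_top inferInstance ((Ideal.eq_top_iff_one q).2 h1),
            Subsingleton.elim _ _⟩
        obtain ⟨i, rfl⟩ := Int.eq_ofNat_of_zero_le hj0
        obtain ⟨s, hs, hsz⟩ := hv' i (by exact_mod_cast hj) (e i z)
        exact ⟨ψ s, hs, (e i).injective (by rw [he, map_zero]; exact hsz)⟩
      · obtain ⟨s, a, hs, hsa⟩ := hgen (e c y)
        refine ⟨ψ s, ψ a, hs, (e c).injective ?_⟩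
        rw [he, he, AddEquiv.apply_symm_apply]
        exact hsa
      · obtain ⟨a, rfl⟩ := hψ a
        have h1 := congrArg (e c) ha
        rw [he, map_zero, AddEquiv.apply_symm_apply] at h1
        obtain ⟨s, hs, hsa⟩ := hann a h1
        exact ⟨ψ s, hs, by rw [← map_mul]; exact hsa⟩
    have hbound : ∀ j : ℤ, (n : ℤ) < j → Subsingleton (Dual.HD A W j) := fun j hj =>
      ShriekLCI.subsingleton_of_local (A := A) fun (P : Ideal A) (hP : P.IsMaximal) z => by
        have := hP.isPrime
        obtain ⟨c, hc, hv, -⟩ := local' P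
        exact hv j (by omega) z
    obtain ⟨c, -, hv, x, hgen, hann⟩ := local' q.asIdeal
    exact ShriekLCI.away_iso_of_local hψ adj n hbound q.asIdeal (c : ℤ) hv x hgen hann
  · intro h q _
    obtain ⟨f, hf, m, ⟨E⟩⟩ := h ⟨q, inferInstance⟩
    let Af := Localization.Away f
    have : Module.Flat A Af := IsLocalization.flat Af (Submonoid.powers f)
    let K := (L A Af).obj (W⟦(n : ℤ)⟧)
    let E' : K ≅ (Dual.inD Af Af)⟦m⟧ := ((isoLBaseChange A Af).app _).symm ≪≫ E
    let eHD : ∀ i : ℤ, Af ⊗[A] Dual.HD A W ((n : ℤ) + i) ≃ₗ[Af] Dual.HD Af (Dual.inD Af Af) (m + i) :=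
      fun i => ((LinearEquiv.baseChange A Af _ _ (HDShift W (n : ℤ) i ((n : ℤ) + i) rfl).symm).trans
        (HDL Af (W⟦(n : ℤ)⟧) i)).trans ((HDCongr E' i).trans (HDShift _ m i (m + i) rfl))
    have hsub : ∀ j : ℤ, j ≠ (n : ℤ) - m → Subsingleton (Af ⊗[A] Dual.HD A W j) := fun j hj => by
      obtain ⟨i, rfl⟩ : ∃ i, j = (n : ℤ) + i := ⟨j - n, by ring⟩
      have := subsingleton_HD_inD (A := Af) Af (i := m + i) (by omega)
      exact (eHD i).toEquiv.subsingleton
    have htop : ∀ j : ℤ, j = (n : ℤ) - m → Nonempty (Af ⊗[A] Dual.HD A W j ≃ₗ[Af] Af) := fun j hj => by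
      obtain ⟨i, rfl⟩ : ∃ i, j = (n : ℤ) + i := ⟨j - n, by ring⟩
      have h0 : m + i = 0 := by omega
      have h1 : ∀ k : ℤ, k = 0 → Nonempty (Dual.HD Af (Dual.inD Af Af) k ≃ₗ[Af] Af) := fun k hk => by
        subst hk
        exact ⟨HDinD Af⟩
      obtain ⟨e1⟩ := h1 _ h0
      exact ⟨(eHD i).trans e1⟩
    obtain ⟨ef⟩ := htop _ rfl
    obtain ⟨x, hgen, hann⟩ := exists_gen_of_away q f hf ef
    have hpos : 0 ≤ (n : ℤ) - m := by
      by_contra hneg
      have := ShriekLCI.subsingleton_HD_neg adj ((n : ℤ) - m) (by omega)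
      obtain ⟨s, hs, hs1⟩ := hann 1 (Subsingleton.elim _ _)
      rw [mul_one] at hs1
      exact hs (hs1 ▸ q.zero_mem)
    obtain ⟨c, hc⟩ := Int.eq_ofNat_of_zero_le hpos
    revert x
    rw [hc]
    intro x hgen hann
    have hres := LocalExtCI.local_of_structure (P := MvPolynomial (Fin n) R) hsurj q c
      (fun i hi z => by
        obtain ⟨k, hk⟩ := exists_kill_of_away f (hsub i (by omega)) ((e i).symm z)
        obtain ⟨g, hg⟩ := hψ f
        refine ⟨g ^ k, ?_, ?_⟩
        · show ψ (g ^ k) ∉ q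
          rw [map_pow, hg]
          exact fun h' => hf (Ideal.IsPrime.mem_of_pow_mem inferInstance k h')
        · have h1 : e i (ψ (g ^ k) • (e i).symm z) = 0 := by rw [map_pow, hg, hk, map_zero]
          rw [he, AddEquiv.apply_symm_apply] at h1
          exact h1)
      (e c x) (fun y => by
        obtain ⟨s, a, hs, hsa⟩ := hgen ((e c).symm y)
        obtain ⟨s, rfl⟩ := hψ s
        obtain ⟨a, rfl⟩ := hψ a
        refine ⟨s, a, hs, ?_⟩
        have h1 := congrArg (e c) hsa
        rw [he, he, AddEquiv.apply_symm_apply] at h1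
        exact h1)
      (fun a ha => by
        obtain ⟨s, hs, hsa⟩ := hann (ψ a) ((e c).injective (by rw [he, map_zero]; exact ha))
        obtain ⟨s, rfl⟩ := hψ s
        exact ⟨s, hs, (map_mul ψ s a).trans hsa⟩)
      (fun a ha => by
        have h1 := he c a x
        rw [show ψ a = 0 from ha, zero_smul, map_zero] at h1
        exact h1.symm)
    exact (GorFibrePrime.prime_iff (n := n) hsurj q).2 c hres.1 hres.2

end Main

end Groth.Agent.Lib.DMod.ShriekGor
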