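import Groth.Agent.Lib.DR.RelHom
import Groth.Agent.Lib.DR.BcRHomCases
import Groth.Agent.Lib.DMod.ShriekAmplitude
import Groth.Agent.Lib.DR.LTensorCx
import Groth.Agent.H54.FlatFP
import Groth.Agent.H54.PerfHom
import Groth.Prelude.Def_DTen6
import Groth.Prelude.Def_DualSh

/-!
The upper shriek of a flat algebra is a tensor product with the relative dualizing complex.
-/

set_option linter.style.haveILetI false

universe u

open CategoryTheory CategoryTheory.Limits MonoidalCategory
open Groth.Agent.Lib.DR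
open Groth.Agent.Lib.DMod Groth.Agent.Lib.Regular

attribute [local instance] HasDerivedCategory.standard

namespace Groth.Agent.Lib.DMod.ShriekKT

/-- A finite module of finite projective dimension is perfect. -/
theorem pf_of_pdle {P : Type u} [CommRing P] [IsNoetherianRing P] (n : ℕ) :
    ∀ (M : Type u) [AddCommGroup M] [Module P M] [Module.Finite P M],
      PD.PDle P M n → Perfect.Pf (Dual.inD P M) := by
  induction n with
  | zero =>
    intro M _ _ _ h
    have := PD.pdle_zero_iff.1 h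
    exact ⟨0, 0, FiniteComplex.bdd_single PseudoCoherent.good_fproj (P := PseudoCoherent.fproj P)
      (M := ModuleCat.of P M) ⟨inferInstance, this⟩ 0⟩
  | succ n ih =>
    intro M _ _ _ h
    obtain ⟨k, π, hπ⟩ := Module.Finite.exists_fin' P M
    have hK := ih (LinearMap.ker π) ((PD.pdle_succ_iff hπ n).1 h)
    let S := ShortComplex.mk (ModuleCat.ofHom (LinearMap.ker π).subtype) (ModuleCat.ofHom π)
      (ModuleCat.hom_ext (LinearMap.exact_subtype_ker_map π).linearMap_comp_eq_zero)
    have hS : S.ShortExact :=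
      { exact := (ShortComplex.ShortExact.moduleCat_exact_iff_function_exact S).2 (LinearMap.exact_subtype_ker_map π)
        mono_f := (ModuleCat.mono_iff_injective _).2 (Submodule.subtype_injective _)
        epi_g := (ModuleCat.epi_iff_surjective _).2 hπ }
    have h2 : Perfect.Pf (Dual.inD P (Fin k → P)) :=
      ⟨0, 0, FiniteComplex.bdd_single PseudoCoherent.good_fproj (P := PseudoCoherent.fproj P)
        (M := ModuleCat.of P (Fin k → P)) ⟨inferInstance, inferInstance⟩ 0⟩
    exact Perfect.pf₃ _ hS.singleTriangle_distinguished hK h2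

/-- A flat finitely presented algebra is perfect over the polynomial ring presenting it. -/
theorem isPerfect_res_unit {R A : Type u} [CommRing R] [CommRing A] [Algebra R A]
    [Algebra.FinitePresentation R A] [Module.Flat R A] {n : ℕ} (ψ : MvPolynomial (Fin n) R →ₐ[R] A)
    (hψ : Function.Surjective ψ) :
    DRing.IsPerfect (MvPolynomial (Fin n) R) ((DRing.restrictD ψ.toRingHom).obj (DTen.unit A)) := by
  letI := ψ.toRingHom.toAlgebra
  exact (Perfect.pf_iff _).2 ((((Groth.Agent.H54.PerfHom.pf_iff_of_surjective ψ hψ).1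
      (Groth.Agent.H54.FlatFP.perfectHom_of_flat R A)).of_iso
        ((DerivedCategory.singleFunctor _ 0).mapIso (BcRHomCases.algIso (MvPolynomial (Fin n) R) A).symm)).of_iso
    (BcRHomCases.inDIso (MvPolynomial (Fin n) R) A ≪≫
      ((DTen.resFactors (algebraMap (MvPolynomial (Fin n) R) A)).app _).symm))

/-- A surjection from a polynomial ring over a Noetherian ring presents the algebra. -/
theorem finitePresentation {R A : Type u} [CommRing R] [CommRing A] [IsNoetherianRing R] [Algebra R A]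
    {n : ℕ} (ψ : MvPolynomial (Fin n) R →ₐ[R] A) (hψ : Function.Surjective ψ) :
    Algebra.FinitePresentation R A :=
  haveI : Algebra.FiniteType R A := Algebra.FiniteType.iff_quotient_mvPolynomial''.2 ⟨n, ψ, hψ⟩
  Algebra.FinitePresentation.of_finiteType.1 this

/-- The mixed derived tensor product exists. -/
theorem hasLTenMix {R A : Type u} [CommRing R] [CommRing A] (φ : R →+* A) : DTen.HasLTenMix φ :=
  have := LeftDerived.isLeftDerivedFunctor (L := DTen.QMix R A) (DTenRing.resDataMix φ)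
  Functor.HasLeftDerivedFunctor.mk' _
    (LeftDerived.counit (L := DTen.QMix R A) (DTenRing.resDataMix φ))

/-- The right adjoint of restriction along a perfect map, on representatives. -/
theorem nonempty_right_iso {R A : Type u} [CommRing R] [CommRing A] (φ : R →+* A)
    (hA : DRing.IsPerfect R ((DRing.restrictD φ).obj (DTen.unit A)))
    {Rφ : Dual.D R ⥤ Dual.D A} (adj : DRing.restrictD φ ⊣ Rφ)
    (N : DRing.Cx A) (hN : DRing.IsKFlat A N) (eN : DerivedCategory.Q.obj N ≅ Rφ.obj (DTen.unit R))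
    (X : DRing.Cx R) (hX : DRing.IsKFlat R X) :
    Nonempty (Rφ.obj (DerivedCategory.Q.obj X) ≅ DerivedCategory.Q.obj ((DTen.extCx φ).obj X ⊗ N)) := by
  haveI : DTen.HasRHomRel φ := ⟨adj.isLeftAdjoint⟩
  haveI := hasLTenMix φ
  obtain ⟨τ⟩ := RelHom.nonempty_RHomRel_iso φ hA
  let u := adj.rightAdjointUniq (DTen.relAdj φ)
  have := DTenRing.isIso_εMix φ hX hN
  exact ⟨u.app _ ≪≫ τ.app _ ≪≫
    (DTen.LTenMix φ).mapIso ((Iso.refl (DerivedCategory.Q.obj X)).prod (eN ≪≫ u.app _).symm) ≪≫
    asIso ((DTen.εMix φ).app (X, N))⟩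

/-- Shifting commutes with tensoring on the right. -/
theorem nonempty_shift_tensor {A : Type u} [CommRing A] (X N : DRing.Cx A) (n : ℤ) :
    Nonempty ((DerivedCategory.Q.obj (X ⊗ N))⟦n⟧ ≅ DerivedCategory.Q.obj (X ⊗ N⟦n⟧)) :=
  ⟨((DerivedCategory.Q.commShiftIso n).app (X ⊗ N)).symm ≪≫ DerivedCategory.Q.mapIso
    (CochainComplex.mapBifunctorShift₂Iso X N (MonoidalCategory.curriedTensor (ModuleCat.{u} A)) n).symm⟩

section

variable {R A : Type u} [CommRing R] [CommRing A] [Algebra R A] [Algebra.FinitePresentation R A] [Module.Flat R A]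
  {n : ℕ} (ψ : MvPolynomial (Fin n) R →ₐ[R] A) (hψ : Function.Surjective ψ)
  [DRing.HasLBaseChange (algebraMap R (MvPolynomial (Fin n) R))]
  {Rψ : Dual.D (MvPolynomial (Fin n) R) ⥤ Dual.D A} (adj : DRing.restrictD ψ.toRingHom ⊣ Rψ)

include hψ adj in
/-- The upper shriek on a K-projective representative. -/
theorem nonempty_shriek_iso (N : DRing.Cx A) (hN : DRing.IsKFlat A N)
    (eN : DerivedCategory.Q.obj N ≅ Rψ.obj (DTen.unit (MvPolynomial (Fin n) R)))
    (X : DRing.Cx R) [X.IsKProjective] :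
    Nonempty (Dual2.shriekVia n Rψ (DerivedCategory.Q.obj X) ≅
      DerivedCategory.Q.obj ((DTen.extCx (algebraMap R A)).obj X ⊗ N⟦(n : ℤ)⟧)) := by
  let ι := algebraMap R (MvPolynomial (Fin n) R)
  haveI : CochainComplex.IsKProjective ((DTen.extCx ι).obj X) := BaseChangeU.isKProjective_ext ι X
  obtain ⟨e⟩ := nonempty_right_iso ψ.toRingHom (isPerfect_res_unit ψ hψ) adj N hN eN ((DTen.extCx ι).obj X)
    (KFlat.isKFlat_of_isKProjective _)
  obtain ⟨s⟩ := nonempty_shift_tensor ((DTen.extCx (algebraMap R A)).obj X) N (n : ℤ)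
  have hc : ψ.toRingHom.comp ι = algebraMap R A := RingHom.ext fun r => ψ.commutes r
  let c : (DTen.extCx ψ.toRingHom).obj ((DTen.extCx ι).obj X) ≅ (DTen.extCx (algebraMap R A)).obj X :=
    (DTen.extCompCx ι ψ.toRingHom).app X ≪≫ eqToIso (by rw [hc])
  exact ⟨(shiftFunctor (Dual.D A) (n : ℤ)).mapIso (Rψ.mapIso (BaseChange.bc ι X) ≪≫ e ≪≫
    DerivedCategory.Q.mapIso (whiskerRightIso c N)) ≪≫ s⟩

include hψ adj in
/-- The upper shriek is the derived tensor product with the relative dualizing complex. -/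
theorem nonempty_shriek_tensor_iso (W : DRing.Cx A)
    (hW : Nonempty (DRing.toD W ≅ Dual2.shriekVia n Rψ (Dual.inD R R)))
    [DRing.HasLBaseChange (algebraMap R A)] [DRing.HasLTensorCx A W] (K : Dual.D R) :
    Nonempty (Dual2.shriekVia n Rψ K ≅
      (DRing.LTensorCx A W).obj ((DRing.LBaseChange (algebraMap R A)).obj K)) := by
  obtain ⟨eW⟩ := hW
  obtain ⟨N, hNp, ⟨eN⟩⟩ := DTenBasic.exists_rep (Rψ.obj (DTen.unit (MvPolynomial (Fin n) R)))
  have hN := KFlat.isKFlat_of_isKProjective N
  obtain ⟨X, hX, ⟨eX⟩⟩ := DTenBasic.exists_rep K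
  obtain ⟨e⟩ := nonempty_shriek_iso ψ hψ adj N hN eN X
  let eY : ShriekLCI.Y (R := R) (n := n) ≅ DTen.unit (MvPolynomial (Fin n) R) := ShriekLCI.YIso
  let eF : DerivedCategory.Q.obj (N⟦(n : ℤ)⟧) ≅ DerivedCategory.Q.obj W :=
    (DerivedCategory.Q.commShiftIso (n : ℤ)).app N ≪≫
      (shiftFunctor (Dual.D A) (n : ℤ)).mapIso (eN ≪≫ Rψ.mapIso eY.symm) ≪≫ eW.symm
  obtain ⟨t⟩ := LTensorCx.nonempty_iso_tensor W (K := (DRing.LBaseChange (algebraMap R A)).obj K)
    (KFlatTri.isKFlat_shift hN (n : ℤ))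
    ((BaseChange.bc (algebraMap R A) X).symm ≪≫ (DRing.LBaseChange (algebraMap R A)).mapIso eX) eF
  exact ⟨(shiftFunctor (Dual.D A) (n : ℤ)).mapIso (Rψ.mapIso
      ((DRing.LBaseChange (algebraMap R (MvPolynomial (Fin n) R))).mapIso eX.symm)) ≪≫ e ≪≫ t.symm⟩

end

end Groth.Agent.Lib.DMod.ShriekKT
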