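import Groth.Agent.Lib.DMod.EpiLoc
import Groth.Agent.Lib.DMod.ShriekIndep
import Mathlib.AlgebraicGeometry.Morphisms.Flat
import Mathlib.RingTheory.TensorProduct.MvPolynomial
import Mathlib.RingTheory.Localization.BaseChange

/-!
The upper shriek of an open immersion of affine schemes is the base change.
-/

set_option linter.style.haveILetI false

universe u

open CategoryTheory CategoryTheory.Limits Pretriangulated TensorProduct MvPolynomial AlgebraicGeometry
open Groth.Agent.Lib.DR
open Groth.Agent.Lib.DMod.Basic Groth.Agent.Lib.DMod.FlatHom Groth.Agent.Lib.DMod.Rep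

attribute [local instance] HasDerivedCategory.standard Algebra.TensorProduct.rightAlgebra

namespace Groth.Agent.Lib.DMod.ShriekOpen

variable {R R' : Type u} [CommRing R] [CommRing R'] [Algebra R R']

/-- Ring theoretic content of an open immersion of affine schemes. -/
theorem facts (hopen : IsOpenImmersion (Spec.map (CommRingCat.ofHom (algebraMap R R')))) :
    Module.Flat R R' ∧ (∀ x y : R', x ⊗ₜ[R] y = (x * y) ⊗ₜ (1 : R')) ∧
      ∃ S : Set R, (Ideal.span S).map (algebraMap R R') = ⊤ ∧
        ∀ f ∈ S, Nonempty (R' →ₐ[R] Localization.Away f) := by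
  let j := Spec.map (CommRingCat.ofHom (algebraMap R R'))
  have hflat : Module.Flat R R' := by
    have : Flat j := inferInstance
    exact RingHom.flat_algebraMap_iff.1 (Flat.SpecMap_iff.1 this)
  refine ⟨hflat, fun x y => ?_, {f : R | (PrimeSpectrum.basicOpen f : Set (PrimeSpectrum R)) ⊆ Set.range j}, ?_,
    fun f hf => ?_⟩
  · have h1 : Spec.map (CommRingCat.ofHom (Algebra.TensorProduct.includeLeftRingHom : R' →+* R' ⊗[R] R')) =
        Spec.map (CommRingCat.ofHom (Algebra.TensorProduct.includeRight : R' →ₐ[R] R' ⊗[R] R').toRingHom) := by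
      rw [← cancel_mono j, ← Spec.map_comp, ← Spec.map_comp, ← CommRingCat.ofHom_comp, ← CommRingCat.ofHom_comp]
      congr 2
      exact RingHom.ext fun r => ((Algebra.TensorProduct.includeLeft (R := R) (S := R) (A := R') (B := R')).commutes r).trans
        ((Algebra.TensorProduct.includeRight : R' →ₐ[R] R' ⊗[R] R').commutes r).symm
    have h2 := RingHom.congr_fun (congrArg CommRingCat.Hom.hom (Spec.map_injective h1)) y
    change y ⊗ₜ[R] (1 : R') = (1 : R') ⊗ₜ y at h2
    calc x ⊗ₜ[R] y = (x ⊗ₜ 1) * ((1 : R') ⊗ₜ y) := by rw [Algebra.TensorProduct.tmul_mul_tmul, mul_one, one_mul]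
      _ = (x * y) ⊗ₜ 1 := by rw [← h2, Algebra.TensorProduct.tmul_mul_tmul, one_mul]
  · by_contra hne
    obtain ⟨m, hm, hle⟩ := Ideal.exists_le_maximal _ hne
    let p := j (⟨m, hm.isPrime⟩ : PrimeSpectrum R')
    obtain ⟨t, ⟨f, rfl⟩, hpt, ht⟩ := PrimeSpectrum.isTopologicalBasis_basic_opens.exists_subset_of_mem_open
      (show p ∈ Set.range j from Set.mem_range_self _) j.isOpenEmbedding.isOpen_range
    exact hpt (hle (Ideal.mem_map_of_mem _ (Ideal.subset_span ht)))
  · let i := Spec.map (CommRingCat.ofHom (algebraMap R (Localization.Away f)))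
    have hi : Set.range i ⊆ Set.range j := by
      refine Set.Subset.trans ?_ hf
      exact (PrimeSpectrum.localization_away_comap_range (Localization.Away f) f).subset
    let l := Spec.preimage (IsOpenImmersion.lift j i hi)
    refine ⟨{ l.hom with commutes' := fun r => ?_ }⟩
    have h3 : CommRingCat.ofHom (algebraMap R R') ≫ l = CommRingCat.ofHom (algebraMap R (Localization.Away f)) := by
      apply Spec.map_injective
      rw [Spec.map_comp, Spec.map_preimage, IsOpenImmersion.lift_fac]
    exact RingHom.congr_fun (congrArg CommRingCat.Hom.hom h3) r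

variable {P : Type u} [CommRing P] [Algebra R P]

theorem flat_bc [Module.Flat R R'] : Module.Flat P (R' ⊗[R] P) := by
  let e : P ⊗[R] R' ≃ₗ[P] R' ⊗[R] P :=
    { (TensorProduct.comm R P R') with
      map_smul' := fun p z => by
        induction z using TensorProduct.induction_on with
        | zero => simp
        | tmul p' q =>
          show TensorProduct.comm R P R' ((p * p') ⊗ₜ q) = ((1 : R') ⊗ₜ[R] p) * (q ⊗ₜ p')
          rw [Algebra.TensorProduct.tmul_mul_tmul, one_mul, TensorProduct.comm_tmul]
        | add u v hu hv =>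
          show TensorProduct.comm R P R' (p • (u + v)) = p • TensorProduct.comm R P R' (u + v)
          rw [smul_add, map_add, map_add]
          exact (congrArg₂ (· + ·) hu hv).trans (smul_add p _ _).symm }
  exact Module.Flat.of_linearEquiv e.symm

theorem mul_bc (hmul : ∀ x y : R', x ⊗ₜ[R] y = (x * y) ⊗ₜ (1 : R')) (x y : R' ⊗[R] P) :
    x ⊗ₜ[P] y = (x * y) ⊗ₜ (1 : R' ⊗[R] P) := by
  let P' := R' ⊗[R] P
  have hdec : ∀ (a : R') (p : P), a ⊗ₜ[R] p = p • (a ⊗ₜ[R] (1 : P)) := fun a p => by
    show _ = ((1 : R') ⊗ₜ[R] p) * (a ⊗ₜ 1)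
    rw [Algebra.TensorProduct.tmul_mul_tmul, one_mul, mul_one]
  let φ : R' ⊗[R] R' →ₗ[R] P' ⊗[P] P' := TensorProduct.lift (LinearMap.mk₂ R
    (fun a b => (a ⊗ₜ[R] (1 : P)) ⊗ₜ[P] (b ⊗ₜ[R] (1 : P)))
    (fun a a' b => by rw [TensorProduct.add_tmul, TensorProduct.add_tmul])
    (fun r a b => by
      rw [TensorProduct.smul_tmul', ← TensorProduct.smul_tmul'])
    (fun a b b' => by rw [TensorProduct.add_tmul, TensorProduct.tmul_add])
    (fun r a b => by
      rw [← TensorProduct.smul_tmul', TensorProduct.tmul_smul]))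
  induction x using TensorProduct.induction_on with
  | zero => simp
  | tmul a p =>
    induction y using TensorProduct.induction_on with
    | zero => simp
    | tmul b q =>
      have h : (a ⊗ₜ[R] (1 : P)) ⊗ₜ[P] (b ⊗ₜ[R] (1 : P)) = ((a * b) ⊗ₜ[R] (1 : P)) ⊗ₜ[P] ((1 : R') ⊗ₜ[R] (1 : P)) :=
        congrArg φ (hmul a b)
      rw [Algebra.TensorProduct.tmul_mul_tmul, hdec a p, hdec b q, hdec (a * b), TensorProduct.tmul_smul,
        ← TensorProduct.smul_tmul', ← TensorProduct.smul_tmul', h, smul_smul, mul_comm p q]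
      rfl
    | add u v hu hv => rw [TensorProduct.tmul_add, hu, hv, mul_add, TensorProduct.add_tmul]
  | add u v hu hv => rw [TensorProduct.add_tmul, hu, hv, add_mul, TensorProduct.add_tmul]

/-- The upper shriek of an open immersion. -/
theorem nonempty_iso (hopen : IsOpenImmersion (Spec.map (CommRingCat.ofHom (algebraMap R R'))))
    (n : ℕ) (ψ : MvPolynomial (Fin n) R →ₐ[R] R') (hψ : Function.Surjective ψ)
    [DRing.HasLBaseChange (algebraMap R (MvPolynomial (Fin n) R))]
    (Rψ : Dual.D (MvPolynomial (Fin n) R) ⥤ Dual.D R') (adj : DRing.restrictD ψ.toRingHom ⊣ Rψ)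
    [DRing.HasLBaseChange (algebraMap R R')] (K : Dual.D R) :
    Nonempty (Dual2.shriekVia n Rψ K ≅ (DRing.LBaseChange (algebraMap R R')).obj K) := by
  obtain ⟨hflat, hmul, S, hspan, hlift⟩ := facts hopen
  let ι := Fin 1 ⊕ Fin n
  let ψ'' : MvPolynomial ι R →ₐ[R] R' := aeval (Sum.elim (fun _ => 0) fun j => ψ (X j))
  have hψ'' : Function.Surjective ψ'' := fun a => by
    obtain ⟨p, rfl⟩ := hψ a
    refine ⟨rename Sum.inr p, ?_⟩
    have : ψ''.comp (rename Sum.inr) = ψ := MvPolynomial.algHom_ext fun j => by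
      show aeval _ (rename _ (X j)) = _
      rw [rename_X, aeval_X]
      rfl
    exact AlgHom.congr_fun this p
  have h : Represents ψ''.toRingHom (Dual2.shriekVia n Rψ K)
      (((L R (MvPolynomial ι R)).obj K)⟦((n + 1 : ℕ) : ℤ)⟧) :=
    ShriekIndep.represents_extend one_pos ψ hψ Rψ adj (Equiv.refl ι) ψ'' (fun j => by
      show aeval _ (X _) = _
      rw [aeval_X]
      rfl) K
  let P := MvPolynomial ι R
  let P' := R' ⊗[R] P
  let a : P' ≃ₐ[R'] MvPolynomial ι R' := algebraTensorAlgEquiv R R'
  let e : P' ≃ₐ[R'] MvPolynomial (Fin (1 + n)) R' := a.trans (renameEquiv R' finSumFinEquiv)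
  haveI : Module.Flat R' P' := Module.Flat.of_linearEquiv a.toLinearEquiv
  haveI : Module.Flat P P' := flat_bc
  haveI : Module.Flat R P' := Module.Flat.trans R R' P'
  let σ : P' →ₐ[R'] R' := (aeval fun v => ψ'' (X v)).comp a.toAlgHom
  have hσψ : ∀ p : P, σ (algebraMap P P' p) = ψ'' p := by
    have h1 : (σ.restrictScalars R).comp (IsScalarTower.toAlgHom R P P') = ψ'' := by
      refine MvPolynomial.algHom_ext fun v => ?_
      show aeval (fun v => ψ'' (X v)) (a ((1 : R') ⊗ₜ[R] (X v : P))) = ψ'' (X v)
      have hX : a ((1 : R') ⊗ₜ[R] (X v : P)) = X v := by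
        rw [← AlgEquiv.eq_symm_apply, algebraTensorAlgEquiv_symm_X]
      rw [hX, aeval_X]
    exact fun p => AlgHom.congr_fun h1 p
  let W := (L R R').obj K
  let N : ℤ := ((1 + n : ℕ) : ℤ)
  have hσ : Represents σ.toRingHom W (((L R' P').obj W)⟦N⟧) :=
    RepPoly.represents_retraction (1 + n) (by omega) P' e σ W
  obtain ⟨c₁⟩ := RepPoly.nonempty_L_comp R R' P' K
  obtain ⟨c₂⟩ := RepPoly.nonempty_L_comp R P P' K
  let eS : (L P P').obj (((L R P).obj K)⟦N⟧) ≅ ((L R' P').obj W)⟦N⟧ :=
    ((L P P').commShiftIso N).app _ ≪≫ (shiftFunctor (Dual.D P') N).mapIso (c₂ ≪≫ c₁.symm)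
  -- the element killing the cone
  obtain ⟨g, hg, hg1⟩ : ∃ g ∈ (Ideal.span S).map (algebraMap R P), ψ'' g = 1 := by
    refine (Ideal.mem_map_iff_of_surjective ψ''.toRingHom hψ'').1 ?_
    rw [Ideal.map_map, show ψ''.toRingHom.comp (algebraMap R P) = algebraMap R R' from ψ''.comp_algebraMap,
      hspan]
    trivial
  have hrep := EpiLoc.represents (P := P) (P' := P') (mul_bc hmul) σ.toRingHom (1 - g)
    (by rw [show σ.toRingHom (algebraMap P P' (1 - g)) = ψ'' (1 - g) from hσψ _, map_sub, hg1, map_one, sub_self])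
    eS hσ (fun i M hM => by
      -- powers of `g` kill cohomology classes
      have hkill : ∀ x : Dual.HD P M i, ∃ k : ℕ, g ^ k • x = 0 := fun x => by
        have hsub : Subsingleton (P' ⊗[P] Dual.HD P M i) := by
          have := (isZero_iff_HD ((L P P').obj M)).1 hM i
          exact (HDL P' M i).toEquiv.subsingleton
        have hle : (Ideal.span S).map (algebraMap R P) ≤ (Ideal.torsionOf P _ x).radical := by
          rw [Ideal.map_span, Ideal.span_le]
          rintro _ ⟨f, hf, rfl⟩
          obtain ⟨l⟩ := hlift f hf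
          let Pf := Localization.Away (algebraMap R P f)
          have hu : IsUnit (algebraMap R Pf f) := by
            rw [IsScalarTower.algebraMap_apply R P Pf]
            exact IsLocalization.Away.algebraMap_isUnit _
          let lf : Localization.Away f →ₐ[R] Pf := IsLocalization.Away.liftAlgHom f (f := Algebra.ofId R Pf) hu
          let θ : P' →ₐ[R] Pf := Algebra.TensorProduct.lift (lf.comp l) (IsScalarTower.toAlgHom R P Pf)
            fun _ _ => Commute.all _ _
          let θP : P' →ₗ[P] Pf :=
            { θ.toLinearMap with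
              map_smul' := fun p z => by
                show θ (((1 : R') ⊗ₜ[R] p) * z) = p • θ z
                rw [map_mul, Algebra.smul_def]
                congr 1
                show lf (l 1) * algebraMap P Pf p = _
                rw [map_one, map_one, one_mul] }
          have h0 : (1 : Pf) ⊗ₜ[P] x = 0 := by
            have := congrArg (θP.rTensor (Dual.HD P M i))
              (Subsingleton.elim ((1 : P') ⊗ₜ[P] x) 0)
            rw [map_zero, LinearMap.rTensor_tmul] at this
            rw [← this]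
            congr 1
            exact (map_one θ).symm
          obtain ⟨⟨_, k, rfl⟩, hk⟩ := (IsLocalizedModule.eq_zero_iff (Submonoid.powers (algebraMap R P f))
            (TensorProduct.mk P Pf (Dual.HD P M i) 1)).1 h0
          exact ⟨k, hk⟩
        exact hle hg
      refine ⟨fun x y hxy => ?_, fun y => ?_⟩
      · obtain ⟨k, hk⟩ := hkill (x - y)
        have hfix : g • (x - y) = x - y := by
          have : (1 - g) • (x - y) = 0 := by rw [smul_sub]; exact sub_eq_zero.2 hxy
          rw [sub_smul, one_smul, sub_eq_zero] at this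
          exact this.symm
        have : ∀ k : ℕ, g ^ k • (x - y) = x - y := fun k => by
          induction k with
          | zero => rw [pow_zero, one_smul]
          | succ k ih => rw [pow_succ, mul_smul, hfix, ih]
        exact sub_eq_zero.1 ((this k).symm.trans hk)
      · obtain ⟨k, hk⟩ := hkill y
        refine ⟨(∑ j ∈ Finset.range k, g ^ j) • y, ?_⟩
        show (1 - g) • _ = y
        rw [smul_smul, mul_neg_geom_sum, sub_smul, one_smul, hk, sub_zero])
  rw [show σ.toRingHom.comp (algebraMap P P') = ψ''.toRingHom from RingHom.ext hσψ,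
    show N = ((n + 1 : ℕ) : ℤ) by simp [N, add_comm]] at hrep
  obtain ⟨e₁⟩ := h.unique hrep
  exact ⟨e₁ ≪≫ ((isoLBaseChange R R').app K).symm⟩

end Groth.Agent.Lib.DMod.ShriekOpen
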