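import Groth.Agent.Lib.DMod.ShriekFinite
import Groth.Agent.Lib.DMod.ShriekOpen
import Groth.Agent.Lib.DMod.ShriekComp
import Groth.Prelude.Def_Disc

/-!
The degree zero cohomology of the relative dualizing complex of a quasi-finite algebra.
-/

set_option linter.style.haveILetI false

universe u

open CategoryTheory CategoryTheory.Limits TensorProduct
open Groth.Agent.Lib.DR
open Groth.Agent.Lib.DMod Groth.Agent.Lib.DMod.Basic Groth.Agent.Lib.DMod.FlatHom

attribute [local instance] HasDerivedCategory.standard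

namespace Groth.Agent.Lib.DMod.ShriekQF

variable {A C : Type u} [CommRing A] [CommRing C] [Algebra A C]

/-- Restriction of `C` is `C` as an `A`-module. -/
noncomputable def resC :
    (ModuleCat.restrictScalars.{u} (algebraMap A C)).obj (ModuleCat.of C C) ≅ ModuleCat.of A C where
  hom := ModuleCat.ofHom (X := (ModuleCat.restrictScalars.{u} (algebraMap A C)).obj (ModuleCat.of C C))
    { toFun := fun x => x
      map_add' := fun _ _ => rfl
      map_smul' := fun a (x : C) => (Algebra.smul_def a x).symm }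
  inv := ModuleCat.ofHom (Y := (ModuleCat.restrictScalars.{u} (algebraMap A C)).obj (ModuleCat.of C C))
    { toFun := fun x => x
      map_add' := fun _ _ => rfl
      map_smul' := fun a (x : C) => Algebra.smul_def a x }
  hom_inv_id := rfl
  inv_hom_id := rfl

/-- The functional as a morphism of restricted modules. -/
noncomputable def toHom (φ : Disc.Omega A C) :
    (ModuleCat.restrictScalars.{u} (algebraMap A C)).obj (ModuleCat.of C C) ⟶ ModuleCat.of A A :=
  resC.hom ≫ ModuleCat.ofHom φ.toLinearMap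

theorem nonempty_HD_right (R : Dual.D A ⥤ Dual.D C)
    (adj : DRing.restrictD (algebraMap A C) ⊣ R) :
    Nonempty (Dual.HD C (R.obj (Dual.inD A A)) 0 ≃ₗ[C] Disc.Omega A C) := by
  let G := ModuleCat.restrictScalars.{u} (algebraMap A C)
  let SC := DerivedCategory.singleFunctor (ModuleCat.{u} C) 0
  let SA := DerivedCategory.singleFunctor (ModuleCat.{u} A) 0
  let K := Dual.inD A A
  let e := FiniteRing.repEquiv (FiniteRing.isRep_counit adj K) (Dual.inD C C)
  let r := FiniteRing.resSingle (φ := algebraMap A C) (ModuleCat.of C C)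
  let Ψ : Disc.Omega A C → (Dual.inD C C ⟶ R.obj K) := fun φ =>
    e.symm (r.hom ≫ SA.map (toHom φ))
  have hΨ : Function.Bijective Ψ := by
    refine e.symm.bijective.comp ⟨fun φ φ' h => ?_, fun g => ?_⟩
    · have h' := congrArg (fun m => m.hom) (SA.map_injective ((cancel_epi r.hom).1 h))
      exact Disc.Omega.ext (LinearMap.ext fun x => LinearMap.congr_fun h' x)
    · obtain ⟨m, hm⟩ := SA.map_surjective (X := G.obj (ModuleCat.of C C)) (Y := ModuleCat.of A A)
        (r.inv ≫ g)
      refine ⟨⟨{ toFun := fun x : C => m.hom x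
                 map_add' := fun x y => m.hom.map_add x y
                 map_smul' := fun a (x : C) => ?_ }⟩, ?_⟩
      · rw [RingHom.id_apply, Algebra.smul_def]
        exact m.hom.map_smul a x
      · show r.hom ≫ SA.map m = g
        rw [hm, Iso.hom_inv_id_assoc]
  have hadd : ∀ φ φ', Ψ (φ + φ') = Ψ φ + Ψ φ' := fun φ φ' => by
    show e.symm _ = e.symm _ + e.symm _
    rw [← map_add, show toHom (φ + φ') = toHom φ + toHom φ' from rfl, Functor.map_add,
      Preadditive.comp_add]
  have hsmul : ∀ (c : C) φ, Ψ (c • φ) = c • Ψ φ := fun c φ => by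
    apply e.injective
    show e (e.symm _) = _
    rw [e.apply_symm_apply]
    have h1 : c • Ψ φ = SC.map (c • 𝟙 (ModuleCat.of C C)) ≫ Ψ φ := by
      rw [Functor.map_smul, CategoryTheory.Functor.map_id, Linear.smul_comp, Category.id_comp]
    have h2 : toHom (c • φ) = G.map (c • 𝟙 (ModuleCat.of C C)) ≫ toHom φ := by
      ext (x : C)
      rfl
    have h3 : (DRing.restrictD (algebraMap A C)).map (SC.map (c • 𝟙 (ModuleCat.of C C))) ≫ r.hom =
        r.hom ≫ SA.map (G.map (c • 𝟙 (ModuleCat.of C C))) :=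
      (G.mapDerivedCategorySingleFunctor 0).hom.naturality (c • 𝟙 (ModuleCat.of C C))
    rw [h1]
    show _ = (DRing.restrictD (algebraMap A C)).map
      (SC.map (c • 𝟙 (ModuleCat.of C C)) ≫ Ψ φ) ≫ adj.counit.app K
    rw [Functor.map_comp, Category.assoc]
    refine Eq.trans ?_ (congrArg (fun t => _ ≫ t) (e.apply_symm_apply (r.hom ≫ SA.map (toHom φ))).symm)
    rw [h2, Functor.map_comp]
    exact (Category.assoc _ _ _).symm.trans ((congrArg (fun t => t ≫ _) h3.symm).trans
      (Category.assoc _ _ _))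
  let L : Disc.Omega A C ≃ₗ[C] (Dual.inD C C ⟶ R.obj K) :=
    LinearEquiv.ofBijective { toFun := Ψ, map_add' := hadd, map_smul' := hsmul } hΨ
  exact ⟨((homUnitEquiv (R.obj K)).symm.trans L.symm)⟩

variable {B : Type u} [CommRing B] [Algebra A B] [Algebra C B] [IsScalarTower A C B]

/-- `H⁰` of the upper shriek of a finite algebra followed by an open immersion. -/
theorem nonempty_HD_shriekVia [IsNoetherianRing A] [Module.Finite A C]
    (hopen : AlgebraicGeometry.IsOpenImmersion
      (AlgebraicGeometry.Spec.map (CommRingCat.ofHom (algebraMap C B))))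
    (n : ℕ) (ψ : MvPolynomial (Fin n) A →ₐ[A] B) (hψ : Function.Surjective ψ)
    [DRing.HasLBaseChange (algebraMap A (MvPolynomial (Fin n) A))]
    (Rψ : Dual.D (MvPolynomial (Fin n) A) ⥤ Dual.D B) (adj : DRing.restrictD ψ.toRingHom ⊣ Rψ) :
    Nonempty (Dual.HD B (Dual2.shriekVia n Rψ (Dual.inD A A)) 0 ≃ₗ[B]
      (B ⊗[C] Disc.Omega A C)) := by
  obtain ⟨m, θ, hθ⟩ := Algebra.FiniteType.iff_quotient_mvPolynomial''.1
    (inferInstance : Algebra.FiniteType A C)
  haveI : DRing.HasLBaseChange (algebraMap A (MvPolynomial (Fin m) A)) :=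
    BaseChangeU.hasLBaseChange _
  haveI := ShriekBC.hasRHomRel θ.toRingHom
  let adjθ : DRing.restrictD θ.toRingHom ⊣ DTen.RHomRel θ.toRingHom := DTen.relAdj _
  haveI := ShriekBC.hasRHomRel (algebraMap A C)
  let adjC : DRing.restrictD (algebraMap A C) ⊣ DTen.RHomRel (algebraMap A C) := DTen.relAdj _
  let χ : MvPolynomial (Fin n) C →ₐ[C] B := MvPolynomial.aeval fun j => ψ (MvPolynomial.X j)
  have hχ : Function.Surjective χ := fun b => by
    obtain ⟨p, rfl⟩ := hψ b
    refine ⟨MvPolynomial.map (algebraMap A C) p, ?_⟩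
    have hp := MvPolynomial.aeval_unique ψ
    show MvPolynomial.aeval _ (MvPolynomial.map _ p) = _
    rw [MvPolynomial.aeval_map_algebraMap]
    exact (AlgHom.congr_fun hp p).symm
  haveI : DRing.HasLBaseChange (algebraMap C (MvPolynomial (Fin n) C)) :=
    BaseChangeU.hasLBaseChange _
  haveI : DRing.HasLBaseChange (algebraMap C B) := BaseChangeU.hasLBaseChange _
  haveI := ShriekBC.hasRHomRel χ.toRingHom
  let adjχ : DRing.restrictD χ.toRingHom ⊣ DTen.RHomRel χ.toRingHom := DTen.relAdj _
  let K := Dual.inD A A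
  obtain ⟨e₁⟩ := ShriekComp.nonempty_comp_iso m θ hθ _ adjθ n χ hχ _ adjχ n ψ hψ Rψ adj K 0
    fun i hi => subsingleton_HD_inD A (ne_of_lt hi)
  obtain ⟨e₂⟩ := ShriekFinite.nonempty_iso m θ hθ _ adjθ _ adjC K
  obtain ⟨e₃⟩ := ShriekOpen.nonempty_iso hopen n χ hχ _ adjχ (Dual2.shriekVia m _ K)
  haveI : Module.Flat C B := (ShriekOpen.facts hopen).1
  obtain ⟨ω⟩ := nonempty_HD_right (A := A) (C := C) _ adjC
  let e : Dual2.shriekVia n Rψ K ≅ (L C B).obj ((DTen.RHomRel (algebraMap A C)).obj K) :=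
    e₁ ≪≫ e₃ ≪≫ (isoLBaseChange C B).app _ ≪≫ (L C B).mapIso e₂
  exact ⟨((HDCongr e 0).trans (HDL B _ 0).symm).trans
    (LinearEquiv.baseChange C B _ _ ω)⟩

end Groth.Agent.Lib.DMod.ShriekQF
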