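import Groth.Agent.Lib.DMod.ShriekAmplitude
import Groth.Agent.Lib.DMod.ShriekBC
import Groth.Agent.Lib.DMod.Gorenstein
import Groth.Agent.Lib.Goren.Basic
import Groth.Agent.Lib.Goren.Rings

/-!
The relative dualizing complex of a flat algebra of finite type.
-/

set_option linter.style.haveILetI false

universe u

open CategoryTheory CategoryTheory.Limits Pretriangulated
open Groth.Agent.Lib.DR Groth.Agent.Lib.Regular
open Groth.Agent.Lib.DMod Groth.Agent.Lib.DMod.Basic
open scoped TensorProduct MonoidalCategory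

attribute [local instance] HasDerivedCategory.standard

namespace Groth.Agent.Lib.DMod.ShriekSelf

section Good

open Biduality

variable {A : Type u} [CommRing A] {I : DRing.Cx A}

theorem DCmap_id (M : ModuleCat.{u} A) : DCmap I (𝟙 M) = 𝟙 (DC I M) := by
  ext n x
  exact (DCmap_f I (𝟙 M) n x).trans (Category.id_comp _)

theorem DCmap_comp {M N K : ModuleCat.{u} A} (f : M ⟶ N) (g : N ⟶ K) :
    DCmap I (f ≫ g) = DCmap I g ≫ DCmap I f := by
  ext n x
  exact (DCmap_f I (f ≫ g) n x).trans (Category.assoc _ _ _)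

/-- A retract of a good module is good. -/
theorem goodModule_of_retract {M N : ModuleCat.{u} A} (i : M ⟶ N) (p : N ⟶ M) (hip : i ≫ p = 𝟙 M)
    (h : GoodModule I N) : GoodModule I M := by
  have hD : DerivedCategory.Q.map (DCmap I p) ≫ DerivedCategory.Q.map (DCmap I i) = 𝟙 (D I M) := by
    rw [← Functor.map_comp, ← DCmap_comp, hip, DCmap_id]
    exact DerivedCategory.Q.map_id _
  refine ⟨⟨?_, ?_⟩, fun j hj => subsingleton_of_forall_eq 0 fun g => ?_⟩
  · rw [injective_iff_map_eq_zero]
    intro m hm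
    have h1 : i.hom m = 0 := h.bij.1 (by rw [evD_naturality, hm, comp_zero, map_zero])
    have h2 := LinearMap.congr_fun (congrArg ModuleCat.Hom.hom hip) m
    exact h2.symm.trans ((congrArg p.hom h1).trans (map_zero _))
  · intro w
    obtain ⟨x, hx⟩ := h.bij.2 (DerivedCategory.Q.map (DCmap I i) ≫ w)
    refine ⟨p.hom x, ?_⟩
    rw [evD_naturality, hx, ← Category.assoc, hD, Category.id_comp]
  · have := h.vanish j hj
    rw [← Category.id_comp g, ← hD, Category.assoc,
      this.elim (DerivedCategory.Q.map (DCmap I i) ≫ g) 0, comp_zero]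

/-- A cokernel of good modules is good. -/
theorem goodModule_cokernel [∀ n, Injective (I.X n)] {S : ShortComplex (ModuleCat.{u} A)}
    (hS : S.ShortExact) (h₁ : GoodModule I S.X₁) (h₂ : GoodModule I S.X₂) :
    GoodModule I S.X₃ := by
  obtain ⟨δ, hT⟩ := exists_triangle (I := I) hS
  have hmono := (ModuleCat.mono_iff_injective _).1 hS.mono_f
  let Y := DerivedCategory.Q.obj I
  have hsurj : Function.Surjective (evD I S.X₃) := fun w => by
    have h1 := h₁.vanish 1 one_ne_zero
    have : Subsingleton ((D I S.X₁)⟦(-1 : ℤ)⟧ ⟶ Y) :=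
      ((Linear.homCongr A (Iso.refl _) ((shiftFunctorZero (Dual.D A) ℤ).app Y).symm).trans
        (homShiftAdj (D I S.X₁) Y (-1) 0 1 (by lia))).toEquiv.subsingleton
    obtain ⟨v, hv⟩ := Triangle.yoneda_exact₂ _ (inv_rot_of_distTriang _ hT) w (this.elim _ _)
    obtain ⟨x, rfl⟩ := h₂.bij.2 v
    exact ⟨S.g.hom x, (evD_naturality I S.g x).trans hv.symm⟩
  have hinj : Function.Injective (evD I S.X₃) := by
    rw [injective_iff_map_eq_zero]
    intro y hy
    obtain ⟨x, rfl⟩ := (ModuleCat.epi_iff_surjective _).1 hS.epi_g y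
    rw [evD_naturality] at hy
    obtain ⟨z, hz⟩ := Triangle.yoneda_exact₂ _ hT _ hy
    obtain ⟨k, rfl⟩ := h₁.bij.2 z
    have hx : x = S.f.hom k := h₂.bij.1 (hz.trans (evD_naturality I S.f k).symm)
    rw [hx]
    exact LinearMap.congr_fun (congrArg ModuleCat.Hom.hom S.zero) k
  refine ⟨⟨hinj, hsurj⟩, fun i hi => ?_⟩
  by_cases hm : i = -1
  · subst hm
    suffices hsub : Subsingleton ((D I S.X₃)⟦(1 : ℤ)⟧ ⟶ Y) from
      haveI : Subsingleton ((D I S.X₃)⟦(1 : ℤ)⟧ ⟶ (𝟭 (Dual.D A)).obj Y) := hsub
      ((Linear.homCongr A (Iso.refl _) ((shiftFunctorZero (Dual.D A) ℤ).app Y).symm).trans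
        (homShiftAdj (D I S.X₃) Y 1 0 (-1) (by lia))).symm.toEquiv.subsingleton
    refine subsingleton_of_forall_eq 0 fun h => ?_
    obtain ⟨q, hq⟩ := h₁.bij.2 (δ ≫ h)
    have hq0 : q = 0 := by
      have h1 : evD I S.X₂ (S.f.hom q) = 0 := by
        refine (evD_naturality I S.f q).trans ?_
        rw [hq]
        exact (Category.assoc _ _ _).symm.trans
          ((congrArg (· ≫ h) (comp_distTriang_mor_zero₂₃ _ hT)).trans zero_comp)
      exact hmono ((h₂.bij.1 (h1.trans (map_zero _).symm)).trans (map_zero _).symm)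
    rw [hq0, map_zero] at hq
    obtain ⟨w, hw⟩ := Triangle.yoneda_exact₂ _ (rot_of_distTriang _ (rot_of_distTriang _ hT)) h hq.symm
    have := h₂.subsingleton_one
    exact hw.trans ((congrArg _ (this.elim w 0)).trans comp_zero)
  · have := h₁.vanish (i + 1) (by lia)
    refine subsingleton_hom_from_obj₂ (inv_rot_of_distTriang _ hT) _ ?_ (h₂.vanish i hi)
    exact (homShiftAdj (D I S.X₁) Y (-1) i (i + 1) (by lia)).toEquiv.subsingleton

theorem goodModule_unit' (hb : Function.Bijective fun a : A => a • 𝟙 (DerivedCategory.Q.obj I))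
    (hv : ∀ i : ℤ, i ≠ 0 →
      Subsingleton (DerivedCategory.Q.obj I ⟶ (DerivedCategory.Q.obj I)⟦i⟧)) :
    GoodModule I (ModuleCat.of A A) := by
  have : ∀ n, IsIso ((η (ModuleCat.of A A) (1 : A)).app (I.X n)) := fun n => by
    refine (ConcreteCategory.isIso_iff_bijective _).2 ⟨fun x y h => ?_, fun x => ?_⟩
    · exact ModuleCat.hom_ext (LinearMap.ext_ring h)
    · exact ⟨ModuleCat.ofHom (LinearMap.toSpanSingleton A _ x), one_smul A x⟩
  have : IsIso (ev I (ModuleCat.of A A) (1 : A)) := by
    have : ∀ n, IsIso ((ev I (ModuleCat.of A A) (1 : A)).f n) := this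
    exact HomologicalComplex.Hom.isIso_of_components _
  let e : D I (ModuleCat.of A A) ≅ DerivedCategory.Q.obj I :=
    DerivedCategory.Q.mapIso (asIso (ev I (ModuleCat.of A A) (1 : A)))
  refine ⟨?_, fun i hi => ?_⟩
  · have h : (evD I (ModuleCat.of A A) : _ → _) =
        Linear.homCongr A e.symm (Iso.refl _) ∘ fun r : A => r • 𝟙 (DerivedCategory.Q.obj I) := by
      funext r
      have hr : evD I (ModuleCat.of A A) r = r • evD I (ModuleCat.of A A) (1 : A) := by
        refine Eq.trans ?_ (map_smul _ r (1 : A))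
        exact congrArg _ (mul_one r).symm
      rw [hr]
      simp [Linear.homCongr_apply, e, evD]
    rw [h]
    exact (LinearEquiv.bijective _).comp hb
  · have := hv i hi
    exact (Iso.homCongr e (Iso.refl _)).subsingleton

theorem goodModule_pi' [∀ n, Injective (I.X n)] (h : GoodModule I (ModuleCat.of A A)) :
    ∀ n : ℕ, GoodModule I (ModuleCat.of A (Fin n → A)) := by
  intro n
  induction n with
  | zero => exact goodModule_of_isZero (ModuleCat.isZero_of_subsingleton _)
  | succ n ih =>
    let f : ModuleCat.of A (Fin n → A) ⟶ ModuleCat.of A (Fin (n + 1) → A) :=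
      ModuleCat.ofHom (LinearMap.pi (Fin.cons (0 : (Fin n → A) →ₗ[A] A) LinearMap.proj))
    let g : ModuleCat.of A (Fin (n + 1) → A) ⟶ ModuleCat.of A A :=
      ModuleCat.ofHom (LinearMap.proj 0)
    let S := ShortComplex.mk f g (ModuleCat.hom_ext (LinearMap.ext fun x => by simp [f, g]))
    have hS : S.ShortExact :=
      { exact := (ShortComplex.ShortExact.moduleCat_exact_iff_function_exact S).2 fun x => by
          constructor
          · intro hx
            refine ⟨Fin.tail x, funext fun i => ?_⟩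
            refine Fin.cases ?_ (fun j => ?_) i
            · exact (show x 0 = 0 from hx).symm
            · rfl
          · rintro ⟨y, rfl⟩
            rfl
        mono_f := (ModuleCat.mono_iff_injective _).2 fun x y hxy => funext fun j =>
          congr_fun hxy j.succ
        epi_g := (ModuleCat.epi_iff_surjective _).2 fun a => ⟨Fin.cons a 0, rfl⟩ }
    exact goodModule_of_shortExact hS ih h

/-- Modules of finite projective dimension are good. -/
theorem goodModule_pdle [IsNoetherianRing A] [∀ n, Injective (I.X n)]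
    (h : GoodModule I (ModuleCat.of A A)) :
    ∀ (d : ℕ) (M : Type u) [AddCommGroup M] [Module A M] [Module.Finite A M],
      PD.PDle A M d → GoodModule I (ModuleCat.of A M) := by
  intro d
  induction d with
  | zero =>
    intro M _ _ _ hd
    haveI := PD.pdle_zero_iff.1 hd
    obtain ⟨n, f, hf⟩ := Module.Finite.exists_fin' A M
    obtain ⟨s, hs⟩ := Module.projective_lifting_property f LinearMap.id hf
    exact goodModule_of_retract (ModuleCat.ofHom s) (ModuleCat.ofHom f)
      (ModuleCat.hom_ext hs) (goodModule_pi' h n)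
  | succ d ih =>
    intro M _ _ _ hd
    obtain ⟨n, f, hf⟩ := Module.Finite.exists_fin' A M
    haveI : Module.Finite A (LinearMap.ker f) := Module.Finite.iff_fg.2 (IsNoetherian.noetherian _)
    exact goodModule_cokernel (LinearMap.shortExact_shortComplexKer hf)
      (ih _ ((PD.pdle_succ_iff hf d).1 hd)) (goodModule_pi' h n)

end Good

section Finite

variable {A B : Type u} [CommRing A] [CommRing B] [IsNoetherianRing A] [IsNoetherianRing B]
  (φ : A →+* B) {I : DRing.Cx A}

omit [IsNoetherianRing A] [IsNoetherianRing B] in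
/-- Endomorphisms of coextension. -/
theorem coI_end {a : ℤ} (hI : ∀ i, i < a → IsZero (I.X i)) [∀ n, Injective (I.X n)]
    (hgood : Biduality.GoodModule I ((ModuleCat.restrictScalars.{u} φ).obj (ModuleCat.of B B))) :
    (Function.Bijective fun r : B => r • 𝟙 (DerivedCategory.Q.obj (FiniteRing.coI φ I))) ∧
      ∀ i : ℤ, i ≠ 0 → Subsingleton (DerivedCategory.Q.obj (FiniteRing.coI φ I) ⟶
        (DerivedCategory.Q.obj (FiniteRing.coI φ I))⟦i⟧) := by
  have hrep : FiniteRing.IsRep (FiniteRing.eps φ I) := fun X => FiniteRing.θ_bijective_of_ge φ hI X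
  let e : DerivedCategory.Q.obj (FiniteRing.coI φ I) ≅ DerivedCategory.Q.obj (FiniteRing.coI φ I) :=
    Iso.refl _
  let Bm := (ModuleCat.restrictScalars.{u} φ).obj (ModuleCat.of B B)
  let c : (DRing.restrictD φ).obj (DerivedCategory.Q.obj (FiniteRing.coI φ I)) ≅ Biduality.D I Bm :=
    (ModuleCat.restrictScalars.{u} φ).mapDerivedCategoryFactors.app (FiniteRing.coI φ I) ≪≫
      DerivedCategory.Q.mapIso (FiniteRing.resCoI φ I)
  refine ⟨?_, fun i hi => ?_⟩
  · let X := DerivedCategory.Q.obj (FiniteRing.coI φ I)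
    have h1 : Function.Bijective fun r : B => FiniteRing.θ φ I X (r • 𝟙 X) := by
      have h2 : (fun r : B => FiniteRing.θ φ I X (r • 𝟙 X)) =
          (Linear.homCongr A c.symm (Iso.refl _)) ∘ Biduality.evD I Bm := by
        funext r
        have hr : r • 𝟙 X = DerivedCategory.Q.map (r • 𝟙 (FiniteRing.coI φ I)) :=
          ((DerivedCategory.Q.map_smul _ _).trans (congrArg _ (DerivedCategory.Q.map_id _))).symm
        rw [hr]
        show (DRing.restrictD φ).map (DerivedCategory.Q.map (r • 𝟙 (FiniteRing.coI φ I))) ≫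
            ((ModuleCat.restrictScalars.{u} φ).mapDerivedCategoryFactors.hom.app (FiniteRing.coI φ I) ≫
              DerivedCategory.Q.map ((FiniteRing.cxa φ).counit.app I)) = _
        refine (Category.assoc _ _ _).symm.trans ?_
        refine (congrArg (· ≫ DerivedCategory.Q.map ((FiniteRing.cxa φ).counit.app I))
          ((ModuleCat.restrictScalars.{u} φ).mapDerivedCategoryFactors_hom_naturality _)).trans ?_
        refine (Category.assoc _ _ _).trans ?_
        refine (congrArg _ ((DerivedCategory.Q.map_comp _ _).symm.trans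
          ((congrArg DerivedCategory.Q.map (FiniteRing.res_smul_counit φ r)).trans
            (DerivedCategory.Q.map_comp _ _)))).trans ?_
        refine Eq.trans ?_ (Linear.homCongr_apply A c.symm (Iso.refl _) (Biduality.evD I Bm r)).symm
        simp [c, Bm]
        rfl
      rw [h2]
      exact (LinearEquiv.bijective _).comp hgood.bij
    have h3 := (Function.Bijective.of_comp_iff' (FiniteRing.θ_bijective_of_ge φ hI X) _).1 h1
    refine FlatHom.bij_congr ((Linear.homCongr B e e).bijective.comp h3) fun r => ?_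
    simp [Linear.homCongr_apply, X, e]
  · have := hgood.vanish i hi
    exact ((FiniteRing.adjEquiv hrep _ i).trans (Linear.homCongr A
        (((DRing.restrictD φ).mapIso e).symm ≪≫ c) (Iso.refl _)).toAddEquiv).toEquiv.subsingleton

end Finite

section Transport

variable {A : Type u} [CommRing A]

/-- `End = A` and no self extensions. -/
def EndTrivial (ω : Dual.D A) : Prop :=
  (Function.Bijective fun a : A => a • 𝟙 ω) ∧ ∀ i : ℤ, i ≠ 0 → Subsingleton (ω ⟶ ω⟦i⟧)

theorem endTrivial_of_iso {ω ω' : Dual.D A} (e : ω ≅ ω') (h : EndTrivial ω) : EndTrivial ω' := by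
  refine ⟨FlatHom.bij_congr ((Linear.homCongr A e e).bijective.comp h.1) fun a => ?_, fun i hi => ?_⟩
  · simp [Linear.homCongr_apply]
  · have := h.2 i hi
    exact (Iso.homCongr e.symm ((shiftFunctor (Dual.D A) i).mapIso e.symm)).subsingleton

theorem endTrivial_shift {ω : Dual.D A} (h : EndTrivial ω) (n : ℤ) : EndTrivial (ω⟦n⟧) := by
  refine ⟨?_, fun i hi => ?_⟩
  · have : (fun a : A => a • 𝟙 (ω⟦n⟧)) = homShiftEquiv ω ω n ∘ fun a : A => a • 𝟙 ω := funext fun a => by
      rw [Function.comp_apply, map_smul]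
      exact congrArg (a • ·) (CategoryTheory.Functor.map_id _ _).symm
    rw [this]
    exact (LinearEquiv.bijective _).comp h.1
  · have := h.2 i hi
    exact ((Linear.homCongr A (Iso.refl _) ((shiftFunctorAdd' (Dual.D A) n i (i + n) (by lia)).app ω)).symm.trans
      (homShiftAdj ω ω n (i + n) i (by lia))).toEquiv.subsingleton

/-- Base change of `A[0]`. -/
theorem nonempty_lbc_inD_self {B : Type u} [CommRing B] [Algebra A B]
    [DRing.HasLBaseChange (algebraMap A B)] :
    Nonempty ((DRing.LBaseChange (algebraMap A B)).obj (Dual.inD A A) ≅ Dual.inD B B) := by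
  let K : DRing.Cx A := 𝟙_ (DRing.Cx A)
  haveI : CochainComplex.IsKProjective K :=
    FiniteComplex.isKProjective_of_bounds PseudoCoherent.projective_of_proj (b := 0)
      (fun i hi => HomologicalComplex.isZero_single_obj_X (ComplexShape.up ℤ) 0 _ i (by omega))
      (fun i => by
        by_cases hi : i = 0
        · subst hi
          exact PseudoCoherent.good_proj.iso
            (HomologicalComplex.singleObjXSelf (ComplexShape.up ℤ) 0 (𝟙_ (ModuleCat.{u} A))).symm
            (inferInstanceAs (Module.Projective A A))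
        · exact PseudoCoherent.good_proj.zero
            (HomologicalComplex.isZero_single_obj_X (ComplexShape.up ℤ) 0 _ i hi))
  let v : (ModuleCat.extendScalars.{u, u, u} (algebraMap A B)).obj (𝟙_ (ModuleCat.{u} A)) ≅
      𝟙_ (ModuleCat.{u} B) :=
    ((FlatBC.extEquiv A B A).trans (Algebra.TensorProduct.rid A B B).toLinearEquiv).toModuleIso
  let u₀ : Dual.inD A A ≅ DerivedCategory.Q.obj K :=
    (DerivedCategory.singleFunctorIsoCompQ (ModuleCat.{u} A) 0).app (ModuleCat.of A A)
  let u₁ : Dual.inD B B ≅ DerivedCategory.Q.obj (𝟙_ (DRing.Cx B)) :=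
    (DerivedCategory.singleFunctorIsoCompQ (ModuleCat.{u} B) 0).app (ModuleCat.of B B)
  exact ⟨(DRing.LBaseChange (algebraMap A B)).mapIso u₀ ≪≫
    BaseChange.bc (algebraMap A B) K ≪≫ DerivedCategory.Q.mapIso
      ((HomologicalComplex.singleMapHomologicalComplex _ (ComplexShape.up ℤ) 0).app _ ≪≫
        (HomologicalComplex.single (ModuleCat.{u} B) (ComplexShape.up ℤ) 0).mapIso v) ≪≫ u₁.symm⟩

end Transport

section Main

attribute [local instance] MvPolynomial.algebraMvPolynomial Algebra.TensorProduct.rightAlgebra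

variable {R A : Type u} [CommRing R] [CommRing A] [IsNoetherianRing R] [IsNoetherianRing A] [Algebra R A]
  {n : ℕ} {ψ : MvPolynomial (Fin n) R →ₐ[R] A}
  [DRing.HasLBaseChange (algebraMap R (MvPolynomial (Fin n) R))]
  {Rψ : Dual.D (MvPolynomial (Fin n) R) ⥤ Dual.D A}

omit [IsNoetherianRing A] in
theorem exists_bounds [Module.Flat R A] (hψ : Function.Surjective ψ)
    (adj : DRing.restrictD ψ.toRingHom ⊣ Rψ) :
    ∃ a b : ℤ, ∀ i : ℤ, (i < a ∨ b < i) →
      Subsingleton (Dual.HD A (Dual2.shriekVia n Rψ (Dual.inD R R)) i) := by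
  refine ⟨-(n : ℤ), 0, fun i hi => ?_⟩
  rcases hi with hi | hi
  · have := ShriekLCI.subsingleton_HD_neg adj ((n : ℤ) + i) (by omega)
    exact (HDShift (Rψ.obj (ShriekLCI.Y (R := R) (n := n))) n i _ rfl).toEquiv.subsingleton
  · exact ShriekAmplitude.le_zero hψ adj i hi

theorem finite_HD (hψ : Function.Surjective ψ) (adj : DRing.restrictD ψ.toRingHom ⊣ Rψ) (i : ℤ) :
    Module.Finite A (Dual.HD A (Dual2.shriekVia n Rψ (Dual.inD R R)) i) :=
  have := ShriekLCI.finite_HD hψ adj ((n : ℤ) + i)
  Module.Finite.equiv (HDShift (Rψ.obj (ShriekLCI.Y (R := R) (n := n))) n i _ rfl).symm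

omit [IsNoetherianRing A] in
theorem hasFiniteTorDimCx [Module.Flat R A] (hψ : Function.Surjective ψ)
    (adj : DRing.restrictD ψ.toRingHom ⊣ Rψ) :
    DRing.HasFiniteTorDimCx R
      ((DRing.restrictD (algebraMap R A)).obj (Dual2.shriekVia n Rψ (Dual.inD R R))) := by
  let P := MvPolynomial (Fin n) R
  obtain ⟨E, hz, -, hproj, -, ⟨eE⟩⟩ := ShriekAmplitude.exists_model hψ adj
  let GP := ModuleCat.restrictScalars.{u} (algebraMap R P)
  let ER : DRing.Cx R := (GP.mapHomologicalComplex (.up ℤ)).obj E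
  have hflatX : ∀ i : ℤ, Module.Flat R (ER.X i) := fun i => by
    letI : Module R (E.X i) := Module.compHom _ (algebraMap R P)
    haveI : IsScalarTower R P (E.X i) := IsScalarTower.of_algebraMap_smul fun _ _ => rfl
    haveI := hproj i
    exact Module.Flat.trans R P (E.X i)
  refine ⟨-(n : ℤ), 0, ER⟦(n : ℤ)⟧, fun i hi => ((GP.map_isZero (hz (i + n) (by omega)))).of_iso
    (ER.shiftFunctorObjXIso (n : ℤ) i _ rfl), fun i => ?_, ⟨?_⟩⟩
  · haveI := hflatX (i + n)
    exact Module.Flat.of_linearEquiv (ER.shiftFunctorObjXIso (n : ℤ) i (i + n) rfl).toLinearEquiv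
  · exact ((DerivedCategory.Q (C := ModuleCat.{u} R)).commShiftIso (n : ℤ)).app ER ≪≫
      (shiftFunctor (Dual.D R) (n : ℤ)).mapIso eE.symm ≪≫
      (((DRing.restrictD (algebraMap R A)).commShiftIso (n : ℤ)).app
        (Rψ.obj (ShriekLCI.Y (R := R) (n := n)))).symm

omit [IsNoetherianRing A] in
theorem endTrivial [Module.Flat R A] (hψ : Function.Surjective ψ)
    (adj : DRing.restrictD ψ.toRingHom ⊣ Rψ) :
    EndTrivial (Dual2.shriekVia n Rψ (Dual.inD R R)) := by
  letI := ψ.toRingHom.toAlgebra
  haveI : IsScalarTower R (MvPolynomial (Fin n) R) A :=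
    IsScalarTower.of_algebraMap_eq fun r => (ψ.commutes r).symm
  let P := MvPolynomial (Fin n) R
  have hsurj : Function.Surjective (algebraMap P A) := hψ
  let J := InjectiveResolution.of (ModuleCat.of P P)
  let I : DRing.Cx P := J.cochainComplex
  have hI : ∀ i : ℤ, i < 0 → IsZero (I.X i) := fun i hi => CochainComplex.isZero_of_isStrictlyGE I 0 i hi
  have : ∀ i, Injective (I.X i) := fun i => by
    rcases lt_or_ge i 0 with h | h
    · exact (hI i h).injective
    · obtain ⟨k, rfl⟩ := Int.eq_ofNat_of_zero_le h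
      exact Injective.of_iso (J.cochainComplexXIso k k rfl).symm (J.injective k)
  have : IsIso (DerivedCategory.Q.map J.ι') :=
    (DerivedCategory.isIso_Q_map_iff_quasiIso _ J.ι').2 inferInstance
  let eY : ShriekLCI.Y (R := R) (n := n) ≅ DerivedCategory.Q.obj I :=
    ShriekLCI.YIso ≪≫ @asIso _ _ _ _ (DerivedCategory.Q.map J.ι') this
  let eP : Dual.inD P P ≅ DerivedCategory.Q.obj I := ShriekLCI.YIso.symm ≪≫ eY
  have hunit := endTrivial_of_iso eP ⟨Gorenstein.toEnd_bijective_unit,
    fun i hi => Gorenstein.subsingleton_ext_unit hi⟩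
  haveI : Module.Finite P A := Module.Finite.of_surjective (Algebra.linearMap P A) hsurj
  have hgood : Biduality.GoodModule I
      ((ModuleCat.restrictScalars.{u} ψ.toRingHom).obj (ModuleCat.of A A)) :=
    goodModule_pdle (goodModule_unit' hunit.1 hunit.2) n A (PDFibre.pdle_presentation hsurj)
  obtain ⟨eC⟩ := FiniteRing.nonempty_iso_coI_of_ge ψ.toRingHom hI adj
  exact endTrivial_shift
    (endTrivial_of_iso (eC ≪≫ Rψ.mapIso eY.symm) (coI_end ψ.toRingHom hI hgood)) (n : ℤ)

omit [IsNoetherianRing A] in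
theorem isDualizing_baseChange [Module.Flat R A] (hψ : Function.Surjective ψ)
    (adj : DRing.restrictD ψ.toRingHom ⊣ Rψ) (k : Type u) [Field k] [Algebra R k]
    [DRing.HasLBaseChange (algebraMap A (k ⊗[R] A))] :
    Dual.IsDualizing (k ⊗[R] A) ((DRing.LBaseChange (algebraMap A (k ⊗[R] A))).obj
      (Dual2.shriekVia n Rψ (Dual.inD R R))) := by
  let P := MvPolynomial (Fin n) R
  let P' := MvPolynomial (Fin n) k
  let A' := k ⊗[R] A
  let ψ' : P' →ₐ[k] A' :=
    MvPolynomial.aeval fun i => Algebra.TensorProduct.includeRight (R := R) (A := k) (ψ (MvPolynomial.X i))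
  have hcomp : (algebraMap A A').comp ψ.toRingHom = ψ'.toRingHom.comp (algebraMap P P') := by
    refine MvPolynomial.ringHom_ext (fun r => ?_) fun i => ?_
    · show algebraMap A A' (ψ (MvPolynomial.C r)) = ψ' (MvPolynomial.map (algebraMap R k) (MvPolynomial.C r))
      rw [MvPolynomial.map_C, MvPolynomial.aeval_C, ← IsScalarTower.algebraMap_apply,
        show ψ (MvPolynomial.C r) = algebraMap R A r from ψ.commutes r, ← IsScalarTower.algebraMap_apply]
    · show algebraMap A A' (ψ (MvPolynomial.X i)) = ψ' (MvPolynomial.map (algebraMap R k) (MvPolynomial.X i))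
      rw [MvPolynomial.map_X, MvPolynomial.aeval_X]
      rfl
  have hψ' : Function.Surjective ψ' := fun z => by
    induction z using TensorProduct.induction_on with
    | zero => exact ⟨0, map_zero _⟩
    | add x y hx hy =>
      obtain ⟨a, rfl⟩ := hx
      obtain ⟨b, rfl⟩ := hy
      exact ⟨a + b, map_add _ _ _⟩
    | tmul r a =>
      obtain ⟨f, rfl⟩ := hψ a
      refine ⟨MvPolynomial.C r * algebraMap P P' f, ?_⟩
      rw [map_mul, MvPolynomial.aeval_C]
      have h1 : ψ' (algebraMap P P' f) = (1 : k) ⊗ₜ[R] ψ f := (RingHom.congr_fun hcomp f).symm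
      rw [h1]
      show r ⊗ₜ[R] (1 : A) * (1 : k) ⊗ₜ[R] ψ f = r ⊗ₜ[R] ψ f
      rw [Algebra.TensorProduct.tmul_mul_tmul, mul_one, one_mul]
  haveI : IsNoetherianRing A' := isNoetherianRing_of_surjective P' A' ψ'.toRingHom hψ'
  haveI : DRing.HasLBaseChange (algebraMap k P') := BaseChangeU.hasLBaseChange _
  haveI : DRing.HasLBaseChange (algebraMap R k) := BaseChangeU.hasLBaseChange _
  haveI := ShriekBC.hasRHomRel ψ'.toRingHom
  let adj' : DRing.restrictD ψ'.toRingHom ⊣ DTen.RHomRel ψ'.toRingHom := DTen.relAdj _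
  haveI := ShriekKT.finitePresentation ψ hψ
  obtain ⟨e⟩ := ShriekBC.nonempty_baseChange_iso n ψ hψ Rψ adj n ψ' hψ' (DTen.RHomRel ψ'.toRingHom) adj'
    (Dual.inD R R)
  obtain ⟨e₁⟩ := nonempty_lbc_inD_self (A := R) (B := k)
  let e₂ : (DRing.LBaseChange (algebraMap k P')).obj
      ((DRing.LBaseChange (algebraMap R k)).obj (Dual.inD R R)) ≅ Dual.inD P' P' :=
    (DRing.LBaseChange (algebraMap k P')).mapIso e₁ ≪≫ ShriekLCI.YIso
  haveI : IsNoetherianRing P' := inferInstance
  have hg : LocCoh.IsGorensteinRing P' := Goren.Rings.isGorensteinRing_of_isRegularRing P'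
  have hdim : ringKrullDim P' < ⊤ := by
    rw [MvPolynomial.ringKrullDim_of_isNoetherianRing, ringKrullDim_eq_zero_of_field, zero_add]
    exact WithBot.coe_lt_coe.2 (ENat.natCast_lt_top _)
  obtain ⟨N, hN⟩ := Goren.Global.hasInjectiveDimensionLT_iff_gorenstein.mpr ⟨hg, hdim⟩
  refine LBC.isDualizing_of_iso ?_ (Gorenstein.isDualizing_shift
    (FiniteRing.isDualizing_right ψ'.toRingHom (RingHom.Finite.of_surjective _ hψ') adj'
      (Gorenstein.isDualizing_self hN)) (n : ℤ))
  exact (shiftFunctor (Dual.D A') (n : ℤ)).mapIso ((DTen.RHomRel ψ'.toRingHom).mapIso e₂.symm) ≪≫ e.symm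

end Main

end Groth.Agent.Lib.DMod.ShriekSelf
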