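import Groth.Agent.Lib.DMod.SkCriterion
import Groth.Agent.Lib.DMod.LocalCase
import Groth.Agent.Lib.DMod.LocLoc

/-!
`(S_k)` for equidimensional modules, and openness of `(S_k)`-loci.
-/

universe u

open CategoryTheory Category Limits Pretriangulated

attribute [local instance] HasDerivedCategory.standard

namespace Groth.Agent.Lib.DMod.SkEquidim

open Groth.Agent.Lib.DMod.Basic Groth.Agent.Lib.DMod.Degree

variable {A : Type u} [CommRing A] [IsNoetherianRing A] {ω : Dual.D A} (hω : Dual.IsDualizing A ω)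
include hω

section Normalized

variable (h0 : ∀ m : PrimeSpectrum A, m.asIdeal.IsMaximal → deg hω m = 0)
include h0

theorem deg_nonpos (p : PrimeSpectrum A) : deg hω p ≤ 0 := by
  obtain ⟨m, hm, hpm⟩ := p.asIdeal.exists_le_maximal p.isPrime.ne_top
  exact h0 ⟨m, hm.isPrime⟩ hm ▸ deg_le hω (show p ≤ ⟨m, hm.isPrime⟩ from hpm)

theorem supportDim_le_iff (N : Type*) [AddCommGroup N] [Module A N] (c : ℕ) :
    Module.supportDim A N ≤ (c : WithBot ℕ∞) ↔
      ∀ p : PrimeSpectrum A, p ∈ Module.support A N → -(c : ℤ) ≤ deg hω p := by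
  constructor
  · intro h p hp
    obtain ⟨m, hm, hpm⟩ := p.asIdeal.exists_le_maximal p.isPrime.ne_top
    let m' : PrimeSpectrum A := ⟨m, hm.isPrime⟩
    have hd : deg hω m' = 0 := h0 m' hm
    have hle := deg_nonpos hω h0 p
    obtain ⟨s, hs, hs₁, hs₂⟩ := DimDegree.exists_series hω (-deg hω p).toNat p m' hpm (by lia)
    let s' : LTSeries (Module.support A N) :=
      LTSeries.mk s.length (fun i => ⟨s i, Module.mem_support_mono (s.head_le i) (hs₁.symm ▸ hp)⟩)
        fun i j h => s.strictMono h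
    have h1 : ((s'.length : ℕ) : WithBot ℕ∞) ≤ (c : WithBot ℕ∞) :=
      le_trans (Order.LTSeries.length_le_krullDim s') h
    have h2 : s'.length ≤ c := by exact_mod_cast h1
    change s.length ≤ c at h2
    lia
  · intro h
    refine iSup_le fun s => ?_
    have h1 := DimDegree.head_deg_add_length_le hω (s.map Subtype.val fun _ _ h => h)
    have h2 := h _ s.head.2
    have h3 := deg_nonpos hω h0 s.last.1
    change deg hω s.head.1 + s.length ≤ deg hω s.last.1 at h1
    exact_mod_cast (show s.length ≤ c by lia)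

theorem ringKrullDim_quotient_eq (p : PrimeSpectrum A) :
    ringKrullDim (A ⧸ p.asIdeal) = (((-deg hω p).toNat : ℕ) : WithBot ℕ∞) := by
  rw [← Module.supportDim_quotient_eq_ringKrullDim]
  have hle := deg_nonpos hω h0 p
  refine le_antisymm ((supportDim_le_iff hω h0 _ _).2 fun r hr => ?_) ?_
  · have := deg_le hω ((HomSupp.mem_support_quotient_prime p r).1 hr)
    lia
  · rcases eq_or_ne (Module.supportDim A (A ⧸ p.asIdeal)) ⊤ with h | h
    · rw [h]; exact le_top
    have hne : Module.supportDim A (A ⧸ p.asIdeal) ≠ ⊥ := by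
      rw [Module.supportDim_ne_bot_iff_nontrivial]
      exact Ideal.Quotient.nontrivial_iff.mpr p.isPrime.ne_top
    obtain ⟨z, hz⟩ := WithBot.ne_bot_iff_exists.1 hne
    obtain ⟨c, rfl⟩ : ∃ c : ℕ, (c : ℕ∞) = z :=
      ENat.ne_top_iff_exists.1 fun hz' => h (by rw [← hz, hz']; rfl)
    have h1 := (supportDim_le_iff hω h0 _ c).1 hz.ge p ((HomSupp.mem_support_quotient_prime p p).2 le_rfl)
    rw [← hz]
    exact_mod_cast (show (-deg hω p).toNat ≤ c by lia)

omit h0 in
/-- `(S_k)` for a module all of whose minimal primes have degree `-δ`. -/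
theorem hasSk_iff (M : Type u) [AddCommGroup M] [Module A M] [Module.Finite A M] (δ k : ℕ)
    (hk : 1 ≤ k) (heq : ∀ p : PrimeSpectrum A, p ∈ Module.support A M →
      ∃ q ≤ p, q ∈ Module.support A M ∧ deg hω q = -(δ : ℤ))
    (hmin : ∀ p : PrimeSpectrum A, p ∈ Module.support A M → -(δ : ℤ) ≤ deg hω p) :
    LocCoh.HasSk k A M ↔
      ∀ j : ℤ, j ≠ -(δ : ℤ) → ∀ p : PrimeSpectrum A,
        p ∈ Module.support A (Dual.inD A M ⟶ ω⟦j⟧) → j + k ≤ deg hω p := by
  have hsupp : ∀ (j : ℤ) (p : PrimeSpectrum A),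
      p ∈ Module.support A (Dual.inD A M ⟶ ω⟦j⟧) → p ∈ Module.support A M := fun j p hp => by
    by_contra hc
    exact notMem_support_hom_of_outside hω p M j
      (Or.inr fun q hq hqM => absurd (Module.mem_support_mono hq hqM) hc) hp
  have hlow : ∀ (j : ℤ) (p : PrimeSpectrum A),
      p ∈ Module.support A (Dual.inD A M ⟶ ω⟦j⟧) → -(δ : ℤ) ≤ j := fun j p hp => by
    by_contra hc
    exact notMem_support_hom_of_outside hω p M j
      (Or.inr fun q hq hqM => lt_of_lt_of_le (not_le.1 hc) (hmin q hqM)) hp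
  have hdim : ∀ p : PrimeSpectrum A, p ∈ Module.support A M →
      Module.supportDim (Localization.AtPrime p.asIdeal) (LocalizedModule p.asIdeal.primeCompl M) =
        (((deg hω p + δ).toNat : ℕ) : WithBot ℕ∞) := fun p hp => by
    obtain ⟨q, hqp, hq, hqd⟩ := heq p hp
    rw [DimDegree.supportDim_localized_eq hω p q M hqp hq fun r hr _ => hqd.le.trans (hmin r hr),
      hqd]
    simp
  constructor
  · intro h j hj p hp
    have hpM := hsupp j p hp
    have hj' := hlow j p hp
    obtain ⟨q, hqp, hq, hqd⟩ := heq p hpM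
    have hbot := mem_support_hom_of_minimal_deg hω p q hqp M hq fun r _ hr => hqd.le.trans (hmin r hr)
    rw [hqd] at hbot
    have := (SkCriterion.sk_at_iff hω k hk p M).1 (h p.asIdeal) j (-(δ : ℤ)) (by lia) hp hbot
    rw [hdim p hpM] at this
    have h' : ((k : ℤ) + j - -(δ : ℤ)).toNat ≤ (deg hω p + δ).toNat := by exact_mod_cast this
    have := hmin p hpM
    lia
  · intro h q hq
    refine (SkCriterion.sk_at_iff hω k hk ⟨q, hq⟩ M).2 fun i j hji hi hj => ?_
    have hj' := hlow j _ hj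
    have := h i (by lia) _ hi
    rw [hdim _ (hsupp i _ hi)]
    exact_mod_cast (show ((k : ℤ) + i - j).toNat ≤ (deg hω ⟨q, hq⟩ + δ).toNat by lia)

end Normalized

omit [IsNoetherianRing A] hω in
/-- `(S_k)` at `p` is a condition on the generizations of `p`. -/
theorem hasSkAt_iff (k : ℕ) (p : PrimeSpectrum A) (M : Type u) [AddCommGroup M] [Module A M] :
    LocCoh.HasSk k (Localization.AtPrime p.asIdeal) (LocalizedModule p.asIdeal.primeCompl M) ↔
      ∀ q : PrimeSpectrum A, q ≤ p →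
        min (k : WithBot ℕ∞) (Module.supportDim (Localization.AtPrime q.asIdeal)
            (LocalizedModule q.asIdeal.primeCompl M)) ≤
          ((LocCoh.depth (Localization.AtPrime q.asIdeal)
            (LocalizedModule q.asIdeal.primeCompl M) : ℕ∞) : WithBot ℕ∞) := by
  constructor
  · intro h q hqp
    obtain ⟨q', hq', rfl⟩ : ∃ q' : PrimeSpectrum (Localization.AtPrime p.asIdeal),
        q'.asIdeal.comap (algebraMap A (Localization.AtPrime p.asIdeal)) = q.asIdeal ∧
          PrimeSpectrum.comap (algebraMap A (Localization.AtPrime p.asIdeal)) q' = q := by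
      let e := IsLocalization.AtPrime.primeSpectrumOrderIso (Localization.AtPrime p.asIdeal) p.asIdeal
      exact ⟨e.symm ⟨q, hqp⟩, congrArg (fun z : Set.Iic p => z.1.asIdeal) (e.apply_symm_apply ⟨q, hqp⟩),
        congrArg (fun z : Set.Iic p => z.1) (e.apply_symm_apply ⟨q, hqp⟩)⟩
    obtain ⟨h1, h2⟩ := LocLoc.depth_supportDim_eq p M q'
    have := h q'.asIdeal
    rw [h1, h2] at this
    exact this
  · intro h q' hq'
    obtain ⟨h1, h2⟩ := LocLoc.depth_supportDim_eq p M ⟨q', hq'⟩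
    have := h (PrimeSpectrum.comap (algebraMap A (Localization.AtPrime p.asIdeal)) ⟨q', hq'⟩)
      (IsLocalization.AtPrime.primeSpectrumOrderIso (Localization.AtPrime p.asIdeal) p.asIdeal
        ⟨q', hq'⟩).2
    rw [h1, h2]
    exact this

theorem isOpen_hasSk (k : ℕ) (hk : 1 ≤ k) (M : Type u) [AddCommGroup M] [Module A M]
    [Module.Finite A M] :
    IsOpen {p : PrimeSpectrum A | LocCoh.HasSk k (Localization.AtPrime p.asIdeal)
      (LocalizedModule p.asIdeal.primeCompl M)} := by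
  classical
  obtain ⟨a, b, -, hinj, -⟩ := PointDegree.exists_hom_bounds hω
  let sd : PrimeSpectrum A → WithBot ℕ∞ := fun q =>
    Module.supportDim (Localization.AtPrime q.asIdeal) (LocalizedModule q.asIdeal.primeCompl M)
  let Z : ℤ × ℤ → Set (PrimeSpectrum A) := fun ij =>
    Module.support A (Dual.inD A M ⟶ ω⟦ij.1⟧) ∩ Module.support A (Dual.inD A M ⟶ ω⟦ij.2⟧)
  let J : ℤ × ℤ → Ideal A := fun ij =>
    Module.annihilator A (Dual.inD A M ⟶ ω⟦ij.1⟧) ⊔ Module.annihilator A (Dual.inD A M ⟶ ω⟦ij.2⟧)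
  have hZ : ∀ ij q, q ∈ Z ij ↔ J ij ≤ q.asIdeal := fun ij q => by
    have := finite_hom hω M ij.1
    have := finite_hom hω M ij.2
    simp only [Z, J, Set.mem_inter_iff, Module.mem_support_iff_of_finite, sup_le_iff]
  let P : Set ((ℤ × ℤ) × PrimeSpectrum A) :=
    {x | x.1.1 ∈ Set.Icc a b ∧ x.1.2 ∈ Set.Icc a b ∧ x.1.2 < x.1.1 ∧
      x.2.asIdeal ∈ (J x.1).minimalPrimes ∧
      ¬ (((k : ℤ) + x.1.1 - x.1.2).toNat : WithBot ℕ∞) ≤ sd x.2}
  have hPfin : P.Finite := by
    refine Set.Finite.subset (Set.Finite.biUnion ((Set.finite_Icc a b).prod (Set.finite_Icc a b))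
      fun ij _ => ((Ideal.finite_minimalPrimes_of_isNoetherianRing A (J ij)).preimage
        (f := PrimeSpectrum.asIdeal) (fun x _ y _ h => PrimeSpectrum.ext h)).image (fun q => (ij, q)))
      fun x hx => ?_
    exact Set.mem_biUnion (x := x.1) ⟨hx.1, hx.2.1⟩ ⟨x.2, hx.2.2.2.1, rfl⟩
  rw [← isClosed_compl_iff]
  have hbad : {p : PrimeSpectrum A | LocCoh.HasSk k (Localization.AtPrime p.asIdeal)
      (LocalizedModule p.asIdeal.primeCompl M)}ᶜ =
      ⋃ x ∈ P, PrimeSpectrum.zeroLocus (x.2.asIdeal : Set A) := by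
    ext p
    rw [Set.mem_compl_iff, Set.mem_ofPred_eq, hasSkAt_iff k p M, Set.mem_iUnion₂]
    constructor
    · intro h
      push Not at h
      obtain ⟨q, hqp, hq⟩ := h
      obtain ⟨i, j, hji, hi, hj, hlt⟩ : ∃ i j : ℤ, j < i ∧
          q ∈ Module.support A (Dual.inD A M ⟶ ω⟦i⟧) ∧ q ∈ Module.support A (Dual.inD A M ⟶ ω⟦j⟧) ∧
          sd q < (((k : ℤ) + i - j).toNat : WithBot ℕ∞) := by
        by_contra hc
        refine not_le.2 hq ((SkCriterion.sk_at_iff hω k hk q M).2 fun i j hji hi hj => ?_)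
        by_contra hlt
        exact hc ⟨i, j, hji, hi, hj, not_le.1 hlt⟩
      have hIcc : ∀ i, q ∈ Module.support A (Dual.inD A M ⟶ ω⟦i⟧) → i ∈ Set.Icc a b := fun i hi => by
        by_contra hc
        have := hinj M i (by simp only [Set.mem_Icc, not_and, not_le] at hc; lia)
        simp [Module.support_eq_empty] at hi
      obtain ⟨q₀, hq₀, hle⟩ := Ideal.exists_minimalPrimes_le (I := J (i, j)) (J := q.asIdeal)
        ((hZ _ q).1 ⟨hi, hj⟩)
      refine ⟨((i, j), ⟨q₀, hq₀.1.1⟩), ⟨hIcc i hi, hIcc j hj, hji, hq₀, fun hge => ?_⟩,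
        le_trans hle hqp⟩
      refine not_le.2 hlt (le_trans hge ?_)
      change sd ⟨q₀, _⟩ ≤ sd q
      simp only [sd, SupportDim.supportDim_localized]
      exact Order.krullDim_le_of_strictMono (fun r => ⟨r.1, r.2.1, le_trans r.2.2 hle⟩) fun x y h => h
    · rintro ⟨⟨⟨i, j⟩, q₀⟩, ⟨-, -, hji, hmin, hlt⟩, hp⟩ hall
      have hmem := (hZ (i, j) q₀).2 hmin.1.2
      exact hlt ((SkCriterion.sk_at_iff hω k hk q₀ M).1 (hall q₀ hp) i j hji hmem.1 hmem.2)
  rw [hbad]
  exact hPfin.isClosed_biUnion fun x _ => PrimeSpectrum.isClosed_zeroLocus _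

end Groth.Agent.Lib.DMod.SkEquidim
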