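import Groth.Agent.Lib.DMod.LocalCase
import Groth.Agent.Lib.InjHull.Matlis
import Groth.Agent.Lib.InjHull.Complete

/-!
Finite length modules and a normalized dualizing complex: a compatible system of traces
`Hom(A/m^n, ω) → E` to the injective hull `E` of the residue field.
-/

universe u

open CategoryTheory Category Limits Pretriangulated

attribute [local instance] HasDerivedCategory.standard

namespace Groth.Agent.Lib.DMod.Sys

open Groth.Agent.Lib.DMod Groth.Agent.Lib.DMod.Basic Groth.Agent.Lib.DMod.Degree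

variable {A : Type u} [CommRing A] [IsLocalRing A]

local notation "𝔪" => IsLocalRing.maximalIdeal A

/-- `A/m^n`. -/
abbrev Q (A : Type u) [CommRing A] [IsLocalRing A] (n : ℕ) : Type u := A ⧸ (IsLocalRing.maximalIdeal A) ^ n

/-- `A/m^n` in degree `0`. -/
noncomputable abbrev QD (A : Type u) [CommRing A] [IsLocalRing A] (n : ℕ) : Dual.D A := Dual.inD A (Q A n)

/-- The functor `M ↦ M[0]` on linear maps. -/
noncomputable abbrev inDmap {M N : Type u} [AddCommGroup M] [Module A M] [AddCommGroup N] [Module A N]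
    (g : M →ₗ[A] N) : Dual.inD A M ⟶ Dual.inD A N :=
  (DerivedCategory.singleFunctor (ModuleCat.{u} A) 0).map (ModuleCat.ofHom g)

omit [IsLocalRing A] in
theorem inDmap_comp {M N P : Type u} [AddCommGroup M] [Module A M] [AddCommGroup N] [Module A N]
    [AddCommGroup P] [Module A P] (g : M →ₗ[A] N) (h : N →ₗ[A] P) :
    inDmap (h ∘ₗ g) = inDmap g ≫ inDmap h := by
  rw [← Functor.map_comp]; rfl

omit [IsLocalRing A] in
theorem inDmap_add {M N : Type u} [AddCommGroup M] [Module A M] [AddCommGroup N] [Module A N]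
    (g h : M →ₗ[A] N) : inDmap (g + h) = inDmap g + inDmap h := by
  rw [← Functor.map_add]; rfl

omit [IsLocalRing A] in
theorem inDmap_smul {M N : Type u} [AddCommGroup M] [Module A M] [AddCommGroup N] [Module A N]
    (a : A) (g : M →ₗ[A] N) : inDmap (a • g) = a • inDmap g := by
  rw [← Functor.map_smul]; rfl

/-- The projection `A/m^n' → A/m^n`. -/
noncomputable def proj {n n' : ℕ} (h : n ≤ n') : QD A n' ⟶ QD A n :=
  inDmap (Submodule.factor (Ideal.pow_le_pow_right h))

theorem proj_comp {a b c : ℕ} (h : a ≤ b) (h' : b ≤ c) :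
    proj (A := A) h' ≫ proj h = proj (h.trans h') := by
  rw [proj, proj, proj, ← inDmap_comp]
  congr 1
  exact LinearMap.ext fun x => by
    obtain ⟨x, rfl⟩ := Submodule.Quotient.mk_surjective _ x
    rfl

theorem proj_refl (a : ℕ) : proj (A := A) (le_refl a) = 𝟙 _ := by
  refine (congrArg (DerivedCategory.singleFunctor (ModuleCat.{u} A) 0).map ?_).trans
    (CategoryTheory.Functor.map_id _ _)
  exact ModuleCat.hom_ext (LinearMap.ext fun x => by
    obtain ⟨x, rfl⟩ := Submodule.Quotient.mk_surjective _ x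
    rfl)

/-- The generator map `A/m^n → N`, `1 ↦ x`. -/
noncomputable def gen {N : Type u} [AddCommGroup N] [Module A N] (n : ℕ) (x : N)
    (h : ∀ a ∈ 𝔪 ^ n, a • x = 0) : Q A n →ₗ[A] N :=
  Submodule.liftQ _ (LinearMap.toSpanSingleton A N x) fun a ha => h a ha

theorem gen_mk {N : Type u} [AddCommGroup N] [Module A N] (n : ℕ) (x : N)
    (h : ∀ a ∈ 𝔪 ^ n, a • x = 0) (a : A) : gen n x h (Submodule.Quotient.mk a) = a • x := rfl

theorem gen_ext {N : Type u} [AddCommGroup N] [Module A N] {n : ℕ} {g g' : Q A n →ₗ[A] N}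
    (h : g (Submodule.Quotient.mk 1) = g' (Submodule.Quotient.mk 1)) : g = g' := by
  refine LinearMap.ext fun y => ?_
  obtain ⟨a, rfl⟩ := Submodule.Quotient.mk_surjective _ y
  have : (Submodule.Quotient.mk a : Q A n) = a • Submodule.Quotient.mk 1 := by
    rw [← Submodule.Quotient.mk_smul, smul_eq_mul, mul_one]
  rw [this, map_smul, map_smul, h]

variable [IsNoetherianRing A] {ω : Dual.D A} (hω : Dual.IsDualizing A ω) (hn : Dual.IsNormalized A ω)
include hω hn

/-- Modules killed by a power of `m` only see degree `0`. -/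
theorem subsingleton_hom_of_killed {N : Type u} [AddCommGroup N] [Module A N] [Module.Finite A N]
    (n : ℕ) (h : ∀ a ∈ 𝔪 ^ n, ∀ x : N, a • x = 0) {i : ℤ} (hi : i ≠ 0) :
    Subsingleton (Dual.inD A N ⟶ ω⟦i⟧) := by
  rcases lt_or_gt_of_ne hi with hi | hi
  · rw [← Module.support_eq_empty_iff (R := A), Set.eq_empty_iff_forall_notMem]
    intro p
    refine notMem_support_hom_of_outside hω p N i (Or.inr fun q _ hq => ?_)
    have hq0 : q = IsLocalRing.closedPoint A := by
      refine PrimeSpectrum.ext (((IsLocalRing.maximalIdeal.isMaximal A).eq_of_le q.isPrime.ne_top ?_).symm)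
      intro a ha
      obtain ⟨x, hx⟩ := Module.mem_support_iff'.1 hq
      by_contra hc
      exact hx (a ^ n) (fun h' => hc (q.isPrime.mem_of_pow_mem n h')) (h _ (Ideal.pow_mem_pow ha n) x)
    rw [hq0, LocalCase.deg_closedPoint_eq_zero hω hn]
    exact hi
  · exact LocalCase.subsingleton_hom_of_pos hω hn N hi

theorem subsingleton_hom_of_killed' {N : Type u} [AddCommGroup N] [Module A N] [Module.Finite A N]
    (n : ℕ) (h : ∀ a ∈ 𝔪 ^ n, ∀ x : N, a • x = 0) {i : ℤ} (hi : i ≠ 0) :
    Subsingleton ((Dual.inD A N)⟦i⟧ ⟶ ω) :=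
  have := subsingleton_hom_of_killed hω hn n h (i := -i) (by lia)
  (Linear.homCongr A (Iso.refl _) ((shiftFunctorZero (Dual.D A) ℤ).app ω)).toEquiv.subsingleton_congr.1
    ((homShiftAdj (Dual.inD A N) ω i 0 (-i) (by lia)).toEquiv.subsingleton)

/-- Exactness of `Hom(-, ω)` on modules killed by a power of `m`. -/
theorem hom_exact {N₁ N₂ N₃ : Type u} [AddCommGroup N₁] [Module A N₁] [AddCommGroup N₂] [Module A N₂]
    [AddCommGroup N₃] [Module A N₃] [Module.Finite A N₂] (n : ℕ)
    (h : ∀ a ∈ 𝔪 ^ n, ∀ x : N₂, a • x = 0) (u : N₁ →ₗ[A] N₂) (v : N₂ →ₗ[A] N₃)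
    (hu : Function.Injective u) (hv : Function.Surjective v) (huv : Function.Exact u v) :
    (∀ f : Dual.inD A N₃ ⟶ ω, inDmap v ≫ f = 0 → f = 0) ∧
      (∀ f : Dual.inD A N₂ ⟶ ω, inDmap u ≫ f = 0 → ∃ f', inDmap v ≫ f' = f) := by
  let S : ShortComplex (ModuleCat.{u} A) :=
    ShortComplex.mk (ModuleCat.ofHom u) (ModuleCat.ofHom v)
      (ModuleCat.hom_ext huv.linearMap_comp_eq_zero)
  have hS : S.ShortExact :=
    { exact := (ShortComplex.ShortExact.moduleCat_exact_iff_function_exact S).2 huv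
      mono_f := (ModuleCat.mono_iff_injective _).2 hu
      epi_g := (ModuleCat.epi_iff_surjective _).2 hv }
  have hT := hS.singleTriangle_distinguished
  refine ⟨fun f hf => ?_, fun f hf => ?_⟩
  · have := Module.Finite.of_injective u hu
    have hs : Subsingleton ((Dual.inD A N₁)⟦(1 : ℤ)⟧ ⟶ ω) :=
      subsingleton_hom_of_killed' hω hn n (fun a ha x => hu (by rw [map_smul, h a ha, map_zero]))
        (by norm_num)
    obtain ⟨g, hg⟩ := Triangle.yoneda_exact₂ _ (rot_of_distTriang _ hT) f hf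
    exact hg.trans ((congrArg _ (hs.elim g 0)).trans comp_zero)
  · obtain ⟨g, hg⟩ := Triangle.yoneda_exact₂ _ hT f hf
    exact ⟨g, hg.symm⟩

/-- `Hom(-, ω)` turns inclusions of modules killed by a power of `m` into surjections. -/
theorem exists_extend {N₂ : Type u} [AddCommGroup N₂] [Module A N₂] [Module.Finite A N₂] (n : ℕ)
    (h : ∀ a ∈ 𝔪 ^ n, ∀ x : N₂, a • x = 0) (N' : Submodule A N₂) (g : Dual.inD A N' ⟶ ω) :
    ∃ f : Dual.inD A N₂ ⟶ ω, inDmap N'.subtype ≫ f = g := by
  let S : ShortComplex (ModuleCat.{u} A) :=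
    ShortComplex.mk (ModuleCat.ofHom N'.subtype) (ModuleCat.ofHom N'.mkQ)
      (by ext x; exact (Submodule.Quotient.mk_eq_zero N').mpr x.2)
  have hS : S.ShortExact :=
    { exact := (ShortComplex.ShortExact.moduleCat_exact_iff_function_exact S).2 (LinearMap.exact_subtype_mkQ N')
      mono_f := (ModuleCat.mono_iff_injective _).2 Subtype.val_injective
      epi_g := (ModuleCat.epi_iff_surjective _).2 N'.mkQ_surjective }
  have hs : Subsingleton ((Dual.inD A (N₂ ⧸ N'))⟦(-1 : ℤ)⟧ ⟶ ω) :=
    subsingleton_hom_of_killed' hω hn n (fun a ha x => by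
      obtain ⟨x, rfl⟩ := Submodule.Quotient.mk_surjective _ x
      rw [← Submodule.Quotient.mk_smul, h a ha, Submodule.Quotient.mk_zero]) (by norm_num)
  obtain ⟨f, hf⟩ := Triangle.yoneda_exact₂ _ (inv_rot_of_distTriang _ hS.singleTriangle_distinguished) g
    (hs.elim _ _)
  exact ⟨f, hf.symm⟩

theorem eq_zero_of_proj_comp {n n' : ℕ} (h : n ≤ n') (f : QD A n ⟶ ω) (hf : proj h ≫ f = 0) :
    f = 0 :=
  (hom_exact hω hn (N₂ := Q A n') n' (fun a ha x => by
      obtain ⟨x, rfl⟩ := Submodule.Quotient.mk_surjective _ x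
      rw [← Submodule.Quotient.mk_smul, Submodule.Quotient.mk_eq_zero]
      exact Ideal.mul_mem_right x _ ha)
    (LinearMap.ker (Submodule.factor (Ideal.pow_le_pow_right h))).subtype
    (Submodule.factor (Ideal.pow_le_pow_right h)) Subtype.val_injective
    (Submodule.factor_surjective _) (LinearMap.exact_subtype_ker_map _)).1 f hf

omit hn in
omit hω [IsNoetherianRing A] in
theorem pow_smul_hom_eq_zero {n : ℕ} {Y : Dual.D A} (f : QD A n ⟶ Y) (a : A) (ha : a ∈ 𝔪 ^ n) :
    a • f = 0 :=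
  LocalCase.smul_hom_inD_quotient_eq_zero _ Y a ha f

variable (ω)

omit hω hn [IsNoetherianRing A] in
/-- A compatible system of traces `Hom(A/m^n, ω) → E`, bijective onto the socle for `n = 1`. -/
structure Trace (E : Type u) [AddCommGroup E] [Module A E] where
  τ : ∀ n, (QD A n ⟶ ω) →ₗ[A] E
  compat : ∀ {n n' : ℕ} (h : n ≤ n') (f : QD A n ⟶ ω), τ n' (proj h ≫ f) = τ n f
  injective_one : Function.Injective (τ 1)
  range_one : LinearMap.range (τ 1) = LocCoh.torsionBy 𝔪 E

variable {ω}

theorem exists_trace {E : Type u} [AddCommGroup E] [Module A E]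
    {f : IsLocalRing.ResidueField A →ₗ[A] E} (hf : InjHull.IsInjectiveHull f) :
    Nonempty (Trace ω E) := by
  have hbaer : Module.Baer A E := Module.Baer.of_injective hf.isInjective
  obtain ⟨e₀⟩ := LocalCase.nonempty_residue_equiv hω (IsLocalRing.closedPoint A)
    (IsLocalRing.maximalIdeal.isMaximal A)
  rw [LocalCase.deg_closedPoint_eq_zero hω hn] at e₀
  let e1 : Q A 1 ≃ₗ[A] (A ⧸ 𝔪) := Submodule.quotEquivOfEq _ _ (pow_one _)
  let eD : QD A 1 ≅ Dual.inD A (A ⧸ 𝔪) :=
    (DerivedCategory.singleFunctor (ModuleCat.{u} A) 0).mapIso e1.toModuleIso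
  let t₀ : (QD A 1 ⟶ ω) ≃ₗ[A] (A ⧸ 𝔪) :=
    (Linear.homCongr A eD ((shiftFunctorZero (Dual.D A) ℤ).app ω).symm).trans e₀
  have hext : ∀ (n : ℕ) (s : (QD A (n + 1) ⟶ ω) →ₗ[A] E), ∃ s' : (QD A (n + 2) ⟶ ω) →ₗ[A] E,
      s' ∘ₗ (Linear.leftComp A ω (proj (Nat.le_succ (n + 1)))) = s := fun n s =>
    hbaer.extension_property _ (fun a b hab => sub_eq_zero.1 (eq_zero_of_proj_comp hω hn
      (Nat.le_succ (n + 1)) _ (by rw [Preadditive.comp_sub]; exact sub_eq_zero.2 hab))) s
  choose next hnext using hext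
  let T : ∀ n, (QD A (n + 1) ⟶ ω) →ₗ[A] E := fun n =>
    Nat.rec (motive := fun n => (QD A (n + 1) ⟶ ω) →ₗ[A] E) (f ∘ₗ t₀.toLinearMap)
      (fun n s => next n s) n
  let τ : ∀ n, (QD A n ⟶ ω) →ₗ[A] E := fun n => T n ∘ₗ Linear.leftComp A ω (proj (Nat.le_succ n))
  have hstep : ∀ n (g : QD A (n + 1) ⟶ ω), T (n + 1) (proj (Nat.le_succ (n + 1)) ≫ g) = T n g :=
    fun n g => LinearMap.congr_fun (hnext n (T n)) g
  have hcompat : ∀ {n n' : ℕ} (h : n ≤ n') (g : QD A n ⟶ ω), τ n' (proj h ≫ g) = τ n g := by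
    intro n n' h
    induction h with
    | refl => intro g; rw [proj_refl, Category.id_comp]
    | @step m hm ih =>
      intro g
      rw [← ih g]
      show T (m + 1) (proj (Nat.le_succ (m + 1)) ≫ proj (Nat.le_trans hm (Nat.le_succ m)) ≫ g) =
        T m (proj (Nat.le_succ m) ≫ proj hm ≫ g)
      rw [hstep m]
      congr 1
      rw [← Category.assoc, proj_comp]
  have hone : ∀ g, τ 1 g = f (t₀ g) := fun g => hstep 0 g
  refine ⟨⟨τ, hcompat, fun a b hab => t₀.injective (hf.injective (by rw [← hone, hab, hone])), ?_⟩⟩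
  rw [InjHull.Matlis.torsionBy_eq_range hf.toIsEssentialInj]
  ext x
  constructor
  · rintro ⟨g, rfl⟩
    exact ⟨t₀ g, (hone g).symm⟩
  · rintro ⟨y, rfl⟩
    exact ⟨t₀.symm y, by rw [hone, LinearEquiv.apply_symm_apply]; rfl⟩

omit hω hn [IsNoetherianRing A] in
variable {E : Type u} [AddCommGroup E] [Module A E] in
/-- The pairing `Hom(N, ω) → Hom(N, E)` on modules killed by `m^n`. -/
noncomputable def pair (t : Trace ω E) {N : Type u} [AddCommGroup N] [Module A N] (n : ℕ)
    (h : ∀ a ∈ 𝔪 ^ n, ∀ x : N, a • x = 0) : (Dual.inD A N ⟶ ω) →ₗ[A] (N →ₗ[A] E) where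
  toFun g :=
    { toFun := fun x => t.τ n (inDmap (gen n x fun a ha => h a ha x) ≫ g)
      map_add' := fun x y => by
        rw [← map_add, ← Preadditive.add_comp, ← inDmap_add]
        congr 3
        exact gen_ext (by simp only [LinearMap.add_apply, gen_mk, one_smul])
      map_smul' := fun a x => by
        rw [RingHom.id_apply, ← map_smul, ← Linear.smul_comp, ← inDmap_smul]
        congr 3
        exact gen_ext (by simp only [LinearMap.smul_apply, gen_mk, one_smul]) }
  map_add' g g' := LinearMap.ext fun x => by simp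
  map_smul' a g := LinearMap.ext fun x => by simp

variable {E : Type u} [AddCommGroup E] [Module A E]

omit hω hn [IsNoetherianRing A] in
theorem pair_apply (t : Trace ω E) {N : Type u} [AddCommGroup N] [Module A N] (n : ℕ)
    (h : ∀ a ∈ 𝔪 ^ n, ∀ x : N, a • x = 0) (g : Dual.inD A N ⟶ ω) (x : N) :
    pair t n h g x = t.τ n (inDmap (gen n x fun a ha => h a ha x) ≫ g) := rfl

omit hω hn [IsNoetherianRing A] in
theorem pair_natural (t : Trace ω E) {N N' : Type u} [AddCommGroup N] [Module A N] [AddCommGroup N']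
    [Module A N'] (n : ℕ) (h : ∀ a ∈ 𝔪 ^ n, ∀ x : N, a • x = 0)
    (h' : ∀ a ∈ 𝔪 ^ n, ∀ x : N', a • x = 0) (φ : N →ₗ[A] N') (g : Dual.inD A N' ⟶ ω) :
    pair t n h (inDmap φ ≫ g) = pair t n h' g ∘ₗ φ := by
  refine LinearMap.ext fun x => ?_
  rw [LinearMap.comp_apply, pair_apply, pair_apply, ← Category.assoc, ← inDmap_comp]
  congr 3
  exact gen_ext (by simp only [LinearMap.comp_apply, gen_mk, one_smul])

/-- `Hom(N, ω) = Hom(N, E)` for `N` killed by a power of `m`. -/
theorem pair_bijective (t : Trace ω E) (n : ℕ) (hn1 : 1 ≤ n)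
    {N : Type u} [AddCommGroup N] [Module A N] [Module.Finite A N]
    (h : ∀ a ∈ 𝔪 ^ n, ∀ x : N, a • x = 0) : Function.Bijective (pair t n h) := by
  have hfl : IsFiniteLength A N :=
    InjHull.Complete.isFiniteLength_of_pow_smul 𝔪 n N fun x c hc => h c hc x
  revert h
  induction hfl with
  | of_subsingleton =>
    rename_i M _ _ _
    intro h
    have : Subsingleton (Dual.inD A M ⟶ ω) := by
      refine subsingleton_of_forall_eq 0 fun g => ?_
      have : IsZero (Dual.inD A M) :=
        Functor.map_isZero _ (ModuleCat.isZero_of_subsingleton _)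
      exact this.eq_of_src g 0
    exact ⟨fun a b _ => Subsingleton.elim _ _, fun φ => ⟨0, LinearMap.ext fun x => by
      rw [Subsingleton.elim x 0, map_zero, map_zero]⟩⟩
  | @of_simple_quotient M _ _ N' hsimple hN' ih =>
    intro h
    have : IsNoetherian A M :=
      (isFiniteLength_iff_isNoetherian_isArtinian.mp (IsFiniteLength.of_simple_quotient hN')).1
    have : Module.Finite A M := inferInstance
    have : Module.Finite A N' := Module.Finite.of_fg (IsNoetherian.noetherian _)
    have hN : ∀ a ∈ 𝔪 ^ n, ∀ x : N', a • x = 0 := fun a ha x => Subtype.ext (h a ha x.1)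
    have hS : ∀ a ∈ 𝔪 ^ n, ∀ x : M ⧸ N', a • x = 0 := fun a ha x => by
      obtain ⟨x, rfl⟩ := Submodule.Quotient.mk_surjective _ x
      rw [← Submodule.Quotient.mk_smul, h a ha x, Submodule.Quotient.mk_zero]
    obtain ⟨ihi, ihs⟩ := ih hN
    -- the simple quotient
    have hbase : Function.Bijective (pair t n hS) := by
      obtain ⟨m', hm', ⟨e⟩⟩ := isSimpleModule_iff_quot_maximal.mp hsimple
      obtain rfl : m' = 𝔪 := IsLocalRing.eq_maximalIdeal hm'
      let e' : Q A 1 ≃ₗ[A] (M ⧸ N') := (Submodule.quotEquivOfEq _ _ (pow_one _)).trans e.symm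
      have hx : ∀ y : M ⧸ N', ∃ a : A, a • e' (Submodule.Quotient.mk 1) = y := fun y => by
        obtain ⟨a, ha⟩ := Submodule.Quotient.mk_surjective _ (e'.symm y)
        exact ⟨a, by rw [← map_smul, ← Submodule.Quotient.mk_smul, smul_eq_mul, mul_one, ha,
          LinearEquiv.apply_symm_apply]⟩
      have hval : ∀ g, pair t n hS g (e' (Submodule.Quotient.mk 1)) = t.τ 1 (inDmap e'.toLinearMap ≫ g) := by
        intro g
        rw [pair_apply, ← t.compat hn1 (inDmap e'.toLinearMap ≫ g), proj, ← Category.assoc, ← inDmap_comp]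
        congr 3
        exact gen_ext (by simp only [gen_mk, one_smul]; rfl)
      let eD : QD A 1 ≅ Dual.inD A (M ⧸ N') :=
        (DerivedCategory.singleFunctor (ModuleCat.{u} A) 0).mapIso e'.toModuleIso
      refine ⟨fun g g' hg => ?_, fun φ => ?_⟩
      · exact (cancel_epi eD.hom).1 (t.injective_one ((hval g).symm.trans
          ((LinearMap.congr_fun hg _).trans (hval g'))))
      · have hmem : φ (e' (Submodule.Quotient.mk 1)) ∈ LinearMap.range (t.τ 1) := by
          rw [t.range_one]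
          refine (Submodule.mem_torsionBySet_iff _ _).2 fun a => ?_
          rw [← map_smul, ← map_smul, ← Submodule.Quotient.mk_smul,
            (Submodule.Quotient.mk_eq_zero _).2, map_zero, map_zero]
          rw [pow_one, smul_eq_mul, mul_one]
          exact a.2
        obtain ⟨g₁, hg₁⟩ := hmem
        refine ⟨eD.inv ≫ g₁, LinearMap.ext fun y => ?_⟩
        obtain ⟨a, rfl⟩ := hx y
        rw [map_smul, map_smul, hval, ← hg₁]
        congr 2
        exact eD.hom_inv_id_assoc g₁
    obtain ⟨hex1, hex2⟩ := hom_exact hω hn n h N'.subtype N'.mkQ Subtype.val_injective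
      N'.mkQ_surjective (LinearMap.exact_subtype_mkQ N')
    constructor
    · rw [injective_iff_map_eq_zero]
      intro g hg
      have h1 : pair t n hN (inDmap N'.subtype ≫ g) = 0 := by
        rw [pair_natural t n hN h, hg, LinearMap.zero_comp]
      obtain ⟨g', rfl⟩ := hex2 g (ihi (h1.trans (map_zero _).symm))
      have h2 : pair t n hS g' = 0 := by
        rw [pair_natural t n h hS] at hg
        exact LinearMap.ext fun y => by
          obtain ⟨y, rfl⟩ := N'.mkQ_surjective y
          exact LinearMap.congr_fun hg y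
      rw [hbase.1 (h2.trans (map_zero _).symm), comp_zero]
    · intro φ
      obtain ⟨g₁, hg₁⟩ := ihs (φ ∘ₗ N'.subtype)
      -- extend `g₁`
      obtain ⟨g₂, hg₂⟩ : ∃ g₂ : Dual.inD A M ⟶ ω, inDmap N'.subtype ≫ g₂ = g₁ :=
        exists_extend hω hn n h N' g₁
      have h3 : N' ≤ LinearMap.ker (φ - pair t n h g₂) := fun y hy => by
        have := LinearMap.congr_fun ((pair_natural t n hN h N'.subtype g₂).symm.trans
          ((congrArg _ hg₂).trans hg₁)) ⟨y, hy⟩
        simp only [LinearMap.comp_apply, Submodule.subtype_apply] at this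
        rw [LinearMap.mem_ker, LinearMap.sub_apply, this, sub_self]
      obtain ⟨g₃, hg₃⟩ := hbase.2 (N'.liftQ _ h3)
      refine ⟨g₂ + inDmap N'.mkQ ≫ g₃, LinearMap.ext fun y => ?_⟩
      rw [map_add, pair_natural t n h hS, hg₃]
      simp

end Groth.Agent.Lib.DMod.Sys
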