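import Groth.Agent.Lib.DR.RelHom
import Groth.Agent.Lib.DR.BcRHom
import Groth.Agent.Lib.DerCat.KInjExists
import Groth.Prelude.Def_TrivBC

/-!
Base change of trivial duality along a tor independent square.
-/

universe u

open CategoryTheory CategoryTheory.Limits MonoidalCategory HomologicalComplex
open Groth.Agent.Lib.TensorCx.Basic
open Groth.Agent.Lib.DR
open scoped TensorProduct

attribute [local instance] HasDerivedCategory.standard

set_option backward.isDefEq.respectTransparency false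
set_option linter.style.haveILetI false

namespace Groth.Agent.Lib.DMod.TorIndepBC

/-- The scalar of an element of degree zero of the unit complex. -/
noncomputable def sc {S : Type u} [CommRing S] (u : (𝟙_ (DRing.Cx S)).X 0) : S :=
  (singleObjXSelf (ComplexShape.up ℤ) 0 (𝟙_ (ModuleCat.{u} S))).hom u

/-- The left unitor on elements. -/
theorem lam_incl {S : Type u} [CommRing S] (Y : DRing.Cx S) (r : ℤ) (u : (𝟙_ (DRing.Cx S)).X 0) (y : Y.X r) :
    (λ_ Y).hom.f r (incl (𝟙_ (DRing.Cx S)) Y 0 r r (zero_add r) (u ⊗ₜ y)) = sc u • y := by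
  let s := singleObjXSelf (ComplexShape.up ℤ) 0 (𝟙_ (ModuleCat.{u} S))
  have hu : u = sc u • (s.inv (1 : S)) := by
    apply s.toLinearEquiv.injective
    rw [map_smul]
    show s.hom u = sc u • s.hom (s.inv (1 : S))
    rw [Iso.inv_hom_id_apply]
    exact (mul_one (sc u)).symm
  have h1 : (λ_ Y).inv.f r y = incl (𝟙_ (DRing.Cx S)) Y 0 r r (zero_add r) ((s.inv (1 : S)) ⊗ₜ y) :=
    ConcreteCategory.congr_hom (HomologicalComplex.leftUnitor'_inv Y r) y
  conv_lhs => rw [hu, ← TensorProduct.smul_tmul', map_smul, map_smul, ← h1]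
  rw [← ConcreteCategory.comp_apply, ← HomologicalComplex.comp_f, Iso.inv_hom_id]
  rfl

theorem subsingleton_unit_X {S : Type u} [CommRing S] {i : ℤ} (hi : i ≠ 0) :
    Subsingleton ((𝟙_ (DRing.Cx S)).X i) :=
  ModuleCat.subsingleton_of_isZero (HomologicalComplex.isZero_single_obj_X (ComplexShape.up ℤ) 0 _ i hi)

variable {R A R' A' : Type u} [CommRing R] [CommRing A] [CommRing R'] [CommRing A']
  (φ : R →+* A) (ρ : R →+* R') (α : A →+* A') (φ' : R' →+* A') (h : α.comp φ = φ'.comp ρ)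

/-- The two restrictions of a complex agree. -/
noncomputable def commCx : DTen.resCx α ⋙ DTen.resCx φ ≅ DTen.resCx φ' ⋙ DTen.resCx ρ :=
  Functor.mapHomologicalComplexCompIso (TrivBC.resCommMod h) (ComplexShape.up ℤ) ≪≫
    (Functor.mapHomologicalComplexCompIso
      (Iso.refl (ModuleCat.restrictScalars.{u} φ' ⋙ ModuleCat.restrictScalars.{u} ρ)) (ComplexShape.up ℤ)).symm

theorem commCx_apply (X : DRing.Cx A') (i : ℤ) (x : X.X i) :
    ((commCx φ ρ α φ' h).hom.app X).f i x = x := rfl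

theorem resComm_app (X : DRing.Cx A') :
    (TrivBC.resComm h).hom.app (DerivedCategory.Q.obj X) =
      (DRing.restrictD φ).map ((DTen.resFactors α).hom.app X) ≫
        (DTen.resFactors φ).hom.app ((DTen.resCx α).obj X) ≫
          DerivedCategory.Q.map ((commCx φ ρ α φ' h).hom.app X) ≫
            (DTen.resFactors ρ).inv.app ((DTen.resCx φ').obj X) ≫
              (DRing.restrictD ρ).map ((DTen.resFactors φ').inv.app X) := by
  unfold TrivBC.resComm
  rw [Localization.liftNatIso_hom, Localization.liftNatTrans_app]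
  have e1 : (TrivBC.liftingRes₂ α φ).iso.hom.app X = (DRing.restrictD φ).map ((DTen.resFactors α).hom.app X) ≫
      (DTen.resFactors φ).hom.app ((DTen.resCx α).obj X) := by
    change ((Functor.associator _ _ _).symm ≪≫
      Functor.isoWhiskerRight (ModuleCat.restrictScalars.{u} α).mapDerivedCategoryFactors (DRing.restrictD φ) ≪≫
        Functor.associator _ _ _ ≪≫
          Functor.isoWhiskerLeft _ (ModuleCat.restrictScalars.{u} φ).mapDerivedCategoryFactors).hom.app X = _
    simp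
    try rfl
  have e2 : (TrivBC.liftingRes₂ φ' ρ).iso.inv.app X = (DTen.resFactors ρ).inv.app ((DTen.resCx φ').obj X) ≫
      (DRing.restrictD ρ).map ((DTen.resFactors φ').inv.app X) := by
    change ((Functor.associator _ _ _).symm ≪≫
      Functor.isoWhiskerRight (ModuleCat.restrictScalars.{u} φ').mapDerivedCategoryFactors (DRing.restrictD ρ) ≪≫
        Functor.associator _ _ _ ≪≫
          Functor.isoWhiskerLeft _ (ModuleCat.restrictScalars.{u} ρ).mapDerivedCategoryFactors).inv.app X = _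
    simp
    try rfl
  rw [e1, e2]
  simp [TrivBC.resCommCx, commCx]

/-- The unit of base change against the comparison of the square. -/
theorem unit_sqτ (N : DRing.Cx A) :
    (DTen.unitCx ρ).app ((DTen.resCx φ).obj N) ≫ (DTen.resCx ρ).map ((DTen.sqτ φ ρ φ' α h).app N) =
      (DTen.resCx φ).map ((DTen.unitCx α).app N) ≫ (commCx φ ρ α φ' h).hom.app ((DTen.extCx α).obj N) := by
  refine HomologicalComplex.hom_ext _ _ fun i => ?_
  show (ModuleCat.extendRestrictScalarsAdj.{u, u, u} ρ).unit.app _ ≫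
    (ModuleCat.restrictScalars.{u} ρ).map ((DTen.sqτ₀ φ ρ φ' α h).app (N.X i)) = _
  let g := (ModuleCat.restrictScalars.{u} φ).leftUnitor.inv ≫
      Functor.whiskerRight (ModuleCat.extendRestrictScalarsAdj.{u, u, u} α).unit (ModuleCat.restrictScalars.{u} φ) ≫
      (Functor.associator _ _ _).hom ≫
      Functor.whiskerLeft (ModuleCat.extendScalars.{u, u, u} α)
        ((ModuleCat.restrictScalarsComp' φ α (α.comp φ) rfl).inv ≫
          (ModuleCat.restrictScalarsComp' ρ φ' (α.comp φ) h).hom) ≫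
      (Functor.associator _ _ _).inv
  have e := (((ModuleCat.extendRestrictScalarsAdj.{u, u, u} ρ).whiskerRight (ModuleCat.{u} A)).homEquiv
      (ModuleCat.restrictScalars.{u} φ)
      (ModuleCat.extendScalars.{u, u, u} α ⋙ ModuleCat.restrictScalars.{u} φ')).apply_symm_apply g
  rw [Adjunction.homEquiv_unit] at e
  have e' := NatTrans.congr_app e (N.X i)
  dsimp [Adjunction.whiskerRight] at e'
  simp only [Category.assoc, Category.id_comp] at e'
  refine e'.trans ?_
  ext x
  rfl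

variable {E : DRing.Cx R} (e : E ⟶ (DTen.resCx ρ).obj (𝟙_ (DRing.Cx R')))
  (q : (DTen.extCx φ).obj E ⟶ (DTen.resCx α).obj (𝟙_ (DRing.Cx A')))

/-- `q` extends `e`. -/
def Compat : Prop :=
  ∀ x : E.X 0, sc (S := A') (show (𝟙_ (DRing.Cx A')).X 0 from q.f 0 (((DTen.unitCx φ).app E).f 0 x)) =
    φ' (sc (S := R') (show (𝟙_ (DRing.Cx R')).X 0 from e.f 0 x))

/-- The two projection maps agree. -/
theorem compat_eY (hq : Compat φ ρ α φ' e q) (N : DRing.Cx A) :
    BcRHom.eY ρ e ((DTen.resCx φ).obj N) ≫ (DTen.resCx ρ).map ((DTen.sqτ φ ρ φ' α h).app N) =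
      ProjCx.ζ φ E N ≫ (DTen.resCx φ).map (BcRHom.eY α q N) ≫
        (commCx φ ρ α φ' h).hom.app ((DTen.extCx α).obj N) := by
  refine HomologicalComplex.hom_ext _ _ fun m => ModuleCat.hom_ext ?_
  refine hom_ext' fun p r hpr => TensorProduct.ext' fun x n => ?_
  show ((DTen.resCx ρ).map ((DTen.sqτ φ ρ φ' α h).app N)).f m
      ((BcRHom.eY ρ e _).f m (incl E ((DTen.resCx φ).obj N) p r m hpr (x ⊗ₜ n))) =
    ((commCx φ ρ α φ' h).hom.app _).f m (((DTen.resCx φ).map (BcRHom.eY α q N)).f m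
      ((ProjCx.ζ φ E N).f m (incl E ((DTen.resCx φ).obj N) p r m hpr (x ⊗ₜ n))))
  -- left hand side
  have hL : (BcRHom.eY ρ e ((DTen.resCx φ).obj N)).f m (incl E ((DTen.resCx φ).obj N) p r m hpr (x ⊗ₜ n)) =
      (show ((DTen.resCx ρ).obj ((DTen.extCx ρ).obj ((DTen.resCx φ).obj N))).X m from
        (λ_ ((DTen.extCx ρ).obj ((DTen.resCx φ).obj N))).hom.f m
          (incl (𝟙_ (DRing.Cx R')) ((DTen.extCx ρ).obj ((DTen.resCx φ).obj N)) p r m hpr
            ((show (𝟙_ (DRing.Cx R')).X p from e.f p x) ⊗ₜ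
              (show ((DTen.extCx ρ).obj ((DTen.resCx φ).obj N)).X r from
                ((DTen.unitCx ρ).app ((DTen.resCx φ).obj N)).f r n)))) := by
    show ((DTen.resCx ρ).map (λ_ _).hom).f m ((DTen.resTenCx ρ _ _).f m
      (((DTen.resCx ρ).obj (𝟙_ (DRing.Cx R')) ◁ (DTen.unitCx ρ).app ((DTen.resCx φ).obj N)).f m
        ((e ▷ (DTen.resCx φ).obj N).f m _))) = _
    refine (congrArg (fun t => ((DTen.resCx ρ).map (λ_ _).hom).f m ((DTen.resTenCx ρ _ _).f m t))
      ((congrArg (fun t => (((DTen.resCx ρ).obj (𝟙_ (DRing.Cx R')) ◁ (DTen.unitCx ρ).app ((DTen.resCx φ).obj N)).f m t))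
        (RelHom.mapL_incl e p r m hpr x n)).trans (RelHom.whiskerLeft_incl _ _ p r m hpr _ _))).trans ?_
    exact congrArg (fun t => ((DTen.resCx ρ).map (λ_ _).hom).f m t)
      (RelHom.resTen_incl ρ _ _ p r m hpr _ _)
  -- right hand side
  have hR : ((DTen.resCx φ).map (BcRHom.eY α q N)).f m
      ((ProjCx.ζ φ E N).f m (incl E ((DTen.resCx φ).obj N) p r m hpr (x ⊗ₜ n))) =
      (show ((DTen.resCx φ).obj ((DTen.resCx α).obj ((DTen.extCx α).obj N))).X m from
        (λ_ ((DTen.extCx α).obj N)).hom.f m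
          (incl (𝟙_ (DRing.Cx A')) ((DTen.extCx α).obj N) p r m hpr
            ((show (𝟙_ (DRing.Cx A')).X p from q.f p (((DTen.unitCx φ).app E).f p x)) ⊗ₜ
              (show ((DTen.extCx α).obj N).X r from ((DTen.unitCx α).app N).f r (show N.X r from n))))) := by
    refine (congrArg (fun t => ((DTen.resCx φ).map (BcRHom.eY α q N)).f m t)
      (RelHom.ζ_tmul φ E N p r m hpr x n)).trans ?_
    show ((DTen.resCx α).map (λ_ _).hom).f m ((DTen.resTenCx α _ _).f m
      (((DTen.resCx α).obj (𝟙_ (DRing.Cx A')) ◁ (DTen.unitCx α).app N).f m ((q ▷ N).f m _))) = _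
    refine (congrArg (fun t => ((DTen.resCx α).map (λ_ _).hom).f m ((DTen.resTenCx α _ _).f m t))
      ((congrArg (fun t => (((DTen.resCx α).obj (𝟙_ (DRing.Cx A')) ◁ (DTen.unitCx α).app N).f m t))
        (RelHom.mapL_incl q p r m hpr _ _)).trans (RelHom.whiskerLeft_incl _ _ p r m hpr _ _))).trans ?_
    exact congrArg (fun t => ((DTen.resCx α).map (λ_ _).hom).f m t)
      (RelHom.resTen_incl α _ _ p r m hpr _ _)
  rw [hL, hR]
  by_cases hp : p = 0
  · subst hp
    obtain rfl : r = m := by omega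
    rw [lam_incl, lam_incl]
    refine ((((DTen.sqτ φ ρ φ' α h).app N).f r).hom.map_smul _ _).trans ?_
    change φ' (sc (S := R') (show (𝟙_ (DRing.Cx R')).X 0 from e.f 0 x)) •
      (show ((DTen.extCx α).obj N).X r from ((DTen.sqτ φ ρ φ' α h).app N).f r
        (((DTen.unitCx ρ).app ((DTen.resCx φ).obj N)).f r n)) =
      sc (S := A') (show (𝟙_ (DRing.Cx A')).X 0 from q.f 0 (((DTen.unitCx φ).app E).f 0 x)) •
        (show ((DTen.extCx α).obj N).X r from ((DTen.unitCx α).app N).f r (show N.X r from n))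
    rw [← hq x]
    refine congrArg (sc (S := A') _ • ·) ?_
    exact ConcreteCategory.congr_hom (congrArg (fun f => HomologicalComplex.Hom.f f r) (unit_sqτ φ ρ α φ' h N)) n
  · have h1 := subsingleton_unit_X (S := R') hp
    have h2 := subsingleton_unit_X (S := A') hp
    rw [Subsingleton.elim (show (𝟙_ (DRing.Cx R')).X p from e.f p x) 0,
      Subsingleton.elim (show (𝟙_ (DRing.Cx A')).X p from q.f p (((DTen.unitCx φ).app E).f p x)) 0]
    simp only [TensorProduct.zero_tmul, map_zero]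

section Chosen

variable [DTen.HasLBase ρ] [DTen.HasLBase α]

/-- The comparison for the chosen base change functors. -/
noncomputable def cmp₀ (X : Dual.D A) :
    (DTen.LBase ρ).obj ((DRing.restrictD φ).obj X) ⟶ (DRing.restrictD φ').obj ((DTen.LBase α).obj X) :=
  ((DTen.baseAdj ρ).homEquiv _ _).symm
    ((DRing.restrictD φ).map ((DTen.baseAdj α).unit.app X) ≫
      (TrivBC.resComm h).hom.app ((DTen.LBase α).obj X))

theorem cmp₀_naturality {X Y : Dual.D A} (f : X ⟶ Y) :
    (DTen.LBase ρ).map ((DRing.restrictD φ).map f) ≫ cmp₀ φ ρ α φ' h Y =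
      cmp₀ φ ρ α φ' h X ≫ (DRing.restrictD φ').map ((DTen.LBase α).map f) := by
  rw [cmp₀, cmp₀, ← Adjunction.homEquiv_naturality_left_symm, ← Adjunction.homEquiv_naturality_right_symm]
  refine congrArg _ ?_
  have h1 := (DTen.baseAdj α).unit.naturality f
  have h2 := (TrivBC.resComm h).hom.naturality ((DTen.LBase α).map f)
  dsimp at h1 h2
  rw [Category.assoc, ← h2, ← Functor.map_comp_assoc, ← Functor.map_comp_assoc, h1]

theorem cmp₀_Q (N : DRing.Cx A) :
    cmp₀ φ ρ α φ' h (DerivedCategory.Q.obj N) ≫ (DRing.restrictD φ').map ((DTen.baseCmp α).app N) ≫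
      (DTen.resFactors φ').hom.app ((DTen.extCx α).obj N) =
    (DTen.LBase ρ).map ((DTen.resFactors φ).hom.app N) ≫ (DTen.baseCmp ρ).app ((DTen.resCx φ).obj N) ≫
      DerivedCategory.Q.map ((DTen.sqτ φ ρ φ' α h).app N) := by
  apply ((DTen.baseAdj ρ).homEquiv _ _).injective
  rw [cmp₀, Adjunction.homEquiv_naturality_right, Equiv.apply_symm_apply,
    Adjunction.homEquiv_naturality_left, Adjunction.homEquiv_unit, Functor.map_comp, Functor.map_comp,
    ← Category.assoc ((DTen.baseAdj ρ).unit.app _)]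
  dsimp only [Functor.comp_obj]
  rw [DTen.baseCmp_fac]
  have h1 := (TrivBC.resComm h).hom.naturality ((DTen.baseCmp α).app N)
  dsimp at h1
  have h2 := congrArg (fun t => (DRing.restrictD φ).map t) (DTen.baseCmp_fac α N)
  simp only [Functor.map_comp] at h2
  rw [Category.assoc, reassoc_of% h1.symm, reassoc_of% h2, resComm_app φ ρ α φ' h]
  have h3 := (DTen.resFactors φ).hom.naturality ((DTen.unitCx α).app N)
  have h4 := (DTen.resFactors ρ).inv.naturality ((DTen.sqτ φ ρ φ' α h).app N)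
  dsimp [DTen.baseγ] at h3 h4 ⊢
  simp only [Functor.map_comp, Category.assoc]
  rw [← Functor.map_comp_assoc (DRing.restrictD φ) ((DTen.resFactors α).inv.app _), Iso.inv_hom_id_app,
    CategoryTheory.Functor.map_id]
  erw [Category.id_comp]
  rw [← Functor.map_comp (DRing.restrictD ρ) ((DTen.resFactors φ').inv.app _), Iso.inv_hom_id_app,
    CategoryTheory.Functor.map_id]
  erw [Category.comp_id]
  rw [reassoc_of% h3, ← h4, ← Functor.map_comp_assoc, ← Functor.map_comp_assoc, unit_sqτ φ ρ α φ' h N]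

variable [QuasiIso e] (hE : DRing.IsKFlat R E) (hq : Compat φ ρ α φ' e q)

omit [DTen.HasLBase α] in
theorem j_baseCmp (Y : DRing.Cx R) :
    BcRHom.j ρ (𝟙 E) e hE Y ≫ (DRing.restrictD ρ).map ((DTen.baseCmp ρ).app Y) ≫
      (DTen.resFactors ρ).hom.app ((DTen.extCx ρ).obj Y) = DerivedCategory.Q.map (BcRHom.eY ρ e Y) := by
  have := BcRHom.isIso_E_aug hE Y
  let a := (KProjRes.aug R).app Y
  rw [← cancel_epi (DerivedCategory.Q.map (E ◁ a)), reassoc_of% (BcRHom.aug_j ρ (𝟙 E) e hE Y)]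
  have h1 := (DTen.baseCmp ρ).naturality a
  have h2 := (DTen.resFactors ρ).hom.naturality ((DTen.extCx ρ).map a)
  dsimp at h1 h2
  rw [← Functor.map_comp_assoc, h1, Functor.map_comp, Category.assoc, h2,
    ← Category.assoc ((DRing.restrictD ρ).map _), ← Category.assoc (BcRHom.jF ρ (𝟙 E) e _ _)]
  have h3 := BcRHom.jF_baseCmp ρ (𝟙 E) e ((KProjRes.res R).obj Y) (KFlat.isKFlat_res Y)
  simp only [MonoidalCategory.id_whiskerRight, CategoryTheory.Functor.map_id] at h3
  erw [Category.id_comp] at h3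
  rw [h3, ← Functor.map_comp, ← Functor.map_comp]
  exact congrArg _ (BcRHom.eY_naturality ρ e a).symm

omit [DTen.HasLBase α] in
include hq in
theorem j_sq (N : DRing.Cx A) :
    BcRHom.j ρ (𝟙 E) e hE ((DTen.resCx φ).obj N) ≫
        (DRing.restrictD ρ).map ((DTen.baseCmp ρ).app ((DTen.resCx φ).obj N) ≫
          DerivedCategory.Q.map ((DTen.sqτ φ ρ φ' α h).app N)) =
      DerivedCategory.Q.map (ProjCx.ζ φ E N ≫ (DTen.resCx φ).map (BcRHom.eY α q N) ≫
        (commCx φ ρ α φ' h).hom.app ((DTen.extCx α).obj N)) ≫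
          (DTen.resFactors ρ).inv.app ((DTen.resCx φ').obj ((DTen.extCx α).obj N)) := by
  rw [← compat_eY φ ρ α φ' h e q hq N, Functor.map_comp DerivedCategory.Q, ← j_baseCmp ρ e hE]
  have h4 := (DTen.resFactors ρ).inv.naturality ((DTen.sqτ φ ρ φ' α h).app N)
  dsimp at h4
  simp only [Category.assoc, h4, Functor.map_comp, Iso.hom_inv_id_app_assoc]

variable [QuasiIso q]

include hE hq in
omit [DTen.HasLBase α] in
theorem isIso_sqLeg (N : DRing.Cx A) (hN : DRing.IsKFlat A N) :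
    IsIso ((DTen.baseCmp ρ).app ((DTen.resCx φ).obj N) ≫
      DerivedCategory.Q.map ((DTen.sqτ φ ρ φ' α h).app N)) := by
  refine RelHom.isIso_of_isIso_restrictD ρ _ ?_
  have := BcRHom.isIso_eY α q N hN
  have := ProjCx.isIso_ζ φ E N
  have : IsIso (DerivedCategory.Q.map ((DTen.resCx φ).map (BcRHom.eY α q N))) :=
    (NatIso.isIso_map_iff (DTen.resFactors φ) (BcRHom.eY α q N)).1
      (inferInstanceAs (IsIso ((DRing.restrictD φ).map (DerivedCategory.Q.map (BcRHom.eY α q N)))))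
  have := BcRHom.isIso_j ρ (𝟙 E) e hE ((DTen.resCx φ).obj N)
  have key := j_sq φ ρ α φ' h e q hE hq N
  rw [Functor.map_comp DerivedCategory.Q, Functor.map_comp DerivedCategory.Q] at key
  exact IsIso.of_isIso_fac_left key

include hE hq in
theorem isIso_cmp₀ (X : Dual.D A) : IsIso (cmp₀ φ ρ α φ' h X) := by
  obtain ⟨N, hN, ⟨eN⟩⟩ := DTenBasic.exists_rep X
  have := DTenRing.isIso_baseCmp α N (KFlat.isKFlat_of_isKProjective N)
  have := isIso_sqLeg φ ρ α φ' h e q hE hq N (KFlat.isKFlat_of_isKProjective N)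
  have : IsIso (cmp₀ φ ρ α φ' h (DerivedCategory.Q.obj N)) :=
    IsIso.of_isIso_fac_right (cmp₀_Q φ ρ α φ' h N)
  exact IsIso.of_isIso_fac_left (cmp₀_naturality φ ρ α φ' h eN.hom)

variable {Rφ : Dual.D R ⥤ Dual.D A} (adj : DRing.restrictD φ ⊣ Rφ)
  {Rφ' : Dual.D R' ⥤ Dual.D A'} (adj' : DRing.restrictD φ' ⊣ Rφ')

/-- The mate of the comparison. -/
noncomputable def mate (Z : Dual.D R') :
    (DRing.restrictD α).obj (Rφ'.obj Z) ⟶ Rφ.obj ((DRing.restrictD ρ).obj Z) :=
  adj.homEquiv _ _ ((TrivBC.resComm h).hom.app (Rφ'.obj Z) ≫ (DRing.restrictD ρ).map (adj'.counit.app Z))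

include hE hq in
theorem isIso_mate (Z : Dual.D R') : IsIso (mate φ ρ α φ' h adj adj' Z) := by
  refine isIso_of_yoneda_map_bijective _ fun X => ?_
  have := isIso_cmp₀ φ ρ α φ' h e q hE hq X
  have heq : (fun g : X ⟶ _ => g ≫ mate φ ρ α φ' h adj adj' Z) =
      adj.homEquiv _ _ ∘ (DTen.baseAdj ρ).homEquiv _ _ ∘ (fun w => cmp₀ φ ρ α φ' h X ≫ w) ∘
        (adj'.homEquiv _ _).symm ∘ ((DTen.baseAdj α).homEquiv _ _).symm := by
    funext g
    apply (adj.homEquiv _ _).symm.injective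
    simp only [Function.comp_apply, Equiv.symm_apply_apply]
    rw [mate, Adjunction.homEquiv_naturality_left_symm, Equiv.symm_apply_apply]
    obtain ⟨g', rfl⟩ := ((DTen.baseAdj α).homEquiv _ _).surjective g
    rw [Equiv.symm_apply_apply, Adjunction.homEquiv_naturality_right (DTen.baseAdj ρ)]
    show _ = ((DTen.baseAdj ρ).homEquiv _ _) (((DTen.baseAdj ρ).homEquiv _ _).symm _) ≫ _
    rw [Equiv.apply_symm_apply, adj'.homEquiv_counit, Adjunction.homEquiv_unit]
    have h1 := (TrivBC.resComm h).hom.naturality g'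
    dsimp at h1
    simp only [Functor.map_comp, Category.assoc, reassoc_of% h1]
  show Function.Bijective fun g : X ⟶ _ => g ≫ mate φ ρ α φ' h adj adj' Z
  rw [heq]
  exact (adj.homEquiv _ _).bijective.comp (((DTen.baseAdj ρ).homEquiv _ _).bijective.comp
    ((asIso (cmp₀ φ ρ α φ' h X)).homFromEquiv.symm.bijective.comp
      ((adj'.homEquiv _ _).symm.bijective.comp ((DTen.baseAdj α).homEquiv _ _).symm.bijective)))

variable {P : DRing.Cx R} (p : P ⟶ (DTen.resCx φ).obj (𝟙_ (DRing.Cx A))) [QuasiIso p] [P.IsKProjective]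

include p hE hq in
theorem isIso_bc₀_iff (K : Dual.D R) [hc : IsIso (cmp₀ φ ρ α φ' h (Rφ.obj K))] (J : DRing.Cx R)
    [J.IsKInjective] (eJ : DerivedCategory.Q.obj J ≅ K) :
    IsIso (adj'.homEquiv _ _ (inv (cmp₀ φ ρ α φ' h (Rφ.obj K)) ≫ (DTen.LBase ρ).map (adj.counit.app K))) ↔
      QuasiIso (HomCxFinite.evalTenCx E P J) := by
  have : DTen.HasRHomRel φ := ⟨adj.isLeftAdjoint⟩
  let f : (DTen.LBase α).obj (Rφ.obj K) ⟶ Rφ'.obj ((DTen.LBase ρ).obj K) :=
    adj'.homEquiv _ _ (inv (cmp₀ φ ρ α φ' h (Rφ.obj K)) ≫ (DTen.LBase ρ).map (adj.counit.app K))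
  obtain ⟨N, hN, ⟨eN⟩⟩ := DTenBasic.exists_rep (Rφ.obj K)
  obtain ⟨χ, hχ⟩ := EvalHom.exists_Q_map_eq_injective
    ((DTen.resFactors φ).inv.app N ≫ (DRing.restrictD φ).map eN.hom ≫ adj.counit.app K ≫ eJ.inv)
  -- transfer to the chosen right adjoint
  let u := adj.rightAdjointUniq (DTen.relAdj φ)
  have hu : ∀ {X : Dual.D A} {Y : Dual.D R} (w : (DRing.restrictD φ).obj X ⟶ Y),
      (DTen.relAdj φ).homEquiv _ _ w = adj.homEquiv _ _ w ≫ u.hom.app Y := fun w => by
    rw [Adjunction.homEquiv_unit, Adjunction.homEquiv_unit, Category.assoc, u.hom.naturality,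
      Adjunction.unit_rightAdjointUniq_hom_app_assoc]
  have hχi : IsIso (RelHom.adjunct φ χ) := by
    rw [RelHom.adjunct, hχ, Iso.hom_inv_id_app_assoc, hu, Adjunction.homEquiv_naturality_left,
      Adjunction.homEquiv_naturality_right, Adjunction.homEquiv_unit, Adjunction.right_triangle_components]
    infer_instance
  have hζ₀ := ProjCx.isIso_ζ φ E N
  have hΨ : QuasiIso (E ◁ RelHom.Ψ φ p χ) :=
    @LTensorCx.quasiIso_tensor_left _ _ _ hE _ _ _
      ((DerivedCategory.isIso_Q_map_iff_quasiIso _ _).1 ((RelHom.isIso_adjunct_iff φ p χ).1 hχi))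
  have hw : IsIso (RelHom.adjunct φ (RelHom.wMix φ E N χ)) ↔ QuasiIso (HomCxFinite.evalTenCx E P J) := by
    rw [RelHom.isIso_adjunct_iff φ p, DerivedCategory.isIso_Q_map_iff_quasiIso,
      ← quasiIso_iff_comp_left (ProjCx.ζ φ E N), RelHom.ζ_Ψ]
    exact quasiIso_iff_comp_left (E ◁ RelHom.Ψ φ p χ) _
  rw [RelHom.adjunct, hu, isIso_comp_right_iff] at hw
  -- the map from `ext E ⊗ N`
  have hNf := KFlat.isKFlat_of_isKProjective N
  have := DTenRing.isIso_baseCmp α N hNf
  have := BcRHom.isIso_eY α q N hNf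
  let g : DerivedCategory.Q.obj ((DTen.extCx φ).obj E ⊗ N) ⟶
      (DRing.restrictD α).obj ((DTen.LBase α).obj (Rφ.obj K)) :=
    DerivedCategory.Q.map (BcRHom.eY α q N) ≫ (DTen.resFactors α).inv.app ((DTen.extCx α).obj N) ≫
      (DRing.restrictD α).map (inv ((DTen.baseCmp α).app N) ≫ (DTen.LBase α).map eN.hom)
  have hg : IsIso g := by infer_instance
  have hm := isIso_mate φ ρ α φ' h e q hE hq adj adj' ((DTen.LBase ρ).obj K)
  have := BcRHom.isIso_j ρ (𝟙 E) e hE J
  let β : DerivedCategory.Q.obj (E ⊗ J) ⟶ (DRing.restrictD ρ).obj ((DTen.LBase ρ).obj K) :=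
    BcRHom.j ρ (𝟙 E) e hE J ≫ (DRing.restrictD ρ).map ((DTen.LBase ρ).map eJ.hom)
  have key : g ≫ (DRing.restrictD α).map f ≫ mate φ ρ α φ' h adj adj' ((DTen.LBase ρ).obj K) =
      adj.homEquiv _ _ ((DTen.resFactors φ).hom.app _ ≫ DerivedCategory.Q.map (RelHom.wMix φ E N χ)) ≫
        Rφ.map β := by
    rw [← Adjunction.homEquiv_naturality_right]
    apply (adj.homEquiv _ _).symm.injective
    rw [Equiv.symm_apply_apply, mate, Adjunction.homEquiv_naturality_left_symm,
      Adjunction.homEquiv_naturality_left_symm, Equiv.symm_apply_apply]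
    have h1 := (TrivBC.resComm h).hom.naturality f
    dsimp at h1
    rw [reassoc_of% h1, ← Functor.map_comp (DRing.restrictD ρ),
      show (DRing.restrictD φ').map f ≫ adj'.counit.app ((DTen.LBase ρ).obj K) = _ from
        (adj'.homEquiv_counit _ _ f).symm.trans ((adj'.homEquiv _ _).symm_apply_apply _)]
    have h2 := (TrivBC.resComm h).hom.naturality (inv ((DTen.baseCmp α).app N) ≫ (DTen.LBase α).map eN.hom)
    dsimp at h2
    simp only [g, Functor.map_comp, Category.assoc] at h2 ⊢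
    rw [reassoc_of% h2, resComm_app φ ρ α φ' h]
    simp only [Category.assoc, ← Functor.map_comp (DRing.restrictD ρ), ← Functor.map_comp_assoc (DRing.restrictD φ),
      Iso.inv_hom_id_app, CategoryTheory.Functor.map_id, Category.id_comp]
    have h3 : (DRing.restrictD φ').map ((DTen.LBase α).map eN.hom) ≫ inv (cmp₀ φ ρ α φ' h (Rφ.obj K)) =
        (have := isIso_cmp₀ φ ρ α φ' h e q hE hq (DerivedCategory.Q.obj N); inv (cmp₀ φ ρ α φ' h (DerivedCategory.Q.obj N))) ≫ (DTen.LBase ρ).map ((DRing.restrictD φ).map eN.hom) := by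
      rw [IsIso.comp_inv_eq, Category.assoc, cmp₀_naturality, IsIso.inv_hom_id_assoc]
    rw [reassoc_of% h3]
    let Zm := (DTen.baseCmp ρ).app ((DTen.resCx φ).obj N) ≫ DerivedCategory.Q.map ((DTen.sqτ φ ρ φ' α h).app N)
    have hZ : IsIso Zm := isIso_sqLeg φ ρ α φ' h e q hE hq N hNf
    have h4 : (DTen.resFactors φ').inv.app ((DTen.extCx α).obj N) ≫
        (DRing.restrictD φ').map (inv ((DTen.baseCmp α).app N)) ≫
          (have := isIso_cmp₀ φ ρ α φ' h e q hE hq (DerivedCategory.Q.obj N); inv (cmp₀ φ ρ α φ' h (DerivedCategory.Q.obj N))) =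
        inv Zm ≫ (DTen.LBase ρ).map ((DTen.resFactors φ).inv.app N) := by
      have := isIso_cmp₀ φ ρ α φ' h e q hE hq (DerivedCategory.Q.obj N)
      rw [IsIso.eq_inv_comp, ← cancel_epi ((DTen.LBase ρ).map ((DTen.resFactors φ).hom.app N))]
      have h5 : cmp₀ φ ρ α φ' h (DerivedCategory.Q.obj N) ≫ (DRing.restrictD φ').map ((DTen.baseCmp α).app N) ≫
          (DTen.resFactors φ').hom.app ((DTen.extCx α).obj N) =
            (DTen.LBase ρ).map ((DTen.resFactors φ).hom.app N) ≫ Zm := cmp₀_Q φ ρ α φ' h N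
      rw [← reassoc_of% h5, Iso.hom_inv_id_app_assoc, ← Functor.map_comp_assoc (DRing.restrictD φ'), IsIso.hom_inv_id,
        CategoryTheory.Functor.map_id]
      erw [Category.id_comp]
      rw [IsIso.hom_inv_id, ← Functor.map_comp, Iso.hom_inv_id_app, CategoryTheory.Functor.map_id]
      rfl
    rw [reassoc_of% h4]
    have h6 := j_sq φ ρ α φ' h e q hE hq N
    have hζ := ProjCx.isIso_ζ φ E N
    have h7 : DerivedCategory.Q.map ((DTen.resCx φ).map (BcRHom.eY α q N)) ≫
        DerivedCategory.Q.map ((commCx φ ρ α φ' h).hom.app ((DTen.extCx α).obj N)) ≫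
          (DTen.resFactors ρ).inv.app _ ≫ (DRing.restrictD ρ).map (inv Zm) =
        DerivedCategory.Q.map (inv (ProjCx.ζ φ E N)) ≫ BcRHom.j ρ (𝟙 E) e hE ((DTen.resCx φ).obj N) := by
      rw [Functor.map_inv DerivedCategory.Q, IsIso.eq_inv_comp, Functor.map_inv (DRing.restrictD ρ)]
      simp only [← Category.assoc]
      rw [IsIso.comp_inv_eq]
      simp only [Category.assoc]
      rw [← Functor.map_comp_assoc, ← Functor.map_comp_assoc, Category.assoc]
      exact h6.symm
    have h8 := (DTen.resFactors φ).hom.naturality (BcRHom.eY α q N)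
    dsimp at h8
    erw [Category.comp_id]
    rw [reassoc_of% h8, Functor.map_comp (DRing.restrictD ρ), reassoc_of% h7]
    refine congrArg (_ ≫ ·) ?_
    rw [show (DTen.LBase ρ).map ((DTen.resFactors φ).inv.app N) ≫
        (DTen.LBase ρ).map ((DRing.restrictD φ).map eN.hom) ≫ (DTen.LBase ρ).map (adj.counit.app K) =
        (DTen.LBase ρ).map (DerivedCategory.Q.map χ) ≫ (DTen.LBase ρ).map eJ.hom by
      rw [hχ]; simp only [← Functor.map_comp, Category.assoc, Iso.inv_hom_id, Category.comp_id]]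
    rw [Functor.map_comp (DRing.restrictD ρ), ← reassoc_of% (BcRHom.j_naturality ρ (𝟙 E) e hE χ),
      RelHom.wMix, Functor.map_comp DerivedCategory.Q, Category.assoc]
  have : IsIso β := IsIso.comp_isIso' inferInstance inferInstance
  refine Iff.trans ?_ hw
  refine Iff.trans ⟨fun hf => ?_, fun hf => RelHom.isIso_of_isIso_restrictD α f hf⟩
    ((isIso_comp_right_iff ((DRing.restrictD α).map f) (mate φ ρ α φ' h adj adj' ((DTen.LBase ρ).obj K))).symm.trans
      ((isIso_comp_left_iff g _).symm.trans (Iff.trans (by rw [key]) (isIso_comp_right_iff _ (Rφ.map β)))))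
  have : IsIso f := hf
  infer_instance

variable (S : Finset ℤ) (hS : ∀ i, i ∉ S → IsZero (P.X i))
  (hP : ∀ i, Module.Finite R (P.X i) ∧ Module.Projective R (P.X i))

include p hS hP hE hq in
theorem isIso_bc₀ (K : Dual.D R) [hc : IsIso (cmp₀ φ ρ α φ' h (Rφ.obj K))] :
    IsIso (adj'.homEquiv _ _ (inv (cmp₀ φ ρ α φ' h (Rφ.obj K)) ≫ (DTen.LBase ρ).map (adj.counit.app K))) := by
  obtain ⟨J, η, hJ, hη⟩ := Groth.Agent.Lib.DerCat.KInjExists.hasKInjRes (DerivedCategory.Q.objPreimage K)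
  have := DTenBasic.isIso_Q_map η hη
  refine (isIso_bc₀_iff φ ρ α φ' h e q hE hq adj adj' p K J
    ((asIso (DerivedCategory.Q.map η)).symm ≪≫ DerivedCategory.Q.objObjPreimageIso K)).2 ?_
  have := HomCxFinite.isIso_evalTenCx_of_right E P J S hS hP
  infer_instance

end Chosen

section Given

variable [DRing.HasLBaseChange ρ] [DRing.HasLBaseChange α] [QuasiIso e] [QuasiIso q]
  (adjρ : DRing.LBaseChange ρ ⊣ DRing.restrictD ρ) (adjα : DRing.LBaseChange α ⊣ DRing.restrictD α)

omit [QuasiIso e] [QuasiIso q] in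
theorem cmp_eq [DTen.HasLBase ρ] [DTen.HasLBase α] (X : Dual.D A) :
    TrivBC.cmp adjρ adjα h X = (adjρ.leftAdjointUniq (DTen.baseAdj ρ)).hom.app _ ≫ cmp₀ φ ρ α φ' h X ≫
      (DRing.restrictD φ').map ((adjα.leftAdjointUniq (DTen.baseAdj α)).inv.app X) := by
  rw [cmp₀, TrivBC.cmp, ← Adjunction.homEquiv_naturality_right_symm]
  apply (adjρ.homEquiv _ _).injective
  rw [Equiv.apply_symm_apply]
  have hρ : ∀ {Y : Dual.D R} {Z : Dual.D R'} (w : (DTen.LBase ρ).obj Y ⟶ Z),
      adjρ.homEquiv _ _ ((adjρ.leftAdjointUniq (DTen.baseAdj ρ)).hom.app Y ≫ w) =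
        (DTen.baseAdj ρ).homEquiv _ _ w := fun w => by
    rw [Adjunction.homEquiv_unit, Adjunction.homEquiv_unit, Functor.map_comp,
      Adjunction.unit_leftAdjointUniq_hom_app_assoc]
  rw [hρ, Equiv.apply_symm_apply, Category.assoc]
  have h1 := (TrivBC.resComm h).hom.naturality ((adjα.leftAdjointUniq (DTen.baseAdj α)).inv.app X)
  dsimp at h1
  rw [← h1, ← Functor.map_comp_assoc, Adjunction.leftAdjointUniq_inv_app,
    Adjunction.unit_leftAdjointUniq_hom_app]

variable (hE : DRing.IsKFlat R E) (hq : Compat φ ρ α φ' e q)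

include hE hq in
theorem isIso_cmp (X : Dual.D A) : IsIso (TrivBC.cmp adjρ adjα h X) := by
  have : DTen.HasLBase ρ := ⟨adjρ.isRightAdjoint⟩
  have : DTen.HasLBase α := ⟨adjα.isRightAdjoint⟩
  have := isIso_cmp₀ φ ρ α φ' h e q hE hq X
  rw [cmp_eq φ ρ α φ' h adjρ adjα X]
  infer_instance

variable {Rφ : Dual.D R ⥤ Dual.D A} (adj : DRing.restrictD φ ⊣ Rφ)
  {Rφ' : Dual.D R' ⥤ Dual.D A'} (adj' : DRing.restrictD φ' ⊣ Rφ')
  {P : DRing.Cx R} (p : P ⟶ (DTen.resCx φ).obj (𝟙_ (DRing.Cx A))) [QuasiIso p] [P.IsKProjective]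

include p hE hq in
theorem isIso_bcMap_iff (K : Dual.D R) (hc : IsIso (TrivBC.cmp adjρ adjα h (Rφ.obj K))) (J : DRing.Cx R)
    [J.IsKInjective] (eJ : DerivedCategory.Q.obj J ≅ K) :
    IsIso (TrivBC.bcMap adjρ adjα h adj adj' K hc) ↔ QuasiIso (HomCxFinite.evalTenCx E P J) := by
  have : DTen.HasLBase ρ := ⟨adjρ.isRightAdjoint⟩
  have : DTen.HasLBase α := ⟨adjα.isRightAdjoint⟩
  have := isIso_cmp₀ φ ρ α φ' h e q hE hq (Rφ.obj K)
  let kρ := adjρ.leftAdjointUniq (DTen.baseAdj ρ)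
  let kα := adjα.leftAdjointUniq (DTen.baseAdj α)
  have e1 : TrivBC.bcMap adjρ adjα h adj adj' K hc = kα.hom.app (Rφ.obj K) ≫
      adj'.homEquiv _ _ (inv (cmp₀ φ ρ α φ' h (Rφ.obj K)) ≫ (DTen.LBase ρ).map (adj.counit.app K)) ≫
        Rφ'.map (kρ.inv.app K) := by
    unfold TrivBC.bcMap
    rw [← Adjunction.homEquiv_naturality_right, ← Adjunction.homEquiv_naturality_left]
    refine congrArg _ ?_
    rw [IsIso.inv_comp_eq, cmp_eq φ ρ α φ' h adjρ adjα]
    simp only [Category.assoc, ← Functor.map_comp_assoc, Iso.inv_hom_id_app, CategoryTheory.Functor.map_id,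
      Category.id_comp, IsIso.hom_inv_id_assoc, kα]
    dsimp only [kρ]
    rw [← (adjρ.leftAdjointUniq (DTen.baseAdj ρ)).hom.naturality_assoc]
    erw [Iso.hom_inv_id_app]
    exact (Category.comp_id _).symm
  rw [e1, isIso_comp_left_iff, isIso_comp_right_iff]
  exact isIso_bc₀_iff φ ρ α φ' h e q hE hq adj adj' p K J eJ

variable (S : Finset ℤ) (hS : ∀ i, i ∉ S → IsZero (P.X i))
  (hP : ∀ i, Module.Finite R (P.X i) ∧ Module.Projective R (P.X i))

include p hS hP hE hq in
theorem isIso_bcMap (K : Dual.D R) (hc : IsIso (TrivBC.cmp adjρ adjα h (Rφ.obj K))) :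
    IsIso (TrivBC.bcMap adjρ adjα h adj adj' K hc) := by
  obtain ⟨J, η, hJ, hη⟩ := Groth.Agent.Lib.DerCat.KInjExists.hasKInjRes (DerivedCategory.Q.objPreimage K)
  have := DTenBasic.isIso_Q_map η hη
  refine (isIso_bcMap_iff φ ρ α φ' h e q adjρ adjα hE hq adj adj' p K hc J
    ((asIso (DerivedCategory.Q.map η)).symm ≪≫ DerivedCategory.Q.objObjPreimageIso K)).2 ?_
  have := HomCxFinite.isIso_evalTenCx_of_right E P J S hS hP
  infer_instance

end Given

end Groth.Agent.Lib.DMod.TorIndepBC
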