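import Groth.Agent.Lib.DMod.ExtRegSeq
import Groth.Agent.H25.TorLES
import Mathlib.Algebra.Homology.ShortComplex.Linear
import Mathlib.CategoryTheory.Monoidal.Linear

/-!
Top `Tor` out of the quotient by a weakly regular sequence.
-/

universe u

open CategoryTheory CategoryTheory.Limits RingTheory.Sequence Pointwise MonoidalCategory
open Groth.Agent.Lib.DMod.ExtRegSeq Groth.Agent.H25.TorLES

namespace Groth.Agent.Lib.DMod.TorRegSeq

variable {A : Type u} [CommRing A] (M : ModuleCat.{u} A)

theorem map_smul_id (n : ℕ) (X : ModuleCat.{u} A) (x : A) :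
    (T M n).map (x • 𝟙 X) = x • 𝟙 ((T M n).obj X) := by
  have h1 : (Lib.Tor.Balance.tensorCxFun (projectiveResolution M).complex).map (x • 𝟙 X) =
      x • 𝟙 _ := by
    ext i : 1
    simp only [HomologicalComplex.smul_f_apply, HomologicalComplex.id_f]
    change (projectiveResolution M).complex.X i ◁ (x • 𝟙 X) = x • 𝟙 _
    rw [MonoidalLinear.whiskerLeft_smul, MonoidalCategory.whiskerLeft_id]
    rfl
  have h2 : (Hf M n).map (x • 𝟙 X) = x • 𝟙 _ := by
    change HomologicalComplex.homologyMap _ n = _
    rw [h1]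
    refine (ShortComplex.homologyMap_smul (φ := 𝟙 _) x).trans ?_
    rw [ShortComplex.homologyMap_id]
    rfl
  rw [map_eq, h2, Linear.smul_comp, Category.id_comp, Linear.comp_smul, Iso.inv_hom_id_app]

theorem isZero_of_length_lt : ∀ (ys : List A), IsWeaklyRegular A ys →
    ∀ n, ys.length < n → IsZero ((T M n).obj (Q (Ideal.ofList ys))) := by
  intro ys
  induction ys using List.reverseRecOn with
  | nil =>
    intro _ n hn
    obtain ⟨n, rfl⟩ := Nat.exists_eq_succ_of_ne_zero hn.ne'
    have := projective_Q_nil (A := A)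
    exact isZero_Tor_succ_of_projective (ModuleCat.{u} A) M _ n
  | append_singleton ys x ih =>
    intro h n hn
    obtain ⟨hys, hx⟩ := isWeaklyRegular_concat h
    rw [ofList_concat]
    simp only [List.length_append, List.length_cons, List.length_nil] at hn
    obtain ⟨n, rfl⟩ := Nat.exists_eq_succ_of_ne_zero (show n ≠ 0 by omega)
    exact isZero_right (sc_shortExact hx) n (ih hys (n + 1) (by omega)) (ih hys n (by omega))

/-- `Hom(A/(I+xA), M)` inside `Hom(A/I, M)`. -/
theorem lcomp_injective_range (I : Ideal A) (x : A) :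
    Function.Injective (LinearMap.lcomp A M (gg I x).hom) ∧
      LinearMap.range (LinearMap.lcomp A M (gg I x).hom) =
        LinearMap.ker (x • (LinearMap.id : ((A ⧸ I) →ₗ[A] M) →ₗ[A] _)) := by
  have hs : ∀ z, ∃ a : A, (gg I x).hom (Submodule.Quotient.mk a) = z := fun z => by
    obtain ⟨a, rfl⟩ := Submodule.Quotient.mk_surjective _ z
    exact ⟨a, rfl⟩
  refine ⟨fun f g h => LinearMap.ext fun z => ?_, ?_⟩
  · obtain ⟨a, rfl⟩ := hs z
    exact LinearMap.congr_fun h (Submodule.Quotient.mk a)
  ext f
  rw [LinearMap.mem_range, LinearMap.mem_ker]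
  constructor
  · rintro ⟨g, rfl⟩
    refine LinearMap.ext fun z => ?_
    obtain ⟨a, rfl⟩ := Submodule.Quotient.mk_surjective _ z
    change x • g ((gg I x).hom (Submodule.Quotient.mk a)) = 0
    rw [← map_smul, ← map_smul, ← Submodule.Quotient.mk_smul]
    have h0 : (gg I x).hom (Submodule.Quotient.mk (x • a)) = 0 := by
      change Submodule.Quotient.mk (x • a) = 0
      rw [Submodule.Quotient.mk_eq_zero]
      exact Ideal.mem_sup_right (Ideal.mem_span_singleton'.mpr ⟨a, by rw [smul_eq_mul, mul_comm]⟩)
    rw [h0, map_zero]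
  · intro hf
    refine ⟨Submodule.liftQ _ (f ∘ₗ Submodule.mkQ I) (sup_le ?_ ?_), ?_⟩
    · intro a ha
      rw [LinearMap.mem_ker, LinearMap.comp_apply, Submodule.mkQ_apply,
        (Submodule.Quotient.mk_eq_zero _).mpr ha, map_zero]
    · rw [Ideal.span_le, Set.singleton_subset_iff]
      refine LinearMap.mem_ker.mpr ?_
      have h1 : x • f (Submodule.Quotient.mk 1) = 0 := LinearMap.congr_fun hf (Submodule.Quotient.mk 1)
      rw [LinearMap.comp_apply, Submodule.mkQ_apply]
      rw [← map_smul, ← Submodule.Quotient.mk_smul, smul_eq_mul, mul_one] at h1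
      exact h1
    · refine Submodule.linearMap_qext _ (LinearMap.ext fun a => ?_)
      rfl

theorem nonempty_top : ∀ (ys : List A), IsWeaklyRegular A ys →
    Nonempty (((T M ys.length).obj (Q (Ideal.ofList ys))) ≃ₗ[A]
      ((A ⧸ Ideal.ofList ys) →ₗ[A] M)) := by
  intro ys
  induction ys using List.reverseRecOn with
  | nil =>
    intro _
    let e : (A ⧸ Ideal.ofList ([] : List A)) ≃ₗ[A] A :=
      Submodule.quotEquivOfEqBot _ Ideal.ofList_nil
    exact ⟨((zeroIso M).app (Q _)).toLinearEquiv.trans
      ((LinearEquiv.lTensor M e).trans ((TensorProduct.rid A M).trans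
        ((LinearMap.ringLmapEquivSelf A A M).symm.trans (e.symm.congrLeft M A))))⟩
  | append_singleton ys x ih =>
    intro h
    obtain ⟨hys, hx⟩ := isWeaklyRegular_concat h
    obtain ⟨e⟩ := ih hys
    rw [ofList_concat, show (ys ++ [x]).length = ys.length + 1 by simp]
    set I := Ideal.ofList ys
    set k := ys.length
    have hS := sc_shortExact hx
    let d : ((T M (k + 1)).obj (Q (I ⊔ Ideal.span {x}))) →ₗ[A] ((T M k).obj (Q I)) :=
      (δ (M := M) hS k).hom
    have hd : Function.Injective d := (ModuleCat.mono_iff_injective _).mp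
      (mono_δ hS k (isZero_of_length_lt M ys hys _ (Nat.lt_succ_self _)))
    have hr : LinearMap.range d = LinearMap.ker (x • (LinearMap.id :
        ((T M k).obj (Q I)) →ₗ[A] _)) := by
      refine ((ShortComplex.moduleCat_exact_iff_range_eq_ker _).mp (exact₁ hS k)).trans ?_
      change LinearMap.ker ((T M k).map (x • 𝟙 (Q I))).hom = _
      rw [map_smul_id]
      rfl
    obtain ⟨hinj, hrange⟩ := lcomp_injective_range M I x
    have hmap : (LinearMap.ker (x • (LinearMap.id : ((T M k).obj (Q I)) →ₗ[A] _))).map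
        e.toLinearMap = LinearMap.ker (x • (LinearMap.id : ((A ⧸ I) →ₗ[A] M) →ₗ[A] _)) := by
      ext f
      rw [Submodule.mem_map, LinearMap.mem_ker]
      constructor
      · rintro ⟨z, hz, rfl⟩
        change x • e z = 0
        rw [← map_smul]
        exact (congrArg e (LinearMap.mem_ker.mp hz)).trans (map_zero e)
      · intro hf
        refine ⟨e.symm f, LinearMap.mem_ker.mpr ?_, e.apply_symm_apply f⟩
        change x • e.symm f = 0
        rw [← map_smul]
        exact (congrArg e.symm hf).trans (map_zero e.symm)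
    exact ⟨((LinearEquiv.ofInjective d hd).trans (LinearEquiv.ofEq _ _ hr)).trans
      ((e.submoduleMap _).trans ((LinearEquiv.ofEq _ _ (hmap.trans hrange.symm)).trans
        (LinearEquiv.ofInjective _ hinj).symm))⟩

end Groth.Agent.Lib.DMod.TorRegSeq
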